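import Groth.Agent.AlgGrp1.AffineGrp
import Groth.Agent.AlgGrp2.AffinePts
import Groth.Agent.Abvar.BaseChange
import Mathlib.RingTheory.Jacobson.Ring
import Mathlib.RingTheory.Flat.Basic

/-!
Affine groups of finite type over an algebraically closed field which become isomorphic over an
extension field are isomorphic.
-/

set_option autoImplicit false
universe u

open CategoryTheory MonoidalCategory CartesianMonoidalCategory MonObj GrpObj AlgebraicGeometry
open scoped TensorProduct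
open Groth.AlgGrp2 (affPt str)

noncomputable section

namespace Groth.Reductive2

variable {k : Type u} [Field k] {Ω : Type u} [Field Ω] [Algebra k Ω]

/-- An algebra map into `Ω ⊗ B` out of a finite type algebra factors through `R ⊗ B`, `R` finitely
generated. -/
theorem exists_finset_factor (A B : Type u) [CommRing A] [Algebra k A] [Algebra.FiniteType k A]
    [CommRing B] [Algebra k B] (φ : A →ₐ[k] Ω ⊗[k] B) :
    ∃ s : Finset Ω, ∀ R : Subalgebra k Ω, (s : Set Ω) ⊆ R →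
      ∃ φR : A →ₐ[k] R ⊗[k] B, (Algebra.TensorProduct.map R.val (AlgHom.id k B)).comp φR = φ := by
  classical
  obtain ⟨g, hg⟩ := (Algebra.FiniteType.out : (⊤ : Subalgebra k A).FG)
  choose S hS using fun x : Ω ⊗[k] B => TensorProduct.exists_finset x
  refine ⟨g.biUnion fun a => (S (φ a)).image Prod.fst, fun R hR => ?_⟩
  let m := Algebra.TensorProduct.map R.val (AlgHom.id k B)
  have hm : Function.Injective m :=
    Module.Flat.rTensor_preserves_injective_linearMap R.val.toLinearMap Subtype.val_injective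
  have hle : φ.range ≤ m.range := by
    rw [← Algebra.map_top, ← hg, AlgHom.map_adjoin, Algebra.adjoin_le_iff]
    rintro _ ⟨a, ha, rfl⟩
    rw [hS (φ a)]
    refine Subalgebra.sum_mem _ fun p hp => ?_
    have : p.1 ∈ R := hR (Finset.mem_coe.mpr (Finset.mem_biUnion.mpr ⟨a, Finset.mem_coe.mp ha,
      Finset.mem_image_of_mem _ hp⟩))
    exact ⟨(⟨p.1, this⟩ : R) ⊗ₜ p.2, rfl⟩
  refine ⟨(AlgEquiv.ofInjective m hm).symm.toAlgHom.comp
    ((Subalgebra.inclusion hle).comp φ.rangeRestrict), AlgHom.ext fun a => ?_⟩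
  exact congrArg Subtype.val ((AlgEquiv.ofInjective m hm).apply_symm_apply ⟨φ a, hle ⟨a, rfl⟩⟩)

section Hopf

variable {A A' : Type u} [CommRing A] [HopfAlgebra k A] [CommRing A'] [HopfAlgebra k A']
  (u : Red.bc (str k Ω) (CoactBr.sp k A) ⟶ Red.bc (str k Ω) (CoactBr.sp k A'))

/-- The transformation on `Ω`-algebra-valued points induced by a morphism over `Ω`. -/
def ptsMap (L : Type u) [CommRing L] [Algebra k L] [Algebra Ω L] [IsScalarTower k Ω L]
    (g : CoactBr.sp k L ⟶ CoactBr.sp k A) : CoactBr.sp k L ⟶ CoactBr.sp k A' :=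
  affPt k ((Groth.AlgGrp2.affPt_surjective (K := Ω) g).choose ≫ u)

variable {L L' : Type u} [CommRing L] [Algebra k L] [Algebra Ω L] [IsScalarTower k Ω L]
  [CommRing L'] [Algebra k L'] [Algebra Ω L'] [IsScalarTower k Ω L']

theorem ptsMap_affPt (t : CoactBr.sp Ω L ⟶ Red.bc (str k Ω) (CoactBr.sp k A)) :
    ptsMap u L (affPt k t) = affPt k (t ≫ u) := by
  rw [ptsMap]
  congr 2
  exact Groth.AlgGrp2.affPt_injective (Groth.AlgGrp2.affPt_surjective _).choose_spec

theorem ptsMap_comp (J : L →ₐ[Ω] L') (g : CoactBr.sp k L ⟶ CoactBr.sp k A) :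
    ptsMap u L' (CoactBr.pt (J.restrictScalars k) ≫ g) =
      CoactBr.pt (J.restrictScalars k) ≫ ptsMap u L g := by
  obtain ⟨t, rfl⟩ := Groth.AlgGrp2.affPt_surjective (K := Ω) g
  rw [← Groth.AlgGrp2.affPt_comp, ptsMap_affPt, ptsMap_affPt, Category.assoc,
    Groth.AlgGrp2.affPt_comp]

theorem ptsMap_mul [IsMonHom u] (g h : CoactBr.sp k L ⟶ CoactBr.sp k A) :
    ptsMap u L (g * h) = ptsMap u L g * ptsMap u L h := by
  obtain ⟨s, rfl⟩ := Groth.AlgGrp2.affPt_surjective (K := Ω) g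
  obtain ⟨t, rfl⟩ := Groth.AlgGrp2.affPt_surjective (K := Ω) h
  rw [← Groth.AlgGrp2.affPt_mul, ptsMap_affPt, ptsMap_affPt, ptsMap_affPt, MonObj.mul_comp,
    Groth.AlgGrp2.affPt_mul]

theorem ptsMap_ptsMap (v : Red.bc (str k Ω) (CoactBr.sp k A') ⟶ Red.bc (str k Ω) (CoactBr.sp k A))
    (huv : u ≫ v = 𝟙 _) (g : CoactBr.sp k L ⟶ CoactBr.sp k A) :
    ptsMap v L (ptsMap u L g) = g := by
  obtain ⟨t, rfl⟩ := Groth.AlgGrp2.affPt_surjective (K := Ω) g
  rw [ptsMap_affPt, ptsMap_affPt, Category.assoc, huv, Category.comp_id]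

/-- The universal comorphism of a morphism over `Ω`. -/
theorem exists_comorphism : ∃ φ : A' →ₐ[k] Ω ⊗[k] A,
    CoactBr.pt φ = ptsMap u _ (CoactBr.pt Algebra.TensorProduct.includeRight) :=
  Groth.AlgGrp2.pt_surjective _

/-- The `Ω`-linear extension of an algebra map into `Ω ⊗ B`. -/
def extΩ {B C : Type u} [CommRing B] [Algebra k B] [CommRing C] [Algebra k C]
    (g : B →ₐ[k] Ω ⊗[k] C) : Ω ⊗[k] B →ₐ[Ω] Ω ⊗[k] C :=
  Algebra.TensorProduct.lift (Algebra.ofId Ω _) g fun _ _ => .all _ _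

theorem extΩ_includeRight {B C : Type u} [CommRing B] [Algebra k B] [CommRing C] [Algebra k C]
    (g : B →ₐ[k] Ω ⊗[k] C) :
    ((extΩ g).restrictScalars k).comp Algebra.TensorProduct.includeRight = g := by
  ext b
  simp [extΩ]

variable [IsAlgClosed k] [Algebra.FiniteType k A] [Algebra.FiniteType k A']

set_option synthInstance.maxHeartbeats 200000 in
theorem exists_iso_of_bc (v : Red.bc (str k Ω) (CoactBr.sp k A') ⟶ Red.bc (str k Ω) (CoactBr.sp k A))
    [IsMonHom u] (huv : u ≫ v = 𝟙 _) (hvu : v ≫ u = 𝟙 _) :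
    ∃ e : CoactBr.sp k A ≅ CoactBr.sp k A', IsMonHom e.hom := by
  classical
  obtain ⟨φ, hφ⟩ := exists_comorphism u
  obtain ⟨ψ, hψ⟩ := exists_comorphism v
  obtain ⟨s₁, hs₁⟩ := exists_finset_factor A' A φ
  obtain ⟨s₂, hs₂⟩ := exists_finset_factor A A' ψ
  let R := Algebra.adjoin k ((↑(s₁ ∪ s₂) : Set Ω))
  have : Algebra.FiniteType k R :=
    ⟨R.fg_top.mpr (Subalgebra.fg_adjoin_finset _)⟩
  obtain ⟨φR, hφR⟩ := hs₁ R (fun x hx => Algebra.subset_adjoin (Finset.mem_union_left _ hx))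
  obtain ⟨ψR, hψR⟩ := hs₂ R (fun x hx => Algebra.subset_adjoin (Finset.mem_union_right _ hx))
  -- a point of `R`
  obtain ⟨M, hM⟩ := Ideal.exists_maximal R
  letI := Ideal.Quotient.field M
  have : Algebra.FiniteType k (R ⧸ M) :=
    Algebra.FiniteType.of_surjective (Ideal.Quotient.mkₐ k M) Ideal.Quotient.mk_surjective
  have : Module.Finite k (R ⧸ M) := finite_of_finite_type_of_isJacobsonRing k (R ⧸ M)
  have : IsDomain (R ⧸ M) := inferInstance
  have : Algebra.IsAlgebraic k (R ⧸ M) := Algebra.IsAlgebraic.of_finite k _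
  let χ : R →ₐ[k] k := (IsAlgClosed.lift (R := k) (S := R ⧸ M) (M := k)).comp (Ideal.Quotient.mkₐ k M)
  let sA : R ⊗[k] A →ₐ[k] A :=
    Algebra.TensorProduct.lift ((Algebra.ofId k A).comp χ) (AlgHom.id k A) fun _ _ => .all _ _
  let sA' : R ⊗[k] A' →ₐ[k] A' :=
    Algebra.TensorProduct.lift ((Algebra.ofId k A').comp χ) (AlgHom.id k A') fun _ _ => .all _ _
  have inj : ∀ (C : Type u) [CommRing C] [Algebra k C],
      Function.Injective (Algebra.TensorProduct.map R.val (AlgHom.id k C)) := fun C _ _ =>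
    Module.Flat.rTensor_preserves_injective_linearMap R.val.toLinearMap Subtype.val_injective
  -- mutually inverse
  have key : ∀ {B C : Type u} [CommRing B] [Algebra k B] [CommRing C] [Algebra k C]
      (f : B →ₐ[k] Ω ⊗[k] C) (g : C →ₐ[k] Ω ⊗[k] B) (fR : B →ₐ[k] R ⊗[k] C) (gR : C →ₐ[k] R ⊗[k] B),
      (Algebra.TensorProduct.map R.val (AlgHom.id k C)).comp fR = f →
      (Algebra.TensorProduct.map R.val (AlgHom.id k B)).comp gR = g →
      ((extΩ g).restrictScalars k).comp f = Algebra.TensorProduct.includeRight →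
      ((Algebra.TensorProduct.lift ((Algebra.ofId k B).comp χ) (AlgHom.id k B) fun _ _ => .all _ _).comp
        gR).comp ((Algebra.TensorProduct.lift ((Algebra.ofId k C).comp χ) (AlgHom.id k C)
          fun _ _ => .all _ _).comp fR) = AlgHom.id k B := by
    intro B C _ _ _ _ f g fR gR hf hg hfg
    let gR' : R ⊗[k] C →ₐ[k] R ⊗[k] B :=
      Algebra.TensorProduct.lift Algebra.TensorProduct.includeLeft gR fun _ _ => .all _ _
    have hsq : (Algebra.TensorProduct.map R.val (AlgHom.id k B)).comp gR' =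
        ((extΩ g).restrictScalars k).comp (Algebra.TensorProduct.map R.val (AlgHom.id k C)) := by
      refine Algebra.TensorProduct.ext' fun r c => ?_
      simp [gR', extΩ, ← hg, TensorProduct.smul_tmul']
    have h1 : gR'.comp fR = Algebra.TensorProduct.includeRight := by
      refine AlgHom.ext fun b => inj B ?_
      have := AlgHom.congr_fun (hsq) (fR b)
      simp only [AlgHom.comp_apply] at this
      rw [AlgHom.comp_apply, this, ← AlgHom.comp_apply (Algebra.TensorProduct.map R.val _) fR, hf,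
        ← AlgHom.comp_apply, hfg]
      simp
    let tB := (Algebra.TensorProduct.lift ((Algebra.ofId k B).comp χ) (AlgHom.id k B) fun _ _ => .all _ _)
    have h2 : tB.comp gR' = (tB.comp gR).comp
        (Algebra.TensorProduct.lift ((Algebra.ofId k C).comp χ) (AlgHom.id k C) fun _ _ => .all _ _) := by
      refine Algebra.TensorProduct.ext' fun r c => ?_
      simp [gR', tB]
    rw [← AlgHom.comp_assoc, ← h2, AlgHom.comp_assoc, h1]
    ext b
    simp [tB]
  have inv1 : ∀ {B C : Type u} [CommRing B] [HopfAlgebra k B] [CommRing C] [HopfAlgebra k C]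
      (a : Red.bc (str k Ω) (CoactBr.sp k B) ⟶ Red.bc (str k Ω) (CoactBr.sp k C))
      (b : Red.bc (str k Ω) (CoactBr.sp k C) ⟶ Red.bc (str k Ω) (CoactBr.sp k B)) (hba : b ≫ a = 𝟙 _)
      (f : C →ₐ[k] Ω ⊗[k] B) (g : B →ₐ[k] Ω ⊗[k] C),
      CoactBr.pt f = ptsMap a _ (CoactBr.pt Algebra.TensorProduct.includeRight) →
      CoactBr.pt g = ptsMap b _ (CoactBr.pt Algebra.TensorProduct.includeRight) →
      ((extΩ g).restrictScalars k).comp f = Algebra.TensorProduct.includeRight := by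
    intro B C _ _ _ _ a b hba f g hf hg
    refine CoactBr.pt_injective ?_
    rw [CoactBr.pt_comp, hf, ← ptsMap_comp, ← CoactBr.pt_comp, extΩ_includeRight, hg,
      ptsMap_ptsMap b a hba]
  have e1 := key φ ψ φR ψR hφR hψR (inv1 u v hvu φ ψ hφ hψ)
  have e2 := key ψ φ ψR φR hψR hφR (inv1 v u huv ψ φ hψ hφ)
  let φ₀ : A' →ₐ[k] A := sA.comp φR
  let ψ₀ : A →ₐ[k] A' := sA'.comp ψR
  refine ⟨⟨CoactBr.pt φ₀, CoactBr.pt ψ₀, ?_, ?_⟩, Groth.AlgGrp2.isMonHom_of_pt _ fun g h => ?_⟩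
  · rw [← CoactBr.pt_comp, e2, CoactBr.pt_id]
  · rw [← CoactBr.pt_comp, e1, CoactBr.pt_id]
  -- multiplicativity
  let i₁ : A →ₐ[k] A ⊗[k] A := Algebra.TensorProduct.includeLeft
  let i₂ : A →ₐ[k] A ⊗[k] A := Algebra.TensorProduct.includeRight
  let Δ : A →ₐ[k] A ⊗[k] A := Bialgebra.comulAlgHom k A
  let liftΩ (i : A →ₐ[k] A ⊗[k] A) : Ω ⊗[k] A →ₐ[Ω] Ω ⊗[k] (A ⊗[k] A) :=
    Algebra.TensorProduct.map (AlgHom.id Ω Ω) i
  have hΩ : CoactBr.pt (((liftΩ Δ).restrictScalars k).comp φ) =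
      CoactBr.pt (((liftΩ i₁).restrictScalars k).comp φ) *
        CoactBr.pt (((liftΩ i₂).restrictScalars k).comp φ) := by
    rw [CoactBr.pt_comp, CoactBr.pt_comp, CoactBr.pt_comp, hφ, ← ptsMap_comp, ← ptsMap_comp,
      ← ptsMap_comp, ← ptsMap_mul, ← CoactBr.pt_comp, ← CoactBr.pt_comp, ← CoactBr.pt_comp,
      CoactBr.pt_mul_pt]
    congr 2
    have : Algebra.TensorProduct.lift
        (((liftΩ i₁).restrictScalars k).comp Algebra.TensorProduct.includeRight)
        (((liftΩ i₂).restrictScalars k).comp Algebra.TensorProduct.includeRight)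
        (fun _ _ => .all _ _) = Algebra.TensorProduct.includeRight := by
      refine Algebra.TensorProduct.ext' fun x y => ?_
      simp [liftΩ, i₁, i₂]
    rw [this]
    ext x
    simp [liftΩ, Δ]
  let tR (i : A →ₐ[k] A ⊗[k] A) : R ⊗[k] A →ₐ[k] R ⊗[k] (A ⊗[k] A) :=
    Algebra.TensorProduct.map (AlgHom.id k R) i
  let m := Algebra.TensorProduct.map R.val (AlgHom.id k (A ⊗[k] A))
  have hm : ∀ i : A →ₐ[k] A ⊗[k] A,
      m.comp ((tR i).comp φR) = ((liftΩ i).restrictScalars k).comp φ := fun i => by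
    rw [← AlgHom.comp_assoc, ← hφR, ← AlgHom.comp_assoc]
    congr 1
    exact Algebra.TensorProduct.ext' fun r x => by simp [m, tR, liftΩ]
  obtain ⟨π, hπ⟩ := Groth.AlgGrp2.pt_surjective
    (CoactBr.pt ((tR i₁).comp φR) * CoactBr.pt ((tR i₂).comp φR))
  have hπ' : (tR Δ).comp φR = π := by
    refine AlgHom.ext fun x => inj (A ⊗[k] A) ?_
    have : m.comp ((tR Δ).comp φR) = m.comp π := by
      refine CoactBr.pt_injective ?_
      rw [hm, hΩ, CoactBr.pt_comp π m, hπ, MonObj.comp_mul, ← CoactBr.pt_comp, ← CoactBr.pt_comp,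
        hm, hm]
    exact AlgHom.congr_fun this x
  let sAA : R ⊗[k] (A ⊗[k] A) →ₐ[k] A ⊗[k] A :=
    Algebra.TensorProduct.lift ((Algebra.ofId k _).comp χ) (AlgHom.id k _) fun _ _ => .all _ _
  have hnat : ∀ i : A →ₐ[k] A ⊗[k] A, sAA.comp ((tR i).comp φR) = i.comp φ₀ := fun i => by
    rw [← AlgHom.comp_assoc, ← AlgHom.comp_assoc]
    congr 1
    exact Algebra.TensorProduct.ext' fun r x => by simp [sAA, tR, sA]
  have h0 : CoactBr.pt (Δ.comp φ₀) = CoactBr.pt (i₁.comp φ₀) * CoactBr.pt (i₂.comp φ₀) := by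
    rw [← hnat, ← hnat, ← hnat, CoactBr.pt_comp, hπ', hπ, MonObj.comp_mul, ← CoactBr.pt_comp,
      ← CoactBr.pt_comp]
  obtain ⟨a, rfl⟩ := Groth.AlgGrp2.pt_surjective g
  obtain ⟨b, rfl⟩ := Groth.AlgGrp2.pt_surjective h
  have := congrArg (fun z => CoactBr.pt (Algebra.TensorProduct.lift a b fun _ _ => .all _ _) ≫ z) h0
  simp only [MonObj.comp_mul, ← CoactBr.pt_comp, ← AlgHom.comp_assoc,
    i₁, i₂, Algebra.TensorProduct.lift_comp_includeLeft,
    Algebra.TensorProduct.lift_comp_includeRight'] at this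
  show (CoactBr.pt a * CoactBr.pt b) ≫ CoactBr.pt φ₀ = _
  rw [CoactBr.pt_mul_pt, ← CoactBr.pt_comp, ← CoactBr.pt_comp, ← CoactBr.pt_comp]
  exact this

end Hopf

/-- **Affine groups of finite type over an algebraically closed field which are isomorphic over an
extension field are isomorphic.** -/
theorem nonempty_iso_of_bc [IsAlgClosed k] (G G' : Over (Spec (CommRingCat.of k))) [GrpObj G]
    [GrpObj G'] [IsAffine G.left] [IsAffine G'.left] [LocallyOfFiniteType G.hom]
    [LocallyOfFiniteType G'.hom]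
    (h : Nonempty (Grp.mk (Red.bc (str k Ω) G) ≅ Grp.mk (Red.bc (str k Ω) G'))) :
    Nonempty (Grp.mk G ≅ Grp.mk G') := by
  obtain ⟨A, _, _, _, e, he⟩ := Groth.AlgGrp1.exists_hopf_iso G
  obtain ⟨A', _, _, _, e', he'⟩ := Groth.AlgGrp1.exists_hopf_iso G'
  obtain ⟨w⟩ := h
  let p := str k Ω
  let E : Red.bc p (CoactBr.sp k A) ≅ Red.bc p (CoactBr.sp k A') :=
    (Over.pullback p).mapIso e ≪≫ (Grp.forget _).mapIso w ≪≫ (Over.pullback p).mapIso e'.symm
  have : IsMonHom e'.symm.hom := inferInstanceAs (IsMonHom e'.inv)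
  have hE : IsMonHom E.hom :=
    Groth.Abvar.isMonHom_comp (Groth.Abvar.isMonHom_map (f := p) e.hom)
      (Groth.Abvar.isMonHom_comp (inferInstanceAs (IsMonHom w.hom.hom.hom))
        (Groth.Abvar.isMonHom_map (f := p) e'.symm.hom))
  obtain ⟨d, hd⟩ := exists_iso_of_bc E.hom E.inv E.hom_inv_id E.inv_hom_id
  have : IsMonHom (e.symm ≪≫ d ≪≫ e').hom := by
    simp only [Iso.trans_hom, Iso.symm_hom]; infer_instance
  exact ⟨Grp.mkIso' (e.symm ≪≫ d ≪≫ e')⟩

end Groth.Reductive2
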