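import Groth.Agent.Reductive2.TorusChar

/-!
Values of a faithfully flat character are attained after a faithfully flat extension.
-/

set_option autoImplicit false
universe u

open CategoryTheory CategoryTheory.Limits MonoidalCategory CartesianMonoidalCategory MonObj GrpObj
  AlgebraicGeometry
open Groth.Reductive Groth.Reductive.FreeDiag

noncomputable section

namespace Groth.Reductive2

variable {S : Scheme.{u}} {T : Over S} (α : T ⟶ Red.Gm S)

/-- Functions are determined after a flat surjective extension. -/
lemma injective_pull_of_flat_surjective {X X' : Over S} (q : X' ⟶ X) [Flat q.left] [Surjective q.left] :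
    Function.Injective (pull q) := fun a b h ↦ by
  have := Flat.epi_of_flat_of_surjective q.left
  have e : q ≫ gaMk X a = q ≫ gaMk X b := gaFn_injective (by simpa [gaFn_comp] using h)
  have e' : gaMk X a = gaMk X b := Over.OverMorphism.ext ((cancel_epi q.left).mp (congrArg CommaMorphism.left e))
  simpa using congrArg Red.gaFn e'

/-- Every unit is a value of a faithfully flat character after a faithfully flat extension. -/
theorem exists_torusPt [Flat α.left] [Surjective α.left] {X : Over S} (v : Γ(X.left, ⊤)ˣ) :
    ∃ (X' : Over S) (q : X' ⟶ X) (t : X' ⟶ T), Flat q.left ∧ Surjective q.left ∧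
      Function.Injective (pull q) ∧ Red.gmFn (t ≫ α) = pull q v := by
  let l := gmMk X v
  let X' : Over S := Over.mk (pullback.fst l.left α.left ≫ X.hom)
  let q : X' ⟶ X := Over.homMk (pullback.fst l.left α.left) rfl
  let t : X' ⟶ T := Over.homMk (pullback.snd l.left α.left) (by
    show _ = pullback.fst _ _ ≫ X.hom
    rw [← Over.w l, pullback.condition_assoc, Over.w α])
  have hf : Flat q.left := inferInstanceAs (Flat (pullback.fst _ _))
  have hs : Surjective q.left := inferInstanceAs (Surjective (pullback.fst _ _))
  refine ⟨X', q, t, hf, hs, injective_pull_of_flat_surjective q, ?_⟩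
  have e : t ≫ α = q ≫ l := Over.OverMorphism.ext pullback.condition.symm
  rw [e, gmFn_comp, gmFn_gmMk]

variable [GrpObj T] [IsMonHom α]

/-- A faithfully flat character is fibrewise non-trivial. -/
theorem pullback_map_ne_one [Flat α.left] [Surjective α.left] (s : S) :
    (Over.pullback (Red.geomPt s)).map α ≠ 1 := fun h ↦ by
  have htriv := (pullback_map_eq_one_iff _).mp h
  obtain ⟨v, hv⟩ := exists_unit_ne_one (AlgebraicClosure (S.residueField s)) (Red.geomPt s)
  obtain ⟨X', q, t, -, -, hinj, e⟩ := exists_torusPt α v
  rw [htriv X' q t, gmFn_one] at e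
  exact hv (Units.ext (hinj (by rw [← e, Units.val_one, map_one])))
where
  exists_unit_ne_one (K : Type u) [Field K] [IsAlgClosed K] (p : Spec (CommRingCat.of K) ⟶ S) :
      ∃ v : Γ((Over.mk p).left, ⊤)ˣ, v ≠ 1 := by
    classical
    let e : K ≃+* Γ((Over.mk p).left, ⊤) := (Scheme.ΓSpecIso (CommRingCat.of K)).symm.commRingCatIsoToRingEquiv
    obtain ⟨c, hc⟩ := Infinite.exists_notMem_finset ({0, 1} : Finset K)
    simp only [Finset.mem_insert, Finset.mem_singleton, not_or] at hc
    refine ⟨Units.map e.toMonoidHom (Units.mk0 c hc.1), fun h ↦ hc.2 (e.injective ?_)⟩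
    exact (congrArg Units.val h).trans (map_one e).symm

end Groth.Reductive2
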