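import Groth.Agent.AlgGrp2.DiagBaseChange
import Groth.Agent.Reductive2.TorusLift
import Groth.Agent.Reductive.FpqcLocal
import Mathlib.AlgebraicGeometry.AlgClosed.Basic

/-!
Field-valued points of schemes over an algebraically closed field; tori over a field are connected.
-/

set_option autoImplicit false
universe u

open CategoryTheory CategoryTheory.Limits MonoidalCategory CartesianMonoidalCategory MonObj GrpObj AlgebraicGeometry

namespace Groth.Reductive2

/-- A torus over a field is connected. -/
theorem connectedSpace_of_isTorus {K : Type u} [Field K] {T : Over (Spec (CommRingCat.of K))} [GrpObj T]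
    (hT : Red.IsTorus T) : ConnectedSpace T.left := by
  obtain ⟨S', f, _, hf, -, hloc⟩ := hT
  obtain ⟨s', -⟩ := hf.surj (default : Spec (CommRingCat.of K))
  obtain ⟨U, hs', r, ⟨e⟩⟩ := hloc s'
  let L := (U : Scheme.{u}).residueField ⟨s', hs'⟩
  let p : Spec (CommRingCat.of L) ⟶ (U : Scheme.{u}) := (U : Scheme.{u}).fromSpecResidueField ⟨s', hs'⟩
  let eU : Red.bc (U.ι ≫ f) T ≅ Red.DS (U : Scheme.{u}) (Fin r → ℤ) := (Grp.forget _).mapIso e
  let i1 : Red.diag L (Fin r → ℤ) ≅ Red.bc (p ≫ U.ι ≫ f) T :=
    Groth.AlgGrp2.diagIsoDS L (Fin r → ℤ) ≪≫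
      eqToIso (congrArg (fun q => (Over.pullback q).obj (Red.diag (ULift.{u} ℤ) (Fin r → ℤ)))
        (specULiftZIsTerminal.hom_ext _ (p ≫ Limits.IsTerminal.from specULiftZIsTerminal _))) ≪≫
      (Over.pullbackComp p (Limits.IsTerminal.from specULiftZIsTerminal _)).app _ ≪≫
      (Over.pullback p).mapIso eU.symm ≪≫
      ((Over.pullbackComp p (U.ι ≫ f)).app T).symm
  have : ConnectedSpace (Red.diag L (Fin r → ℤ)).left :=
    inferInstanceAs (ConnectedSpace ↥(Spec (CommRingCat.of (MonoidAlgebra L (Multiplicative (Fin r → ℤ))))))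
  have : ConnectedSpace ↥((Over.forget _).obj (Red.diag L (Fin r → ℤ))) := this
  have hc : ConnectedSpace ↥(pullback T.hom (p ≫ U.ι ≫ f)) :=
    ((Over.forget _).mapIso i1).hom.homeomorph.surjective.connectedSpace
      ((Over.forget _).mapIso i1).hom.homeomorph.continuous
  have hp : Surjective (p ≫ U.ι ≫ f) := ⟨fun y => ⟨default, Subsingleton.elim _ _⟩⟩
  have hs : Surjective (pullback.fst T.hom (p ≫ U.ι ≫ f)) := MorphismProperty.pullback_fst _ _ hp
  exact hs.surj.connectedSpace (pullback.fst T.hom (p ≫ U.ι ≫ f)).continuous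

variable {K : Type u} [Field K] [IsAlgClosed K]

/-- Two field-valued points at the same closed point are equal. -/
theorem eq_of_apply_eq {X : Scheme.{u}} (h : X ⟶ Spec (CommRingCat.of K)) [LocallyOfFiniteType h]
    {L : Type u} [Field L] {a b : Spec (CommRingCat.of L) ⟶ X} (x : X) (hx : IsClosed {x})
    (ha : a.base (IsLocalRing.closedPoint L) = x) (hb : b.base (IsLocalRing.closedPoint L) = x)
    (hab : a ≫ h = b ≫ h) : a = b := by
  obtain ⟨⟨x₁, φ⟩, rfl⟩ := (Scheme.SpecToEquivOfField L X).symm.surjective a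
  obtain ⟨⟨x₂, ψ⟩, rfl⟩ := (Scheme.SpecToEquivOfField L X).symm.surjective b
  simp only [Scheme.SpecToEquivOfField, Equiv.coe_fn_symm_mk, Scheme.Hom.comp_apply,
    Scheme.fromSpecResidueField_apply] at ha hb hab ⊢
  obtain rfl : x₁ = x₂ := ha.trans hb.symm
  rw [← ha] at hx
  rw [Category.assoc, Category.assoc, ← SpecMap_residueFieldIsoBase_inv h x₁ hx, ← Spec.map_comp,
    ← Spec.map_comp] at hab
  rw [(cancel_epi _).mp (Spec.map_injective hab)]

/-- A morphism from a connected scheme to a discrete one: all points with the same base agree. -/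
theorem eq_of_connected {X N : Over (Spec (CommRingCat.of K))} [LocallyOfFiniteType N.hom]
    [DiscreteTopology N.left] [PreconnectedSpace X.left] (c : X ⟶ N) {L : Type u} [Field L]
    {str : Spec (CommRingCat.of L) ⟶ Spec (CommRingCat.of K)} (p q : Over.mk str ⟶ X) :
    p ≫ c = q ≫ c := by
  apply Over.OverMorphism.ext
  refine eq_of_apply_eq N.hom ((p ≫ c).left.base (IsLocalRing.closedPoint L)) (isClosed_discrete _)
    rfl ?_ (by rw [Over.w, Over.w])
  exact PreconnectedSpace.constant inferInstance c.left.continuous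

/-- A nontrivial character of a torus over an algebraically closed field takes, at some field-valued
point, any given value. -/
theorem exists_point_char {T : Over (Spec (CommRingCat.of K))} [GrpObj T] (hT : Red.IsTorus T)
    (α : T ⟶ Red.Gm (Spec (CommRingCat.of K))) [IsMonHom α] (hα : α ≠ 1)
    (z : 𝟙_ (Over (Spec (CommRingCat.of K))) ⟶ Red.Gm (Spec (CommRingCat.of K))) :
    ∃ (L : Type u) (_ : Field L) (str : Spec (CommRingCat.of L) ⟶ Spec (CommRingCat.of K))
      (s : Over.mk str ⟶ T), s ≫ α = toUnit (Over.mk str) ≫ z := by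
  have hα' : ∀ s : Spec (CommRingCat.of K), (Over.pullback (Red.geomPt s)).map α ≠ 1 := fun s h => by
    let W : Over (Spec (CommRingCat.of K)) := Over.mk (Red.geomPt s)
    have : Nonempty ↥W.left := inferInstanceAs (Nonempty ↥(Spec _))
    have : Flat (toUnit W).left := inferInstanceAs (Flat W.hom)
    have : Surjective (toUnit W).left := ⟨fun y => ⟨Classical.arbitrary _, (Subsingleton.elim
      (α := ↥(Spec (CommRingCat.of K))) _ _)⟩⟩
    have ht := ((Groth.Reductive.FreeDiag.pullback_map_eq_one_iff (u := α) _).mp h).descend (toUnit W)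
    exact hα (by simpa using ht _ (toUnit T) (𝟙 T))
  obtain ⟨_, hsurj⟩ := flat_surjective_char α hT hα'
  have := (Groth.Reductive.ds_flat_lfp (Spec (CommRingCat.of K)) ℤ inferInstance).2
  have hlft : LocallyOfFiniteType (Red.Gm (Spec (CommRingCat.of K))).hom := inferInstance
  have : Unique ↥(𝟙_ (Over (Spec (CommRingCat.of K)))).left :=
    inferInstanceAs (Unique ↥(Spec (CommRingCat.of K)))
  let g : ↥(Red.Gm (Spec (CommRingCat.of K))).left := z.left.base (IsLocalRing.closedPoint K)
  have hg : IsClosed {g} := by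
    have := isClosedImmersion_of_comp_eq_id _ z.left (Over.w z)
    have h := z.left.isClosedEmbedding.isClosed_range
    rwa [Set.range_eq_singleton (y := g) fun x => congr(z.left.base $(Subsingleton.elim _ _))] at h
  obtain ⟨y, hy⟩ := hsurj.surj g
  refine ⟨T.left.residueField y, inferInstance, T.left.fromSpecResidueField y ≫ T.hom,
    Over.homMk (T.left.fromSpecResidueField y) rfl, Over.OverMorphism.ext ?_⟩
  refine eq_of_apply_eq (Red.Gm (Spec (CommRingCat.of K))).hom g hg ?_ ?_ (by rw [Over.w, Over.w])
  · show α.left.base ((T.left.fromSpecResidueField y).base _) = g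
    rw [Scheme.fromSpecResidueField_apply]; exact hy
  · exact congr(z.left.base $(Subsingleton.elim _ _))

end Groth.Reductive2
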