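import Groth.Agent.SGA7.ConstPoints
import Mathlib.AlgebraicGeometry.Morphisms.FlatDescent
import Mathlib.AlgebraicGeometry.Morphisms.UniversallyInjective
import Mathlib.AlgebraicGeometry.Noetherian
import Mathlib.AlgebraicGeometry.Sites.Fpqc

/-!
Constant schemes: base change, and descent along finite flat morphisms with a one-point fibre with
purely inseparable residue extension.
-/

universe u

open CategoryTheory CategoryTheory.Limits MonoidalCategory CartesianMonoidalCategory AlgebraicGeometry TopologicalSpace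

namespace Groth.Reductive2.TwConstEtale

set_option backward.isDefEq.respectTransparency.types false

variable {I : Type u}

/-- The summand of a point of a coproduct of copies of `U`. -/
noncomputable def sigmaIdx {U : Scheme.{u}} (z : ↑(∐ fun _ : I => U)) : I :=
  ((sigmaMk fun _ : I => U).symm z).1

theorem sigmaIdx_ι {U : Scheme.{u}} (i : I) (x : U) : sigmaIdx (Sigma.ι (fun _ : I => U) i x) = i := by
  rw [sigmaIdx, ← sigmaMk_mk, Homeomorph.symm_apply_apply]

theorem exists_ι {U : Scheme.{u}} (z : ↑(∐ fun _ : I => U)) :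
    ∃ x, Sigma.ι (fun _ : I => U) (sigmaIdx z) x = z :=
  ⟨((sigmaMk fun _ : I => U).symm z).2, by
    rw [← sigmaMk_mk]; exact (sigmaMk fun _ : I => U).apply_symm_apply _⟩

theorem sigmaIdx_desc {U V : Scheme.{u}} (q : V ⟶ U) (z : ↑(∐ fun _ : I => V)) :
    sigmaIdx (Sigma.desc (fun i => q ≫ Sigma.ι (fun _ : I => U) i) z) = sigmaIdx z := by
  obtain ⟨x, hx⟩ := exists_ι z
  conv_lhs => rw [← hx, ← Scheme.Hom.comp_apply, Sigma.ι_desc, Scheme.Hom.comp_apply, sigmaIdx_ι]

/-- Constant schemes commute with base change. -/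
theorem isPullback_const {U V : Scheme.{u}} (q : V ⟶ U) :
    IsPullback (Sigma.desc fun i => q ≫ Sigma.ι (fun _ : I => U) i) (Sigma.desc fun _ : I => 𝟙 V)
      (Sigma.desc fun _ : I => 𝟙 U) q := by
  let n := Sigma.desc fun i => q ≫ Sigma.ι (fun _ : I => U) i
  have hw : n ≫ Sigma.desc (fun _ : I => 𝟙 U) = Sigma.desc (fun _ : I => 𝟙 V) ≫ q :=
    Sigma.hom_ext _ _ fun i => by simp [n]
  let L := pullback.lift n (Sigma.desc fun _ : I => 𝟙 V) hw
  let d : (∐ fun _ : I => U) ⟶ U := Sigma.desc fun _ : I => 𝟙 U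
  let Y : Over V := Over.mk (pullback.snd d q)
  let fstU : Over.mk (pullback.snd d q ≫ q) ⟶ TwC.const U I :=
    Over.homMk (pullback.fst d q) pullback.condition
  obtain ⟨ψ, hψ⟩ := Groth.SGA7.ConstPoints.exists_of_isLocallyConstant Y (fun y => Groth.SGA7.ConstPoints.idx fstU y)
    (Groth.SGA7.ConstPoints.isLocallyConstant_idx fstU)
  have hψw : ψ.left ≫ Sigma.desc (fun _ : I => 𝟙 V) = pullback.snd d q := Over.w ψ
  have h1 : ψ.left ≫ L = 𝟙 _ := by
    refine pullback.hom_ext ?_ ?_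
    · rw [Category.assoc, pullback.lift_fst, Category.id_comp]
      let a : Over.mk (pullback.snd d q ≫ q) ⟶ TwC.const U I := Over.homMk (ψ.left ≫ n) (by
        show (ψ.left ≫ n) ≫ Sigma.desc (fun _ : I => 𝟙 U) = pullback.snd d q ≫ q
        rw [Category.assoc, hw, ← Category.assoc, hψw])
      refine congrArg CommaMorphism.left (Groth.SGA7.ConstPoints.ext (φ := a) (ψ := fstU) (funext fun y => ?_))
      exact (sigmaIdx_desc q (ψ.left y)).trans (congrFun hψ y)
  
    · rw [Category.assoc, pullback.lift_snd, Category.id_comp, hψw]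
  have h2 : L ≫ ψ.left = 𝟙 _ := by
    let Lo : TwC.const V I ⟶ Y := Over.homMk L (pullback.lift_snd _ _ _)
    refine congrArg CommaMorphism.left (Groth.SGA7.ConstPoints.ext (φ := Lo ≫ ψ) (ψ := 𝟙 _) (funext fun z => ?_))
    refine (congrFun hψ (L z)).trans ?_
    show sigmaIdx (pullback.fst d q (L z)) = sigmaIdx z
    rw [← Scheme.Hom.comp_apply, pullback.lift_fst]
    exact sigmaIdx_desc q z
  exact IsPullback.of_iso_pullback ⟨hw⟩ ⟨L, ψ.left, h2, h1⟩ (pullback.lift_fst _ _ _) (pullback.lift_snd _ _ _)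

/-- A family of sections exhibiting a base change as constant. -/
theorem isPullback_comp {U V W X : Scheme.{u}} {x : X ⟶ W} {f : U ⟶ W} {σ : I → (U ⟶ X)}
    (h : IsPullback (Sigma.desc σ) (Sigma.desc fun _ : I => 𝟙 U) x f) (q : V ⟶ U) :
    IsPullback (Sigma.desc fun i => q ≫ σ i) (Sigma.desc fun _ : I => 𝟙 V) x (q ≫ f) := by
  have e : (Sigma.desc fun i => q ≫ σ i) =
      (Sigma.desc fun i => q ≫ Sigma.ι (fun _ : I => U) i) ≫ Sigma.desc σ :=
    Sigma.hom_ext _ _ fun i => by simp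
  rw [e]
  exact (isPullback_const q).paste_horiz h

theorem exists_sections {S T : Scheme.{u}} (X : Over S) (f : T ⟶ S) (e : Red.bc f X ≅ TwC.const T I) :
    ∃ σ : I → (T ⟶ X.left), IsPullback (Sigma.desc σ) (Sigma.desc fun _ : I => 𝟙 T) X.hom f := by
  let j : (∐ fun _ : I => T) ≅ pullback X.hom f := (Over.forget T).mapIso e.symm
  have h2 : j.hom ≫ pullback.snd X.hom f = Sigma.desc fun _ : I => 𝟙 T := Over.w e.inv
  refine ⟨fun i => Sigma.ι (fun _ : I => T) i ≫ j.hom ≫ pullback.fst X.hom f, ?_⟩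
  have h1 : (Sigma.desc fun i => Sigma.ι (fun _ : I => T) i ≫ j.hom ≫ pullback.fst X.hom f) =
      j.hom ≫ pullback.fst X.hom f := Sigma.hom_ext _ _ fun i => by simp
  rw [h1]
  refine IsPullback.of_iso_pullback ⟨?_⟩ j rfl h2
  rw [← h2, Category.assoc, Category.assoc, pullback.condition]

theorem nonempty_iso {S T : Scheme.{u}} {X : Over S} {f : T ⟶ S} {σ : I → (T ⟶ X.left)}
    (h : IsPullback (Sigma.desc σ) (Sigma.desc fun _ : I => 𝟙 T) X.hom f) :
    Nonempty (Red.bc f X ≅ TwC.const T I) :=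
  ⟨Over.isoMk h.isoPullback.symm h.isoPullback_inv_snd⟩

/-- Field valued points through a point with purely inseparable residue extension are determined by their image. -/
theorem eq_of_purelyInseparable {U V : Scheme.{u}} (π : V ⟶ U) {v : V} {K : Type u} [Field K]
    (g₁ g₂ : Spec (CommRingCat.of K) ⟶ V) (hg : g₁ ≫ π = g₂ ≫ π) (h1 : g₁ (IsLocalRing.closedPoint K) = v)
    (h2 : g₂ (IsLocalRing.closedPoint K) = v) (hpi : (π.residueFieldMap v).hom.IsPurelyInseparable) :
    g₁ = g₂ := by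
  obtain ⟨e, h⟩ := Scheme.SpecToEquivOfField_eq_iff.mp congr((U.SpecToEquivOfField K) $(hg))
  apply (V.SpecToEquivOfField K).injective
  dsimp [Scheme.SpecToEquivOfField] at e h
  simp only [Scheme.descResidueField_stalkClosedPointTo_comp] at e h
  rw [← π.residueFieldMap_congr'_assoc (h1.trans h2.symm), CommRingCat.hom_ext_iff] at h
  rw [Scheme.SpecToEquivOfField_eq_iff]
  have hfx : (π.residueFieldMap (g₁ (IsLocalRing.closedPoint K))).hom.IsPurelyInseparable := by
    rw [h1]; exact hpi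
  algebraize [(π.residueFieldMap (g₁ (IsLocalRing.closedPoint K))).hom]
  refine ⟨h1.trans h2.symm, CommRingCat.hom_ext ?_⟩
  exact IsPurelyInseparable.injective_comp_algebraMap
    (U.residueField (π (g₁ (IsLocalRing.closedPoint K)))) (V.residueField (g₁ (IsLocalRing.closedPoint K))) _ h

/-- The fibre of `V ×_U V` over a point with a single, purely inseparable preimage is on the diagonal. -/
theorem mem_range_diagonal {U V : Scheme.{u}} (π : V ⟶ U) {u : U} {v : V} (huniq : ∀ w, π w = u → w = v)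
    (hpi : (π.residueFieldMap v).hom.IsPurelyInseparable) (z : ↑(pullback π π))
    (hz : (pullback.fst π π ≫ π) z = u) : z ∈ Set.range (pullback.diagonal π) := by
  let K := (pullback π π).residueField z
  let φ := (pullback π π).fromSpecResidueField z
  let g₁ := φ ≫ pullback.fst π π
  let g₂ := φ ≫ pullback.snd π π
  have hg : g₁ ≫ π = g₂ ≫ π := by simp [g₁, g₂, pullback.condition]
  have h1 : g₁ (IsLocalRing.closedPoint K) = v := by
    refine huniq _ ?_
    simp only [g₁, φ, Scheme.Hom.comp_apply, Scheme.fromSpecResidueField_apply]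
    simpa [Scheme.Hom.comp_apply] using hz
  have h2 : g₂ (IsLocalRing.closedPoint K) = v := by
    refine huniq _ ?_
    simp only [g₂, φ, Scheme.Hom.comp_apply, Scheme.fromSpecResidueField_apply]
    rw [← Scheme.Hom.comp_apply, ← pullback.condition]
    exact hz
  have heq : g₁ = g₂ := eq_of_purelyInseparable (K := K) π g₁ g₂ hg h1 h2 hpi
  have hφ : φ = g₁ ≫ pullback.diagonal π := by
    refine pullback.hom_ext ?_ ?_
    · simp [g₁]
    · simpa [g₁] using heq.symm
  exact ⟨g₁ (IsLocalRing.closedPoint K), by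
    rw [← Scheme.Hom.comp_apply, ← hφ]; exact Scheme.fromSpecResidueField_apply _ _⟩

/-- Near `u`, a scheme which becomes constant over a finite flat cover with one purely inseparable
point over `u` is constant. -/
theorem exists_open_const {U V X : Scheme.{u}} [IsLocallyNoetherian U] (x : X ⟶ U) (π : V ⟶ U)
    [Flat π] [IsFinite π] [LocallyOfFinitePresentation π] (u : U) (hu : u ∈ Set.range π)
    (hdiag : ∀ z, (pullback.fst π π ≫ π) z = u → z ∈ Set.range (pullback.diagonal π))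
    (σ : I → (V ⟶ X)) (hσ : IsPullback (Sigma.desc σ) (Sigma.desc fun _ : I => 𝟙 V) x π) :
    ∃ U₂ : U.Opens, u ∈ U₂ ∧ ∃ t : I → ((U₂ : Scheme.{u}) ⟶ X),
      IsPullback (Sigma.desc t) (Sigma.desc fun _ : I => 𝟙 (U₂ : Scheme.{u})) x U₂.ι := by
  have hσx : ∀ i, σ i ≫ x = π := fun i => by
    have := congr(Sigma.ι (fun _ : I => V) i ≫ $(hσ.w))
    simpa using this
  let p := pullback.fst π π ≫ π
  let k : I → (pullback π π ⟶ ∐ fun _ : I => V) := fun i =>
    hσ.lift (pullback.snd π π ≫ σ i) (pullback.fst π π) (by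
      rw [Category.assoc, hσx, pullback.condition])
  let A : I → (pullback π π).Opens := fun i => k i ⁻¹ᵁ (Sigma.ι (fun _ : I => V) i).opensRange
  have hAmem : ∀ i z, z ∈ A i ↔ sigmaIdx (k i z) = i := fun i z => by
    constructor
    · rintro ⟨y, hy⟩; rw [← hy, sigmaIdx_ι]
    · intro h
      obtain ⟨y, hy⟩ := exists_ι (k i z)
      rw [h] at hy
      exact ⟨y, hy⟩
  have hAclosed : ∀ i, IsClosed (A i : Set ↑(pullback π π)) := fun i => by
    rw [← isOpen_compl_iff]
    have : (A i : Set ↑(pullback π π))ᶜ =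
        ⋃ j ∈ {j | j ≠ i}, (k i ⁻¹ᵁ (Sigma.ι (fun _ : I => V) j).opensRange : Set ↑(pullback π π)) := by
      ext z
      simp only [Set.mem_compl_iff, SetLike.mem_coe, hAmem, Set.mem_iUnion, Set.mem_ofPred_eq, exists_prop]
      constructor
      · intro h
        obtain ⟨y, hy⟩ := exists_ι (k i z)
        exact ⟨_, h, y, hy⟩
      · rintro ⟨j, hj, y, hy⟩ h
        rw [← hy, sigmaIdx_ι] at h
        exact hj h
    rw [this]
    exact isOpen_biUnion fun j _ => (k i ⁻¹ᵁ (Sigma.ι (fun _ : I => V) j).opensRange).isOpen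
  have hAdiag : ∀ i v, pullback.diagonal π v ∈ A i := fun i v => by
    refine ⟨v, ?_⟩
    rw [← Scheme.Hom.comp_apply]
    refine congrArg (fun φ : V ⟶ _ => φ v) ?_
    refine hσ.hom_ext ?_ ?_ <;> simp [k]
  have hagree : ∀ i, (A i).ι ≫ pullback.fst π π ≫ σ i = (A i).ι ≫ pullback.snd π π ≫ σ i := fun i => by
    let l := IsOpenImmersion.lift (Sigma.ι (fun _ : I => V) i) ((A i).ι ≫ k i) (by
      rintro _ ⟨z, rfl⟩
      rw [Scheme.Hom.comp_apply]
      exact z.2)
    have hl : l ≫ Sigma.ι (fun _ : I => V) i = (A i).ι ≫ k i := IsOpenImmersion.lift_fac _ _ _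
    have h1 : l = (A i).ι ≫ pullback.fst π π := by
      have := congr($hl ≫ Sigma.desc fun _ : I => 𝟙 V)
      simpa [k] using this
    have h2 := congr($hl ≫ Sigma.desc σ)
    rw [Category.assoc, Sigma.ι_desc, Category.assoc, hσ.lift_fst, h1, Category.assoc] at h2
    exact h2
  obtain ⟨_, ⟨U₁, hU₁ : IsAffineOpen U₁, rfl⟩, hu₁, hU₁π⟩ :=
    U.isBasis_affineOpens.exists_subset_of_mem_open hu π.isOpenMap.isOpen_range
  let D : Scheme.{u} := (p ⁻¹ᵁ U₁ : (pullback π π).Opens)
  have : IsAffine (U₁ : Scheme.{u}) := hU₁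
  have : IsLocallyNoetherian D := LocallyOfFiniteType.isLocallyNoetherian (p ∣_ U₁)
  have : CompactSpace D := QuasiCompact.compactSpace_of_compactSpace (p ∣_ U₁)
  have : IsNoetherian D := {}
  have hwf : WellFoundedLT (Closeds D) := ((noetherianSpace_TFAE D).out 0 1).mp (show NoetherianSpace D from inferInstance)
  let F : Set D := (p ∣_ U₁) ⁻¹' {⟨u, hu₁⟩}
  obtain ⟨C, ⟨hCo, hCF⟩, hCmin⟩ := hwf.wf.has_min {C : Closeds D | IsOpen (C : Set D) ∧ F ⊆ C}
    ⟨⊤, by simp⟩
  have hCA : ∀ i, ∀ z ∈ C, (p ⁻¹ᵁ U₁).ι z ∈ A i := fun i z hz => by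
    let A' : Closeds D := ⟨(p ⁻¹ᵁ U₁).ι ⁻¹' (A i : Set ↑(pullback π π)),
      (hAclosed i).preimage (p ⁻¹ᵁ U₁).ι.continuous⟩
    by_contra hzA
    refine hCmin (C ⊓ A') ⟨hCo.inter ((A i).isOpen.preimage (p ⁻¹ᵁ U₁).ι.continuous),
      Set.subset_inter hCF fun w hw => ?_⟩ (lt_of_le_of_ne inf_le_left fun h => hzA ?_)
    · have hw' : p w.1 = u := by
        have := congrArg Subtype.val (show (p ∣_ U₁) w = ⟨u, hu₁⟩ from hw)
        rwa [morphismRestrict_base] at this
      obtain ⟨v, hv⟩ := hdiag _ hw'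
      show (w.1 : ↑(pullback π π)) ∈ A i
      rw [← hv]; exact hAdiag i v
    · have hz' : z ∈ C ⊓ A' := h.symm ▸ hz
      exact hz'.2
  have hclosed : IsClosed ((p ∣_ U₁) '' (C : Set D)ᶜ) := (p ∣_ U₁).isClosedMap _ hCo.isClosed_compl
  let O : (U₁ : Scheme.{u}).Opens := ⟨((p ∣_ U₁) '' (C : Set D)ᶜ)ᶜ, hclosed.isOpen_compl⟩
  let U₂ : U.Opens := (Scheme.Opens.ι U₁) ''ᵁ O
  have hu₂ : u ∈ U₂ := ⟨⟨u, hu₁⟩, fun ⟨w, hw, hwu⟩ => hw (hCF hwu), rfl⟩
  have hU₂ : ∀ z : ↑(pullback π π), p z ∈ U₂ → ∀ i, z ∈ A i := by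
    rintro z ⟨y, hy, hyz⟩ i
    let w : D := ⟨z, show p z ∈ U₁ from hyz ▸ y.2⟩
    refine hCA i w (by_contra fun hw => hy ⟨w, hw, Subtype.ext ?_⟩)
    rw [morphismRestrict_base]
    exact hyz.symm
  refine ⟨U₂, hu₂, ?_⟩
  let π₂ := π ∣_ U₂
  let q := (π ⁻¹ᵁ U₂).ι
  have hq : q ≫ π = π₂ ≫ U₂.ι := (morphismRestrict_ι _ _).symm
  have : Surjective π₂ := ⟨fun y => by
    obtain ⟨w, hw⟩ := hU₁π (show y.1 ∈ (U₁ : Set U) from by
      obtain ⟨a, -, ha⟩ := y.2; exact ha ▸ a.2)
    refine ⟨⟨w, show π w ∈ U₂ from hw ▸ y.2⟩, Subtype.ext ?_⟩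
    rw [morphismRestrict_base]; exact hw⟩
  have : Flat π₂ := inferInstance
  have : LocallyOfFinitePresentation π₂ := inferInstance
  have : EffectiveEpi π₂ := inferInstance
  have hdesc : ∀ i {Z : Scheme.{u}} (a b : Z ⟶ ↑(π ⁻¹ᵁ U₂)), a ≫ π₂ = b ≫ π₂ →
      a ≫ q ≫ σ i = b ≫ q ≫ σ i := by
    intro i Z a b hab
    let l := pullback.lift (f := π) (g := π) (a ≫ q) (b ≫ q) (by
      rw [Category.assoc, Category.assoc, hq, reassoc_of% hab])
    let l' := IsOpenImmersion.lift (A i).ι l (by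
      rintro _ ⟨y, rfl⟩
      rw [Scheme.Opens.range_ι]
      refine hU₂ _ ?_ i
      rw [← Scheme.Hom.comp_apply]
      simp only [l, p, pullback.lift_fst_assoc, Category.assoc, Scheme.Hom.comp_apply]
      exact (a y).2)
    have := congr(l' ≫ $(hagree i))
    simp only [l', IsOpenImmersion.lift_fac_assoc] at this
    simp only [l, pullback.lift_fst_assoc, pullback.lift_snd_assoc, Category.assoc] at this
    exact this
  let t : I → ((U₂ : Scheme.{u}) ⟶ X) := fun i => EffectiveEpi.desc π₂ (q ≫ σ i) (hdesc i)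
  have ht : ∀ i, π₂ ≫ t i = q ≫ σ i := fun i => EffectiveEpi.fac _ _ _
  have htx : ∀ i, t i ≫ x = U₂.ι := fun i => by
    rw [← cancel_epi π₂, ← Category.assoc, ht, Category.assoc, hσx, hq]
  refine ⟨t, ?_⟩
  have houter := isPullback_comp hσ q
  rw [hq] at houter
  let χ : (∐ fun _ : I => (U₂ : Scheme.{u})) ⟶ pullback x U₂.ι :=
    Sigma.desc fun i => pullback.lift (t i) (𝟙 _) (by rw [htx, Category.id_comp])
  let n := Sigma.desc fun i => π₂ ≫ Sigma.ι (fun _ : I => (U₂ : Scheme.{u})) i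
  have e1 : (Sigma.desc fun i => q ≫ σ i) = (n ≫ χ) ≫ pullback.fst x U₂.ι :=
    Sigma.hom_ext _ _ fun i => by
      simp only [n, χ, Sigma.ι_desc, Sigma.ι_desc_assoc, Category.assoc, pullback.lift_fst, ht]
  rw [e1] at houter
  have S1 : IsPullback (n ≫ χ) (Sigma.desc fun _ : I => 𝟙 _) (pullback.snd x U₂.ι) π₂ :=
    houter.of_right (Sigma.hom_ext _ _ fun i => by
      simp only [n, χ, Sigma.ι_desc, Sigma.ι_desc_assoc, Category.assoc, Category.id_comp]
      rw [pullback.lift_snd, Category.comp_id]) (IsPullback.of_hasPullback x U₂.ι)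
  let j := S1.isoPullback
  have hχ : χ ≫ pullback.snd x U₂.ι = Sigma.desc fun _ : I => 𝟙 _ :=
    Sigma.hom_ext _ _ fun i => by
      simp only [χ, Sigma.ι_desc, Sigma.ι_desc_assoc]
      exact pullback.lift_snd _ _ _
  have hbase : IsPullback n j.hom χ (pullback.fst (pullback.snd x U₂.ι) π₂) := by
    refine IsPullback.of_bot ?_ (by simp [j]) (IsPullback.of_hasPullback (pullback.snd x U₂.ι) π₂)
    rw [hχ, S1.isoPullback_hom_snd]
    exact isPullback_const π₂
  have : IsIso χ := MorphismProperty.of_isPullback_of_descendsAlong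
    (P := MorphismProperty.isomorphisms Scheme.{u}) (Q := @Surjective ⊓ @Flat ⊓ @QuasiCompact)
    hbase.flip ⟨⟨inferInstance, inferInstance⟩, inferInstance⟩ (inferInstanceAs (IsIso j.hom))
  refine IsPullback.of_iso_pullback ⟨Sigma.hom_ext _ _ fun i => by simp [htx]⟩ (asIso χ) ?_ hχ
  exact Sigma.hom_ext _ _ fun i => by
    simp only [χ, asIso_hom, Sigma.ι_desc, Sigma.ι_desc_assoc]
    exact pullback.lift_fst _ _ _

end Groth.Reductive2.TwConstEtale
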