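import Groth.Agent.Reductive2.HomSplit
import Groth.Agent.Reductive2.TwConstEtale
import Groth.Agent.Reductive.FreeDiagDescent

/-!
The functor of homomorphisms from a quasi-isotrivial group of multiplicative type to one of finite type
is representable by a twisted constant scheme.
-/

set_option autoImplicit false
universe u

open CategoryTheory CategoryTheory.Limits MonoidalCategory CartesianMonoidalCategory MonObj AlgebraicGeometry
open Groth.Reductive Groth.Reductive.FreeDiag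

noncomputable section

namespace Groth.Reductive2.HomTwConst

open HomDesc HomSplit

theorem isSeparated_const (T : Scheme.{u}) (I : Type u) :
    IsSeparated (Sigma.desc fun _ : I => 𝟙 T) := by
  let d := Sigma.desc fun _ : I => 𝟙 T
  show IsSeparated d
  let Z : Over T := Over.mk (pullback.fst d d ≫ d)
  let a : Z ⟶ TwC.const T I := Over.homMk (pullback.fst d d) rfl
  let b : Z ⟶ TwC.const T I := Over.homMk (pullback.snd d d) pullback.condition.symm
  let eqv : Z.left → Prop := fun z => Groth.SGA7.ConstPoints.idx a z = Groth.SGA7.ConstPoints.idx b z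
  have hlc : IsLocallyConstant fun z => (Groth.SGA7.ConstPoints.idx a z, Groth.SGA7.ConstPoints.idx b z) :=
    (Groth.SGA7.ConstPoints.isLocallyConstant_idx a).prodMk (Groth.SGA7.ConstPoints.isLocallyConstant_idx b)
  let O : Z.left.Opens := ⟨{z | eqv z}, hlc {p | p.1 = p.2}⟩
  have hclosed : IsClosed (O : Set Z.left) := ⟨hlc {p | p.1 = p.2}ᶜ⟩
  have hrange : Set.range (pullback.diagonal d) = (O : Set Z.left) := by
    refine Set.Subset.antisymm ?_ fun z hz => ?_
    · rintro _ ⟨x, rfl⟩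
      show Groth.SGA7.ConstPoints.idx a _ = Groth.SGA7.ConstPoints.idx b _
      unfold Groth.SGA7.ConstPoints.idx
      simp only [a, b, Over.homMk_left, ← Scheme.Hom.comp_apply, pullback.diagonal_fst, pullback.diagonal_snd]
    · let o : opn Z O ⟶ Z := opnι Z O
      have h : o ≫ a = o ≫ b := Groth.SGA7.ConstPoints.ext (funext fun t => t.2)
      have h' : O.ι ≫ pullback.fst d d = O.ι ≫ pullback.snd d d := congrArg CommaMorphism.left h
      refine ⟨(O.ι ≫ pullback.fst d d) (⟨z, hz⟩ : O), ?_⟩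
      rw [← Scheme.Hom.comp_apply, Category.assoc]
      have : O.ι ≫ pullback.fst d d ≫ pullback.diagonal d = O.ι := by
        refine pullback.hom_ext ?_ ?_
        · simp
        · simpa using h'
      rw [this]
      rfl
  exact ⟨IsClosedImmersion.of_isPreimmersion _ (hrange.symm ▸ hclosed)⟩

theorem locallyQuasiFinite_const (T : Scheme.{u}) (I : Type u) :
    LocallyQuasiFinite (Sigma.desc fun _ : I => 𝟙 T) :=
  IsZariskiLocalAtSource.sigmaDesc fun _ => inferInstance

theorem locallyOfFiniteType_const (T : Scheme.{u}) (I : Type u) :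
    LocallyOfFiniteType (Sigma.desc fun _ : I => 𝟙 T) :=
  IsZariskiLocalAtSource.sigmaDesc fun _ => inferInstance

theorem prop_of_pieces (P : MorphismProperty Scheme.{u}) [IsZariskiLocalAtTarget P] {κ : Type u}
    {T : κ → Scheme.{u}} {B : Over (∐ T)} {A : ∀ i, Over (T i)}
    (h : ∀ i, ∃ b : (A i).left ⟶ B.left, IsPullback b (A i).hom B.hom (Sigma.ι T i))
    (hA : ∀ i, P (A i).hom) : P B.hom := by
  refine IsZariskiLocalAtTarget.of_openCover (sigmaOpenCover T) fun i => ?_
  obtain ⟨b, hb⟩ := h i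
  show P (pullback.snd B.hom (Sigma.ι T i))
  rw [← hb.isoPullback_inv_snd, P.cancel_left_of_respectsIso]
  exact hA i

variable {S : Scheme.{u}} {G H : Over S} [GrpObj G] [GrpObj H]

/-- Étale charts over which the functor of homomorphisms is constant glue to a twisted constant
representing scheme. -/
theorem exists_of_charts {κ : Type u} {T : κ → Scheme.{u}} (f : ∀ i, T i ⟶ S) [∀ i, Etale (f i)]
    (hcov : ∀ s, ∃ i, s ∈ Set.range (f i).base) (I : κ → Type u)
    (υ : ∀ i, G ⊗ (Over.map (f i)).obj (TwC.const (T i) (I i)) ⟶ H)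
    (hυ : ∀ i, RepresentsOn G H (f i) (TwC.const (T i) (I i)) (υ i)) :
    ∃ (U : Over S) (ω : G ⊗ U ⟶ H), AutFam.RepresentsHom G H U ω ∧
      ∀ i, ∃ c : (Over.map (f i)).obj (TwC.const (T i) (I i)) ⟶ U, (G ◁ c) ≫ ω = υ i ∧
        IsPullback c.left (TwC.const (T i) (I i)).hom U.hom (f i) := by
  obtain ⟨B, ω₀, hB, hpieces⟩ := exists_representsOn_sigma f (fun i => TwC.const (T i) (I i)) υ hυ
  let p := Sigma.desc f
  haveI : Etale p := IsZariskiLocalAtSource.sigmaDesc fun i => inferInstance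
  haveI : Surjective p := ⟨fun s => by
    obtain ⟨i, t, ht⟩ := hcov s
    exact ⟨Sigma.ι T i t, by rw [← Scheme.Hom.comp_apply, Sigma.ι_desc]; exact ht⟩⟩
  have hpb : ∀ i, ∃ b : (TwC.const (T i) (I i)).left ⟶ B.left,
      IsPullback b (TwC.const (T i) (I i)).hom B.hom (Sigma.ι T i) := fun i => by
    obtain ⟨j, _, hj⟩ := hpieces i
    exact ⟨j.left, hj⟩
  haveI : IsSeparated B.hom := prop_of_pieces @IsSeparated hpb fun i => isSeparated_const _ _
  haveI : LocallyQuasiFinite B.hom :=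
    prop_of_pieces @LocallyQuasiFinite hpb fun i => locallyQuasiFinite_const _ _
  haveI : LocallyOfFiniteType B.hom :=
    prop_of_pieces @LocallyOfFiniteType hpb fun i => locallyOfFiniteType_const _ _
  obtain ⟨U, ω, c, hU, hc, hsq⟩ := exists_representsHom_of_cover p hB fun α => Groth.Pi1Desc.Act.eff_of_lqf (A := α)
  refine ⟨U, ω, hU, fun i => ?_⟩
  obtain ⟨j, hj, hjsq⟩ := hpieces i
  refine ⟨Over.homMk (j.left ≫ c.left) ?_, ?_, ?_⟩
  · rw [Category.assoc, Over.w c]
    exact Over.w j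
  · have e : (Over.homMk (j.left ≫ c.left) (by rw [Category.assoc, Over.w c]; exact Over.w j) :
        (Over.map (f i)).obj (TwC.const (T i) (I i)) ⟶ U) = j ≫ c := Over.OverMorphism.ext rfl
    rw [e, whiskerLeft_comp_assoc, hc, hj]
  · have := hjsq.paste_horiz hsq
    rw [Sigma.ι_desc] at this
    exact this

/-- The identification of the chart of a representing scheme with a constant scheme. -/
theorem exists_iso_const {T : Scheme.{u}} {f : T ⟶ S} {I : Type u} {U : Over S}
    (c : (Over.map f).obj (TwC.const T I) ⟶ U) (hc : IsPullback c.left (TwC.const T I).hom U.hom f) :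
    ∃ e : Red.bc f U ≅ TwC.const T I, ∀ i,
      ((Over.mapPullbackAdj f).homEquiv _ U).symm (TwC.pt T I i ≫ e.inv) =
        (Over.map f).map (TwC.pt T I i) ≫ c := by
  refine ⟨Over.isoMk hc.isoPullback.symm hc.isoPullback_inv_snd, fun i => ?_⟩
  rw [Adjunction.homEquiv_naturality_left_symm]
  congr 1
  rw [Adjunction.homEquiv_counit]
  ext
  simp [Over.mapPullbackAdj_counit_app]

theorem exists_iso_of_grp {T : Scheme.{u}} {f : T ⟶ S} {G : Over S} [GrpObj G] {M : Type} [AddCommGroup M]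
    (h : Nonempty (Grp.mk (Red.bc f G) ≅ Grp.mk (Red.DS T M))) :
    ∃ i : Red.DS T M ≅ Red.bc f G, IsMonHom i.hom := by
  obtain ⟨e⟩ := h
  exact ⟨((Grp.forget _).mapIso e).symm, inferInstanceAs (IsMonHom e.inv.hom.hom)⟩

/-- Two étale-local trivialisations have a common affine refinement. -/
theorem exists_common_chart (G H : Over S) [GrpObj G] [GrpObj H] (s : S) {T₁ T₂ : Scheme.{u}} (f₁ : T₁ ⟶ S)
    (f₂ : T₂ ⟶ S) [Etale f₁] [Etale f₂] (h₁ : s ∈ Set.range f₁.base) (h₂ : s ∈ Set.range f₂.base)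
    {M N : Type} [AddCommGroup M] [AddCommGroup N]
    (e₁ : Nonempty (Grp.mk (Red.bc f₁ G) ≅ Grp.mk (Red.DS T₁ M)))
    (e₂ : Nonempty (Grp.mk (Red.bc f₂ H) ≅ Grp.mk (Red.DS T₂ N))) :
    ∃ (T : Scheme.{u}) (f : T ⟶ S), IsAffine T ∧ Etale f ∧ s ∈ Set.range f.base ∧
      (∃ i : Red.DS T M ≅ Red.bc f G, IsMonHom i.hom) ∧ ∃ i : Red.DS T N ≅ Red.bc f H, IsMonHom i.hom := by
  obtain ⟨i₁, hi₁⟩ := exists_iso_of_grp e₁
  obtain ⟨i₂, hi₂⟩ := exists_iso_of_grp e₂
  obtain ⟨x₁, hx₁⟩ := h₁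
  obtain ⟨x₂, hx₂⟩ := h₂
  obtain ⟨x, hxa, hxb⟩ := Scheme.Pullback.exists_preimage_pullback x₁ x₂ (hx₁.trans hx₂.symm)
  obtain ⟨_, ⟨V, hV, rfl⟩, hxV, -⟩ :=
    (pullback f₁ f₂).isBasis_affineOpens.exists_subset_of_mem_open (Set.mem_univ x) isOpen_univ
  change (pullback f₁ f₂).Opens at V
  let j₁ : (V : Scheme.{u}) ⟶ T₁ := V.ι ≫ pullback.fst f₁ f₂
  let j₂ : (V : Scheme.{u}) ⟶ T₂ := V.ι ≫ pullback.snd f₁ f₂
  have hj : j₂ ≫ f₂ = j₁ ≫ f₁ := by simp [j₁, j₂, pullback.condition]
  refine ⟨V, j₁ ≫ f₁, hV, inferInstance, ⟨⟨x, hxV⟩, ?_⟩, exists_trivialisation_comp G j₁ f₁ i₁, ?_⟩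
  · show (V.ι ≫ pullback.fst f₁ f₂ ≫ f₁) _ = s
    rw [Scheme.Hom.comp_apply, Scheme.Hom.comp_apply]
    exact (congrArg f₁ hxa).trans hx₁
  · rw [← hj]
    exact exists_trivialisation_comp H j₂ f₂ i₂

end Groth.Reductive2.HomTwConst
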