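import Groth.Agent.Reductive.MultGa
import Mathlib.AlgebraicGeometry.Morphisms.Flat

/-!
The points of a torus commute.
-/

set_option autoImplicit false
universe u

open CategoryTheory CategoryTheory.Limits MonoidalCategory CartesianMonoidalCategory MonObj GrpObj AlgebraicGeometry

namespace Groth.Reductive2

variable {S : Scheme.{u}}

/-- Points of a torus commute. -/
theorem torus_mul_comm {T : Over S} [GrpObj T] (hT : Red.IsTorus T) {X : Over S} (a b : X ⟶ T) :
    a * b = b * a := by
  obtain ⟨S', f, _, _, -, hloc⟩ := hT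
  choose U hU r hr using hloc
  have : Flat (pullback.fst X.hom f) := MorphismProperty.pullback_fst _ _ inferInstance
  have : Surjective (pullback.fst X.hom f) := MorphismProperty.pullback_fst _ _ inferInstance
  have := Flat.epi_of_flat_of_surjective (pullback.fst X.hom f)
  apply Over.OverMorphism.ext
  rw [← cancel_epi (pullback.fst X.hom f)]
  let 𝒰 : S'.OpenCover := S'.openCoverOfIsOpenCover U (TopologicalSpace.IsOpenCover.mk
    (top_le_iff.mp fun s _ ↦ TopologicalSpace.Opens.mem_iSup.mpr ⟨s, hU s⟩))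
  refine Scheme.Cover.hom_ext (𝒰.pullback₁ (pullback.snd X.hom f)) _ _ fun (s : S') ↦ ?_
  let Y : Over (U s : Scheme.{u}) := Over.mk (pullback.snd (pullback.snd X.hom f) (U s).ι)
  let π : (Over.map ((U s).ι ≫ f)).obj Y ⟶ X :=
    Over.homMk (pullback.fst (pullback.snd X.hom f) (U s).ι ≫ pullback.fst X.hom f) (by
      show (_ ≫ _) ≫ X.hom = pullback.snd _ _ ≫ (U s).ι ≫ f
      rw [Category.assoc, pullback.condition, ← Category.assoc, pullback.condition, Category.assoc])
  obtain ⟨e⟩ := hr s
  let b' : Red.bc ((U s).ι ≫ f) T ⟶ Red.DS (U s : Scheme.{u}) (Fin (r s) → ℤ) := e.hom.hom.hom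
  have : IsMonHom b' := inferInstanceAs (IsMonHom e.hom.hom.hom)
  have : Mono b' := ⟨fun {Z} g h H ↦ by
    have hi : b' ≫ e.inv.hom.hom = 𝟙 _ := congrArg (fun z ↦ z.hom.hom) e.hom_inv_id
    simpa [hi] using H =≫ e.inv.hom.hom⟩
  have hcomm : ∀ x y : Y ⟶ Red.bc ((U s).ι ≫ f) T, x * y = y * x := by
    intro x y
    rw [← cancel_mono b', MonObj.mul_comp x y b', MonObj.mul_comp y x b']
    exact Groth.Reductive.dsVal_ext fun m ↦ by
      rw [Groth.Reductive.dsVal_mul, Groth.Reductive.dsVal_mul, _root_.mul_comm]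
  have h : π ≫ (a * b) = π ≫ (b * a) := by
    rw [MonObj.comp_mul, MonObj.comp_mul]
    apply (Groth.Reductive.bcPointEquiv ((U s).ι ≫ f) T Y).symm.injective
    rw [map_mul, map_mul]
    exact hcomm _ _
  exact congrArg CommaMorphism.left h

end Groth.Reductive2
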