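import Groth.Agent.AlgGrp1.MaxTorus
import Groth.Agent.AlgGrp1.TorusField
import Groth.Agent.Reductive.MultGa
import Groth.Agent.Reductive.BaseChangeMT

/-!
Over an algebraically closed field the geometric notion of maximal torus agrees with maximality among
subtori.
-/

set_option autoImplicit false
universe u

open CategoryTheory Limits MonoidalCategory CartesianMonoidalCategory MonObj GrpObj AlgebraicGeometry

noncomputable section

namespace Groth.Reductive2.MaxTorus

variable {S S' : Scheme.{u}} (ψ : S' ⟶ S)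

/-- The canonical map from the double base change along `ψ` and a left inverse `e`. -/
def unBc (e : S ⟶ S') (he : e ≫ ψ = 𝟙 S) (Y : Over S) : Red.bc e (Red.bc ψ Y) ⟶ Y :=
  Over.homMk (pullback.fst (Red.bc ψ Y).hom e ≫ pullback.fst Y.hom ψ) (by
    show (pullback.fst (pullback.snd Y.hom ψ) e ≫ pullback.fst Y.hom ψ) ≫ Y.hom = pullback.snd _ e
    rw [Category.assoc, pullback.condition, ← Category.assoc, pullback.condition, Category.assoc, he,
      Category.comp_id])

lemma unBc_natural (e : S ⟶ S') (he : e ≫ ψ = 𝟙 S) {Y Z : Over S} (g : Y ⟶ Z) :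
    (Over.pullback e).map ((Over.pullback ψ).map g) ≫ unBc ψ e he Z = unBc ψ e he Y ≫ g := by
  ext
  simp [unBc, pullback.lift_fst, pullback.lift_fst_assoc]

lemma isMonHom_unBc (e : S ⟶ S') (he : e ≫ ψ = 𝟙 S) (G : Over S) [GrpObj G] :
    IsMonHom (unBc ψ e he G) := by
  refine Groth.AlgGrp1.isMonHom_of_points _ fun W a b => ?_
  let o : W ⟶ (Over.map ψ).obj ((Over.map e).obj W) := Over.homMk (𝟙 _) (by
    show 𝟙 _ ≫ (W.hom ≫ e) ≫ ψ = W.hom
    rw [Category.id_comp, Category.assoc, he, Category.comp_id])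
  have key : ∀ m : W ⟶ Red.bc e (Red.bc ψ G), m ≫ unBc ψ e he G =
      o ≫ Groth.Reductive.bcPointEquiv ψ G _ (Groth.Reductive.bcPointEquiv e (Red.bc ψ G) W m) := by
    intro m
    ext
    simp [unBc, o, Groth.Reductive.bcPointEquiv, Adjunction.homEquiv_counit]
  rw [key, key, key, map_mul, map_mul, MonObj.comp_mul]

variable [IsIso ψ]

lemma isIso_pullback_fst_left (Y : Over S) : IsIso (pullback.fst Y.hom ψ) := inferInstance

instance isIso_unBc (Y : Over S) : IsIso (unBc ψ (inv ψ) (IsIso.inv_hom_id ψ) Y) := by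
  have : IsIso ((unBc ψ (inv ψ) (IsIso.inv_hom_id ψ) Y).left) := by
    show IsIso (pullback.fst (Red.bc ψ Y).hom (inv ψ) ≫ pullback.fst Y.hom ψ)
    infer_instance
  have : IsIso ((Over.forget S).map (unBc ψ (inv ψ) (IsIso.inv_hom_id ψ) Y)) := this
  exact isIso_of_reflects_iso _ (Over.forget S)

lemma isIso_of_map {Y Z : Over S} (g : Y ⟶ Z) [IsIso ((Over.pullback ψ).map g)] : IsIso g := by
  have h := unBc_natural ψ (inv ψ) (IsIso.inv_hom_id ψ) g
  have : IsIso (unBc ψ (inv ψ) (IsIso.inv_hom_id ψ) Y ≫ g) := by rw [← h]; infer_instance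
  exact IsIso.of_isIso_comp_left (unBc ψ (inv ψ) (IsIso.inv_hom_id ψ) Y) g

end Groth.Reductive2.MaxTorus

namespace Groth.Reductive2.MaxTorus

variable {k : Type u} [Field k] [IsAlgClosed k]

/-- Over an algebraically closed field the geometric points are isomorphisms. -/
lemma isIso_geomPt (s : (Spec (CommRingCat.of k) : Scheme.{u})) : IsIso (Red.geomPt s) := by
  let K := AlgebraicClosure ((Spec (CommRingCat.of k)).residueField s)
  let F := (Spec (CommRingCat.of k)).residueField s
  let π := (Spec (CommRingCat.of k)).fromSpecResidueField s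
  have : Subsingleton (Spec (CommRingCat.of k) : Scheme.{u}) := inferInstanceAs (Subsingleton (PrimeSpectrum k))
  have : Surjective π := ⟨fun x => ⟨IsLocalRing.closedPoint _, Subsingleton.elim _ _⟩⟩
  have : IsClosedImmersion π := .of_isPreimmersion π (isClosed_discrete _)
  have hπ : IsIso π := isIso_of_isClosedImmersion_of_surjective π
  obtain ⟨φ, hφ⟩ := Spec.map_surjective π
  have : IsIso (Spec.map φ) := hφ ▸ hπ
  have : IsIso (Scheme.Spec.map φ.op) := ‹IsIso (Spec.map φ)›
  have : IsIso φ.op := isIso_of_reflects_iso φ.op Scheme.Spec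
  have : IsIso φ := isIso_of_op φ
  have : IsAlgClosed F := IsAlgClosed.of_ringEquiv k F (asIso φ).commRingCatIsoToRingEquiv
  have : IsIso (CommRingCat.ofHom (algebraMap F K)) :=
    (ConcreteCategory.isIso_iff_bijective _).2 IsAlgClosed.algebraMap_bijective_of_isIntegral
  show IsIso (Spec.map (CommRingCat.ofHom (algebraMap F K)) ≫ π)
  infer_instance

/-- Maximality among subtori is insensitive to base change along an isomorphism of fields. -/
lemma isIso_of_isMax_bc {K : Type u} [Field K] (ψ : Spec (CommRingCat.of K) ⟶ Spec (CommRingCat.of k))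
    [IsIso ψ] {G T T' : Over (Spec (CommRingCat.of k))} [GrpObj G] [GrpObj T'] (i : T ⟶ G)
    (hmax : ∀ (Y : Over (Spec (CommRingCat.of K))) [GrpObj Y] (j : Y ⟶ Red.bc ψ G) [IsMonHom j] [Mono j]
      (f : Red.bc ψ T ⟶ Y), Red.IsTorus Y → f ≫ j = (Over.pullback ψ).map i → IsIso f)
    (j : T' ⟶ G) [IsMonHom j] [Mono j] (f : T ⟶ T') (hT' : Red.IsTorus T') (hf : f ≫ j = i) : IsIso f := by
  have := Groth.Abvar.isMonHom_map (f := ψ) j
  have := @hmax (Red.bc ψ T') inferInstance ((Over.pullback ψ).map j) inferInstance inferInstance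
    ((Over.pullback ψ).map f) (Groth.AlgGrp1.isTorus_bc ψ hT') (by rw [← Functor.map_comp, hf])
  exact isIso_of_map ψ f

/-- Maximality among subtori is insensitive to base change along an isomorphism of fields. -/
lemma isIso_of_isMax {K : Type u} [Field K] [IsAlgClosed K]
    (ψ : Spec (CommRingCat.of K) ⟶ Spec (CommRingCat.of k))
    [IsIso ψ] {G T : Over (Spec (CommRingCat.of k))} [GrpObj G] (i : T ⟶ G)
    (hmax : ∀ (Y : Over (Spec (CommRingCat.of k))) [GrpObj Y] (j : Y ⟶ G) [IsMonHom j] [Mono j]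
      (f : T ⟶ Y), Red.IsTorus Y → f ≫ j = i → IsIso f)
    {T' : Over (Spec (CommRingCat.of K))} [GrpObj T'] (j : T' ⟶ Red.bc ψ G) [IsMonHom j] [Mono j]
    (f : Red.bc ψ T ⟶ T') (hT' : Red.IsTorus T') (hf : f ≫ j = (Over.pullback ψ).map i) : IsIso f := by
  let e := inv ψ
  have := isMonHom_unBc ψ e (IsIso.inv_hom_id ψ) G
  have := Groth.Abvar.isMonHom_map (f := e) j
  let u := unBc ψ e (IsIso.inv_hom_id ψ) T
  have : IsIso u := isIso_unBc ψ T
  have : Mono (unBc ψ e (IsIso.inv_hom_id ψ) G) :=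
    @IsIso.mono_of_iso _ _ _ _ _ (isIso_unBc ψ G)
  have := @hmax (Red.bc e T') inferInstance (((Over.pullback e).map j) ≫ unBc ψ e (IsIso.inv_hom_id ψ) G)
    inferInstance inferInstance (inv u ≫ (Over.pullback e).map f) (Groth.AlgGrp1.isTorus_bc e hT') (by
      rw [Category.assoc, ← Functor.map_comp_assoc, hf, unBc_natural, IsIso.inv_hom_id_assoc])
  have : IsIso ((Over.pullback e).map f) :=
    IsIso.of_isIso_comp_left (inv u) ((Over.pullback e).map f)
  exact @isIso_of_map _ _ e inferInstance _ _ f this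

/-- **Over an algebraically closed field, maximal tori are the subtori maximal among subtori.** -/
theorem isMaximalTorus_iff {G T : Over (Spec (CommRingCat.of k))} [GrpObj G] [GrpObj T] (i : T ⟶ G) :
    Red.IsMaximalTorus i ↔ AGF.IsMaxTorus i := by
  constructor
  · rintro ⟨hm, hmono, hT, hmax⟩
    refine ⟨hm, hmono, hT, fun T' _ j _ _ f hT' hf => ?_⟩
    obtain ⟨s₀⟩ : Nonempty (Spec (CommRingCat.of k) : Scheme.{u}) := ⟨IsLocalRing.closedPoint k⟩
    have := isIso_geomPt (k := k) s₀
    exact isIso_of_isMax_bc (K := AlgebraicClosure ((Spec (CommRingCat.of k)).residueField s₀)) (Red.geomPt s₀) i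
      (fun Y _ j' _ _ f' hY hf' => hmax s₀ Y j' f' hY hf') j f hT' hf
  · rintro ⟨hm, hmono, hT, hmax⟩
    refine ⟨hm, hmono, hT, fun s T' _ j _ _ f hT' hf => ?_⟩
    have := isIso_geomPt (k := k) s
    exact isIso_of_isMax (K := AlgebraicClosure ((Spec (CommRingCat.of k)).residueField s)) (Red.geomPt s) i
      hmax j f hT' hf

end Groth.Reductive2.MaxTorus
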