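import Groth.Prelude.Def_Red2
import Mathlib.RingTheory.RingHom.FaithfullyFlat
import Mathlib.LinearAlgebra.FreeModule.Basic

/-!
A non-zero character of a split torus is faithfully flat.
-/

set_option autoImplicit false
universe u

open CategoryTheory CategoryTheory.Limits AlgebraicGeometry

noncomputable section

namespace Groth.Reductive2

variable {R : Type*} [CommRing R] {G H : Type*} [CommGroup G] [CommGroup H]

/-- A group algebra is free over the group algebra of a subgroup. -/
theorem free_mapDomain (φ : H →* G) (hφ : Function.Injective φ) :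
    letI := (MonoidAlgebra.mapDomainRingHom R φ).toAlgebra
    Module.Free (MonoidAlgebra R H) (MonoidAlgebra R G) := by
  letI := (MonoidAlgebra.mapDomainRingHom R φ).toAlgebra
  let Q := G ⧸ φ.range
  let σ : Q → G := Quotient.out
  let b : Q × H → G := fun z ↦ σ z.1 * φ z.2
  have hb : Function.Bijective b := by
    have hmk : ∀ q : Q, (QuotientGroup.mk (σ q) : Q) = q := fun q ↦ Quotient.out_eq q
    refine ⟨fun z z' e ↦ ?_, fun g ↦ ?_⟩
    · have e1 := congrArg (QuotientGroup.mk (s := φ.range)) e
      simp only [b, QuotientGroup.mk_mul] at e1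
      rw [hmk, hmk, (QuotientGroup.eq_one_iff _).mpr (show φ z.2 ∈ φ.range from ⟨z.2, rfl⟩), (QuotientGroup.eq_one_iff _).mpr (show φ z'.2 ∈ φ.range from ⟨z'.2, rfl⟩),
        mul_one, mul_one] at e1
      refine Prod.ext e1 (hφ ?_)
      simpa [b, e1] using e
    · obtain ⟨h, hh⟩ : (σ (QuotientGroup.mk g))⁻¹ * g ∈ φ.range := by
        rw [← QuotientGroup.eq_one_iff, QuotientGroup.mk_mul, QuotientGroup.mk_inv, hmk, inv_mul_cancel]
      exact ⟨(QuotientGroup.mk g, h), by simp [b, hh]⟩
  let Φ : (Q →₀ MonoidAlgebra R H) →ₗ[MonoidAlgebra R H] MonoidAlgebra R G :=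
    Finsupp.linearCombination (MonoidAlgebra R H) fun q ↦ MonoidAlgebra.single (σ q) (1 : R)
  have hΦ : ∀ q h (r : R), Φ (Finsupp.single q (MonoidAlgebra.single h r)) = MonoidAlgebra.single (b (q, h)) r := by
    intro q h r
    simp only [Φ, Finsupp.linearCombination_single, Algebra.smul_def, RingHom.algebraMap_toAlgebra]
    simp [b, mul_comm]
  let Ψ : MonoidAlgebra R G →+ (Q →₀ MonoidAlgebra R H) :=
    (Finsupp.liftAddHom fun g ↦ ((Finsupp.singleAddHom ((Equiv.ofBijective b hb).symm g).1).comp
      (MonoidAlgebra.singleAddHom ((Equiv.ofBijective b hb).symm g).2))).comp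
      (MonoidAlgebra.coeffAddEquiv (R := R) (M := G)).toAddMonoidHom
  have hΨ : ∀ g (r : R), Ψ (MonoidAlgebra.single g r) =
      Finsupp.single ((Equiv.ofBijective b hb).symm g).1
        (MonoidAlgebra.single ((Equiv.ofBijective b hb).symm g).2 r) := fun g r ↦ by simp [Ψ]
  refine Module.Free.of_equiv (LinearEquiv.ofBijective Φ ⟨?_, ?_⟩)
  · refine Function.LeftInverse.injective (g := Ψ) fun x ↦ ?_
    induction x using Finsupp.induction_linear with
    | zero => simp
    | add x y hx hy => rw [map_add, map_add, hx, hy]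
    | single q a =>
      induction a using MonoidAlgebra.induction_linear with
      | zero => simp
      | add x y hx hy => rw [Finsupp.single_add, map_add, map_add, hx, hy]
      | single h r =>
        rw [hΦ, hΨ]
        have e : (Equiv.ofBijective b hb).symm (b (q, h)) = (q, h) := (Equiv.ofBijective b hb).symm_apply_apply _
        rw [e]
  · intro x
    induction x using MonoidAlgebra.induction_linear with
    | zero => exact ⟨0, map_zero _⟩
    | add x y hx hy => obtain ⟨a, rfl⟩ := hx; obtain ⟨c, rfl⟩ := hy; exact ⟨a + c, map_add _ _ _⟩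
    | single g r =>
      obtain ⟨⟨q, h⟩, rfl⟩ := hb.2 g
      exact ⟨_, hΦ q h r⟩

/-- A non-zero element of a torsion-free group gives a flat surjective map of diagonalisable groups. -/
theorem flat_surjective_diagMap (R : Type u) [CommRing R] [Nontrivial R] {M : Type} [AddCommGroup M]
    (φ : ℤ →+ M) (hφ : Function.Injective φ) :
    Flat (Red.diagMap R φ).left ∧ Surjective (Red.diagMap R φ).left := by
  let f : MonoidAlgebra R (Multiplicative ℤ) →+* MonoidAlgebra R (Multiplicative M) :=
    MonoidAlgebra.mapDomainRingHom R (AddMonoidHom.toMultiplicative φ)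
  have hff : f.FaithfullyFlat := by
    letI := f.toAlgebra
    show Module.FaithfullyFlat _ _
    have : Module.Free (MonoidAlgebra R (Multiplicative ℤ)) (MonoidAlgebra R (Multiplicative M)) :=
      free_mapDomain (AddMonoidHom.toMultiplicative φ) hφ
    infer_instance
  rw [RingHom.FaithfullyFlat.iff_flat_and_comap_surjective] at hff
  refine ⟨?_, ⟨hff.2⟩⟩
  show Flat (Spec.map (CommRingCat.ofHom f))
  rw [Flat.SpecMap_iff]
  exact hff.1

end Groth.Reductive2
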