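import Groth.Prelude.Def_Magnet4
import Groth.Agent.AlgGrp1.Sub
import Groth.Agent.AlgGrp1.Basic
import Groth.Agent.AlgGrp2.AffinePts
import Groth.Agent.AlgGrp2.DiagBaseChange
import Groth.Agent.Reductive2.DiagFlat
import Groth.Agent.Reductive.MultGa
import Groth.Agent.Abvar.BaseChange

/-!
A bimultiplicative pairing of tori over a field with values in a group is trivial.
-/

set_option autoImplicit false
universe u

open CategoryTheory CategoryTheory.Limits MonoidalCategory CartesianMonoidalCategory MonObj GrpObj AlgebraicGeometry Opposite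
open scoped TensorProduct

noncomputable section

namespace Groth.Reductive2.Pairing

/-- `Spec` is braided monoidal, at the spelling `CommRingCat.of R`. -/
local instance braidedAlgSpecAt (R : Type u) [CommRing R] : (algSpec (CommRingCat.of R)).Braided :=
  braidedAlgSpec

/-- A bimultiplicative family of maps. -/
def IsBilinear {S : Scheme.{u}} {T G : Over S} [GrpObj T] [GrpObj G] (c : T ⊗ T ⟶ G) : Prop :=
  (∀ (X : Over S) (a a' b : X ⟶ T), lift (a * a') b ≫ c = (lift a b ≫ c) * (lift a' b ≫ c)) ∧
    ∀ (X : Over S) (a b b' : X ⟶ T), lift a (b * b') ≫ c = (lift a b ≫ c) * (lift a b' ≫ c)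

variable {r : ℕ}

/-- Reduction of characters modulo `n`. -/
def red (r n : ℕ) : Multiplicative (Fin r → ℤ) →* Multiplicative (Fin r → ZMod n) :=
  AddMonoidHom.toMultiplicative
    (AddMonoidHom.pi fun i => (Int.castAddHom (ZMod n)).comp (Pi.evalAddMonoidHom (fun _ => ℤ) i))

/-- Laurent polynomials are detected modulo all `n`. -/
theorem eq_zero_of_red {L : Type u} [CommRing L] (f : MonoidAlgebra L (Multiplicative (Fin r → ℤ)))
    (h : ∀ n : ℕ, 0 < n → MonoidAlgebra.mapDomain (red r n) f = 0) : f = 0 := by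
  classical
  let s := f.coeff.support
  let N : ℕ := 1 + ∑ m ∈ s, 2 * ∑ i, (Multiplicative.toAdd m i).natAbs
  have hinj : Set.InjOn (red r N) (s : Set (Multiplicative (Fin r → ℤ))) := by
    intro a ha b hb hab
    refine Multiplicative.toAdd.injective (funext fun i => ?_)
    have hi : ((Multiplicative.toAdd a i : ℤ) : ZMod N) = ((Multiplicative.toAdd b i : ℤ) : ZMod N) :=
      congrFun (congrArg Multiplicative.toAdd hab) i
    have hlt : ∀ m ∈ s, 2 * (Multiplicative.toAdd m i).natAbs < N := fun m hm => by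
      have h1 := Finset.single_le_sum (fun j _ => Nat.zero_le (Multiplicative.toAdd m j).natAbs)
        (Finset.mem_univ i)
      have h2 := Finset.single_le_sum
        (f := fun m => 2 * ∑ i, (Multiplicative.toAdd m i).natAbs) (fun j _ => Nat.zero_le _) hm
      simp only [N]
      omega
    have hd := (ZMod.intCast_eq_intCast_iff_dvd_sub _ _ _).mp hi
    refine (sub_eq_zero.mp (Int.eq_zero_of_dvd_of_natAbs_lt_natAbs hd ?_)).symm
    have := hlt a ha; have := hlt b hb
    omega
  have h0 : Finsupp.mapDomain (red r N) f.coeff = 0 := by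
    have := congrArg MonoidAlgebra.coeff (h N (by simp only [N]; omega))
    simpa using this
  refine MonoidAlgebra.coeff_injective (Finsupp.ext fun m => ?_)
  by_cases hm : m ∈ s
  · have := Finsupp.mapDomain_apply' (s : Set (Multiplicative (Fin r → ℤ))) f.coeff (Finset.Subset.refl _) hinj hm
    rw [h0] at this
    simpa using this.symm
  · simpa [s] using hm

/-- If a map into an affine scheme kills `x`, so does any map through it. -/
theorem map_eq_zero_of_factor {R B : CommRingCat.{u}} {E : Scheme.{u}} (e : E ⟶ Spec R) (x : Γ(Spec R, ⊤))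
    (hx : e.appTop x = 0) (φ : R ⟶ B) (z : Spec B ⟶ E) (hz : z ≫ e = Spec.map φ) :
    φ ((Scheme.ΓSpecIso R).hom x) = 0 := by
  have h1 : (Spec.map φ).appTop x = 0 := by
    rw [← hz, Scheme.Hom.comp_appTop, CommRingCat.comp_apply, hx, map_zero]
  have h2 := congr($(Scheme.ΓSpecIso_naturality φ) x)
  rw [CommRingCat.comp_apply, CommRingCat.comp_apply, h1, map_zero] at h2
  exact h2.symm

section Split

variable {K : Type u} [Field K]

/-- The coordinate ring of the split torus. -/
abbrev A (K : Type u) [Field K] (r : ℕ) := MonoidAlgebra K (Multiplicative (Fin r → ℤ))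

/-- The comorphism of the `n`-th power. -/
def powAlg (K : Type u) [Field K] (r n : ℕ) : A K r →ₐ[K] A K r :=
  MonoidAlgebra.mapDomainAlgHom K K (powMonoidHom n)

theorem id_pow (n : ℕ) :
    (𝟙 (Red.diag K (Fin r → ℤ))) ^ n = CoactBr.pt (powAlg K r n) := by
  induction n with
  | zero =>
    rw [pow_zero, CoactBr.one_eq_pt]
    congr 1
    apply MonoidAlgebra.algHom_ext
    · intro m
      simp [powAlg, MonoidAlgebra.one_def]
    all_goals ext
  | succ n ih =>
    rw [pow_succ, ih, ← CoactBr.pt_id, CoactBr.pt_mul_pt]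
    congr 1
    apply MonoidAlgebra.algHom_ext
    · intro m
      simp [powAlg, MonoidAlgebra.single_mul_single, pow_succ]
    all_goals ext

theorem flat_surjective_powAlg {n : ℕ} (hn : 0 < n) :
    Flat (CoactBr.pt (powAlg K r n)).left ∧ Surjective (CoactBr.pt (powAlg K r n)).left := by
  let φ : Multiplicative (Fin r → ℤ) →* Multiplicative (Fin r → ℤ) := powMonoidHom n
  have hφ : Function.Injective φ := fun a b h => by
    refine Multiplicative.toAdd.injective (funext fun i => ?_)
    have hi : (n : ℤ) * Multiplicative.toAdd a i = n * Multiplicative.toAdd b i := by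
      simpa [φ] using congrFun (congrArg Multiplicative.toAdd h) i
    exact mul_left_cancel₀ (by omega) hi
  let f : A K r →+* A K r := MonoidAlgebra.mapDomainRingHom K φ
  have hff : f.FaithfullyFlat := by
    letI := f.toAlgebra
    show @Module.FaithfullyFlat (A K r) (A K r) _ _ Algebra.toModule
    have : @Module.Free (A K r) (A K r) _ _ Algebra.toModule := free_mapDomain φ hφ
    infer_instance
  rw [RingHom.FaithfullyFlat.iff_flat_and_comap_surjective] at hff
  refine ⟨?_, ⟨hff.2⟩⟩
  show Flat (Spec.map (CommRingCat.ofHom f))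
  rw [Flat.SpecMap_iff]
  exact hff.1

variable {G : Over (Spec (CommRingCat.of K))} [GrpObj G]

/-- A bimultiplicative pairing on a split torus is trivial. -/
theorem eq_one_split (c : Red.diag K (Fin r → ℤ) ⊗ Red.diag K (Fin r → ℤ) ⟶ G) (hc : IsBilinear c) :
    c = 1 := by
  have : IsSeparated G.hom := Groth.AlgGrp1.isSeparated_grpObj G
  let X := Red.diag K (Fin r → ℤ)
  have hpl : ∀ {Y : Over (Spec (CommRingCat.of K))} (a b : Y ⟶ X) (n : ℕ),
      lift (a ^ n) b ≫ c = (lift a b ≫ c) ^ n ∧ lift a (b ^ n) ≫ c = (lift a b ≫ c) ^ n := by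
    intro Y a b n
    induction n with
    | zero =>
      have h1 := hc.1 Y 1 1 b
      have h2 := hc.2 Y a 1 1
      rw [_root_.one_mul] at h1 h2
      exact ⟨by rw [pow_zero, pow_zero]; exact left_eq_mul.mp h1,
        by rw [pow_zero, pow_zero]; exact left_eq_mul.mp h2⟩
    | succ n ih =>
      exact ⟨by rw [pow_succ, pow_succ, hc.1, ih.1], by rw [pow_succ, pow_succ, hc.2, ih.2]⟩
  let w : CoactBr.sp K (A K r ⊗[K] A K r) ⟶ X ⊗ X :=
    lift (CoactBr.pt Algebra.TensorProduct.includeLeft) (CoactBr.pt Algebra.TensorProduct.includeRight)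
  refine Magnet.hom_ext_pt ?_
  show w ≫ c = w ≫ 1
  rw [MonObj.comp_one]
  obtain ⟨E, e, he, hE⟩ := Groth.AlgGrp1.exists_equalizer (w ≫ c) 1
  have hfac : ∀ n : ℕ, 0 < n → ∃ z, z ≫ e = CoactBr.pt (Algebra.TensorProduct.map
      (MonoidAlgebra.mapDomainAlgHom K K (red r n)) (AlgHom.id K (A K r))) := by
    intro n hn
    rw [hE, MonObj.comp_one]
    let π : A K r →ₐ[K] MonoidAlgebra K (Multiplicative (Fin r → ZMod n)) :=
      MonoidAlgebra.mapDomainAlgHom K K (red r n)
    let P := CoactBr.sp K (MonoidAlgebra K (Multiplicative (Fin r → ZMod n)))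
    let jn : P ⟶ X := CoactBr.pt π
    have hjn : jn ^ n = 1 := by
      have : jn ≫ ((𝟙 X) ^ n) = jn ^ n := by rw [MonObj.comp_pow, Category.comp_id]
      rw [← this, id_pow, ← CoactBr.pt_comp, CoactBr.one_eq_pt]
      congr 1
      apply MonoidAlgebra.algHom_ext
      · intro m
        have hm : red r n m ^ n = 1 := by
          refine Multiplicative.toAdd.injective (funext fun i => ?_)
          simp
        simp [π, powAlg, hm, MonoidAlgebra.one_def]
      all_goals ext
    let p : P ⊗ X ⟶ P ⊗ X := P ◁ ((𝟙 X) ^ n)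
    have hp : Groth.AlgGrp1.IsCover p := by
      refine Groth.AlgGrp1.IsCover.whiskerLeft ?_ P
      rw [id_pow]
      obtain ⟨_, _⟩ := flat_surjective_powAlg (K := K) (r := r) hn
      haveI : LocallyOfFiniteType (CoactBr.sp K (A K r)).hom := by
        show LocallyOfFiniteType (Spec.map _)
        rw [HasRingHomProperty.Spec_iff (P := @LocallyOfFiniteType)]
        exact RingHom.finiteType_algebraMap.mpr inferInstance
      exact Groth.AlgGrp1.isCover _
    have hP : (jn ▷ X) ≫ c = 1 := by
      apply hp.cancel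
      have e1 : p ≫ (jn ▷ X) = lift (fst P X ≫ jn) (snd P X ^ n) := by
        ext1
        · simp [p]
        · simp [p, MonObj.comp_pow]
      rw [← Category.assoc, e1, (hpl _ _ n).2, ← (hpl _ _ n).1, MonObj.comp_one,
        ← MonObj.comp_pow, hjn, MonObj.comp_one]
      have h := hc.1 _ 1 1 (snd P X)
      rw [_root_.one_mul] at h
      exact left_eq_mul.mp h
    have e2 : CoactBr.pt (Algebra.TensorProduct.map π (AlgHom.id K (A K r))) ≫ w =
        lift (CoactBr.pt Algebra.TensorProduct.includeLeft) (CoactBr.pt Algebra.TensorProduct.includeRight) ≫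
          (jn ▷ X) := by
      rw [comp_lift, lift_whiskerRight, ← CoactBr.pt_comp, ← CoactBr.pt_comp]
      congr 1
      · rw [← CoactBr.pt_comp]
        exact congrArg CoactBr.pt (AlgHom.ext fun x => by simp [π])
      · exact congrArg CoactBr.pt (AlgHom.ext fun x => by simp)
    rw [← Category.assoc, e2, Category.assoc, hP, MonObj.comp_one]
  haveI : IsAffine (CoactBr.sp K (A K r ⊗[K] A K r)).left := inferInstanceAs (IsAffine (Spec _))
  have hcl := HasAffineProperty.iff_of_isAffine (P := @IsClosedImmersion) (f := e.left) |>.mp he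
  obtain ⟨hEaff, hsurj⟩ := hcl
  have hinj : Function.Injective e.left.appTop := by
    refine (injective_iff_map_eq_zero _).mpr fun x hx => ?_
    classical
    let y : A K r ⊗[K] A K r := (Scheme.ΓSpecIso (CommRingCat.of (A K r ⊗[K] A K r))).hom x
    suffices y = 0 from
      (ConcreteCategory.bijective_of_isIso (Scheme.ΓSpecIso (CommRingCat.of (A K r ⊗[K] A K r))).hom).1
        (this.trans (map_zero _).symm)
    let b := Module.Basis.ofVectorSpace K (A K r)
    refine (TensorProduct.equivFinsuppOfBasisRight b).injective (Finsupp.ext fun i => ?_)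
    rw [map_zero, Finsupp.zero_apply]
    refine eq_zero_of_red _ fun n hn => ?_
    obtain ⟨z, hz⟩ := hfac n hn
    let φ := Algebra.TensorProduct.map (MonoidAlgebra.mapDomainAlgHom K K (red r n)) (AlgHom.id K (A K r))
    have h0 : φ y = 0 :=
      map_eq_zero_of_factor e.left x hx (CommRingCat.ofHom φ.toRingHom) z.left
        (congrArg CommaMorphism.left hz)
    have hnat : ∀ t : A K r ⊗[K] A K r,
        MonoidAlgebra.mapDomain (red r n) (TensorProduct.equivFinsuppOfBasisRight b t i) =
          TensorProduct.equivFinsuppOfBasisRight b (φ t) i := by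
      intro t
      induction t with
      | zero => simp
      | tmul p q =>
        simp only [φ, Algebra.TensorProduct.map_tmul, AlgHom.id_apply,
          TensorProduct.equivFinsuppOfBasisRight_apply_tmul_apply]
        exact map_smul (MonoidAlgebra.mapDomainAlgHom K K (red r n)) _ _
      | add p q hp hq =>
        simp only [map_add, Finsupp.add_apply, MonoidAlgebra.mapDomain_add, hp, hq]
    rw [hnat, h0, map_zero, Finsupp.zero_apply]
  have : IsIso e.left := by
    haveI : IsAffine (CoactBr.sp K (A K r ⊗[K] A K r)).left := inferInstanceAs (IsAffine (Spec _))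
    have := (HasAffineProperty.iff_of_isAffine (P := MorphismProperty.isomorphisms Scheme) (f := e.left)).mpr
      ⟨hEaff, (ConcreteCategory.isIso_iff_bijective _).mpr ⟨hinj, hsurj⟩⟩
    exact this
  have : IsIso ((Over.forget _).map e) := this
  have := isIso_of_reflects_iso e (Over.forget _)
  have := (hE _ e).mp ⟨𝟙 _, Category.id_comp _⟩
  rw [MonObj.comp_one, ← MonObj.comp_one e] at this
  exact (cancel_epi e).mp this

end Split

/-- A bimultiplicative pairing on a torus over a field is trivial. -/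
theorem eq_one {k : Type u} [Field k] {T G : Over (Spec (CommRingCat.of k))} [GrpObj T] [GrpObj G]
    (hT : Red.IsTorus T) (c : T ⊗ T ⟶ G) (hc : IsBilinear c) : c = 1 := by
  obtain ⟨S', f, _, hf, -, hloc⟩ := hT
  obtain ⟨s', -⟩ := hf.surj (default : Spec (CommRingCat.of k))
  obtain ⟨U, hs', r, ⟨e⟩⟩ := hloc s'
  let L := (U : Scheme.{u}).residueField ⟨s', hs'⟩
  let p : Spec (CommRingCat.of L) ⟶ (U : Scheme.{u}) := (U : Scheme.{u}).fromSpecResidueField ⟨s', hs'⟩
  let g : (U : Scheme.{u}) ⟶ Spec (CommRingCat.of k) := U.ι ≫ f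
  let q : Spec (CommRingCat.of L) ⟶ Spec (CommRingCat.of k) := p ≫ g
  let t := Limits.IsTerminal.from specULiftZIsTerminal (U : Scheme.{u})
  let D := Red.diag (ULift.{u} ℤ) (Fin r → ℤ)
  let e₀ : Red.bc g T ≅ Red.DS (U : Scheme.{u}) (Fin r → ℤ) := (Grp.forget _).mapIso e
  have : IsMonHom e₀.symm.hom := inferInstanceAs (IsMonHom e.inv.hom.hom)
  let d₁ : Red.diag L (Fin r → ℤ) ≅ Red.DS (Spec (CommRingCat.of L)) (Fin r → ℤ) :=
    Groth.AlgGrp2.diagIsoDS L (Fin r → ℤ)
  have hq : Limits.IsTerminal.from specULiftZIsTerminal (Spec (CommRingCat.of L)) = p ≫ t :=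
    specULiftZIsTerminal.hom_ext _ _
  let d₂ : Red.DS (Spec (CommRingCat.of L)) (Fin r → ℤ) ≅ Red.bc (p ≫ t) D :=
    eqToIso (congrArg (fun φ => Red.bc φ D) hq)
  have : IsMonHom d₂.hom := Groth.Abvar.isMonHom_eqToHom_bc hq D
  let d₃ : Red.bc (p ≫ t) D ≅ Red.bc p (Red.bc t D) := (Over.pullbackComp p t).app D
  have : IsMonHom d₃.hom := (Groth.Abvar.isMonHom_pullbackComp p t D).2
  let d₄ : Red.bc p (Red.bc t D) ≅ Red.bc p (Red.bc g T) := (Over.pullback p).mapIso e₀.symm
  have : IsMonHom d₄.hom := Groth.Abvar.isMonHom_map (f := p) e₀.symm.hom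
  let d₅ : Red.bc p (Red.bc g T) ≅ Red.bc q T := ((Over.pullbackComp p g).app T).symm
  have : IsMonHom d₅.hom := (Groth.Abvar.isMonHom_pullbackComp p g T).1
  let i₁ := d₁ ≪≫ d₂ ≪≫ d₃ ≪≫ d₄ ≪≫ d₅
  have : IsMonHom i₁.hom := by simp only [i₁, Iso.trans_hom]; infer_instance
  let X := Red.diag L (Fin r → ℤ)
  let E := fun (K : Over (Spec (CommRingCat.of k))) [GrpObj K] (Y : Over (Spec (CommRingCat.of L))) =>
    Groth.Reductive.bcPointEquiv q K Y
  let cL : X ⊗ X ⟶ Red.bc q G :=
    (E G (X ⊗ X)).symm (lift (E T (X ⊗ X) (fst X X ≫ i₁.hom)) (E T (X ⊗ X) (snd X X ≫ i₁.hom)) ≫ c)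
  have hcL : ∀ {Y : Over (Spec (CommRingCat.of L))} (a b : Y ⟶ X), lift a b ≫ cL =
      (E G Y).symm (lift (E T Y (a ≫ i₁.hom)) (E T Y (b ≫ i₁.hom)) ≫ c) := by
    intro Y a b
    apply (E G Y).injective
    rw [MulEquiv.apply_symm_apply, Groth.Reductive.bcPointEquiv_comp, MulEquiv.apply_symm_apply,
      comp_lift_assoc, ← Groth.Reductive.bcPointEquiv_comp, ← Groth.Reductive.bcPointEquiv_comp,
      lift_fst_assoc, lift_snd_assoc]
  have h1 := eq_one_split cL ⟨fun Y a a' b => by
      rw [hcL, hcL, hcL, MonObj.mul_comp, map_mul, hc.1, map_mul],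
    fun Y a b b' => by rw [hcL, hcL, hcL, MonObj.mul_comp, map_mul, hc.2, map_mul]⟩
  let W := T ⊗ T
  let w : (Over.map q).obj ((Over.pullback q).obj W) ⟶ W := (Over.mapPullbackAdj q).counit.app W
  have : Epi w.left := by
    have e : w.left = pullback.fst W.hom q := by simp [w]
    have : Surjective q := ⟨fun y => ⟨default, Subsingleton.elim _ _⟩⟩
    have : Flat (pullback.fst W.hom q) := inferInstance
    have : Surjective (pullback.fst W.hom q) := MorphismProperty.pullback_fst _ _ ‹_›
    rw [e]
    exact Flat.epi_of_flat_of_surjective _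
  have : Epi w := Over.epi_of_epi_left w
  rw [← cancel_epi w, MonObj.comp_one]
  let Y := (Over.pullback q).obj W
  have h2 := hcL ((E T Y).symm (w ≫ fst T T) ≫ i₁.inv) ((E T Y).symm (w ≫ snd T T) ≫ i₁.inv)
  rw [h1, MonObj.comp_one, Category.assoc, Category.assoc, Iso.inv_hom_id, Category.comp_id,
    Category.comp_id, MulEquiv.apply_symm_apply, MulEquiv.apply_symm_apply, ← comp_lift, lift_fst_snd,
    Category.comp_id] at h2
  have := congrArg (E G Y) h2
  rwa [map_one, MulEquiv.apply_symm_apply, eq_comm] at this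

end Groth.Reductive2.Pairing
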