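import Groth.Agent.AlgGrp1.BorelExist
import Groth.Agent.Reductive.MultGa

/-!
Points of transporters are conjugations of base changes.
-/

set_option autoImplicit false
universe u

open CategoryTheory MonoidalCategory CartesianMonoidalCategory MonObj GrpObj AlgebraicGeometry

noncomputable section

namespace Groth.Reductive2.TransConj

variable {S S' : Scheme.{u}} (φ : S' ⟶ S) {T₁ T₂ G : Over S} [GrpObj G] (i₁ : T₁ ⟶ G) (i₂ : T₂ ⟶ G)

/-- The strict transporter condition for a point `g : X ⟶ G`. -/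
def Carries {X : Over S} (g : X ⟶ G) : Prop :=
  ∀ (X' : Over S) (x : X' ⟶ X),
    (∀ h₁ : X' ⟶ T₁, ∃ h₂ : X' ⟶ T₂, (x ≫ g) * (h₁ ≫ i₁) * (x ≫ g)⁻¹ = h₂ ≫ i₂) ∧
    (∀ h₂ : X' ⟶ T₂, ∃ h₁ : X' ⟶ T₁, (x ≫ g)⁻¹ * (h₂ ≫ i₂) * (x ≫ g) = h₁ ≫ i₁)

/-- Points of a base change, multiplicatively. -/
abbrev E (X : Over S') : (X ⟶ Red.bc φ G) ≃* ((Over.map φ).obj X ⟶ G) :=
  Groth.Reductive.bcPointEquiv φ G X

lemma E_map {X : Over S'} {Y : Over S} (f : Y ⟶ G) (x : X ⟶ Red.bc φ Y) :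
    Groth.Reductive.bcPointEquiv φ G X (x ≫ (Over.pullback φ).map f) =
      ((Over.mapPullbackAdj φ).homEquiv X Y).symm x ≫ f :=
  Adjunction.homEquiv_naturality_right_symm _ _ _

/-- A point of the transporter gives an isomorphism of the base changed subgroups over the conjugation. -/
theorem exists_iso_of_carries [Mono i₁] [Mono i₂] (g : 𝟙_ (Over S') ⟶ Red.bc φ G)
    (h : Carries i₁ i₂ (Groth.Reductive.bcPointEquiv φ G _ g)) :
    ∃ f : Red.bc φ T₁ ≅ Red.bc φ T₂,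
      f.hom ≫ (Over.pullback φ).map i₂ = AGF.conjBy g ((Over.pullback φ).map i₁) := by
  let e₁ := ((Over.mapPullbackAdj φ).homEquiv (Red.bc φ T₁) T₁).symm (𝟙 _)
  let e₂ := ((Over.mapPullbackAdj φ).homEquiv (Red.bc φ T₂) T₂).symm (𝟙 _)
  obtain ⟨t₂, ht₂⟩ := (h ((Over.map φ).obj (Red.bc φ T₁)) ((Over.map φ).map (toUnit _))).1 e₁
  obtain ⟨t₁, ht₁⟩ := (h ((Over.map φ).obj (Red.bc φ T₂)) ((Over.map φ).map (toUnit _))).2 e₂
  let a : Red.bc φ T₁ ⟶ Red.bc φ T₂ := (Over.mapPullbackAdj φ).homEquiv _ _ t₂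
  let b : Red.bc φ T₂ ⟶ Red.bc φ T₁ := (Over.mapPullbackAdj φ).homEquiv _ _ t₁
  have ha : a ≫ (Over.pullback φ).map i₂ = AGF.conjBy g ((Over.pullback φ).map i₁) := by
    apply (Groth.Reductive.bcPointEquiv φ G _).injective
    rw [E_map]
    unfold AGF.conjBy
    rw [map_mul, map_mul, map_inv, Groth.Reductive.bcPointEquiv_comp,
      ← Category.id_comp ((Over.pullback φ).map i₁), E_map]
    simp only [a, Equiv.symm_apply_apply]
    exact ht₂.symm
  have hb : b ≫ (Over.pullback φ).map i₁ =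
      (toUnit _ ≫ g)⁻¹ * (Over.pullback φ).map i₂ * (toUnit _ ≫ g) := by
    apply (Groth.Reductive.bcPointEquiv φ G _).injective
    rw [E_map, map_mul, map_mul, map_inv, Groth.Reductive.bcPointEquiv_comp,
      ← Category.id_comp ((Over.pullback φ).map i₂), E_map]
    simp only [b, Equiv.symm_apply_apply]
    exact ht₁.symm
  refine ⟨⟨a, b, ?_, ?_⟩, ha⟩
  · rw [← cancel_mono ((Over.pullback φ).map i₁), Category.assoc, hb, MonObj.comp_mul, MonObj.comp_mul,
      GrpObj.comp_inv, ← Category.assoc, toUnit_unique (a ≫ toUnit _) (toUnit _), ha, Category.id_comp]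
    unfold AGF.conjBy
    simp [_root_.mul_assoc]
  · rw [← cancel_mono ((Over.pullback φ).map i₂), Category.assoc, ha, Category.id_comp]
    unfold AGF.conjBy
    rw [MonObj.comp_mul, MonObj.comp_mul, GrpObj.comp_inv, ← Category.assoc,
      toUnit_unique (b ≫ toUnit _) (toUnit _), hb]
    simp [_root_.mul_assoc]

/-- A conjugation of the base changed subgroups gives a point of the transporter. -/
theorem carries_of_iso (g : 𝟙_ (Over S') ⟶ Red.bc φ G) (f : Red.bc φ T₁ ≅ Red.bc φ T₂)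
    (hf : f.hom ≫ (Over.pullback φ).map i₂ = AGF.conjBy g ((Over.pullback φ).map i₁)) :
    Carries i₁ i₂ (Groth.Reductive.bcPointEquiv φ G _ g) := by
  intro X' x
  let X'' : Over S' := Over.mk x.left
  let c : X' ⟶ (Over.map φ).obj X'' := Over.homMk (𝟙 _) (by
    show 𝟙 _ ≫ x.left ≫ φ = X'.hom
    rw [Category.id_comp, ← Over.w x]
    simp)
  let c' : (Over.map φ).obj X'' ⟶ X' := Over.homMk (𝟙 _) (by
    show 𝟙 _ ≫ X'.hom = x.left ≫ φ
    rw [Category.id_comp, ← Over.w x]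
    simp)
  have hcc : c ≫ c' = 𝟙 X' := Over.OverMorphism.ext (Category.id_comp _)
  have hx : c ≫ (Over.map φ).map (toUnit X'') = x := Over.OverMorphism.ext (Category.id_comp _)
  have key : ∀ (m : X'' ⟶ Red.bc φ T₁),
      c ≫ Groth.Reductive.bcPointEquiv φ G X'' (m ≫ f.hom ≫ (Over.pullback φ).map i₂) =
      (x ≫ Groth.Reductive.bcPointEquiv φ G _ g) *
        ((c ≫ ((Over.mapPullbackAdj φ).homEquiv X'' T₁).symm m) ≫ i₁) *
        (x ≫ Groth.Reductive.bcPointEquiv φ G _ g)⁻¹ := fun m => by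
    rw [hf]
    unfold AGF.conjBy
    rw [MonObj.comp_mul, MonObj.comp_mul, GrpObj.comp_inv, map_mul, map_mul, map_inv, E_map,
      ← Category.assoc m, toUnit_unique (m ≫ toUnit _) (toUnit _), Groth.Reductive.bcPointEquiv_comp,
      MonObj.comp_mul, MonObj.comp_mul, GrpObj.comp_inv, reassoc_of% hx, Category.assoc]
  refine ⟨fun h₁ => ?_, fun h₂ => ?_⟩
  · let m := (Over.mapPullbackAdj φ).homEquiv X'' T₁ (c' ≫ h₁)
    refine ⟨c ≫ ((Over.mapPullbackAdj φ).homEquiv X'' T₂).symm (m ≫ f.hom), ?_⟩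
    have h1 := key m
    rw [← Category.assoc m, E_map] at h1
    rw [Category.assoc, h1]
    simp [m, reassoc_of% hcc]
  · let m := (Over.mapPullbackAdj φ).homEquiv X'' T₂ (c' ≫ h₂)
    refine ⟨c ≫ ((Over.mapPullbackAdj φ).homEquiv X'' T₁).symm (m ≫ f.inv), ?_⟩
    have h1 := key (m ≫ f.inv)
    rw [Category.assoc, Iso.inv_hom_id_assoc, E_map] at h1
    simp only [m, Equiv.symm_apply_apply, Category.assoc, reassoc_of% hcc] at h1 ⊢
    rw [h1]
    simp [_root_.mul_assoc]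

end Groth.Reductive2.TransConj
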