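import Groth.Agent.Reductive2.BorelFinite
import Groth.Agent.AlgGrp1.BorelLift
import Groth.Agent.AlgGrp1.BorelCover
import Groth.Agent.Abvar.BaseChange
import Groth.Agent.Agf.SubobjGrp
import Groth.Agent.AlgGrp1.NormalizerBorel

/-!
Borel pairs over finite fields: Frobenius twists of subgroups over an algebraic closure, and descent of
Frobenius-stable closed subgroups.
-/

set_option autoImplicit false
set_option linter.style.haveILetI false
universe u

open CategoryTheory Limits MonoidalCategory CartesianMonoidalCategory MonObj GrpObj AlgebraicGeometry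
open Groth.AlgGrp2 (bcPt bcPtInv bcPt_injective bcPt_comp bcPt_comp_map bcPt_mul bcPt_inv bcPt_bcPtInv bcPtInv_bcPt bcPtHom)
open Groth.AlgGrp1 Groth.Agf Groth.Reductive2.BorelFinite
open scoped TensorProduct

noncomputable section

namespace Groth.Reductive2.BorelFiniteExist

section Twist

variable {S₀ S : Scheme.{u}} (ψ : S ⟶ S₀) (s : S ⟶ S) (hs : s ≫ ψ = ψ)

/-- Two ways of forgetting to the base. -/
def assocIso (W : Over S) : (Over.map ψ).obj ((Over.map s).obj W) ≅ (Over.map ψ).obj W :=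
  Over.isoMk (Iso.refl _) (by
    show 𝟙 _ ≫ W.hom ≫ ψ = (W.hom ≫ s) ≫ ψ
    rw [Category.id_comp, Category.assoc, hs])

theorem assocIso_inv_natural {W W' : Over S} (y : W' ⟶ W) :
    (Over.map ψ).map y ≫ (assocIso ψ s hs W).inv =
      (assocIso ψ s hs W').inv ≫ (Over.map ψ).map ((Over.map s).map y) := by
  apply Over.OverMorphism.ext
  show y.left ≫ 𝟙 _ = 𝟙 _ ≫ y.left
  rw [Category.comp_id, Category.id_comp]

/-- The semilinear automorphism of a base change. -/
def twistBase (G : Over S₀) : Red.bc s (Red.bc ψ G) ⟶ Red.bc ψ G :=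
  bcPtInv ψ ((assocIso ψ s hs _).inv ≫ bcPt ψ (bcPt s (𝟙 (Red.bc s (Red.bc ψ G)))))

variable {G : Over S₀}

theorem bcPt_twistBase {W : Over S} (y : W ⟶ Red.bc s (Red.bc ψ G)) :
    bcPt ψ (y ≫ twistBase ψ s hs G) = (assocIso ψ s hs W).inv ≫ bcPt ψ (bcPt s y) := by
  rw [bcPt_comp, twistBase, bcPt_bcPtInv, ← Category.assoc, assocIso_inv_natural, Category.assoc, ← bcPt_comp,
    ← bcPt_comp, Category.comp_id]

theorem isMonHom_twistBase [GrpObj G] : IsMonHom (twistBase ψ s hs G) :=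
  isMonHom_of_points _ fun W p q => bcPt_injective ψ (by
    rw [bcPt_mul, bcPt_twistBase, bcPt_twistBase, bcPt_twistBase, bcPt_mul, bcPt_mul, MonObj.comp_mul])

theorem mono_twistBase : Mono (twistBase ψ s hs G) := ⟨fun {W} a b h => by
  have h1 := congrArg (bcPt ψ) h
  rw [bcPt_twistBase, bcPt_twistBase, cancel_epi] at h1
  exact bcPt_injective s (bcPt_injective ψ h1)⟩

theorem isIso_twistBase : IsIso (twistBase ψ s hs G) := by
  have := mono_twistBase ψ s hs (G := G)
  have : IsSplitEpi (twistBase ψ s hs G) := IsSplitEpi.mk'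
    ⟨bcPtInv s (bcPtInv ψ ((assocIso ψ s hs _).hom ≫ bcPt ψ (𝟙 (Red.bc ψ G)))), bcPt_injective ψ (by
      rw [bcPt_twistBase, bcPt_bcPtInv, bcPt_bcPtInv, Iso.inv_hom_id_assoc])⟩
  exact isIso_of_mono_of_isSplitEpi _

/-- The twist of a subobject of a base change. -/
def twist {X : Over S} (i : X ⟶ Red.bc ψ G) : Red.bc s X ⟶ Red.bc ψ G :=
  (Over.pullback s).map i ≫ twistBase ψ s hs G

theorem bcPt_comp_twist {X W : Over S} (i : X ⟶ Red.bc ψ G) (y : W ⟶ Red.bc s X) :
    bcPt ψ (y ≫ twist ψ s hs i) = (assocIso ψ s hs W).inv ≫ bcPt ψ (bcPt s y ≫ i) := by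
  rw [twist, ← Category.assoc, bcPt_twistBase, bcPt_comp_map]

theorem isMonHom_twist [GrpObj G] {X : Over S} [GrpObj X] (i : X ⟶ Red.bc ψ G) [IsMonHom i] :
    IsMonHom (twist ψ s hs i) := by
  have := Groth.Abvar.isMonHom_map (f := s) i
  have := isMonHom_twistBase ψ s hs (G := G)
  rw [twist]; infer_instance

theorem mono_twist {X : Over S} (i : X ⟶ Red.bc ψ G) [Mono i] : Mono (twist ψ s hs i) := by
  have := mono_twistBase ψ s hs (G := G)
  rw [twist]; infer_instance

/-- Twisting back. -/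
theorem exists_twist_back {s' : S ⟶ S} (hs' : s' ≫ ψ = ψ) (h : s' ≫ s = 𝟙 S) {X : Over S} (i : X ⟶ Red.bc ψ G) :
    ∃ g : X ⟶ Red.bc s' (Red.bc s X), g ≫ twist ψ s' hs' (twist ψ s hs i) = i := by
  let x : (Over.map s).obj ((Over.map s').obj X) ⟶ X := Over.homMk (𝟙 X.left) (by
    show 𝟙 _ ≫ X.hom = (X.hom ≫ s') ≫ s
    rw [Category.id_comp, Category.assoc, h, Category.comp_id])
  refine ⟨bcPtInv s' (bcPtInv s x), bcPt_injective ψ ?_⟩
  rw [bcPt_comp_twist, bcPt_bcPtInv, bcPt_comp_twist, bcPt_bcPtInv, bcPt_comp]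
  have e : (assocIso ψ s' hs' X).inv ≫ (assocIso ψ s hs ((Over.map s').obj X)).inv ≫ (Over.map ψ).map x = 𝟙 _ := by
    apply Over.OverMorphism.ext
    show 𝟙 X.left ≫ 𝟙 X.left ≫ 𝟙 X.left = 𝟙 X.left
    simp
  rw [← Category.assoc (assocIso ψ s hs _).inv, ← Category.assoc, e, Category.id_comp]

end Twist

variable {K : Type u} [Field K]

theorem isSolvableGrp_bc {K' : Type u} [Field K'] (s : Spec (CommRingCat.of K') ⟶ Spec (CommRingCat.of K))
    {B : Over (Spec (CommRingCat.of K))} [GrpObj B] (h : Red.IsSolvableGrp B) : Red.IsSolvableGrp (Red.bc s B) := by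
  obtain ⟨n, hn⟩ := h
  refine ⟨n, fun X => (Subgroup.eq_bot_iff_forall _).2 fun x hx => bcPt_injective s ?_⟩
  have := map_derivedSeries_le_derivedSeries (bcPtHom s B X) n ⟨x, hx, rfl⟩
  rw [hn] at this
  exact (Subgroup.mem_bot.1 this).trans (map_one (bcPtHom s B X)).symm

/-- A closed immersion becoming an isomorphism after a field extension is one. -/
theorem isIso_of_bc {K' : Type u} [Field K'] (s : Spec (CommRingCat.of K') ⟶ Spec (CommRingCat.of K))
    {X Y : Over (Spec (CommRingCat.of K))} (f : X ⟶ Y) [IsClosedImmersion f.left] [IsIso ((Over.pullback s).map f)] :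
    IsIso f := by
  obtain ⟨g, hg⟩ := exists_factor_descend s (𝟙 Y) f (inv ((Over.pullback s).map f))
    (by rw [IsIso.inv_hom_id, CategoryTheory.Functor.map_id])
  have : Mono f := Over.mono_of_mono_left f
  have : IsSplitEpi f := IsSplitEpi.mk' ⟨g, hg⟩
  exact isIso_of_mono_of_isSplitEpi f

section TwistField

variable [IsAlgClosed K] {S₀ : Scheme.{u}} (ψ : Spec (CommRingCat.of K) ⟶ S₀)
  {s s' : Spec (CommRingCat.of K) ⟶ Spec (CommRingCat.of K)} (hs : s ≫ ψ = ψ) (hs' : s' ≫ ψ = ψ)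
  (h : s' ≫ s = 𝟙 _) {G : Over S₀} [GrpObj G]
include hs' h

/-- Twists of Borel subgroups are Borel subgroups. -/
theorem isBorelOver_twist {B : Over (Spec (CommRingCat.of K))} [GrpObj B] {i : B ⟶ Red.bc ψ G}
    (hB : Red.IsBorelOver K i) : Red.IsBorelOver K (twist ψ s hs i) := by
  obtain ⟨hm, hc, hsm, hcn, hsol, hmax⟩ := hB
  haveI := hm; haveI := hc; haveI := hsm; haveI := hcn
  refine ⟨isMonHom_twist ψ s hs i, ?_, smooth_bc s B, connectedSpace_bc s B, isSolvableGrp_bc s hsol,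
    fun B' _ i' _ f hc' hsm' hcn' hsol' hf => ?_⟩
  · have := isClosedImmersion_bc s i
    have := isIso_twistBase ψ s hs (G := G)
    have : IsIso (twistBase ψ s hs G).left := inferInstanceAs (IsIso ((Over.forget _).map (twistBase ψ s hs G)))
    rw [twist, Over.comp_left]; infer_instance
  · haveI := hc'; haveI := hsm'; haveI := hcn'
    obtain ⟨g, hg⟩ := exists_twist_back ψ s hs hs' h i
    have hf' : (g ≫ (Over.pullback s').map f) ≫ twist ψ s' hs' i' = i := by
      have h2 : (Over.pullback s').map (twist ψ s hs i) = (Over.pullback s').map f ≫ (Over.pullback s').map i' := by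
        rw [← Functor.map_comp, hf]
      simp only [twist, Category.assoc] at hg ⊢
      rw [← Category.assoc ((Over.pullback s').map f), ← h2]
      exact hg
    have : IsMonHom (twist ψ s' hs' i') := isMonHom_twist ψ s' hs' i'
    have hci : IsClosedImmersion (twist ψ s' hs' i').left := by
      have := isClosedImmersion_bc s' i'
      have := isIso_twistBase ψ s' hs' (G := G)
      have : IsIso (twistBase ψ s' hs' G).left := inferInstanceAs (IsIso ((Over.forget _).map (twistBase ψ s' hs' G)))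
      rw [twist, Over.comp_left]; infer_instance
    have := hmax (Red.bc s' B') (twist ψ s' hs' i') (g ≫ (Over.pullback s').map f) hci (smooth_bc s' B')
      (connectedSpace_bc s' B') (isSolvableGrp_bc s' hsol') hf'
    have : IsClosedImmersion (f.left ≫ i'.left) := by
      rw [← Over.comp_left, hf, twist, Over.comp_left]
      have := isClosedImmersion_bc s i
      have := isIso_twistBase ψ s hs (G := G)
      have : IsIso (twistBase ψ s hs G).left := inferInstanceAs (IsIso ((Over.forget _).map (twistBase ψ s hs G)))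
      infer_instance
    have : IsClosedImmersion f.left := IsClosedImmersion.of_comp f.left i'.left
    have : Mono f := Over.mono_of_mono_left f
    have : IsSplitEpi ((Over.pullback s').map f) :=
      IsSplitEpi.mk' ⟨inv (g ≫ (Over.pullback s').map f) ≫ g, by rw [Category.assoc, IsIso.inv_hom_id]⟩
    have : IsIso ((Over.pullback s').map f) := isIso_of_mono_of_isSplitEpi _
    exact isIso_of_bc s' f

/-- Twists of maximal tori are maximal tori. -/
theorem isMaxTorus_twist {T : Over (Spec (CommRingCat.of K))} [GrpObj T] {i : T ⟶ Red.bc ψ G}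
    (hT : AGF.IsMaxTorus i) : AGF.IsMaxTorus (twist ψ s hs i) := by
  obtain ⟨hm, hmo, htor, hmax⟩ := hT
  haveI := hm; haveI := hmo
  refine ⟨isMonHom_twist ψ s hs i, mono_twist ψ s hs i, isTorus_bc s htor, fun T' _ j _ _ f htor' hf => ?_⟩
  obtain ⟨g, hg⟩ := exists_twist_back ψ s hs hs' h i
  have hf' : (g ≫ (Over.pullback s').map f) ≫ twist ψ s' hs' j = i := by
    have h2 : (Over.pullback s').map (twist ψ s hs i) = (Over.pullback s').map f ≫ (Over.pullback s').map j := by
      rw [← Functor.map_comp, hf]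
    simp only [twist, Category.assoc] at hg ⊢
    rw [← Category.assoc ((Over.pullback s').map f), ← h2]
    exact hg
  have := isMonHom_twist ψ s' hs' j
  have := mono_twist ψ s' hs' j
  have := hmax (Red.bc s' T') (twist ψ s' hs' j) (g ≫ (Over.pullback s').map f) (isTorus_bc s' htor') hf'
  have : Mono f := by
    have := mono_twist ψ s hs i
    have : Mono (f ≫ j) := by rw [hf]; infer_instance
    exact mono_of_mono f j
  have : IsSplitEpi ((Over.pullback s').map f) :=
    IsSplitEpi.mk' ⟨inv (g ≫ (Over.pullback s').map f) ≫ g, by rw [Category.assoc, IsIso.inv_hom_id]⟩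
  have : IsIso ((Over.pullback s').map f) := isIso_of_mono_of_isSplitEpi _
  have : IsMonHom f := isMonHom_of_points _ fun W p q => by
    have := isMonHom_twist ψ s hs i
    rw [← cancel_mono j, MonObj.mul_comp (p ≫ f), Category.assoc, Category.assoc, Category.assoc, hf,
      MonObj.mul_comp]
  obtain ⟨_, _, _⟩ := isAffine_smooth_connected_of_isTorus htor'
  obtain ⟨_, _, _⟩ := isAffine_smooth_connected_of_isTorus (isTorus_bc s htor)
  have : IsClosedImmersion f.left := isClosedImmersion_of_mono_hom f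
  exact isIso_of_bc s' f

end TwistField

section Descent

variable {k : Type u} [Field k] [Finite k] [IsAlgClosed K] [Algebra k K]

local notation "ψ" => Spec.map (CommRingCat.ofHom (algebraMap k K))

/-- The `K`-points of `G` lying on a subscheme of the base change. -/
def pts {G : Over (Spec (CommRingCat.of k))} {X : Over (Spec (CommRingCat.of K))} (i : X ⟶ Red.bc ψ G) :
    Set (VecGrp.pt k K ⟶ G) :=
  {g | ∃ z, z ≫ i = toK g}

variable {G : Over (Spec (CommRingCat.of k))}

theorem frob_bijective : Function.Bijective (Groth.Agf.frob k K) :=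
  ⟨(Groth.Agf.frob k K).toRingHom.injective, fun x => by
    obtain ⟨z, hz⟩ := IsAlgClosed.exists_pow_nat_eq x (n := Nat.card k) Nat.card_pos
    exact ⟨z, by rw [frob_apply, hz]⟩⟩

variable (k K) in
/-- `Spec` of Frobenius. -/
abbrev frobSpec : Spec (CommRingCat.of K) ⟶ Spec (CommRingCat.of K) :=
  Spec.map (CommRingCat.ofHom (Groth.Agf.frob k K).toRingHom)

theorem frobSpec_comp : frobSpec K k ≫ ψ = ψ := by
  rw [← Spec.map_comp]
  congr 1
  ext c
  exact (Groth.Agf.frob k K).commutes c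

instance : IsIso (frobSpec K k) := by
  have : IsIso (CommRingCat.ofHom (Groth.Agf.frob k K).toRingHom) :=
    (ConcreteCategory.isIso_iff_bijective _).2 frob_bijective
  infer_instance

/-- Points of the twist are the Frobenius transforms of points. -/
theorem pts_twist {X : Over (Spec (CommRingCat.of K))} (i : X ⟶ Red.bc ψ G) :
    pts (twist ψ (frobSpec K k) frobSpec_comp i) = frobPt '' pts i := by
  let s := frobSpec K k
  let w : (Over.map s).obj (𝟙_ (Over (Spec (CommRingCat.of K)))) ⟶ 𝟙_ _ := toUnit _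
  have : IsIso w.left := by
    have e : w.left = s := by
      have := Over.w w
      change w.left ≫ 𝟙 _ = 𝟙 _ ≫ s at this
      rwa [Category.comp_id, Category.id_comp] at this
    rw [e]; infer_instance
  have : IsIso ((Over.forget _).map w) := this
  have : IsIso w := isIso_of_reflects_iso w (Over.forget _)
  have key : ∀ (z₀ : 𝟙_ (Over (Spec (CommRingCat.of K))) ⟶ X) (g : VecGrp.pt k K ⟶ G), z₀ ≫ i = toK g →
      bcPtInv s (w ≫ z₀) ≫ twist ψ s frobSpec_comp i = toK (frobPt g) := by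
    intro z₀ g hz
    apply bcPt_injective ψ
    rw [bcPt_comp_twist, bcPt_bcPtInv, Category.assoc, hz, bcPt_comp, bcPt_toK, bcPt_toK, frobPt]
    have e : (assocIso ψ s frobSpec_comp (𝟙_ _)).inv ≫ (Over.map ψ).map w ≫ (ptIso K).inv =
        (ptIso K).inv ≫ VecGrp.ptMap (Groth.Agf.frob k K) := by
      apply Over.OverMorphism.ext
      have e1 : w.left = s := by
        have := Over.w w
        change w.left ≫ 𝟙 _ = 𝟙 _ ≫ s at this
        rwa [Category.comp_id, Category.id_comp] at this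
      show 𝟙 _ ≫ w.left ≫ 𝟙 _ = 𝟙 _ ≫ s
      rw [e1, Category.comp_id]
      rfl
    rw [reassoc_of% e]
  ext g
  constructor
  · rintro ⟨z, hz⟩
    obtain ⟨z₀, hz₀⟩ : ∃ z₀, w ≫ z₀ = bcPt s z := ⟨inv w ≫ bcPt s z, IsIso.hom_inv_id_assoc w _⟩
    obtain ⟨g₀, hg₀⟩ := toK_surjective (K := K) (z₀ ≫ i)
    refine ⟨g₀, ⟨z₀, hg₀.symm⟩, toK_injective ?_⟩
    rw [← key z₀ g₀ hg₀.symm, hz₀, bcPtInv_bcPt, hz]
  · rintro ⟨g₀, ⟨z₀, hz₀⟩, rfl⟩
    exact ⟨_, key z₀ g₀ hz₀⟩

/-- Points of a conjugate. -/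
theorem pts_conjBy [GrpObj G] {X : Over (Spec (CommRingCat.of K))} (i : X ⟶ Red.bc ψ G) (h : VecGrp.pt k K ⟶ G) :
    pts (AGF.conjBy (toK h) i) = (fun g => h * g * h⁻¹) '' pts i := by
  ext g
  constructor
  · rintro ⟨z, hz⟩
    obtain ⟨g₀, hg₀⟩ := toK_surjective (K := K) (z ≫ i)
    refine ⟨g₀, ⟨z, hg₀.symm⟩, toK_injective ?_⟩
    rw [← hz, Groth.AlgGrp1.comp_conjBy, toUnit_unique (toUnit _) (𝟙 _), Category.id_comp, ← hg₀]
    rw [toK_mul, toK_mul, toK_inv]
  · rintro ⟨g₀, ⟨z, hz⟩, rfl⟩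
    exact ⟨z, by rw [Groth.AlgGrp1.comp_conjBy, toUnit_unique (toUnit _) (𝟙 _), Category.id_comp, hz, toK_mul,
      toK_mul, toK_inv]⟩

/-- Isomorphic subobjects have the same points. -/
theorem pts_iso {X Y : Over (Spec (CommRingCat.of K))} (e : X ≅ Y) (i : Y ⟶ Red.bc ψ G) :
    pts (e.hom ≫ i) = pts i := by
  ext g
  exact ⟨fun ⟨z, hz⟩ => ⟨z ≫ e.hom, by rw [Category.assoc, hz]⟩,
    fun ⟨z, hz⟩ => ⟨z ≫ e.inv, by rw [Category.assoc, Iso.inv_hom_id_assoc, hz]⟩⟩

section Alg

variable [IsAffine G.left]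

/-- The value of a `K`-function at a point. -/
def evalK (g : VecGrp.pt k K ⟶ G) : K ⊗[k] Fn G →ₐ[K] K :=
  Algebra.TensorProduct.lift (Algebra.ofId K K) (evalPt g) fun _ _ => Commute.all _ _

theorem evalK_tmul (g : VecGrp.pt k K ⟶ G) (c : K) (a : Fn G) : evalK g (c ⊗ₜ a) = c * evalPt g a := by
  simp [evalK]

/-- Semilinear Frobenius on `K ⊗ k[G]`. -/
def frobCoeff : K ⊗[k] Fn G →ₐ[k] K ⊗[k] Fn G :=
  Algebra.TensorProduct.map (Groth.Agf.frob k K) (AlgHom.id k (Fn G))

theorem evalK_frob (g : VecGrp.pt k K ⟶ G) (w : K ⊗[k] Fn G) :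
    evalK (frobPt g) (frobCoeff w) = Groth.Agf.frob k K (evalK g w) := by
  induction w with
  | zero => simp
  | tmul c a =>
    rw [frobCoeff, Algebra.TensorProduct.map_tmul, evalK_tmul, evalK_tmul, map_mul, AlgHom.id_apply,
      evalPt_frobPt, ← frob_apply]
  | add x y hx hy => simp [map_add, hx, hy]

/-- A subspace stable under semilinear Frobenius is spanned by rational vectors. -/
theorem le_span_rational (W : Submodule K (K ⊗[k] Fn G)) (hW : ∀ w ∈ W, frobCoeff w ∈ W) :
    W ≤ Submodule.span K {w | w ∈ W ∧ ∃ a : Fn G, (1 : K) ⊗ₜ[k] a = w} := by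
  classical
  let b := Module.Basis.ofVectorSpace k (Fn G)
  let β := Algebra.TensorProduct.basis K b
  have hβ : ∀ w j, β.repr (frobCoeff w) j = Groth.Agf.frob k K (β.repr w j) := by
    intro w j
    induction w with
    | zero => simp
    | tmul c a =>
      simp only [frobCoeff, Algebra.TensorProduct.map_tmul, β, Algebra.TensorProduct.basis_repr_tmul,
        Finsupp.smul_apply, Finsupp.mapRange_apply, smul_eq_mul, AlgHom.id_apply, map_mul, AlgHom.commutes]
    | add x y hx hy => simp [map_add, hx, hy]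
  suffices ∀ (n : ℕ) (w : K ⊗[k] Fn G), w ∈ W → (β.repr w).support.card ≤ n →
      w ∈ Submodule.span K {w | w ∈ W ∧ ∃ a : Fn G, (1 : K) ⊗ₜ[k] a = w} from
    fun w hw => this _ w hw le_rfl
  intro n
  induction n with
  | zero =>
    intro w _ hw
    have : β.repr w = 0 := Finsupp.support_eq_empty.1 (Finset.card_eq_zero.1 (Nat.le_zero.1 hw))
    rw [LinearEquiv.map_eq_zero_iff] at this
    subst this
    exact zero_mem _
  | succ n ih =>
    intro w hw hn
    by_cases h0 : w = 0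
    · subst h0; exact zero_mem _
    obtain ⟨i, hi⟩ : (β.repr w).support.Nonempty := by
      rw [Finset.nonempty_iff_ne_empty, Ne, Finsupp.support_eq_empty, LinearEquiv.map_eq_zero_iff]; exact h0
    have hwi : β.repr w i ≠ 0 := Finsupp.mem_support_iff.1 hi
    obtain ⟨v, hvdef⟩ : ∃ v, v = (β.repr w i)⁻¹ • w := ⟨_, rfl⟩
    have hv : v ∈ W := hvdef ▸ W.smul_mem _ hw
    have hvs : (β.repr v).support ⊆ (β.repr w).support := by
      rw [hvdef, map_smul]; exact Finsupp.support_smul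
    have hvi : β.repr v i = 1 := by rw [hvdef, map_smul, Finsupp.smul_apply, smul_eq_mul, inv_mul_cancel₀ hwi]
    let d := frobCoeff v - v
    have hd : d ∈ W := W.sub_mem (hW v hv) hv
    have hdc : ∀ j, β.repr d j = Groth.Agf.frob k K (β.repr v j) - β.repr v j := fun j => by
      rw [map_sub, Finsupp.sub_apply, hβ]
    have hds : (β.repr d).support ⊆ (β.repr w).support.erase i := by
      intro j hj
      rw [Finsupp.mem_support_iff, hdc] at hj
      refine Finset.mem_erase.2 ⟨fun e => hj (by rw [e, hvi, map_one, sub_self]), hvs (Finsupp.mem_support_iff.2 ?_)⟩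
      intro e; exact hj (by rw [e, map_zero, sub_self])
    have hcard : ∀ j ∈ (β.repr w).support, ((β.repr w).support.erase j).card ≤ n := fun j hj => by
      rw [Finset.card_erase_of_mem hj]; omega
    have hv' : v ∈ Submodule.span K {w | w ∈ W ∧ ∃ a : Fn G, (1 : K) ⊗ₜ[k] a = w} := by
      by_cases hd0 : d = 0
      · have hfix : ∀ j, ∃ c : k, algebraMap k K c = β.repr v j := fun j =>
          Groth.StkGerb.QuotFin.exists_pow_card_fixed (by
            rw [← frob_apply, ← sub_eq_zero, ← hdc, hd0, map_zero, Finsupp.zero_apply])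
        choose c hc using hfix
        refine Submodule.subset_span ⟨hv, ∑ j ∈ (β.repr v).support, c j • b j, ?_⟩
        rw [TensorProduct.tmul_sum]
        conv_rhs => rw [← β.linearCombination_repr v, Finsupp.linearCombination_apply, Finsupp.sum]
        refine Finset.sum_congr rfl fun j _ => ?_
        rw [← hc j, TensorProduct.tmul_smul, algebraMap_smul, Algebra.TensorProduct.basis_apply]
      · obtain ⟨j, hj⟩ : (β.repr d).support.Nonempty := by
          rw [Finset.nonempty_iff_ne_empty, Ne, Finsupp.support_eq_empty, LinearEquiv.map_eq_zero_iff]; exact hd0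
        have hjd : β.repr d j ≠ 0 := Finsupp.mem_support_iff.1 hj
        let r := β.repr v j / β.repr d j
        have h1 : v - r • d ∈ Submodule.span K {w | w ∈ W ∧ ∃ a : Fn G, (1 : K) ⊗ₜ[k] a = w} := by
          refine ih _ (W.sub_mem hv (W.smul_mem r hd)) (le_trans (Finset.card_le_card ?_) (hcard j
            (Finset.mem_of_mem_erase (hds hj))))
          intro l hl
          rw [Finsupp.mem_support_iff, map_sub, map_smul, Finsupp.sub_apply, Finsupp.smul_apply, smul_eq_mul] at hl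
          refine Finset.mem_erase.2 ⟨fun e => hl (by rw [e, div_mul_cancel₀ _ hjd, sub_self]), ?_⟩
          by_contra hlw
          have e1 : β.repr v l = 0 := Finsupp.notMem_support_iff.1 fun h => hlw (hvs h)
          have e2 : β.repr d l = 0 := Finsupp.notMem_support_iff.1 fun h => hlw (Finset.mem_of_mem_erase (hds h))
          exact hl (by rw [e1, e2, mul_zero, sub_zero])
        have h2 : d ∈ Submodule.span K {w | w ∈ W ∧ ∃ a : Fn G, (1 : K) ⊗ₜ[k] a = w} :=
          ih d hd ((Finset.card_le_card hds).trans (hcard i hi))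
        have := Submodule.add_mem _ h1 (Submodule.smul_mem _ r h2)
        rwa [sub_add_cancel] at this
    have := Submodule.smul_mem _ (β.repr w i) hv'
    rwa [hvdef, smul_inv_smul₀ hwi] at this

/-- Points on a closed subscheme are cut out by functions. -/
theorem exists_equations {X : Over (Spec (CommRingCat.of K))} (i : X ⟶ Red.bc ψ G) [IsClosedImmersion i.left] :
    ∃ I : Ideal (K ⊗[k] Fn G), ∀ g, g ∈ pts i ↔ ∀ w ∈ I, evalK g w = 0 := by
  let α : (Over.map ψ).obj (CoactBr.sp K (K ⊗[k] Fn G)) ≅ VecGrp.pt k (K ⊗[k] Fn G) :=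
    Groth.AlgGrp2.mapSpIso k K (K ⊗[k] Fn G)
  let u : CoactBr.sp K (K ⊗[k] Fn G) ⟶ Red.bc ψ G := bcPtInv ψ (α.hom ≫ univK K G)
  have hu : ∀ g : VecGrp.pt k K ⟶ G, unitSp.hom ≫ CoactBr.pt (evalK g) ≫ u = toK g := by
    intro g
    apply bcPt_injective ψ
    rw [bcPt_comp, bcPt_comp, bcPt_bcPtInv, bcPt_toK]
    have e : (Over.map ψ).map unitSp.hom ≫ (Over.map ψ).map (CoactBr.pt (evalK g)) ≫ α.hom =
        (ptIso K).inv ≫ VecGrp.ptMap ((evalK g).restrictScalars k) := by
      apply Over.OverMorphism.ext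
      show 𝟙 _ ≫ Spec.map _ ≫ 𝟙 _ = 𝟙 _ ≫ Spec.map _
      rw [Category.comp_id]
      rfl
    rw [reassoc_of% e]
    congr 1
    refine pt_ext ?_
    rw [evalPt_ptMap, univK, evalPt_ptOf]
    exact AlgHom.ext fun a => by simp [evalK_tmul]
  let P := pullback u.left i.left
  let p : P ⟶ Spec (CommRingCat.of (K ⊗[k] Fn G)) := pullback.fst u.left i.left
  have : IsClosedImmersion p := inferInstanceAs (IsClosedImmersion (pullback.fst u.left i.left))
  obtain ⟨I, e, he⟩ := IsClosedImmersion.Spec_iff.1 this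
  refine ⟨I, fun g => ⟨?_, ?_⟩⟩
  · rintro ⟨z, hz⟩ w hw
    have h0 : Spec.map (CommRingCat.ofHom (evalK g).toRingHom) ≫ u.left = z.left ≫ i.left := by
      rw [← Over.comp_left, hz, ← hu g]
      show _ = 𝟙 _ ≫ Spec.map _ ≫ u.left
      rw [Category.id_comp]; rfl
    let q : Spec (CommRingCat.of K) ⟶ P := pullback.lift _ z.left h0
    have hq : q ≫ p = Spec.map (CommRingCat.ofHom (evalK g).toRingHom) := pullback.lift_fst _ _ _
    obtain ⟨μ', hμ'⟩ := Spec.map_surjective (q ≫ e.hom)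
    have : Spec.map (CommRingCat.ofHom (evalK g).toRingHom) =
        Spec.map (CommRingCat.ofHom (Ideal.Quotient.mk I) ≫ μ') := by
      rw [← hq, Spec.map_comp, hμ', he, Category.assoc]
    have h1 := congrArg (fun f : CommRingCat.of (K ⊗[k] Fn G) ⟶ CommRingCat.of K => f w) (Spec.map_injective this)
    refine h1.trans ?_
    show μ' (Ideal.Quotient.mk I w) = 0
    rw [Ideal.Quotient.eq_zero_iff_mem.2 hw, map_zero]
  · intro hg
    let μ' : (K ⊗[k] Fn G) ⧸ I →+* K := Ideal.Quotient.lift I (evalK g).toRingHom hg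
    let q : Spec (CommRingCat.of K) ⟶ X.left :=
      Spec.map (CommRingCat.ofHom μ') ≫ e.inv ≫ pullback.snd u.left i.left
    have hq : q ≫ i.left = (toK g).left := by
      rw [← hu g]
      show _ = 𝟙 _ ≫ Spec.map (CommRingCat.ofHom (evalK g).toRingHom) ≫ u.left
      rw [Category.id_comp, Category.assoc, Category.assoc, ← pullback.condition]
      have : e.inv ≫ p = Spec.map (CommRingCat.ofHom (Ideal.Quotient.mk I)) := by rw [he, Iso.inv_hom_id_assoc]
      refine (congrArg (Spec.map (CommRingCat.ofHom μ') ≫ ·) ((Category.assoc e.inv p u.left).symm.trans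
        (congrArg (· ≫ u.left) this))).trans ?_
      refine (Category.assoc _ _ _).symm.trans (congrArg (· ≫ u.left) ?_)
      exact (Spec.map_comp _ _).symm
    refine ⟨Over.homMk q ?_, Over.OverMorphism.ext hq⟩
    show q ≫ X.hom = 𝟙 _
    rw [← Over.w i, ← Category.assoc, hq]
    exact Over.w (toK g)

/-- **Descent of a Frobenius-stable closed set of points.** -/
theorem exists_descended_set (S : Set (VecGrp.pt k K ⟶ G))
    (hS : ∃ I : Ideal (K ⊗[k] Fn G), ∀ g, g ∈ S ↔ ∀ w ∈ I, evalK g w = 0)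
    (hF : ∀ g ∈ S, ∃ v ∈ S, frobPt v = g) :
    ∃ (X : Over (Spec (CommRingCat.of k))) (jX : X ⟶ G), IsClosedImmersion jX.left ∧ IsReduced X.left ∧
      ∀ g, (∃ x : VecGrp.pt k K ⟶ X, x ≫ jX = g) ↔ g ∈ S := by
  obtain ⟨I, hI⟩ := hS
  let I₀ : Ideal (Fn G) := ⨅ g ∈ S, RingHom.ker (evalPt g)
  have hI₀ : ∀ a, a ∈ I₀ ↔ ∀ g ∈ S, evalPt g a = 0 := fun a => by simp [I₀, RingHom.mem_ker]
  let R := Fn G ⧸ I₀
  let jX : VecGrp.pt k R ⟶ G := ptOf G (Ideal.Quotient.mkₐ k I₀)
  have hred : I₀.IsRadical := by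
    intro a ha
    obtain ⟨n, hn⟩ := Ideal.mem_radical_iff.1 ha
    refine (hI₀ a).2 fun g hg => ?_
    have := (hI₀ _).1 hn g hg
    rw [map_pow] at this
    exact eq_zero_of_pow_eq_zero this
  have : _root_.IsReduced R := (Ideal.isRadical_iff_quotient_reduced I₀).1 hred
  have hker : ∀ a ∈ I₀, Groth.Agf.pull jX a = 0 := fun a ha => by
    apply (ptFn_bijective (k := k) (B := R)).1
    rw [map_zero, ← evalPt_apply, evalPt_ptOf]
    exact Ideal.Quotient.eq_zero_iff_mem.2 ha
  refine ⟨VecGrp.pt k R, jX, ?_, inferInstanceAs (IsReduced (Spec (CommRingCat.of R))), fun g => ⟨?_, fun hg => ?_⟩⟩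
  · show IsClosedImmersion (Spec.map _ ≫ G.left.isoSpec.inv)
    have : IsClosedImmersion (Spec.map (CommRingCat.ofHom (Ideal.Quotient.mkₐ k I₀).toRingHom)) :=
      IsClosedImmersion.spec_of_surjective _ Ideal.Quotient.mk_surjective
    infer_instance
  · rintro ⟨x, rfl⟩
    rw [hI]
    let W : Submodule K (K ⊗[k] Fn G) := ⨅ v ∈ S, LinearMap.ker (evalK v).toLinearMap
    have hW : ∀ w, w ∈ W ↔ ∀ v ∈ S, evalK v w = 0 := fun w => by simp [W, Submodule.mem_iInf, LinearMap.mem_ker]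
    have hstab : ∀ w ∈ W, frobCoeff w ∈ W := fun w hw => (hW _).2 fun v hv => by
      obtain ⟨v', hv', rfl⟩ := hF v hv
      rw [evalK_frob, (hW w).1 hw v' hv', map_zero]
    intro w hw
    have hwW : w ∈ W := (hW w).2 fun v hv => (hI v).1 hv w hw
    have hle : Submodule.span K {w | w ∈ W ∧ ∃ a : Fn G, (1 : K) ⊗ₜ[k] a = w} ≤
        LinearMap.ker (evalK (x ≫ jX)).toLinearMap := by
      rw [Submodule.span_le]
      rintro _ ⟨hmem, a, rfl⟩
      show evalK (x ≫ jX) (1 ⊗ₜ a) = 0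
      rw [evalK_tmul, evalPt_comp_apply, hker a ((hI₀ a).2 fun v hv => by simpa [evalK_tmul] using (hW _).1 hmem v hv),
        map_zero, mul_zero]
    exact hle (le_span_rational W hstab hwW)
  · refine ⟨VecGrp.ptMap (Ideal.Quotient.liftₐ I₀ (evalPt g) fun a ha => (hI₀ a).1 ha g hg), pt_ext ?_⟩
    rw [evalPt_ptMap, evalPt_ptOf]
    exact AlgHom.ext fun a => rfl

end Alg

variable [GrpObj G] [IsAffine G.left] [LocallyOfFiniteType G.hom]

/-- **Descent of a Frobenius-stable smooth closed subgroup.** -/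
theorem exists_descended_subgroup {X₁ : Over (Spec (CommRingCat.of K))} [GrpObj X₁] (i : X₁ ⟶ Red.bc ψ G)
    [IsMonHom i] [IsClosedImmersion i.left] [Smooth X₁.hom] (hF : ∀ g ∈ pts i, ∃ v ∈ pts i, frobPt v = g) :
    ∃ (X : Over (Spec (CommRingCat.of k))) (_ : GrpObj X) (jX : X ⟶ G), IsMonHom jX ∧ IsClosedImmersion jX.left ∧
      Smooth X.hom ∧ ∃ e : Red.bc ψ X ≅ X₁, e.hom ≫ i = (Over.pullback ψ).map jX := by
  obtain ⟨X, jX, hc, hr, hpts⟩ := exists_descended_set (pts i) (exists_equations i) hF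
  haveI := hc; haveI := hr
  have : Mono jX := Over.mono_of_mono_left jX
  have : LocallyOfFiniteType X.hom := by rw [← Over.w jX]; infer_instance
  have : GeometricallyReduced X.hom := Groth.GrpschAbsch.FibreTranslate.geometricallyReduced_of_perfectField X
  have : GeometricallyReduced (X ⊗ X).hom := geometricallyReduced_tensorObj X X
  have : LocallyOfFiniteType (X ⊗ X).hom := inferInstanceAs (LocallyOfFiniteType (pullback.fst X.hom X.hom ≫ X.hom))
  have hm1 : (1 : VecGrp.pt k K ⟶ G) ∈ pts i := ⟨1, by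
    rw [MonObj.one_comp]; exact bcPt_injective ψ (by rw [bcPt_toK, MonObj.comp_one, Groth.AlgGrp2.bcPt_one])⟩
  have hmm : ∀ a b, a ∈ pts i → b ∈ pts i → a * b ∈ pts i := fun a b ⟨z, hz⟩ ⟨z', hz'⟩ =>
    ⟨z * z', by rw [MonObj.mul_comp, hz, hz', toK_mul]⟩
  have hmi : ∀ a, a ∈ pts i → a⁻¹ ∈ pts i := fun a ⟨z, hz⟩ => ⟨z⁻¹, by rw [GrpObj.inv_comp, hz, toK_inv]⟩
  obtain ⟨one, hone⟩ : ∃ o : 𝟙_ (Over (Spec (CommRingCat.of k))) ⟶ X, o ≫ jX = 1 := by
    obtain ⟨x, hx⟩ := (hpts 1).2 hm1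
    obtain ⟨o, ho⟩ := exists_rational x (by
      rw [← cancel_mono jX, hx, frobPt, Category.assoc, hx, MonObj.comp_one])
    refine ⟨o, ?_⟩
    apply Over.OverMorphism.ext
    have hs : Flat (Spec.map (CommRingCat.ofHom (algebraMap k K))) := flat_fieldMap _
    have : Epi (Spec.map (CommRingCat.ofHom (algebraMap k K))) := by
      have : Surjective (Spec.map (CommRingCat.ofHom (algebraMap k K))) :=
        ⟨fun _ => ⟨IsLocalRing.closedPoint K, Subsingleton.elim _ _⟩⟩
      exact Flat.epi_of_flat_of_surjective _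
    have h1 : (toUnit (VecGrp.pt k K)).left = Spec.map (CommRingCat.ofHom (algebraMap k K)) := rfl
    have h2 := congrArg CommaMorphism.left (show toUnit (VecGrp.pt k K) ≫ o ≫ jX = toUnit _ ≫ 1 by
      rw [← Category.assoc, ho, hx, MonObj.comp_one])
    simp only [Over.comp_left, h1] at h2
    exact (cancel_epi _).1 h2
  obtain ⟨mu, hmu⟩ := factor_of_sepClosed_points K jX ((fst X X ≫ jX) * (snd X X ≫ jX)) fun t => by
    obtain ⟨x, hx⟩ := (hpts ((t ≫ fst X X ≫ jX) * (t ≫ snd X X ≫ jX))).2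
      (hmm _ _ ((hpts _).1 ⟨t ≫ fst X X, Category.assoc _ _ _⟩) ((hpts _).1 ⟨t ≫ snd X X, Category.assoc _ _ _⟩))
    exact ⟨x, by rw [MonObj.comp_mul]; exact hx⟩
  obtain ⟨nu, hnu⟩ := factor_of_sepClosed_points K jX jX⁻¹ fun t => by
    obtain ⟨x, hx⟩ := (hpts (t ≫ jX)⁻¹).2 (hmi _ ((hpts _).1 ⟨t, rfl⟩))
    exact ⟨x, by rw [GrpObj.comp_inv]; exact hx⟩
  obtain ⟨_, hιm⟩ := Groth.Agf.exists_grpObj_of_subgroup jX (fun W a => ∃ z : W ⟶ X, z ≫ jX = a)
    (fun W a => Iff.rfl)
    (fun W => ⟨toUnit W ≫ one, by rw [Category.assoc, hone, MonObj.comp_one]⟩)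
    (fun W a b ⟨x, hx⟩ ⟨y, hy⟩ => ⟨lift x y ≫ mu, by
      rw [Category.assoc, hmu, MonObj.comp_mul, lift_fst_assoc, lift_snd_assoc, hx, hy]⟩)
    (fun W a ⟨x, hx⟩ => ⟨x ≫ nu, by rw [Category.assoc, hnu, GrpObj.comp_inv, hx]⟩)
  haveI := hιm
  have hsm : Smooth X.hom := Groth.GrpschAbsch.smooth_of_geometricallyReduced X
  refine ⟨X, inferInstance, jX, hιm, hc, hsm, ?_⟩
  have := smooth_bc ψ X
  have := geometricallyReduced_of_smooth_hom (Red.bc ψ X)
  have := geometricallyReduced_of_smooth_hom X₁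
  have := isClosedImmersion_bc ψ jX
  have hunit : ∀ {Y : Over (Spec (CommRingCat.of K))} (t : specAlg K K ⟶ Y),
      ∃ z : 𝟙_ (Over (Spec (CommRingCat.of K))) ⟶ Y, t = toUnit _ ≫ z := fun t =>
    ⟨unitSp.hom ≫ t, ((Category.assoc _ _ _).symm.trans ((congrArg (· ≫ t) (unitSp_toUnit (K := K))).trans
      (Category.id_comp t))).symm⟩
  obtain ⟨f, hf⟩ := factor_of_sepClosed_points K i ((Over.pullback ψ).map jX) fun t => by
    obtain ⟨z, rfl⟩ := hunit t
    obtain ⟨x, rfl⟩ := toK_surjective (K := K) z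
    obtain ⟨z', hz'⟩ := (hpts (x ≫ jX)).1 ⟨x, rfl⟩
    exact ⟨toUnit _ ≫ z', by rw [Category.assoc, Category.assoc, hz', toK_comp_map]⟩
  obtain ⟨f', hf'⟩ := factor_of_sepClosed_points K ((Over.pullback ψ).map jX) i fun t => by
    obtain ⟨z, rfl⟩ := hunit t
    obtain ⟨g, hg⟩ := toK_surjective (K := K) (z ≫ i)
    obtain ⟨x, hx⟩ := (hpts g).2 ⟨z, hg.symm⟩
    exact ⟨toUnit _ ≫ toK x, by rw [Category.assoc, Category.assoc, ← hg, toK_comp_map, hx]⟩
  have : Mono i := Over.mono_of_mono_left i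
  have : Mono ((Over.pullback ψ).map jX) := Over.mono_of_mono_left _
  exact ⟨⟨f, f', by rw [← cancel_mono ((Over.pullback ψ).map jX), Category.assoc, hf', hf, Category.id_comp],
    by rw [← cancel_mono i, Category.assoc, hf, hf', Category.id_comp]⟩, hf⟩

end Descent

section Pair

theorem mono_of_closed' {S : Scheme.{u}} {X Y : Over S} (f : X ⟶ Y) (hf : IsClosedImmersion f.left) : Mono f :=
  Over.mono_of_mono_left f

theorem isBorelOver_comp_iso {G B B' : Over (Spec (CommRingCat.of K))} [GrpObj G] [GrpObj B] [GrpObj B']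
    {i : B' ⟶ G} (e : B ≅ B') [IsMonHom (e.hom ≫ i)] (h : Red.IsBorelOver K i) :
    Red.IsBorelOver K (e.hom ≫ i) := by
  obtain ⟨hm, hc, hsm, hcn, ⟨n, hn⟩, hmax⟩ := h
  haveI := hm; haveI := hc; haveI := hsm; haveI := hcn
  haveI : Mono i := mono_of_closed' i hc
  haveI hem : IsMonHom e.hom := isMonHom_of_points _ fun W p q => by
    rw [← cancel_mono i, MonObj.mul_comp (p ≫ e.hom), Category.assoc, Category.assoc, Category.assoc, MonObj.mul_comp]
  have : IsIso e.hom.left := inferInstanceAs (IsIso ((Over.forget _).map e.hom))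
  refine ⟨inferInstance, by rw [Over.comp_left]; infer_instance, by rw [← Over.w e.hom]; infer_instance,
    e.hom.left.homeomorph.symm.surjective.connectedSpace e.hom.left.homeomorph.symm.continuous,
    ⟨n, fun X => (Subgroup.eq_bot_iff_forall _).2 fun x hx => (cancel_mono e.hom).1 ?_⟩,
    fun B'' _ i'' _ f hc' hsm' hcn' hsol' hf => ?_⟩
  · let φ : (X ⟶ B) →* (X ⟶ B') := MonoidHom.mk' (· ≫ e.hom) fun a b => MonObj.mul_comp a b e.hom
    have := map_derivedSeries_le_derivedSeries φ n ⟨x, hx, rfl⟩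
    rw [hn] at this
    exact (Subgroup.mem_bot.1 this).trans (MonObj.one_comp e.hom).symm
  · haveI := hmax B'' i'' (e.inv ≫ f) hc' hsm' hcn' hsol' (by rw [Category.assoc, hf, Iso.inv_hom_id_assoc])
    exact @IsIso.of_isIso_comp_left _ _ _ _ _ e.inv f (Iso.isIso_inv e) this

variable {k : Type u} [Field k]

theorem isTorus_descend (ψ : Spec (CommRingCat.of K) ⟶ Spec (CommRingCat.of k))
    (T : Over (Spec (CommRingCat.of k))) [GrpObj T] (hT : Red.IsTorus (Red.bc ψ T)) : Red.IsTorus T := by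
  obtain ⟨S', f, hflat, hsurj, hqc, hloc⟩ := hT
  have := (fpqc_fieldMap ψ)
  have : Flat ψ := flat_fieldMap ψ
  have : Surjective ψ := ⟨fun _ => ⟨IsLocalRing.closedPoint K, Subsingleton.elim _ _⟩⟩
  refine ⟨S', f ≫ ψ, inferInstance, inferInstance, fun V hV => ?_, fun s' => ?_⟩
  · rcases (V : Set (Spec (CommRingCat.of k) : Scheme.{u})).eq_empty_or_nonempty with hV0 | ⟨v, hv⟩
    · refine ⟨⊥, isCompact_empty, ?_⟩
      change _ '' (∅ : Set S') = SetLike.coe V
      rw [Set.image_empty]; exact hV0.symm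
    · obtain ⟨W, hWc, hW⟩ := hqc ⊤ (isAffineOpen_top _)
      refine ⟨W, hWc, Set.eq_of_subset_of_subset (fun x _ => ?_) fun x _ => ?_⟩
      · exact (Subsingleton.elim v x) ▸ hv
      · obtain ⟨w, hw, hwe⟩ : (IsLocalRing.closedPoint K : (Spec (CommRingCat.of K) : Scheme.{u})) ∈ f.base '' (W : Set S') := by
          rw [hW]; trivial
        exact ⟨w, hw, Subsingleton.elim _ _⟩
  · obtain ⟨U, hU, r, ⟨e⟩⟩ := hloc s'
    refine ⟨U, hU, r, ?_⟩
    have h1 := (Groth.Abvar.isMonHom_pullbackComp (U.ι ≫ f) ψ T).2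
    let α : Red.bc ((U.ι ≫ f) ≫ ψ) T ≅ Red.bc (U.ι ≫ f) (Red.bc ψ T) := (Over.pullbackComp (U.ι ≫ f) ψ).app T
    haveI : IsMonHom α.hom := h1
    rw [← Category.assoc]
    exact ⟨Grp.mkIso' α ≪≫ e⟩

variable [Finite k] [IsAlgClosed K] [Algebra k K]

local notation "ψ" => Spec.map (CommRingCat.ofHom (algebraMap k K))

/-- **Existence of a Borel pair over a finite field**, relative to an algebraically closed extension. -/
theorem exists_pair (G : Over (Spec (CommRingCat.of k))) [GrpObj G] [IsAffine G.left] [Smooth G.hom]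
    [ConnectedSpace G.left] :
    ∃ (B : Over (Spec (CommRingCat.of k))) (_ : GrpObj B) (iB : B ⟶ G) (T : Over (Spec (CommRingCat.of k)))
      (_ : GrpObj T) (t : T ⟶ B),
      IsMonHom iB ∧ IsClosedImmersion iB.left ∧ Smooth B.hom ∧ Red.IsBorelOver K ((Over.pullback ψ).map iB) ∧
      IsMonHom (t ≫ iB) ∧ Mono (t ≫ iB) ∧ Red.IsTorus T ∧
      AGF.IsMaxTorus ((Over.pullback ψ).map (t ≫ iB)) := by
  have := smooth_bc ψ G
  have := isAffine_bc ψ G
  have := connectedSpace_bc ψ G
  obtain ⟨B₀, _, i₀, _, X, a, o, hB₀, -, -⟩ := exists_borel_proper (G := Red.bc ψ G)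
  obtain ⟨T₀, _, t₀, hT₀⟩ := exists_maxTorus_of_borel hB₀
  let s := frobSpec K k
  have hs : s ≫ ψ = ψ := frobSpec_comp
  have hs' : inv s ≫ ψ = ψ := by rw [IsIso.inv_comp_eq]; exact hs.symm
  have hFB := isBorelOver_twist ψ hs hs' (IsIso.inv_hom_id s) hB₀
  have hFT := isMaxTorus_twist ψ hs hs' (IsIso.inv_hom_id s) hT₀
  obtain ⟨x, f, f', hf, hf'⟩ := borelPair_conj hB₀ hFB hT₀ hFT t₀ rfl ((Over.pullback s).map t₀)
    (by simp only [twist]; rw [← Category.assoc, ← Functor.map_comp])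
  obtain ⟨a, rfl⟩ := toK_surjective (K := K) x
  obtain ⟨y, hy⟩ := exists_lang K a⁻¹
  let h := y⁻¹
  have hh : frobPt h * a = h := by
    show frobPt y⁻¹ * a = y⁻¹
    rw [frobPt_inv, ← _root_.inv_inv a, ← hy]
    group
  have key : ∀ {X : Over (Spec (CommRingCat.of K))} (i : X ⟶ Red.bc ψ G)
      (e : X ≅ Red.bc s X), e.hom ≫ twist ψ s hs i = AGF.conjBy (toK a) i →
      ∀ g ∈ pts (AGF.conjBy (toK h) i), ∃ v ∈ pts (AGF.conjBy (toK h) i), frobPt v = g := by
    intro X i e he g hg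
    rw [pts_conjBy] at hg ⊢
    obtain ⟨u, hu, rfl⟩ := hg
    have h1 : a * u * a⁻¹ ∈ frobPt '' pts i := by
      rw [← pts_twist, ← pts_iso e, he, pts_conjBy]
      exact ⟨u, hu, rfl⟩
    obtain ⟨v, hv, hva⟩ := h1
    refine ⟨h * v * h⁻¹, ⟨v, hv, rfl⟩, ?_⟩
    rw [frobPt_mul, frobPt_mul, frobPt_inv, hva]
    calc frobPt h * (a * u * a⁻¹) * (frobPt h)⁻¹ = (frobPt h * a) * u * (frobPt h * a)⁻¹ := by group
      _ = h * u * h⁻¹ := by rw [hh]
  have hB₁ := isBorelOver_conj hB₀ (toK h)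
  have hT₁ := isMaxTorus_conjBy hT₀ (toK h)
  haveI := hB₁.1; haveI := hB₁.2.1; haveI := hB₁.2.2.1
  haveI := hT₁.1; haveI := hT₁.2.1
  obtain ⟨_, _, _⟩ := isAffine_smooth_connected_of_isTorus hT₁.2.2.1
  haveI : IsClosedImmersion (AGF.conjBy (toK h) (t₀ ≫ i₀)).left := isClosedImmersion_of_isTorus _ hT₁.2.2.1
  obtain ⟨B, _, iB, hiBm, hiBc, hBs, eB, heB⟩ := exists_descended_subgroup (AGF.conjBy (toK h) i₀) (key i₀ f hf)
  obtain ⟨T, _, iT, hiTm, hiTc, hTs, eT, heT⟩ :=
    exists_descended_subgroup (AGF.conjBy (toK h) (t₀ ≫ i₀)) (key (t₀ ≫ i₀) f' hf')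
  haveI := hiBm; haveI := hiBc; haveI := hiTm; haveI := hiTc
  obtain ⟨t, ht⟩ := exists_factor_descend ψ iT iB (eT.hom ≫ t₀ ≫ eB.inv)
    (by rw [Category.assoc, Category.assoc, ← heB, Iso.inv_hom_id_assoc, comp_conjBy', heT])
  have hMB := Groth.Abvar.isMonHom_map (f := ψ) iB
  have hMT := Groth.Abvar.isMonHom_map (f := ψ) iT
  have hBK : Red.IsBorelOver K ((Over.pullback ψ).map iB) := by
    rw [← heB] at hMB ⊢
    exact isBorelOver_comp_iso eB hB₁
  have hTK : Red.IsTorus (Red.bc ψ T) := by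
    have : IsMonHom eT.hom := isMonHom_of_points _ fun W p q => by
      rw [← cancel_mono (AGF.conjBy (toK h) (t₀ ≫ i₀)), MonObj.mul_comp (p ≫ eT.hom), Category.assoc,
        Category.assoc, Category.assoc, heT, MonObj.mul_comp]
    have : IsMonHom eT.symm.hom := inferInstanceAs (IsMonHom eT.inv)
    exact isTorus_of_iso eT.symm this hT₁.2.2.1
  have hmono : Mono iT := Over.mono_of_mono_left iT
  refine ⟨B, inferInstance, iB, T, inferInstance, t, hiBm, hiBc, hBs, hBK, ?_, ?_, isTorus_descend ψ T hTK, ?_⟩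
  · rw [ht]; exact hiTm
  · rw [ht]; exact hmono
  · rw [ht]
    refine ⟨hMT, inferInstance, hTK, fun T' _ j _ _ f htor' hf => ?_⟩
    have := hT₁.2.2.2 T' j (eT.inv ≫ f) htor' (by rw [Category.assoc, hf, ← heT, Iso.inv_hom_id_assoc])
    exact IsIso.of_isIso_comp_left eT.inv f

end Pair

end Groth.Reductive2.BorelFiniteExist
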