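import Groth.Agent.AlgGrp2.DiagBaseChange
import Groth.Agent.AlgGrp1.MaxTorusSolv
import Groth.Prelude.Def_SGA3b
import Groth.Prelude.Def_SGA3x
import Mathlib.RingTheory.FiniteType
import Mathlib.RingTheory.Bialgebra.MonoidAlgebra
import Mathlib.RingTheory.Bialgebra.TensorProduct

/-!
An affine group over a field whose Hopf algebra becomes diagonalisable over an extension field is of
multiplicative type and of finite type.
-/

set_option autoImplicit false
universe u

open CategoryTheory CategoryTheory.Limits MonoidalCategory CartesianMonoidalCategory MonObj GrpObj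
  AlgebraicGeometry
open scoped TensorProduct

noncomputable section

namespace Groth.Reductive2.MTSpec

/-- A finitely generated commutative group is isomorphic to one in the lowest universe. -/
theorem exists_small (M : Type u) [CommGroup M] (hM : Group.FG M) :
    ∃ (M₀ : Type) (_ : AddCommGroup M₀), AddGroup.FG M₀ ∧ Nonempty (M ≃* Multiplicative M₀) := by
  have : AddGroup.FG (Additive M) := AddGroup.fg_iff_mul_fg.mpr (by exact hM)
  have : Module.Finite ℤ (Additive M) := Module.Finite.iff_addGroup_fg.mpr this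
  obtain ⟨n, f, hf⟩ := Module.Finite.exists_fin' ℤ (Additive M)
  let e : ((Fin n → ℤ) ⧸ LinearMap.ker f) ≃ₗ[ℤ] Additive M := f.quotKerEquivOfSurjective hf
  refine ⟨(Fin n → ℤ) ⧸ LinearMap.ker f, inferInstance, Module.Finite.iff_addGroup_fg.mp inferInstance,
    ⟨AddEquiv.toMultiplicativeRight e.toAddEquiv.symm⟩⟩

variable {k : Type u} [Field k] (B : Type u) [CommRing B] [HopfAlgebra k B] (K : Type u) [Field K] [Algebra k K]

/-- The base change of the spectrum of a Hopf algebra. -/
def bcMap : CoactBr.sp K (K ⊗[k] B) ⟶ Red.bc (Groth.AlgGrp2.str k K) (CoactBr.sp k B) :=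
  Groth.AlgGrp2.bcPtInv _ ((Groth.AlgGrp2.mapSpIso k K (K ⊗[k] B)).hom ≫
    CoactBr.pt (Algebra.TensorProduct.includeRight : B →ₐ[k] K ⊗[k] B))

theorem affPt_bcMap : Groth.AlgGrp2.affPt k (bcMap B K) =
    CoactBr.pt (Algebra.TensorProduct.includeRight : B →ₐ[k] K ⊗[k] B) := by
  simp [Groth.AlgGrp2.affPt, bcMap]

instance isIso_bcMap : IsIso (bcMap (k := k) B K) := by
  let χ : B ⊗[k] K →+* K ⊗[k] B := (Algebra.TensorProduct.comm k B K).toRingEquiv.toRingHom
  let m : Spec (CommRingCat.of (K ⊗[k] B)) ⟶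
      pullback (Spec.map (CommRingCat.ofHom (algebraMap k B))) (Spec.map (CommRingCat.ofHom (algebraMap k K))) :=
    Spec.map (CommRingCat.ofHom χ) ≫ (pullbackSpecIso k B K).inv
  have hχ : IsIso (CommRingCat.ofHom χ) :=
    (Algebra.TensorProduct.comm k B K).toRingEquiv.toCommRingCatIso.isIso_hom
  have hm : IsIso m := inferInstanceAs (IsIso (Spec.map (CommRingCat.ofHom χ) ≫ (pullbackSpecIso k B K).inv))
  let l : Spec (CommRingCat.of (K ⊗[k] B)) ⟶
      pullback (Spec.map (CommRingCat.ofHom (algebraMap k B))) (Spec.map (CommRingCat.ofHom (algebraMap k K))) :=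
    (bcMap (k := k) B K).left
  have h : l = m := by
    apply pullback.hom_ext
    · have e1 := congrArg CommaMorphism.left (affPt_bcMap (k := k) B K)
      simp only [Groth.AlgGrp2.affPt, Groth.AlgGrp2.bcPt, Over.mapPullbackAdj, Adjunction.mkOfHomEquiv_homEquiv,
        Equiv.coe_fn_symm_mk] at e1
      refine Eq.trans ((Category.id_comp _).symm.trans e1) ?_
      show (Spec.map (CommRingCat.ofHom (Algebra.TensorProduct.includeRight : B →ₐ[k] K ⊗[k] B).toRingHom) :
          Spec (CommRingCat.of (K ⊗[k] B)) ⟶ Spec (CommRingCat.of B)) =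
        (Spec.map (CommRingCat.ofHom χ) ≫ (pullbackSpecIso k B K).inv) ≫ _
      rw [Category.assoc]
      erw [pullbackSpecIso_inv_fst]
      rw [← Spec.map_comp]
      congr 1
    · refine (Over.w (bcMap (k := k) B K)).trans ?_
      show Spec.map _ = (Spec.map (CommRingCat.ofHom χ) ≫ (pullbackSpecIso k B K).inv) ≫ _
      rw [Category.assoc, pullbackSpecIso_inv_snd, ← Spec.map_comp]
      congr 1
  have : IsIso l := h ▸ hm
  have : IsIso ((Over.forget _).map (bcMap (k := k) B K)) := this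
  exact isIso_of_reflects_iso (bcMap (k := k) B K) (Over.forget _)

instance isMonHom_bcMap : IsMonHom (bcMap (k := k) B K) := by
  refine Groth.AlgGrp2.isMonHom_of_pt _ fun g h => ?_
  obtain ⟨φ, rfl⟩ := Groth.AlgGrp2.pt_surjective g
  obtain ⟨ψ, rfl⟩ := Groth.AlgGrp2.pt_surjective h
  apply Groth.AlgGrp2.affPt_injective (R := k)
  rw [Groth.AlgGrp2.affPt_mul, CoactBr.pt_mul_pt, Groth.AlgGrp2.affPt_comp, Groth.AlgGrp2.affPt_comp,
    Groth.AlgGrp2.affPt_comp, affPt_bcMap, ← CoactBr.pt_comp, ← CoactBr.pt_comp, ← CoactBr.pt_comp,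
    CoactBr.pt_mul_pt]
  congr 1
  apply AlgHom.ext
  intro b
  simp only [AlgHom.comp_apply, AlgHom.restrictScalars_apply, Algebra.TensorProduct.includeRight_apply,
    Bialgebra.comulAlgHom_apply, TensorProduct.comul_tmul, CommSemiring.comul_apply]
  induction Coalgebra.comul (R := k) b using TensorProduct.induction_on with
  | zero => simp
  | tmul x y => simp
  | add x y hx hy => simp only [map_add, TensorProduct.tmul_add, hx, hy]

/-- A Hopf algebra of finite type which is diagonalisable over an extension field gives a group of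
multiplicative type. -/
theorem isMultTypeFT [Algebra.FiniteType k B] (h : SGA3b.IsDiag K (K ⊗[k] B)) :
    SGA3x.IsMultTypeFT (CoactBr.sp k B) := by
  obtain ⟨M, _, ⟨φ⟩⟩ := h
  have hft : Algebra.FiniteType K (MonoidAlgebra K M) :=
    (inferInstance : Algebra.FiniteType K (K ⊗[k] B)).equiv (φ : K ⊗[k] B ≃ₐ[K] MonoidAlgebra K M)
  obtain ⟨M₀, _, hfg, ⟨eM⟩⟩ := exists_small M (MonoidAlgebra.finiteType_iff_group_fg.mp hft)
  let ψ : MonoidAlgebra K (Multiplicative M₀) ≃ₐc[K] K ⊗[k] B :=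
    (MonoidAlgebra.domCongrBialgEquiv K K eM.symm).trans φ.symm
  have h1 : IsMonHom (CoactBr.pt ((ψ : MonoidAlgebra K (Multiplicative M₀) →ₐc[K] K ⊗[k] B) :
      MonoidAlgebra K (Multiplicative M₀) →ₐ[K] K ⊗[k] B)) := Groth.AlgGrp1.isMonHom_pt_bialg _
  let eψ : CoactBr.sp K (K ⊗[k] B) ≅ CoactBr.sp K (MonoidAlgebra K (Multiplicative M₀)) :=
    { hom := CoactBr.pt ((ψ : MonoidAlgebra K (Multiplicative M₀) →ₐc[K] K ⊗[k] B) :
        MonoidAlgebra K (Multiplicative M₀) →ₐ[K] K ⊗[k] B)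
      inv := CoactBr.pt ((ψ.symm : K ⊗[k] B →ₐc[K] MonoidAlgebra K (Multiplicative M₀)) :
        K ⊗[k] B →ₐ[K] MonoidAlgebra K (Multiplicative M₀))
      hom_inv_id := by
        rw [← CoactBr.pt_comp, ← CoactBr.pt_id]; congr 1; ext x; simp
      inv_hom_id := by
        rw [← CoactBr.pt_comp, ← CoactBr.pt_id]; congr 1; ext x; simp }
  have : IsMonHom eψ.hom := h1
  have : IsMonHom eψ.inv := Groth.AlgGrp1.isMonHom_pt_bialg _
  let e0 : Red.diag K M₀ ≅ Red.bc (Groth.AlgGrp2.str k K) (CoactBr.sp k B) :=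
    eψ.symm ≪≫ asIso (bcMap (k := k) B K)
  have : IsMonHom e0.hom := by
    simp only [e0, Iso.trans_hom, Iso.symm_hom, asIso_hom]
    infer_instance
  have hs : Surjective (Groth.AlgGrp2.str k K) :=
    ⟨fun x => ⟨(default : PrimeSpectrum K), Subsingleton.elim _ _⟩⟩
  have hf : Flat (Groth.AlgGrp2.str k K) :=
    Flat.SpecMap_iff.mpr (RingHom.flat_algebraMap_iff.mpr inferInstance)
  refine ⟨Spec (CommRingCat.of K), Groth.AlgGrp2.str k K, hf, hs, fun V hV => ⟨_,
    (hV.preimage (Groth.AlgGrp2.str k K)).isCompact, Set.image_preimage_eq _ hs.surj⟩,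
    fun s' => ⟨⊤, trivial, M₀, inferInstance, hfg, ?_⟩⟩
  let e' : Red.DS (Spec (CommRingCat.of K)) M₀ ≅ Red.bc (Groth.AlgGrp2.str k K) (CoactBr.sp k B) :=
    (Groth.AlgGrp2.diagIsoDS K M₀).symm ≪≫ e0
  have : IsMonHom e'.hom := by
    simp only [e', Iso.trans_hom, Iso.symm_hom]
    infer_instance
  obtain ⟨i, hi⟩ := Groth.Reductive.FreeDiag.exists_trivialisation_comp (CoactBr.sp k B)
    (⊤ : (Spec (CommRingCat.of K)).Opens).ι (Groth.AlgGrp2.str k K) e'
  haveI := hi
  exact ⟨(Grp.mkIso' i).symm⟩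

end Groth.Reductive2.MTSpec
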