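import Groth.Agent.Agf.Fn
import Groth.Agent.Sga3.UnipotentPart
import Groth.Agent.Reductive.MultGa
import Groth.Prelude.Def_CoactBr
import Groth.Prelude.Def_SGA3x
import Groth.Prelude.Def_SGA3
import Mathlib.AlgebraicGeometry.Morphisms.Flat
import Mathlib.RingTheory.Coalgebra.GroupLike

/-!
Homomorphisms of groups of multiplicative type over an arbitrary base into the unipotent part of a
commutative affine group over a field are trivial.
-/

set_option autoImplicit false
universe u

open CategoryTheory CategoryTheory.Limits MonoidalCategory CartesianMonoidalCategory MonObj GrpObj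
  AlgebraicGeometry
open scoped TensorProduct Groth.Agf

noncomputable section

namespace Groth.Reductive2.UnipTriv

open Groth.Agf Groth.Sga3

variable {k : Type u} [Field k]

/-- The canonical morphism to the spectrum of the functions. -/
def tP (X : Over (Spec (CommRingCat.of k))) : X ⟶ CoactBr.sp k (Fn X) :=
  Over.homMk X.left.toSpecΓ (by
    show X.left.toSpecΓ ≫ Spec.map (CommRingCat.ofHom (constHom X)) = X.hom
    rw [constHom, CommRingCat.ofHom_hom, Spec.map_comp, ← Scheme.toSpecΓ_naturality_assoc]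
    simp)

variable {A : Type u} [CommRing A] [Algebra k A]

/-- Functions on the spectrum of an algebra. -/
def spFn (A : Type u) [CommRing A] [Algebra k A] : A →ₐ[k] Fn (CoactBr.sp k A) :=
  { (Scheme.ΓSpecIso (CommRingCat.of A)).inv.hom with
    commutes' := fun c => by
      show (CommRingCat.ofHom (algebraMap k A) ≫ (Scheme.ΓSpecIso (CommRingCat.of A)).inv) c = _
      rw [Scheme.ΓSpecIso_inv_naturality]
      rfl }

/-- The values of the coordinates at a point. -/
def val {X : Over (Spec (CommRingCat.of k))} (x : X ⟶ CoactBr.sp k A) : A →ₐ[k] Fn X :=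
  (pull x).comp (spFn A)

theorem val_comp {X Y : Over (Spec (CommRingCat.of k))} (q : Y ⟶ X) (x : X ⟶ CoactBr.sp k A) :
    val (q ≫ x) = (pull q).comp (val x) := rfl

theorem eq_tP_pt {X : Over (Spec (CommRingCat.of k))} (x : X ⟶ CoactBr.sp k A) :
    x = tP X ≫ CoactBr.pt (val x) := by
  apply Over.OverMorphism.ext
  let x' : X.left ⟶ Spec (CommRingCat.of A) := x.left
  show x' = X.left.toSpecΓ ≫ Spec.map ((Scheme.ΓSpecIso (CommRingCat.of A)).inv ≫ x'.appTop)
  rw [Spec.map_comp, ← Scheme.toSpecΓ_naturality_assoc]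
  simp

theorem val_tP_pt {X : Over (Spec (CommRingCat.of k))} (φ : A →ₐ[k] Fn X) :
    val (tP X ≫ CoactBr.pt φ) = φ := by
  apply AlgHom.ext
  intro a
  show (((Scheme.ΓSpecIso (CommRingCat.of A)).inv ≫
    (X.left.toSpecΓ ≫ Spec.map (CommRingCat.ofHom φ.toRingHom)).appTop)).hom a = φ a
  rw [Scheme.Hom.comp_appTop, ← Scheme.ΓSpecIso_inv_naturality_assoc, Scheme.toSpecΓ_appTop,
    Iso.inv_hom_id, Category.comp_id]
  rfl

theorem val_pt {B : Type u} [CommRing B] [Algebra k B] {X : Over (Spec (CommRingCat.of k))}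
    (x : X ⟶ CoactBr.sp k A) (φ : B →ₐ[k] A) : val (x ≫ CoactBr.pt φ) = (val x).comp φ := by
  rw [eq_tP_pt x, Category.assoc, ← CoactBr.pt_comp, val_tP_pt, val_tP_pt]

section Hopf

variable {A : Type u} [CommRing A] [HopfAlgebra k A] {X : Over (Spec (CommRingCat.of k))}

theorem val_mul (x y : X ⟶ CoactBr.sp k A) :
    val (x * y) = (Algebra.TensorProduct.lift (val x) (val y) fun _ _ => .all _ _).comp
      (Bialgebra.comulAlgHom k A) := by
  conv_lhs => rw [eq_tP_pt x, eq_tP_pt y, ← MonObj.comp_mul, CoactBr.pt_mul_pt, val_tP_pt]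

theorem val_one : val (1 : X ⟶ CoactBr.sp k A) = (Algebra.ofId k (Fn X)).comp (Bialgebra.counitAlgHom k A) := by
  rw [← MonObj.comp_one (tP X), CoactBr.one_eq_pt, val_tP_pt]

/-- The group `Spec A` is commutative exactly when `A` is cocommutative. -/
theorem isCocomm_of_comm
    (h : ∀ (X : Over (Spec (CommRingCat.of k))) (x y : X ⟶ CoactBr.sp k A), x * y = y * x) :
    Coalgebra.IsCocomm k A := by
  let l : A →ₐ[k] A ⊗[k] A := Algebra.TensorProduct.includeLeft
  let r : A →ₐ[k] A ⊗[k] A := Algebra.TensorProduct.includeRight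
  have h1 := h _ (CoactBr.pt l) (CoactBr.pt r)
  rw [CoactBr.pt_mul_pt, CoactBr.pt_mul_pt] at h1
  have h2 := CoactBr.pt_injective h1
  have hid : Algebra.TensorProduct.lift l r (fun _ _ => .all _ _) = AlgHom.id k _ :=
    Algebra.TensorProduct.ext' fun a b => by simp [l, r]
  have hcomm : Algebra.TensorProduct.lift r l (fun _ _ => .all _ _) =
      (Algebra.TensorProduct.comm k A A).toAlgHom :=
    Algebra.TensorProduct.ext' fun a b => by simp [l, r]
  rw [hid, hcomm] at h2
  constructor
  ext a
  exact (DFunLike.congr_fun h2 a).symm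

open UnipotentPart in
/-- An additively trivial diagonalisable family of points has trivial unipotent coordinates. -/
theorem val_eq_counit_of_diag {U : Scheme.{u}} {M : Type} [AddCommGroup M] (g : U ⟶ Spec (CommRingCat.of k))
    (P : ∀ Z : Over U, (Z ⟶ Red.DS U M) → ((Over.map g).obj Z ⟶ CoactBr.sp k A))
    (hnat : ∀ {Z W : Over U} (q : W ⟶ Z) (x : Z ⟶ Red.DS U M), P W (q ≫ x) = (Over.map g).map q ≫ P Z x)
    (hmul : ∀ (Z : Over U) (x y : Z ⟶ Red.DS U M), P Z (x * y) = P Z x * P Z y)
    (n : ℕ) : ∀ a ∈ UnipotentPart.U k A n, ∀ (Z : Over U) (x : Z ⟶ Red.DS U M),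
      val (P Z x) a = algebraMap k _ (Coalgebra.counit (R := k) a) := by
  induction n with
  | zero =>
    intro a ha Z x
    rw [(Submodule.mem_bot k).mp ha]
    simp
  | succ n ih =>
    intro a ha Z x
    rw [UnipotentPart.U, LinearMap.mem_ker, stepMap, LinearMap.comp_apply] at ha
    obtain ⟨t, ht⟩ := ((_root_.rTensor_exact A (LinearMap.exact_subtype_mkQ _)
      (Submodule.mkQ_surjective _)) _).1 ha
    simp only [LinearMap.sub_apply, LinearMap.flip_apply, TensorProduct.mk_apply] at ht
    let q₀ : A := TensorProduct.lid k A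
      (((Coalgebra.counit (R := k) (A := A)).comp (UnipotentPart.U k A n).subtype).rTensor A t)
    have hP1 : ∀ Z' : Over U, P Z' 1 = 1 := fun Z' => by
      have h := hmul Z' 1 1
      rw [show (1 : Z' ⟶ Red.DS U M) * 1 = 1 from _root_.mul_one (M := (Z' ⟶ Red.DS U M)) 1] at h
      exact left_eq_mul.mp h
    have hstep : ∀ (Z' : Over U) (x y : Z' ⟶ Red.DS U M),
        val (P Z' (x * y)) a = val (P Z' x) a + val (P Z' y) q₀ := by
      intro Z' x y
      rw [hmul, val_mul, AlgHom.comp_apply, Bialgebra.comulAlgHom_apply,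
        show Coalgebra.comul (R := k) a = a ⊗ₜ[k] (1 : A) + (UnipotentPart.U k A n).subtype.rTensor A t by
          rw [ht]; abel,
        map_add, Algebra.TensorProduct.lift_tmul, map_one, _root_.mul_one]
      congr 1
      simp only [q₀]
      clear ht
      induction t using TensorProduct.induction_on with
      | zero => simp
      | add p q hp hq => simp only [map_add, hp, hq]
      | tmul p q =>
        rw [LinearMap.rTensor_tmul, LinearMap.rTensor_tmul, TensorProduct.lid_tmul, Submodule.subtype_apply,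
          Algebra.TensorProduct.lift_tmul, ih p p.2]
        simp [Algebra.smul_def]
    let F : ∀ Z' : Over U, (Z' ⟶ Red.DS U M) → Γ(Z'.left, ⊤) :=
      fun Z' z => val (P Z' z) a - algebraMap k (Fn ((Over.map g).obj Z')) (Coalgebra.counit (R := k) a)
    have hF := Groth.Reductive.eq_zero_of_additive F
      (fun {Z' W} q z => by
        show val (P W (q ≫ z)) a - _ = _
        rw [hnat, val_comp, ← AlgHom.commutes (pull ((Over.map g).map q)), AlgHom.comp_apply, ← map_sub]
        rfl)
      (fun Z' z w => by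
        have h1 := hstep Z' 1 w
        rw [show (1 : Z' ⟶ Red.DS U M) * w = w from _root_.one_mul (M := (Z' ⟶ Red.DS U M)) w, hP1, val_one] at h1
        show val (P Z' (z * w)) a - _ = (val (P Z' z) a - _) + (val (P Z' w) a - _)
        rw [hstep, h1]
        simp only [AlgHom.comp_apply, Algebra.ofId_apply, Bialgebra.counitAlgHom_apply]
        abel)
      Z x
    exact sub_eq_zero.mp hF

open UnipotentPart in
/-- A homomorphism from a group of multiplicative type kills the augmentation ideal of the unipotent part. -/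
theorem val_eq_zero_of_multType {S : Scheme.{u}} (f : S ⟶ Spec (CommRingCat.of k)) (H : Over S) [GrpObj H]
    (hH : SGA3x.IsMultTypeFT H) (y : (Over.map f).obj H ⟶ CoactBr.sp k A)
    (hy : ∀ (Z : Over S) (a b : Z ⟶ H),
      (Over.map f).map (a * b) ≫ y = ((Over.map f).map a ≫ y) * ((Over.map f).map b ≫ y)) :
    ∀ a ∈ SGA3.augIdealSpan k A (unip k A), val y a = 0 := by
  obtain ⟨S', h, _, _, -, hloc⟩ := hH
  choose U hU M hM hMfg e using hloc
  have : Flat (pullback.fst H.hom h) := inferInstance
  have : Surjective (pullback.fst H.hom h) := inferInstance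
  have := Flat.epi_of_flat_of_surjective (pullback.fst H.hom h)
  let B := unip k A
  suffices key : y ≫ CoactBr.pt B.val = tP _ ≫ CoactBr.pt
      ((Algebra.ofId k (Fn ((Over.map f).obj H))).comp ((Bialgebra.counitAlgHom k A).comp B.val)) by
    have hb : ∀ b ∈ B, val y b = algebraMap k _ (Coalgebra.counit (R := k) b) := fun b hb => by
      have h1 := congrArg (fun m => val m (⟨b, hb⟩ : B)) key
      rw [val_tP_pt, val_pt] at h1
      exact h1
    intro a ha
    refine (Ideal.span_le (I := RingHom.ker (val y))).mpr ?_ ha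
    rintro b ⟨hb1, hb2⟩
    show val y b = 0
    rw [hb b hb1, show Coalgebra.counit (R := k) b = 0 from hb2, map_zero]
  apply Over.OverMorphism.ext
  rw [← cancel_epi (pullback.fst H.hom h)]
  let 𝒰 : S'.OpenCover := S'.openCoverOfIsOpenCover U (TopologicalSpace.IsOpenCover.mk
    (top_le_iff.mp fun s _ ↦ TopologicalSpace.Opens.mem_iSup.mpr ⟨s, hU s⟩))
  refine Scheme.Cover.hom_ext (𝒰.pullback₁ (pullback.snd H.hom h)) _ _ fun (s : S') ↦ ?_
  obtain ⟨e⟩ := e s
  let _ : AddCommGroup (M s) := hM s
  let g := (U s).ι ≫ h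
  let Y : Over (U s : Scheme.{u}) := Over.mk (pullback.snd (pullback.snd H.hom h) (U s).ι)
  let π : (Over.map g).obj Y ⟶ H :=
    Over.homMk (pullback.fst (pullback.snd H.hom h) (U s).ι ≫ pullback.fst H.hom h) (by
      show (_ ≫ _) ≫ H.hom = pullback.snd _ _ ≫ (U s).ι ≫ h
      rw [Category.assoc, pullback.condition, ← Category.assoc, pullback.condition, Category.assoc])
  let b' : Red.bc g H ⟶ Red.DS (U s : Scheme.{u}) (M s) := e.hom.hom.hom
  let b'' : Red.DS (U s : Scheme.{u}) (M s) ⟶ Red.bc g H := e.inv.hom.hom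
  have : IsMonHom b'' := inferInstanceAs (IsMonHom e.inv.hom.hom)
  have hi : b' ≫ b'' = 𝟙 _ := congrArg (fun z ↦ z.hom.hom) e.hom_inv_id
  let c : ∀ Z : Over (U s : Scheme.{u}), (Over.map (g ≫ f)).obj Z ≅ (Over.map f).obj ((Over.map g).obj Z) :=
    fun Z => Over.isoMk (Iso.refl _) (by simp)
  let P : ∀ Z : Over (U s : Scheme.{u}), (Z ⟶ Red.DS (U s : Scheme.{u}) (M s)) →
      ((Over.map (g ≫ f)).obj Z ⟶ CoactBr.sp k A) :=
    fun Z z => (c Z).hom ≫ (Over.map f).map (Groth.Reductive.bcPointEquiv g H Z (z ≫ b'')) ≫ y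
  have hP := val_eq_counit_of_diag (g ≫ f) P
    (fun {Z W} q z => by
      simp only [P, Category.assoc, Groth.Reductive.bcPointEquiv_comp, Functor.map_comp]
      rw [← Category.assoc, ← Category.assoc ((Over.map (g ≫ f)).map q)]
      congr 1)
    (fun Z z w => by
      simp only [P]
      rw [MonObj.mul_comp, map_mul, hy, MonObj.comp_mul])
  let x₀ := (Groth.Reductive.bcPointEquiv g H Y).symm π ≫ b'
  have hPx : P Y x₀ = (c Y).hom ≫ (Over.map f).map π ≫ y := by
    simp only [P, x₀, Category.assoc, hi, Category.comp_id, MulEquiv.apply_symm_apply]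
  have key : (c Y).hom ≫ (Over.map f).map π ≫ y ≫ CoactBr.pt B.val =
      (c Y).hom ≫ (Over.map f).map π ≫ tP _ ≫ CoactBr.pt
        ((Algebra.ofId k (Fn ((Over.map f).obj H))).comp ((Bialgebra.counitAlgHom k A).comp B.val)) := by
    rw [← Category.assoc _ y, ← Category.assoc _ (_ ≫ y), ← hPx, ← Category.assoc ((Over.map f).map π),
      ← Category.assoc (c Y).hom]
    rw [eq_tP_pt (P Y x₀ ≫ CoactBr.pt B.val)]
    conv_rhs => rw [eq_tP_pt (((c Y).hom ≫ (Over.map f).map π ≫ tP _) ≫ CoactBr.pt _)]
    congr 2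
    apply AlgHom.ext
    rintro ⟨b, hb⟩
    obtain ⟨n, hn⟩ := mem_unip.mp hb
    rw [val_pt, AlgHom.comp_apply]
    refine (hP n b hn Y x₀).trans ?_
    rw [val_pt, AlgHom.comp_apply]
    exact (AlgHom.commutes _ (Coalgebra.counit (R := k) b)).symm
  exact congrArg CommaMorphism.left key

end Hopf

end Groth.Reductive2.UnipTriv
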