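import Groth.Agent.Agf.CentralChar
import Groth.Prelude.Def_LieS
import Groth.Prelude.Def_VecGrp
import Mathlib.Algebra.Lie.Nilpotent
import Mathlib.RingTheory.Filtration

/-!
Weights of the conjugation action of a one-parameter subgroup on the functions of an affine group:
when the Lie algebra is nilpotent all weights vanish in the ground field.
-/

set_option autoImplicit false
universe u

open CategoryTheory MonoidalCategory CartesianMonoidalCategory MonObj GrpObj AlgebraicGeometry
open scoped TensorProduct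

noncomputable section

namespace Groth.Reductive2.TorusWeights

open Groth.Agf

attribute [-simp] LaurentPolynomial.single_eq_C_mul_T

variable {k : Type u} [Field k] {E : Over (Spec (CommRingCat.of k))} [GrpObj E]
  (i : Red.Gm (Spec (CommRingCat.of k)) ⟶ E) [IsMonHom i]

omit [Field k] in
theorem varT_zpow (B : Type u) [CommRing B] (n : ℤ) :
    ((varT B ^ n : (AddMonoidAlgebra B ℤ)ˣ) : AddMonoidAlgebra B ℤ) = AddMonoidAlgebra.single n 1 := by
  induction n using Int.induction_on with
  | zero => simp [AddMonoidAlgebra.one_def]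
  | succ a ha => simp [zpow_add, ha, varT, AddMonoidAlgebra.single_mul_single]
  | pred a ha =>
    rw [zpow_sub, Units.val_mul, ha]
    simp [varT, AddMonoidAlgebra.single_mul_single, sub_eq_add_neg]

/-- `gmPt` as a homomorphism. -/
def gmHom (B : Type u) [CommRing B] [Algebra k B] : Bˣ →* (VecGrp.pt k B ⟶ E) :=
  MonoidHom.mk' (fun u => gmPt u ≫ i) fun u v => by rw [gmPt_mul, MonObj.mul_comp]

theorem gmHom_apply {B : Type u} [CommRing B] [Algebra k B] (u : Bˣ) : gmHom i B u = gmPt u ≫ i := rfl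

/-- Conjugation by a point of the one-parameter subgroup. -/
def conjPt {B : Type u} [CommRing B] [Algebra k B] (x : VecGrp.pt k B ⟶ E) (u : Bˣ) : VecGrp.pt k B ⟶ E :=
  gmHom i B u * x * (gmHom i B u)⁻¹

theorem conjPt_mul {B : Type u} [CommRing B] [Algebra k B] (x : VecGrp.pt k B ⟶ E) (u v : Bˣ) :
    conjPt i (conjPt i x u) v = conjPt i x (u * v) := by
  simp only [conjPt, mul_comm u v, map_mul, _root_.mul_inv_rev, _root_.mul_assoc]

theorem conjPt_one_right {B : Type u} [CommRing B] [Algebra k B] (x : VecGrp.pt k B ⟶ E) :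
    conjPt i x 1 = x := by simp [conjPt]

theorem conjPt_one_left {B : Type u} [CommRing B] [Algebra k B] (u : Bˣ) :
    conjPt i (1 : VecGrp.pt k B ⟶ E) u = 1 := by simp [conjPt]

theorem ptMap_conjPt {B B' : Type u} [CommRing B] [Algebra k B] [CommRing B'] [Algebra k B'] (φ : B →ₐ[k] B')
    (x : VecGrp.pt k B ⟶ E) (u : Bˣ) :
    VecGrp.ptMap φ ≫ conjPt i x u = conjPt i (VecGrp.ptMap φ ≫ x) (Units.map (φ : B →* B') u) := by
  simp only [conjPt, gmHom_apply, MonObj.comp_mul, GrpObj.comp_inv]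
  rw [← Category.assoc, ptMap_gmPt]

variable [IsAffine E.left]

/-- The coaction. -/
def expandC : Fn E →ₐ[k] AddMonoidAlgebra (Fn E) ℤ :=
  evalPt (conjPt i (VecGrp.ptMap (AddMonoidAlgebra.singleZeroAlgHom (R := k) (M := ℤ)) ≫ univ E) (varT (Fn E)))

/-- The component of weight `n`. -/
def P (n : ℤ) (f : Fn E) : Fn E := (expandC i f).coeff n

theorem twist {B : Type u} [CommRing B] [Algebra k B] (x : VecGrp.pt k B ⟶ E) (u : Bˣ) (f : Fn E) :
    twistMap (evalPt x) u (expandC i f) =
      evalPt (conjPt i (VecGrp.ptMap (AddMonoidAlgebra.singleZeroAlgHom (R := k) (M := ℤ)) ≫ x)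
        (Units.map (AddMonoidAlgebra.singleZeroAlgHom (R := k) (A := B) (M := ℤ) : B →* AddMonoidAlgebra B ℤ) u * varT B)) f := by
  rw [expandC, ← AlgHom.comp_apply, ← evalPt_ptMap, ptMap_conjPt, map_varT]
  congr 3
  apply pt_ext
  rw [evalPt_ptMap, evalPt_ptMap, evalPt_ptMap, evalPt_univ, AlgHom.comp_id]
  refine AlgHom.ext fun a => ?_
  simp [twistMap_single]

/-- The component of weight `n` has weight `n`. -/
theorem evalPt_conjPt_P {B : Type u} [CommRing B] [Algebra k B] (x : VecGrp.pt k B ⟶ E) (u : Bˣ) (n : ℤ)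
    (f : Fn E) : evalPt (conjPt i x u) (P i n f) = ((u ^ n : Bˣ) : B) * evalPt x (P i n f) := by
  have h1 := twist i (conjPt i x u) 1 f
  have h2 := twist i x u f
  rw [map_one, _root_.one_mul, ptMap_conjPt, conjPt_mul] at h1
  rw [← h2] at h1
  have h3 := congrArg (fun p => p.coeff n) h1
  simp only [coeff_twistMap] at h3
  simpa [P, mul_comm] using h3

/-- Evaluation at the unit point. -/
abbrev counit : Fn E →ₐ[k] k := evalPt (1 : VecGrp.pt k k ⟶ E)

theorem evalPt_one {B : Type u} [CommRing B] [Algebra k B] (f : Fn E) :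
    evalPt (1 : VecGrp.pt k B ⟶ E) f = algebraMap k B (counit (E := E) f) := by
  rw [← MonObj.comp_one (VecGrp.ptMap (Algebra.ofId k B)), evalPt_ptMap]
  rfl

variable (E) in
/-- The augmentation ideal. -/
abbrev aug : Ideal (Fn E) := RingHom.ker (counit (E := E))

theorem counit_P (n : ℤ) (f : Fn E) : counit (P i n f) = if n = 0 then counit (E := E) f else 0 := by
  have h := twist i (1 : VecGrp.pt k k ⟶ E) 1 f
  rw [MonObj.comp_one, conjPt_one_left, evalPt_one] at h
  have h3 := congrArg (fun p => p.coeff n) h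
  simp only [coeff_twistMap, one_zpow, Units.val_one, _root_.mul_one] at h3
  rw [P, show counit (E := E) = evalPt (1 : VecGrp.pt k k ⟶ E) from rfl, h3]
  rcases eq_or_ne n 0 with rfl | hn
  · simp [counit, AddMonoidAlgebra.coe_algebraMap]
  · simp [hn, hn.symm, AddMonoidAlgebra.coe_algebraMap]

theorem P_mem_aug {n : ℤ} {f : Fn E} (h : n ≠ 0 ∨ f ∈ aug E) : P i n f ∈ aug E := by
  rw [RingHom.mem_ker, counit_P]
  rcases h with h | h
  · simp [h]
  · split_ifs
    · exact h
    · rfl

/-- Multiplying out. -/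
theorem P_mul_mem {n : ℤ} (a b : Fn E) (I : Ideal (Fn E))
    (h : ∀ l m : ℤ, l + m = n → P i l a * P i m b ∈ I) : P i n (a * b) ∈ I := by
  rw [P, map_mul]
  set p := expandC i a
  set q := expandC i b
  rw [AddMonoidAlgebra.coeff_mul]
  simp only [Finsupp.sum, Finsupp.coe_finset_sum, Finset.sum_apply, Finsupp.single_apply]
  refine I.sum_mem fun l _ => I.sum_mem fun m _ => ?_
  split_ifs with he
  · exact h l m he
  · exact zero_mem _

/-- The components of weight non-zero in `k` lie deeper. -/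
theorem P_mem_pow (hD : ∀ n : ℤ, (n : k) ≠ 0 → ∀ f ∈ aug E, P i n f ∈ aug E ^ 2) :
    ∀ N : ℕ, ∀ f ∈ aug E ^ (N + 1), ∀ n : ℤ,
      P i n f ∈ aug E ^ (N + 1) ∧ ((n : k) ≠ 0 → P i n f ∈ aug E ^ (N + 2)) := by
  intro N
  induction N with
  | zero =>
    intro f hf n
    rw [pow_one] at hf ⊢
    exact ⟨P_mem_aug i (Or.inr hf), fun hn => hD n hn f hf⟩
  | succ N ih =>
    intro f hf n
    rw [pow_succ] at hf
    refine Submodule.mul_induction_on hf (fun a ha b hb => ?_) fun x y hx hy => ?_
    · refine ⟨P_mul_mem i a b _ fun l m _ => ?_, fun hn => P_mul_mem i a b _ fun l m hlm => ?_⟩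
      · rw [pow_succ (aug E) (N + 1)]
        exact Ideal.mul_mem_mul (ih a ha l).1 (P_mem_aug i (Or.inr hb))
      · by_cases hl : (l : k) = 0
        · have hm : (m : k) ≠ 0 := fun hm => hn (by rw [← hlm, Int.cast_add, hl, hm, add_zero])
          rw [show N + 1 + 2 = (N + 1) + 2 from rfl, pow_add]
          exact Ideal.mul_mem_mul (ih a ha l).1 (hD m hm b hb)
        · rw [show N + 1 + 2 = (N + 2) + 1 from rfl, pow_succ]
          exact Ideal.mul_mem_mul ((ih a ha l).2 hl) (P_mem_aug i (Or.inr hb))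
    · have e : P i n (x + y) = P i n x + P i n y := by simp [P]
      rw [e]
      exact ⟨add_mem hx.1 hy.1, fun hn => add_mem (hx.2 hn) (hy.2 hn)⟩

/-- The components of weight non-zero in `k` vanish. -/
theorem P_eq_zero [IsNoetherianRing (Fn E)] [IsDomain (Fn E)]
    (hD : ∀ n : ℤ, (n : k) ≠ 0 → ∀ f ∈ aug E, P i n f ∈ aug E ^ 2) {n : ℤ} (hn : (n : k) ≠ 0) (f : Fn E) :
    P i n f = 0 := by
  have hn0 : n ≠ 0 := fun h => hn (by simp [h])
  have hne : aug E ≠ ⊤ := RingHom.ker_ne_top _
  have hidem : ∀ g, P i n g = g → g ∈ aug E → g = 0 := fun g hg hmem => by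
    have hall : ∀ N : ℕ, g ∈ aug E ^ (N + 1) := by
      intro N
      induction N with
      | zero => rwa [pow_one]
      | succ N ih => exact hg ▸ (P_mem_pow i hD N g ih n).2 hn
    have : g ∈ (⨅ N : ℕ, aug E ^ N) := by
      rw [Ideal.mem_iInf]
      rintro (_ | N)
      · simp
      · exact hall N
    rwa [Ideal.iInf_pow_eq_bot_of_isDomain _ hne, Ideal.mem_bot] at this
  refine hidem (P i n f) ?_ (P_mem_aug i (Or.inl hn0))
  refine fn_ext fun B _ _ x => ?_
  have h := twist i x 1 (P i n f)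
  rw [map_one, _root_.one_mul, evalPt_conjPt_P] at h
  have h3 := congrArg (fun p => p.coeff n) h
  simp only [coeff_twistMap, one_zpow, Units.val_one, _root_.mul_one, evalPt_ptMap, AlgHom.comp_apply] at h3
  rw [show evalPt x (P i n (P i n f)) = evalPt x ((expandC i (P i n f)).coeff n) from rfl, h3]
  simp [varT_zpow, AddMonoidAlgebra.single_mul_single]

/-- Points of the subgroup killed by the characteristic act trivially. -/
theorem conjPt_eq {p : ℕ} [CharP k p] (hP : ∀ n : ℤ, (n : k) ≠ 0 → ∀ f : Fn E, P i n f = 0)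
    {B : Type u} [CommRing B] [Algebra k B] (x : VecGrp.pt k B ⟶ E) (u : Bˣ) (hu : u ^ p = 1) :
    conjPt i x u = x := by
  refine pt_ext (AlgHom.ext fun f => ?_)
  have he : twistMap (evalPt x) u (expandC i f) = twistMap (evalPt x) 1 (expandC i f) := by
    refine AddMonoidAlgebra.ext (Finsupp.ext fun n => ?_)
    rw [coeff_twistMap, coeff_twistMap]
    by_cases hn : (n : k) = 0
    · obtain ⟨c, rfl⟩ := (CharP.intCast_eq_zero_iff k p n).mp hn
      rw [zpow_mul, zpow_natCast, hu, one_zpow, one_zpow]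
    · rw [show (expandC i f).coeff n = 0 from hP n hn f, map_zero, zero_mul, zero_mul]
  rw [twist, twist] at he
  let ev : AddMonoidAlgebra B ℤ →ₐ[k] B :=
    AddMonoidAlgebra.liftNCAlgHom (AlgHom.id k B) (1 : Multiplicative ℤ →* B) fun _ _ => Commute.all _ _
  have hev : ev.comp (AddMonoidAlgebra.singleZeroAlgHom (R := k) (M := ℤ)) = AlgHom.id k B :=
    AlgHom.ext fun b => by simp [ev, AddMonoidAlgebra.liftNC_single]
  have hT : Units.map (ev : AddMonoidAlgebra B ℤ →* B) (varT B) = 1 :=
    Units.ext (by simp [ev, varT, AddMonoidAlgebra.liftNC_single])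
  have hs : ∀ v : Bˣ, Units.map (ev : AddMonoidAlgebra B ℤ →* B)
      (Units.map (AddMonoidAlgebra.singleZeroAlgHom (R := k) (A := B) (M := ℤ) : B →* AddMonoidAlgebra B ℤ) v) = v :=
    fun v => Units.ext (by simp [ev, AddMonoidAlgebra.liftNC_single])
  have h := congrArg ev he
  rw [← AlgHom.comp_apply, ← AlgHom.comp_apply, ← evalPt_ptMap, ← evalPt_ptMap, ptMap_conjPt,
    ptMap_conjPt, map_mul, map_mul, hT, hs, hs, _root_.mul_one, _root_.mul_one] at h
  have hx : VecGrp.ptMap ev ≫ VecGrp.ptMap (AddMonoidAlgebra.singleZeroAlgHom (R := k) (M := ℤ)) ≫ x = x := by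
    apply pt_ext
    rw [evalPt_ptMap, evalPt_ptMap, ← AlgHom.comp_assoc, hev, AlgHom.id_comp]
  rwa [hx, conjPt_one_right] at h

end Groth.Reductive2.TorusWeights
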