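import Groth.Agent.Reductive2.HomTwConst

/-!
A scheme representing the homomorphisms to a commutative group is a group under pointwise multiplication.
-/

set_option autoImplicit false
universe u

open CategoryTheory CategoryTheory.Limits MonoidalCategory CartesianMonoidalCategory MonObj GrpObj AlgebraicGeometry
open Groth.Reductive Groth.Reductive.FreeDiag

noncomputable section

namespace Groth.Reductive2.HomDual

open HomDesc HomSplit

variable {S : Scheme.{u}} {G H : Over S} [GrpObj G] [GrpObj H]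

theorem isHomFamily_mul (hcomm : ∀ (X : Over S) (a b : X ⟶ H), a * b = b * a) {Z : Over S}
    {φ ψ : G ⊗ Z ⟶ H} (hφ : AutFam.IsHomFamily G H φ) (hψ : AutFam.IsHomFamily G H ψ) :
    AutFam.IsHomFamily G H (φ * ψ) := fun W g g' t => by
  simp only [MonObj.comp_mul]
  rw [hφ, hψ, _root_.mul_assoc, _root_.mul_assoc, ← _root_.mul_assoc (lift g' t ≫ φ),
    hcomm W (lift g' t ≫ φ) (lift g t ≫ ψ), _root_.mul_assoc]

theorem isHomFamily_one {Z : Over S} : AutFam.IsHomFamily G H (1 : G ⊗ Z ⟶ H) := fun W g g' t => by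
  simp only [MonObj.comp_one, _root_.one_mul]

theorem isHomFamily_inv (hcomm : ∀ (X : Over S) (a b : X ⟶ H), a * b = b * a) {Z : Over S}
    {φ : G ⊗ Z ⟶ H} (hφ : AutFam.IsHomFamily G H φ) : AutFam.IsHomFamily G H φ⁻¹ := fun W g g' t => by
  simp only [GrpObj.comp_inv]
  rw [hφ, _root_.mul_inv_rev]
  exact hcomm _ _ _

/-- The group structure on a representing object of homomorphisms to a commutative group. -/
theorem exists_grpObj (hcomm : ∀ (X : Over S) (a b : X ⟶ H), a * b = b * a) {D : Over S} {ω : G ⊗ D ⟶ H}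
    (hD : AutFam.RepresentsHom G H D ω) :
    ∃ _ : GrpObj D, ∀ (X : Over S) (a b : X ⟶ D),
      (G ◁ (a * b)) ≫ ω = ((G ◁ a) ≫ ω) * ((G ◁ b) ≫ ω) := by
  have hext : ∀ {Z : Over S} {x y : Z ⟶ D}, (G ◁ x) ≫ ω = (G ◁ y) ≫ ω → x = y := fun {Z x y} h =>
    (hD.2 Z _ (isHomFamily_comp hD.1 y)).unique h rfl
  obtain ⟨m, hm, -⟩ := hD.2 (D ⊗ D) (((G ◁ fst D D) ≫ ω) * ((G ◁ snd D D) ≫ ω))
    (isHomFamily_mul hcomm (isHomFamily_comp hD.1 _) (isHomFamily_comp hD.1 _))
  obtain ⟨o, ho, -⟩ := hD.2 (𝟙_ (Over S)) 1 isHomFamily_one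
  obtain ⟨v, hv, -⟩ := hD.2 D ω⁻¹ (isHomFamily_inv hcomm hD.1)
  beta_reduce at hm ho hv
  have hM : ∀ {Z : Over S} (x y : Z ⟶ D),
      (G ◁ (lift x y ≫ m)) ≫ ω = ((G ◁ x) ≫ ω) * ((G ◁ y) ≫ ω) := fun {Z} x y => by
    rw [whiskerLeft_comp_assoc, hm, MonObj.comp_mul, ← whiskerLeft_comp_assoc, ← whiskerLeft_comp_assoc,
      lift_fst, lift_snd]
  have hO : ∀ {Z : Over S} (t : Z ⟶ 𝟙_ (Over S)), (G ◁ (t ≫ o)) ≫ ω = 1 := fun {Z} t => by
    rw [whiskerLeft_comp_assoc, ho, MonObj.comp_one]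
  have e1 : o ▷ D ≫ m = (λ_ D).hom := hext (by
    have h : o ▷ D = lift (fst _ _ ≫ o) (snd _ _) := by ext1 <;> simp
    rw [h, hM, hO, _root_.one_mul, leftUnitor_hom])
  have e2 : D ◁ o ≫ m = (ρ_ D).hom := hext (by
    have h : D ◁ o = lift (fst _ _) (snd _ _ ≫ o) := by ext1 <;> simp
    rw [h, hM, hO, _root_.mul_one, rightUnitor_hom])
  have e3 : m ▷ D ≫ m = (α_ D D D).hom ≫ D ◁ m ≫ m := hext (by
    have hl : m ▷ D = lift (lift (fst _ D ≫ fst D D) (fst _ D ≫ snd D D) ≫ m) (snd _ _) := by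
      ext1
      · rw [whiskerRight_fst, lift_fst, ← comp_lift, lift_fst_snd, Category.comp_id]
      · simp
    have hr : (α_ D D D).hom ≫ D ◁ m =
        lift (fst _ D ≫ fst D D) (lift (fst _ D ≫ snd D D) (snd _ _) ≫ m) := by
      ext1
      · simp
      · rw [Category.assoc, whiskerLeft_snd, lift_snd, ← Category.assoc]
        congr 1
        ext1 <;> simp
    rw [← Category.assoc, hl, hr, hM, hM, hM, hM, _root_.mul_assoc])
  have e4 : lift v (𝟙 D) ≫ m = toUnit D ≫ o := hext (by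
    rw [hM, hO, hv, whiskerLeft_id, Category.id_comp, inv_mul_cancel])
  have e5 : lift (𝟙 D) v ≫ m = toUnit D ≫ o := hext (by
    rw [hM, hO, hv, whiskerLeft_id, Category.id_comp, mul_inv_cancel])
  refine ⟨@GrpObj.mk _ _ _ D ⟨o, m, e1, e2, e3⟩ v e4 e5, fun X a b => ?_⟩
  exact hM a b

omit [GrpObj G] in
theorem ds_mul_comm {M : Type} [AddCommGroup M] (X : Over S) (a b : X ⟶ Red.DS S M) : a * b = b * a :=
  dsVal_ext fun n => by rw [dsVal_mul, dsVal_mul, mul_comm]

omit [GrpObj G] in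
theorem exists_bc_ds {T : Scheme.{u}} (f : T ⟶ S) (M : Type) [AddCommGroup M] :
    ∃ i : Red.DS T M ≅ Red.bc f (Red.DS S M), IsMonHom i.hom := by
  refine exists_grpIso_of_points (fun Z => (dsPtEquiv f M Z).trans (bcPointEquiv f (Red.DS S M) Z).symm)
    fun {Z W} z x => ?_
  apply (bcPointEquiv f (Red.DS S M) W).injective
  simp only [MulEquiv.trans_apply, MulEquiv.apply_symm_apply, bcPointEquiv_comp, dsPtEquiv_comp]

section Split

variable {T : Scheme.{u}} {M N : Type} [AddCommGroup M] [AddCommGroup N]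

theorem constFam_mul (f f' : Multiplicative N →* Multiplicative M) (Y : Over T) :
    constFam (f * f') Y = constFam f Y * constFam f' Y := dsVal_ext fun n => by
  rw [dsVal_mul, constFam, constFam, constFam, dsVal_dsMk, dsVal_dsMk, dsVal_dsMk]
  simp [map_mul]

variable {g : T ⟶ S} (iG : Red.DS T M ≅ Red.bc g G) (iH : Red.DS T N ≅ Red.bc g H) [IsMonHom iH.hom]

include iH in
theorem toT_mul {Z : Over T} (φ ψ : G ⊗ (Over.map g).obj Z ⟶ H) :
    toT iG iH (φ * ψ) = toT iG iH φ * toT iG iH ψ := by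
  rw [← cancel_mono iH.hom, MonObj.mul_comp]
  simp only [toT, Category.assoc, Iso.inv_hom_id, Category.comp_id]
  rw [MonObj.comp_mul, map_mul]

end Split

end Groth.Reductive2.HomDual
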