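import Groth.Agent.Reductive2.HomPieces
import Groth.Agent.Pi1Desc.Saturate

/-!
Representability of the functor of homomorphisms of group schemes: disjoint unions of bases and
descent along covers.
-/

set_option autoImplicit false
universe u

open CategoryTheory CategoryTheory.Limits MonoidalCategory CartesianMonoidalCategory MonObj AlgebraicGeometry

namespace Groth.Reductive2.HomDesc

variable {S : Scheme.{u}} (G H : Over S) [GrpObj G] [GrpObj H]

/-- `A` with the family `υ` represents the functor of homomorphisms on schemes over `T`. -/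
def RepresentsOn {T : Scheme.{u}} (f : T ⟶ S) (A : Over T) (υ : G ⊗ (Over.map f).obj A ⟶ H) : Prop :=
  AutFam.IsHomFamily G H υ ∧ ∀ (Z : Over T) (φ : G ⊗ (Over.map f).obj Z ⟶ H),
    AutFam.IsHomFamily G H φ → ∃! a : Z ⟶ A, (G ◁ (Over.map f).map a) ≫ υ = φ

variable {G H}

theorem isHomFamily_comp {Z Z' : Over S} {φ : G ⊗ Z ⟶ H} (hφ : AutFam.IsHomFamily G H φ) (v : Z' ⟶ Z) :
    AutFam.IsHomFamily G H ((G ◁ v) ≫ φ) := fun W g g' t => by
  simp only [lift_whiskerLeft_assoc]
  exact hφ W g g' (t ≫ v)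

theorem ι_map_apply {κ : Type u} {A T : κ → Scheme.{u}} (a : ∀ i, A i ⟶ T i) (i : κ) (x : A i) :
    Limits.Sigma.map a (Sigma.ι A i x) = Sigma.ι T i (a i x) := by
  rw [← Scheme.Hom.comp_apply, Sigma.ι_map, Scheme.Hom.comp_apply]

theorem eq_of_range_ι {κ : Type u} {T : κ → Scheme.{u}} {i j : κ} {x : T i} {y : T j}
    (h : Sigma.ι T i x = Sigma.ι T j y) : i = j := by
  rw [← sigmaMk_mk, ← sigmaMk_mk] at h
  exact congrArg Sigma.fst ((sigmaMk T).injective h)

/-- A coproduct of representing objects represents over the disjoint union. -/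
theorem exists_representsOn_sigma {κ : Type u} {T : κ → Scheme.{u}} (f : ∀ i, T i ⟶ S)
    (A : ∀ i, Over (T i)) (υ : ∀ i, G ⊗ (Over.map (f i)).obj (A i) ⟶ H)
    (hA : ∀ i, RepresentsOn G H (f i) (A i) (υ i)) :
    ∃ (B : Over (∐ T)) (ω : G ⊗ (Over.map (Sigma.desc f)).obj B ⟶ H),
      RepresentsOn G H (Sigma.desc f) B ω ∧
        ∀ i, ∃ j : (Over.map (f i)).obj (A i) ⟶ (Over.map (Sigma.desc f)).obj B,
          (G ◁ j) ≫ ω = υ i ∧ IsPullback j.left (A i).hom B.hom (Sigma.ι T i) := by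
  let B : Over (∐ T) := Over.mk (Limits.Sigma.map fun i => (A i).hom)
  let b : ∀ i, (A i).left ⟶ B.left := fun i => Sigma.ι (fun i => (A i).left) i
  have hb : ∀ i, b i ≫ B.hom = (A i).hom ≫ Sigma.ι T i := fun i => by
    simp [b, B]
  have hsq : ∀ i, IsPullback (b i) (A i).hom B.hom (Sigma.ι T i) := fun i => by
    refine (IsOpenImmersion.isPullback (A i).hom (b i) (Sigma.ι T i) B.hom (hb i) ?_).flip
    refine TopologicalSpace.Opens.ext (Set.Subset.antisymm ?_ ?_)
    · rintro z hz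
      obtain ⟨⟨k, x⟩, rfl⟩ := (sigmaMk fun i => (A i).left).surjective z
      obtain ⟨y, hy⟩ := hz
      rw [sigmaMk_mk] at hy ⊢
      have hy' : Sigma.ι T k ((A k).hom x) = Sigma.ι T i y := (ι_map_apply (fun i => (A i).hom) k x).symm.trans hy.symm
      obtain rfl := eq_of_range_ι hy'
      exact ⟨x, rfl⟩
    · rintro _ ⟨x, rfl⟩
      exact ⟨(A i).hom x, (ι_map_apply (fun i => (A i).hom) i x).symm⟩
  let j : ∀ i, (Over.map (f i)).obj (A i) ⟶ (Over.map (Sigma.desc f)).obj B := fun i =>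
    Over.homMk (b i) (by
      show b i ≫ B.hom ≫ Sigma.desc f = (A i).hom ≫ f i
      rw [← Category.assoc, hb, Category.assoc, Sigma.ι_desc])
  have hj : IsPieces j := by
    refine ⟨fun i => inferInstanceAs (IsOpenImmersion (Sigma.ι (fun i => (A i).left) i)), ?_, ?_⟩
    · intro i k hik
      refine Set.disjoint_iff_forall_ne.mpr ?_
      rintro _ ⟨x, rfl⟩ _ ⟨y, rfl⟩ e
      exact hik (eq_of_range_ι e)
    · intro z
      obtain ⟨⟨k, x⟩, hz⟩ := (sigmaMk fun i => (A i).left).surjective z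
      exact ⟨k, x, by rw [← hz, sigmaMk_mk]; rfl⟩
  obtain ⟨ω, hω⟩ := (hj.whiskerLeft G).exists_glue υ
  refine ⟨B, ω, ⟨hj.isHomFamily fun i => (hω i).symm ▸ (hA i).1, fun Z φ hφ => ?_⟩, fun i => ⟨j i, hω i, hsq i⟩⟩
  -- pieces of a test object
  let O : κ → Z.left.Opens := fun i => Z.hom ⁻¹ᵁ (Sigma.ι T i).opensRange
  let hom : ∀ i, (O i : Scheme.{u}) ⟶ T i := fun i =>
    IsOpenImmersion.lift (Sigma.ι T i) ((O i).ι ≫ Z.hom) (by rintro _ ⟨x, rfl⟩; exact x.2)
  have hhom : ∀ i, hom i ≫ Sigma.ι T i = (O i).ι ≫ Z.hom := fun i => IsOpenImmersion.lift_fac _ _ _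
  let Zi : ∀ i, Over (T i) := fun i => Over.mk (hom i)
  let k : ∀ i, (Over.map (f i)).obj (Zi i) ⟶ (Over.map (Sigma.desc f)).obj Z := fun i =>
    Over.homMk (O i).ι (by
      show (O i).ι ≫ Z.hom ≫ Sigma.desc f = hom i ≫ f i
      rw [← Category.assoc, ← hhom, Category.assoc, Sigma.ι_desc])
  have hk : IsPieces k := by
    refine ⟨fun i => inferInstanceAs (IsOpenImmersion (O i).ι), fun i i' hii' => ?_, fun z => ?_⟩
    · show Disjoint (Set.range (O i).ι) (Set.range (O i').ι)
      rw [Scheme.Opens.range_ι, Scheme.Opens.range_ι]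
      refine Set.disjoint_left.mpr fun z ⟨x, hx⟩ ⟨y, hy⟩ => hii' (eq_of_range_ι (hx.trans hy.symm))
    · obtain ⟨⟨i, x⟩, hx⟩ := (sigmaMk T).surjective (Z.hom z)
      rw [sigmaMk_mk] at hx
      exact ⟨i, ⟨z, ⟨x, hx⟩⟩, rfl⟩
  choose a ha hauniq using fun i => (hA i).2 (Zi i) ((G ◁ k i) ≫ φ) (isHomFamily_comp hφ (k i))
  obtain ⟨g, hg⟩ := hk.exists_glue (fun i => (Over.map (f i)).map (a i) ≫ j i)
  have hgleft : ∀ i, (O i).ι ≫ g.left = (a i).left ≫ b i := fun i => congrArg CommaMorphism.left (hg i)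
  have hgw : g.left ≫ B.hom = Z.hom := by
    have := hk.isIso_desc
    rw [← cancel_epi (Sigma.desc fun i => (k i).left)]
    refine Sigma.hom_ext _ _ fun i => ?_
    rw [Sigma.ι_desc_assoc, Sigma.ι_desc_assoc]
    show (O i).ι ≫ g.left ≫ B.hom = (O i).ι ≫ Z.hom
    rw [← Category.assoc, hgleft, Category.assoc, hb, ← Category.assoc, Over.w (a i)]
    exact hhom i
  have hmap : ∀ (c : Z ⟶ B) (i : κ) (l : Zi i ⟶ A i), (O i).ι ≫ c.left = l.left ≫ b i →
      (G ◁ k i) ≫ (G ◁ (Over.map (Sigma.desc f)).map c) ≫ ω = (G ◁ (Over.map (f i)).map l) ≫ υ i := by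
    intro c i l hl
    have e : k i ≫ (Over.map (Sigma.desc f)).map c = (Over.map (f i)).map l ≫ j i :=
      Over.OverMorphism.ext hl
    rw [← whiskerLeft_comp_assoc, e, whiskerLeft_comp_assoc, hω]
  refine ⟨Over.homMk g.left hgw, (hk.whiskerLeft G).hom_ext fun i => ?_, fun c hc => ?_⟩
  · rw [hmap _ i (a i) (hgleft i), ha]
  · ext
    show c.left = g.left
    have := hk.isIso_desc
    rw [← cancel_epi (Sigma.desc fun i => (k i).left)]
    refine Sigma.hom_ext _ _ fun i => ?_
    rw [Sigma.ι_desc_assoc, Sigma.ι_desc_assoc]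
    show (O i).ι ≫ c.left = (O i).ι ≫ g.left
    let l : Zi i ⟶ A i := Over.homMk ((hsq i).lift ((O i).ι ≫ c.left) (hom i) (by
      rw [Category.assoc, Over.w c, hhom])) ((hsq i).lift_snd _ _ _)
    have hl : (O i).ι ≫ c.left = l.left ≫ b i := ((hsq i).lift_fst _ _ _).symm
    have : l = a i := hauniq i l (by beta_reduce; rw [← hmap c i l hl, hc])
    rw [hl, this, hgleft]

/-- Effective descent of a representing object, effectivity being required only of the descent data that
relate points with equal families. -/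
theorem exists_representsHom_of_cover' {X : Scheme.{u}} (p : X ⟶ S) [Groth.Pi1Desc.IsCover p]
    {A : Over X} {υ : G ⊗ (Over.map p).obj A ⟶ H} (hA : RepresentsOn G H p A υ)
    (heff : ∀ α : Groth.Pi1Desc.Act A.hom p,
      (∀ {W : Over S} (m m' : W ⟶ (Over.map p).obj A) (e),
        α.act m.left (m'.left ≫ A.hom) e = m'.left → (G ◁ m) ≫ υ = (G ◁ m') ≫ υ) → α.Eff) :
    ∃ (U : Over S) (ω : G ⊗ U ⟶ H) (c : (Over.map p).obj A ⟶ U),
      AutFam.RepresentsHom G H U ω ∧ (G ◁ c) ≫ ω = υ ∧ IsPullback c.left A.hom U.hom p := by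
  let cc : ∀ {T : Scheme.{u}} (v : T ⟶ A.left) (x : T ⟶ X), v ≫ A.hom ≫ p = x ≫ p →
      ((Over.map p).obj (Over.mk x) ⟶ (Over.map p).obj A) := fun v x e => Over.homMk v e
  choose ac hac hacu using fun {T : Scheme.{u}} (v : T ⟶ A.left) (x : T ⟶ X) (e : v ≫ A.hom ≫ p = x ≫ p) =>
    hA.2 (Over.mk x) ((G ◁ cc v x e) ≫ υ) (isHomFamily_comp hA.1 _)
  -- two points with equal families are related
  have key : ∀ {W : Over S} (m m' : W ⟶ (Over.map p).obj A), (G ◁ m) ≫ υ = (G ◁ m') ≫ υ →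
      ∀ e, (ac m.left (m'.left ≫ A.hom) e).left = m'.left := by
    intro W m m' h e
    let τ : (Over.map p).obj (Over.mk (m'.left ≫ A.hom)) ⟶ W := Over.homMk (𝟙 W.left) (by
      show 𝟙 W.left ≫ W.hom = (m'.left ≫ A.hom) ≫ p
      rw [Category.id_comp, ← Over.w m']; simp)
    let a' : Over.mk (m'.left ≫ A.hom) ⟶ A := Over.homMk m'.left rfl
    have h1 : (Over.map p).map a' = τ ≫ m' := Over.OverMorphism.ext (Category.id_comp _).symm
    have h2 : cc m.left (m'.left ≫ A.hom) e = τ ≫ m := Over.OverMorphism.ext (Category.id_comp _).symm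
    rw [← hacu m.left (m'.left ≫ A.hom) e a' (by
      beta_reduce
      rw [h1, h2, whiskerLeft_comp_assoc, whiskerLeft_comp_assoc, h])]
    rfl
  have key' : ∀ {W : Over S} (m m' : W ⟶ (Over.map p).obj A) (e),
      (ac m.left (m'.left ≫ A.hom) e).left = m'.left → (G ◁ m) ≫ υ = (G ◁ m') ≫ υ := by
    intro W m m' e h
    let τ : W ⟶ (Over.map p).obj (Over.mk (m'.left ≫ A.hom)) := Over.homMk (𝟙 W.left) (by
      show 𝟙 W.left ≫ (m'.left ≫ A.hom) ≫ p = W.hom
      rw [Category.id_comp, ← Over.w m']; simp)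
    have h1 : m = τ ≫ cc m.left (m'.left ≫ A.hom) e := Over.OverMorphism.ext (Category.id_comp _).symm
    have h2 : m' = τ ≫ (Over.map p).map (ac m.left (m'.left ≫ A.hom) e) :=
      Over.OverMorphism.ext (by simpa [τ] using h.symm)
    conv_lhs => rw [h1]
    conv_rhs => rw [h2]
    rw [whiskerLeft_comp_assoc, whiskerLeft_comp_assoc, hac]
  let α : Groth.Pi1Desc.Act A.hom p :=
    { act := fun v x e => (ac v x e).left
      act_hom := fun v x e => Over.w (ac v x e)
      act_self := fun v x e hx => by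
        subst hx
        rw [← hacu v _ e (Over.homMk v rfl) (by
          congr 1)]
        rfl
      act_act := fun {T} v x y e e' e'' => by
        let W : Over S := Over.mk (x ≫ p)
        let m : W ⟶ (Over.map p).obj A := Over.homMk v e
        let m₁ : W ⟶ (Over.map p).obj A := Over.homMk (ac v x e).left (by
          show (ac v x e).left ≫ A.hom ≫ p = x ≫ p
          rw [← Category.assoc, Over.w (ac v x e)]; rfl)
        let m₂ : W ⟶ (Over.map p).obj A := Over.homMk (ac v y e').left (by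
          show (ac v y e').left ≫ A.hom ≫ p = x ≫ p
          rw [← Category.assoc, Over.w (ac v y e'), ← e, e']; rfl)
        have congrX : ∀ (x' y' : T ⟶ X) (hxy : x' = y') (u : T ⟶ A.left) (ex : u ≫ A.hom ≫ p = x' ≫ p)
            (ey : u ≫ A.hom ≫ p = y' ≫ p), (ac u x' ex).left = (ac u y' ey).left := by
          rintro x' _ rfl u ex ey; rfl
        have hm₁ : (G ◁ m) ≫ υ = (G ◁ m₁) ≫ υ := by
          have hx : m₁.left ≫ A.hom = x := Over.w (ac v x e)
          refine key' m m₁ (hx.symm ▸ e) ?_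
          exact congrX _ _ hx _ _ _
        have hm₂ : (G ◁ m) ≫ υ = (G ◁ m₂) ≫ υ := by
          have hy : m₂.left ≫ A.hom = y := Over.w (ac v y e')
          refine key' m m₂ (hy.symm ▸ e') ?_
          exact congrX _ _ hy _ _ _
        have hy : m₂.left ≫ A.hom = y := Over.w (ac v y e')
        have := key m₁ m₂ (hm₁.symm.trans hm₂) (hy.symm ▸ e'')
        exact (congrX _ _ hy.symm _ _ _).trans this
      act_comp := fun {T T'} g v x e e' => by
        let τ : Over.mk (g ≫ x) ⟶ Over.mk x := Over.homMk g rfl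
        have h1 : cc (g ≫ v) (g ≫ x) e' = (Over.map p).map τ ≫ cc v x e := Over.OverMorphism.ext rfl
        rw [← hacu (g ≫ v) (g ≫ x) e' (τ ≫ ac v x e) (by
          beta_reduce
          rw [Functor.map_comp, whiskerLeft_comp_assoc, hac, h1, whiskerLeft_comp_assoc])]
        rfl }
  obtain ⟨U₀, π, q, hpb, hcompat⟩ := heff α fun m m' e h => key' m m' e h
  let U : Over S := Over.mk π
  let c : (Over.map p).obj A ⟶ U := Over.homMk q hpb.w
  have hc : IsCov c := Groth.Pi1Desc.IsCover.of_isPullback hpb.flip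
  -- the descended family
  obtain ⟨ω, hω⟩ := (hc.whiskerLeft G).exists_desc υ fun W a b hab => by
    have h1 : a ≫ fst _ _ = b ≫ fst _ _ := by simpa using congr($hab ≫ fst G U)
    have h2 : (a ≫ snd _ _) ≫ c = (b ≫ snd _ _) ≫ c := by simpa using congr($hab ≫ snd G U)
    let m := a ≫ snd G ((Over.map p).obj A)
    let m' := b ≫ snd G ((Over.map p).obj A)
    have h2' : m.left ≫ q = m'.left ≫ q := congrArg CommaMorphism.left h2
    have e : m.left ≫ A.hom ≫ p = (m'.left ≫ A.hom) ≫ p := by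
      rw [Category.assoc, ← hpb.w, reassoc_of% h2']
    have h3 : (G ◁ m) ≫ υ = (G ◁ m') ≫ υ := by
      refine key' m m' e (hpb.hom_ext ?_ (α.act_hom m.left _ e))
      exact (hcompat _ m.left _ e).trans h2'
    have ha : a = lift (a ≫ fst _ _) (𝟙 W) ≫ (G ◁ m) := by ext1 <;> simp [m]
    have hb : b = lift (b ≫ fst _ _) (𝟙 W) ≫ (G ◁ m') := by ext1 <;> simp [m']
    rw [ha, hb, Category.assoc, Category.assoc, h3, h1]
  have hωfam : AutFam.IsHomFamily G H ω := by
    intro W g g' t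
    obtain ⟨W', d, s, hd, hs⟩ := hc.exists_lift t
    apply hd.hom_ext
    have := hA.1 W' (d ≫ g) (d ≫ g') s
    rw [← hω] at this
    simp only [lift_whiskerLeft_assoc, hs] at this
    simpa only [MonObj.comp_mul, comp_lift_assoc] using this
  refine ⟨U, ω, c, ⟨hωfam, fun Z φ hφ => ?_⟩, hω, hpb⟩
  let Z' : Over X := Over.mk (pullback.snd Z.hom p)
  let z : (Over.map p).obj Z' ⟶ Z := Over.homMk (pullback.fst Z.hom p) pullback.condition
  have hz : IsCov z := Groth.Pi1Desc.IsCover.of_isPullback (IsPullback.of_hasPullback Z.hom p).flip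
  obtain ⟨a', ha', hau'⟩ := hA.2 Z' ((G ◁ z) ≫ φ) (isHomFamily_comp hφ z)
  obtain ⟨a, ha⟩ := hz.exists_desc ((Over.map p).map a' ≫ c) fun W w w' hww => by
    let m := w ≫ (Over.map p).map a'
    let m' := w' ≫ (Over.map p).map a'
    have h : (G ◁ m) ≫ υ = (G ◁ m') ≫ υ := by
      simp only [m, m', whiskerLeft_comp_assoc, ha']
      rw [← whiskerLeft_comp_assoc, hww, whiskerLeft_comp_assoc]
    have e : m.left ≫ A.hom ≫ p = (m'.left ≫ A.hom) ≫ p := by
      rw [Category.assoc]; exact (Over.w m).trans (Over.w m').symm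
    have := key m m' h e
    rw [← Category.assoc, ← Category.assoc]
    ext
    show m.left ≫ q = m'.left ≫ q
    rw [← this]
    exact (hcompat _ m.left _ e).symm
  refine ⟨a, (hz.whiskerLeft G).hom_ext ?_, fun b hb => hz.hom_ext ?_⟩
  · rw [← whiskerLeft_comp_assoc, ha, whiskerLeft_comp_assoc, hω, ha']
  · let b' : Z' ⟶ A := Over.homMk (hpb.lift (pullback.fst Z.hom p ≫ b.left) (pullback.snd Z.hom p) (by
      rw [Category.assoc]
      exact (congrArg (pullback.fst Z.hom p ≫ ·) (Over.w b)).trans pullback.condition)) (hpb.lift_snd _ _ _)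
    have hb' : (Over.map p).map b' ≫ c = z ≫ b := Over.OverMorphism.ext (hpb.lift_fst _ _ _)
    have : b' = a' := hau' b' (by
      show (G ◁ (Over.map p).map b') ≫ υ = (G ◁ z) ≫ φ
      rw [← hω, ← whiskerLeft_comp_assoc, hb', whiskerLeft_comp_assoc, hb])
    rw [ha, ← this, hb']

/-- Effective descent of a representing object. -/
theorem exists_representsHom_of_cover {X : Scheme.{u}} (p : X ⟶ S) [Groth.Pi1Desc.IsCover p]
    {A : Over X} {υ : G ⊗ (Over.map p).obj A ⟶ H} (hA : RepresentsOn G H p A υ)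
    (heff : ∀ α : Groth.Pi1Desc.Act A.hom p, α.Eff) :
    ∃ (U : Over S) (ω : G ⊗ U ⟶ H) (c : (Over.map p).obj A ⟶ U),
      AutFam.RepresentsHom G H U ω ∧ (G ◁ c) ≫ ω = υ ∧ IsPullback c.left A.hom U.hom p :=
  exists_representsHom_of_cover' p hA fun α _ => heff α

end Groth.Reductive2.HomDesc
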