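import Groth.Agent.Reductive.FpqcLocal
import Groth.Agent.EtaleBase.FpqcDescent

/-!
Tori are affine over the base.
-/

set_option autoImplicit false
universe u

open CategoryTheory CategoryTheory.Limits AlgebraicGeometry

namespace Groth.Reductive2

/-- A torus is affine over the base. -/
theorem isAffineHom_of_isTorus {S : Scheme.{u}} {T : Over S} [GrpObj T] (hT : Red.IsTorus T) :
    IsAffineHom T.hom := by
  obtain ⟨S', f, hflat, -, hqc, hloc⟩ := hT
  refine Groth.Reductive.of_fpqc_locally @IsAffineHom Groth.EtaleBase.descendsAlong_isAffineHom T.hom f hflat hqc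
    fun s' ↦ ?_
  obtain ⟨U, hU, r, ⟨e⟩⟩ := hloc s'
  refine ⟨U, hU, ?_⟩
  have : IsAffineHom (Red.diag (ULift.{u} ℤ) (Fin r → ℤ)).hom :=
    inferInstanceAs (IsAffineHom (Spec.map _))
  have h1 : IsAffineHom (Red.DS (U : Scheme.{u}) (Fin r → ℤ)).hom :=
    MorphismProperty.pullback_snd _ _ inferInstance
  let e' := (CategoryTheory.Over.forget _).mapIso ((Grp.forget _).mapIso e)
  have hw : pullback.snd T.hom (U.ι ≫ f) = e'.hom ≫ (Red.DS (U : Scheme.{u}) (Fin r → ℤ)).hom :=
    (Over.w e.hom.hom.hom).symm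
  rw [hw]
  exact (MorphismProperty.cancel_left_of_respectsIso @IsAffineHom e'.hom _).mpr h1

end Groth.Reductive2
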