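import Groth.Agent.AlgGrp1.TorusSplit

/-!
Groups of multiplicative type over algebraically closed fields are diagonalisable.
-/

set_option autoImplicit false
set_option linter.style.haveILetI false
universe u

open CategoryTheory MonoidalCategory CartesianMonoidalCategory MonObj AlgebraicGeometry TensorProduct
open Groth.AlgGrp2

noncomputable section

namespace Groth.Reductive2.MTSplit

variable {k : Type u} [Field k]

/-- A group of multiplicative type over a field is split by some field extension. -/
theorem exists_split_field {T : Over (Spec (CommRingCat.of k))} [GrpObj T] (hT : SGA3x.IsMultTypeFT T) :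
    ∃ (M : Type) (_ : AddCommGroup M) (_ : AddGroup.FG M) (L : Type u) (_ : Field L) (_ : Algebra k L),
      Red.IsSplitTorusWith M (Red.bc (str k L) T) := by
  obtain ⟨S', f, -, hsurj, -, hloc⟩ := hT
  obtain ⟨s', -⟩ := hsurj.surj (⟨⊥, Ideal.isPrime_bot⟩ : PrimeSpectrum k)
  obtain ⟨U, hU, M, _, hM, ⟨e⟩⟩ := hloc s'
  let L := S'.residueField s'
  let q := S'.fromSpecResidueField s'
  obtain ⟨c, hc⟩ : ∃ c : CommRingCat.of k ⟶ L, Spec.map c = q ≫ f := ⟨_, Spec.map_preimage _⟩
  letI : Algebra k L := c.hom.toAlgebra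
  have hrange : Set.range q.base ⊆ Set.range U.ι.base := by
    rw [Scheme.Opens.range_ι, Scheme.range_fromSpecResidueField]
    exact Set.singleton_subset_iff.2 hU
  let e' : Red.DS (U : Scheme.{u}) M ≅ Red.bc (U.ι ≫ f) T := (Grp.forget _).mapIso e.symm
  haveI : IsMonHom e'.hom := inferInstanceAs (IsMonHom e.inv.hom.hom)
  obtain ⟨i, hi⟩ := Groth.Reductive.FreeDiag.exists_trivialisation_comp T
    (IsOpenImmersion.lift U.ι q hrange) (U.ι ≫ f) e'
  have heq : IsOpenImmersion.lift U.ι q hrange ≫ U.ι ≫ f = str k L := by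
    rw [IsOpenImmersion.lift_fac_assoc, ← hc]
    rfl
  revert i
  rw [heq]
  intro i hi
  haveI := hi
  exact ⟨M, inferInstance, hM, L, inferInstance, inferInstance, ⟨(Grp.mkIso' i).symm⟩⟩

variable [IsAlgClosed k]

/-- **A group of multiplicative type over an algebraically closed field is the spectrum of a
diagonalisable Hopf algebra.** -/
theorem exists_diag_iso {T : Over (Spec (CommRingCat.of k))} [GrpObj T] (hT : SGA3x.IsMultTypeFT T) :
    ∃ (D : Type u) (_ : CommRing D) (_ : HopfAlgebra k D) (e : CoactBr.sp k D ≅ T),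
      IsMonHom e.hom ∧ SGA3b.IsDiag k D := by
  obtain ⟨M, _, hM, L, _, _, hL⟩ := exists_split_field hT
  haveI : AddGroup.FG M := hM
  haveI : Monoid.FG (Multiplicative M) := Group.fg_iff_monoid_fg.1 (GroupFG.iff_add_fg.2 hM)
  haveI : IsAffine T.left := Groth.TorusPts.isAffine_of_split T L hL
  haveI hd : IsAffine (Red.diag k M).left :=
    inferInstanceAs (IsAffine (Spec (CommRingCat.of (MonoidAlgebra k (Multiplicative M)))))
  haveI : LocallyOfFiniteType (Red.diag k M).hom := by
    show LocallyOfFiniteType (Spec.map _)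
    rw [HasRingHomProperty.Spec_iff (P := @LocallyOfFiniteType)]
    exact RingHom.finiteType_algebraMap.2
      (inferInstance : Algebra.FiniteType k (MonoidAlgebra k (Multiplicative M)))
  haveI : LocallyOfFiniteType T.hom := by
    obtain ⟨A, _, _, j, hj, ⟨eL⟩⟩ := Groth.TorusPts.exists_hopf_split T L hL
    haveI : Algebra.FiniteType L (L ⊗[k] A) :=
      Algebra.FiniteType.equiv (inferInstance : Algebra.FiniteType L (MonoidAlgebra L (Multiplicative M)))
        (eL : L ⊗[k] A ≃ₐ[L] MonoidAlgebra L (Multiplicative M)).symm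
    haveI : Algebra.FiniteType k A := Algebra.FiniteType.of_finiteType_tensorProduct_of_faithfullyFlat L
    haveI : LocallyOfFiniteType (CoactBr.sp k A).hom := by
      show LocallyOfFiniteType (Spec.map _)
      rw [HasRingHomProperty.Spec_iff (P := @LocallyOfFiniteType)]
      exact RingHom.finiteType_algebraMap.2 inferInstance
    have : IsIso j.inv.left := inferInstanceAs (IsIso ((Over.forget _).map j.inv))
    rw [← Over.w j.inv]
    infer_instance
  let w1 : Grp.mk (Red.bc (str k L) (Red.diag k M)) ≅ Grp.mk (Red.diag L M) :=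
    (Grp.mkIso' (diagBC k L M)).symm
  let w2 : Grp.mk (Red.diag L M) ≅ Grp.mk (Red.bc (str k L) T) :=
    Grp.mkIso' (diagIsoOfSplit L M hL)
  obtain ⟨w⟩ := Groth.Reductive2.nonempty_iso_of_bc (Red.diag k M) T (Ω := L) ⟨w1 ≪≫ w2⟩
  exact ⟨MonoidAlgebra k (Multiplicative M), inferInstance, inferInstance, (Grp.forget _).mapIso w,
    inferInstanceAs (IsMonHom w.hom.hom.hom),
    ⟨Multiplicative (ULift.{u} M), inferInstance,
      ⟨MonoidAlgebra.domCongrBialgEquiv k k (AddEquiv.toMultiplicative AddEquiv.ulift).symm⟩⟩⟩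

end Groth.Reductive2.MTSplit
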