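import Groth.Agent.Reductive2.HomComplete
import Groth.Agent.Hensel1.Finite
import Groth.Agent.Hensel1.Local
import Groth.Agent.EtaleBase.Rigidity

/-!
Maps from finite schemes over a henselian local base to étale schemes are the maps of closed fibres.
-/

set_option autoImplicit false
set_option backward.isDefEq.respectTransparency.types false
universe u

open CategoryTheory CategoryTheory.Limits AlgebraicGeometry IsLocalRing

noncomputable section

namespace Groth.Reductive2.HenselLift

variable {A : Type u} [CommRing A]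

theorem henselianLocalRing_of_finite [HenselianLocalRing A] (T : Type u) [CommRing T] [Algebra A T]
    [Module.Finite A T] [IsLocalRing T] : HenselianLocalRing T := by
  have : Algebra.IsIntegral A T := Algebra.IsIntegral.of_finite A T
  have h1 : HenselianRing T ((maximalIdeal A).map (algebraMap A T)) :=
    Groth.Hensel1.henselianRing_of_isIntegral T
  have h2 : maximalIdeal T ≤ ((maximalIdeal A).map (algebraMap A T)).radical := by
    rw [Ideal.radical_eq_sInf]
    refine le_sInf fun P ⟨hP, hPp⟩ => ?_
    have hc : P.comap (algebraMap A T) = maximalIdeal A :=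
      ((IsLocalRing.maximalIdeal.isMaximal A).eq_of_le (Ideal.IsPrime.comap _ (hK := hPp)).ne_top
        (Ideal.map_le_iff_le_comap.mp hP)).symm
    have : P.IsMaximal := Ideal.isMaximal_of_isIntegral_of_isMaximal_comap (R := A) P (by rw [hc]; infer_instance)
    exact (IsLocalRing.eq_maximalIdeal this).ge
  have := Groth.Hensel1.henselianRing_of_le_radical h2
  exact Groth.Hensel1.henselianLocalRing_of_henselianRing

theorem existsUnique_point {E : Scheme.{u}} (π : E ⟶ Spec (CommRingCat.of A)) [Etale π] (T : Type u)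
    [CommRing T] [HenselianLocalRing T] [Algebra A T] (f : Spec (CommRingCat.of (ResidueField T)) ⟶ E)
    (hf : f ≫ π = sp (residue T) ≫ sp (algebraMap A T)) :
    ∃! s : Spec (CommRingCat.of T) ⟶ E, s ≫ π = sp (algebraMap A T) ∧ sp (residue T) ≫ s = f := by
  obtain ⟨(W : E.Opens), hW, hxW, -⟩ := TopologicalSpace.Opens.isBasis_iff_nbhd.mp
    E.isBasis_affineOpens (TopologicalSpace.Opens.mem_top (f.base default))
  let t' := IsOpenImmersion.lift hW.fromSpec f (by
    rintro _ ⟨z, rfl⟩
    rw [hW.range_fromSpec, Subsingleton.elim z default]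
    exact hxW)
  have ht' : t' ≫ hW.fromSpec = f := IsOpenImmersion.lift_fac _ _ _
  obtain ⟨φ, hφ⟩ := Spec.map_surjective (hW.fromSpec ≫ π)
  obtain ⟨σ, hσ⟩ := Spec.map_surjective t'
  have hc : φ ≫ σ = CommRingCat.ofHom ((residue T).comp (algebraMap A T)) := by
    apply Spec.map_injective
    rw [Spec.map_comp, hσ, hφ, ← Category.assoc, ht', hf]
    exact (sp_comp _ _).symm
  have hE : Etale (Spec.map φ) := by rw [hφ]; infer_instance
  rw [HasRingHomProperty.Spec_iff (P := @Etale)] at hE
  letI : Algebra A Γ(E, W) := φ.hom.toAlgebra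
  haveI : Algebra.Etale A Γ(E, W) := hE
  let σ' : Γ(E, W) →ₐ[A] ResidueField T :=
    { σ.hom with commutes' := fun r => congrArg (fun m : CommRingCat.of A ⟶ _ => m.hom r) hc }
  obtain ⟨g, hg, hgu⟩ := Groth.Hensel1.existsUnique_algHom_lift_residue (T := T) σ'
  let g' : Γ(E, W) ⟶ CommRingCat.of T := CommRingCat.ofHom g.toRingHom
  have h1 : φ ≫ g' = CommRingCat.ofHom (algebraMap A T) := by ext r; exact g.commutes r
  have h2 : g' ≫ CommRingCat.ofHom (residue T) = σ := by ext a; exact hg a
  refine ⟨Spec.map g' ≫ hW.fromSpec, ⟨?_, ?_⟩, fun s ⟨hs, hsf⟩ => ?_⟩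
  · rw [Category.assoc, ← hφ, ← Spec.map_comp, h1]
  · rw [← Category.assoc, ← Spec.map_comp, h2, hσ, ht']
  · have hr : Set.range s.base ⊆ Set.range hW.fromSpec.base := by
      rw [hW.range_fromSpec]
      refine range_subset_of_closedPoint s W ?_
      have h := congrArg (fun m : Spec (CommRingCat.of (ResidueField T)) ⟶ E =>
        m.base (closedPoint (ResidueField T))) hsf
      simp only [Scheme.Hom.comp_apply] at h
      rw [sp_closedPoint (residue T)] at h
      rw [h]
      convert hxW using 3
      exact Subsingleton.elim _ _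
    obtain ⟨a, ha⟩ := Spec.map_surjective (IsOpenImmersion.lift hW.fromSpec s hr)
    have ha' : Spec.map a ≫ hW.fromSpec = s := by rw [ha, IsOpenImmersion.lift_fac]
    have ha1 : φ ≫ a = CommRingCat.ofHom (algebraMap A T) := by
      apply Spec.map_injective
      rw [Spec.map_comp, hφ, ← Category.assoc, ha', hs]
    have ha2 : a ≫ CommRingCat.ofHom (residue T) = σ := by
      apply Spec.map_injective
      rw [← cancel_mono hW.fromSpec, Spec.map_comp, Category.assoc, ha', hσ, ht']
      exact hsf
    let a' : Γ(E, W) →ₐ[A] T :=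
      { a.hom with commutes' := fun r => congrArg (fun m : CommRingCat.of A ⟶ _ => m.hom r) ha1 }
    have : a' = g := hgu a' fun b => congrArg (fun m : Γ(E, W) ⟶ _ => m.hom b) ha2
    rw [← ha', show a = g' from CommRingCat.hom_ext (congrArg AlgHom.toRingHom this)]

/-- Morphisms from a finite scheme to an étale scheme over a henselian local base are the morphisms
of the closed fibres. -/
theorem pullback_hom_bijective [HenselianLocalRing A] (E Y : Over (Spec (CommRingCat.of A))) [Etale E.hom]
    [IsFinite Y.hom] :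
    Function.Bijective (fun φ : Y ⟶ E =>
      (Over.pullback (Spec.map (CommRingCat.ofHom (Ideal.Quotient.mk (maximalIdeal A))))).map φ) := by
  set i₀ := Spec.map (CommRingCat.ofHom (Ideal.Quotient.mk (maximalIdeal A))) with hi₀
  haveI : IsClosedImmersion i₀ := IsClosedImmersion.spec_of_surjective _ Ideal.Quotient.mk_surjective
  haveI : IsAffine Y.left := isAffine_of_isAffineHom Y.hom
  let B : Type u := Γ(Y.left, ⊤)
  let e := Y.left.isoSpec
  obtain ⟨ψ, hψ⟩ := Spec.map_surjective (e.inv ≫ Y.hom)
  letI : Algebra A B := ψ.hom.toAlgebra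
  haveI : Module.Finite A B := by
    have : IsFinite (Spec.map ψ) := by rw [hψ]; infer_instance
    exact RingHom.finite_algebraMap.mp ((IsFinite.SpecMap_iff ψ).mp this)
  have hψ' : sp (algebraMap A B) = e.inv ≫ Y.hom := hψ
  obtain ⟨J, _, idem, hidem, hloc⟩ := Groth.Hensel1.exists_completeOrthogonalIdempotents_local A B
  have : ∀ i, HenselianLocalRing (B ⧸ Ideal.span {1 - idem i}) := fun i =>
    haveI := hloc i
    henselianLocalRing_of_finite (A := A) _
  let c := fun i => sp (Ideal.Quotient.mk (Ideal.span {1 - idem i})) ≫ e.inv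
  have hc : ∀ i, c i ≫ Y.hom = sp (algebraMap A (B ⧸ Ideal.span {1 - idem i})) := fun i => by
    rw [Category.assoc, ← hψ', ← sp_comp]

  have hk : ∀ i, ∀ a ∈ maximalIdeal A,
      ((residue (B ⧸ Ideal.span {1 - idem i})).comp (algebraMap A (B ⧸ Ideal.span {1 - idem i}))) a = 0 := by
    intro i a ha
    rw [RingHom.comp_apply, residue_eq_zero_iff]
    have hm : (maximalIdeal (B ⧸ Ideal.span {1 - idem i})).comap (algebraMap A _) = maximalIdeal A :=
      IsLocalRing.eq_maximalIdeal (Ideal.isMaximal_comap_of_isIntegral_of_isMaximal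
        (maximalIdeal (B ⧸ Ideal.span {1 - idem i})))
    exact Ideal.mem_comap.mp (hm ▸ ha)
  let κ := fun i => pullback.lift (f := Y.hom) (g := i₀)
    (sp (residue (B ⧸ Ideal.span {1 - idem i})) ≫ c i) (sp (Ideal.Quotient.lift _ _ (hk i))) (by
      rw [Category.assoc, hc i, hi₀, ← sp_comp]
      show _ = sp (Ideal.Quotient.lift _ _ (hk i)) ≫ sp (Ideal.Quotient.mk (maximalIdeal A))
      rw [← sp_comp]
      congr 1)
  have hκ : ∀ i, κ i ≫ pullback.fst Y.hom i₀ = sp (residue (B ⧸ Ideal.span {1 - idem i})) ≫ c i :=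
    fun i => pullback.lift_fst _ _ _
  have hfst : ∀ φ : Y ⟶ E, ((Over.pullback i₀).map φ).left ≫ pullback.fst E.hom i₀ =
      pullback.fst Y.hom i₀ ≫ φ.left := fun φ => by
    simp [pullback.lift_fst]
  refine ⟨fun φ₁ φ₂ h => ?_, fun f₀ => ?_⟩
  · have h' : pullback.fst Y.hom i₀ ≫ φ₁.left = pullback.fst Y.hom i₀ ≫ φ₂.left := by
      rw [← hfst, ← hfst]
      exact congrArg (fun m : (Over.pullback i₀).obj Y ⟶ (Over.pullback i₀).obj E => m.left ≫ _) h
    refine Over.OverMorphism.ext ((cancel_epi e.inv).mp (hom_ext_idem hidem _ _ fun i => ?_))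
    rw [← Category.assoc, ← Category.assoc]
    show c i ≫ φ₁.left = c i ≫ φ₂.left
    refine (existsUnique_point E.hom (B ⧸ Ideal.span {1 - idem i}) (κ i ≫ pullback.fst _ _ ≫ φ₁.left) ?_).unique
      ⟨?_, (reassoc_of% hκ i) _ |>.symm⟩ ⟨?_, ?_⟩
    · rw [Category.assoc, Category.assoc, Over.w φ₁, reassoc_of% hκ i, hc]
    · rw [Category.assoc, Over.w φ₁, hc]
    · rw [Category.assoc, Over.w φ₂, hc]
    · rw [h', reassoc_of% hκ i]
  · let F := f₀.left ≫ pullback.fst E.hom i₀
    have hF : F ≫ E.hom = pullback.fst Y.hom i₀ ≫ Y.hom := by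
      rw [Category.assoc, pullback.condition, ← Category.assoc, pullback.condition]
      exact congrArg (· ≫ i₀) (Over.w f₀)
    choose s hs hs' using fun i => (existsUnique_point E.hom (B ⧸ Ideal.span {1 - idem i})
      (κ i ≫ F) (by rw [Category.assoc, hF, reassoc_of% hκ i, hc])).exists
    obtain ⟨g, hg⟩ := exists_hom_idem hidem s
    have hgY : (e.hom ≫ g) ≫ E.hom = Y.hom := by
      rw [Category.assoc, ← cancel_epi e.inv, e.inv_hom_id_assoc]
      refine hom_ext_idem hidem _ _ fun i => ?_
      rw [← Category.assoc, hg, hs, ← Category.assoc]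
      exact (hc i).symm
    refine ⟨Over.homMk (e.hom ≫ g) hgY, Over.OverMorphism.ext (pullback.hom_ext ?_ ?_)⟩
    · refine (hfst _).trans ?_
      have hsurj : Surjective (Sigma.desc κ) := ⟨fun y => by
        have := isIso_idemDesc hidem
        let x := (pullback.fst Y.hom i₀ ≫ e.hom).base y
        obtain ⟨w, hw⟩ := (idemDesc idem).surjective x
        obtain ⟨⟨i, q⟩, rfl⟩ := (sigmaMk _).surjective w
        rw [sigmaMk_mk, ← Scheme.Hom.comp_apply, ι_idemDesc] at hw
        have hy : (c i).base q = (pullback.fst Y.hom i₀).base y := by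
          show (sp _ ≫ e.inv).base q = _
          rw [Scheme.Hom.comp_apply, hw, ← Scheme.Hom.comp_apply, Category.assoc, e.hom_inv_id, Category.comp_id]
        have hYy : (sp (algebraMap A (B ⧸ Ideal.span {1 - idem i}))).base q = closedPoint A := by
          rw [← hc i, Scheme.Hom.comp_apply, hy, ← Scheme.Hom.comp_apply, pullback.condition, Scheme.Hom.comp_apply]
          generalize (pullback.snd Y.hom i₀).base y = z
          apply PrimeSpectrum.ext
          refine ((IsLocalRing.maximalIdeal.isMaximal A).eq_of_le (Ideal.IsPrime.comap _).ne_top ?_).symm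
          intro a ha
          show Ideal.Quotient.mk (maximalIdeal A) a ∈ z.asIdeal
          rw [Ideal.Quotient.eq_zero_iff_mem.mpr ha]
          exact zero_mem _
        have hq : q = closedPoint (B ⧸ Ideal.span {1 - idem i}) := by
          have hmax : (q.asIdeal.comap (algebraMap A (B ⧸ Ideal.span {1 - idem i}))).IsMaximal := by
            have : q.asIdeal.comap (algebraMap A _) = maximalIdeal A := congrArg PrimeSpectrum.asIdeal hYy
            rw [this]; exact IsLocalRing.maximalIdeal.isMaximal A
          exact PrimeSpectrum.ext (IsLocalRing.eq_maximalIdeal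
            (Ideal.isMaximal_of_isIntegral_of_isMaximal_comap q.asIdeal hmax))
        refine ⟨(Sigma.ι (fun i => Spec (CommRingCat.of (ResidueField (B ⧸ Ideal.span {1 - idem i})))) i).base (closedPoint _), ?_⟩
        rw [← Scheme.Hom.comp_apply, Sigma.ι_desc]
        apply (pullback.fst Y.hom i₀).isClosedEmbedding.injective
        rw [← Scheme.Hom.comp_apply, hκ, Scheme.Hom.comp_apply, sp_closedPoint, ← hy, hq]⟩
      refine Groth.EtaleBase.eq_of_surjective_agree E.hom _ _ ?_ (Sigma.desc κ) (Sigma.hom_ext _ _ fun i => ?_)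
      · rw [hF, Category.assoc]
        exact congrArg (pullback.fst Y.hom i₀ ≫ ·) hgY
      · rw [Sigma.ι_desc_assoc, Sigma.ι_desc_assoc, reassoc_of% hκ i, ← hs' i]
        show sp _ ≫ (sp _ ≫ e.inv) ≫ e.hom ≫ g = sp _ ≫ s i
        rw [Category.assoc, e.inv_hom_id_assoc, hg]
    · exact (Over.w ((Over.pullback i₀).map _)).trans (Over.w f₀).symm

end Groth.Reductive2.HenselLift
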