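import Groth.Agent.Reductive2.CentralTorsionLift
import Groth.Agent.Reductive2.HenselLift
import Groth.Agent.AlgGrp1.Geom
import Mathlib.AlgebraicGeometry.Morphisms.QuasiFinite
import Mathlib.AlgebraicGeometry.AlgClosed.Basic

/-!
Central homomorphisms from finite étale groups of multiplicative type over a henselian local base lift
uniquely from the closed fibre, and stay central when the fibres are connected.
-/

set_option autoImplicit false
universe u

open CategoryTheory CategoryTheory.Limits MonoidalCategory CartesianMonoidalCategory MonObj AlgebraicGeometry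
open Groth.Reductive Groth.Reductive.FreeDiag

noncomputable section

namespace Groth.Reductive2.CentralHensel

open CentralTorsion

variable {S : Scheme.{u}}

/-- The étale scheme of `n`-torsion points in the étale locus of the power map. -/
theorem exists_torsionScheme (G : Over S) [GrpObj G] (n : ℕ) :
    ∃ (E : Over S) (e : E ⟶ G), Etale E.hom ∧ Mono e ∧ e ^ n = 1 ∧ (∀ z, e.left.base z ∈ etLocus G n) ∧
      ∀ {W : Over S} (w : W ⟶ G), w ^ n = 1 → (∀ z, w.left.base z ∈ etLocus G n) → ∃ l : W ⟶ E, l ≫ e = w := by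
  have := etale_etLocus G n
  let O := etLocus G n
  let P := O.ι ≫ (𝟙 G ^ n).left
  let E : Over S := Over.mk (pullback.snd P η[G].left)
  have hw : (pullback.fst P η[G].left ≫ O.ι) ≫ G.hom = pullback.snd P η[G].left := by
    calc (pullback.fst P η[G].left ≫ O.ι) ≫ G.hom
        = (pullback.fst P η[G].left ≫ P) ≫ G.hom := by simp [P, Category.assoc, Over.w (𝟙 G ^ n)]
      _ = pullback.snd P η[G].left ≫ η[G].left ≫ G.hom := by rw [pullback.condition, Category.assoc]
      _ = pullback.snd P η[G].left := by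
          rw [Over.w η[G]]
          exact Category.comp_id _
  let e : E ⟶ G := Over.homMk (pullback.fst P η[G].left ≫ O.ι) hw
  have hE : Etale E.hom := inferInstanceAs (Etale (pullback.snd P η[G].left))
  have he : e ≫ (𝟙 G ^ n) = 1 := by
    rw [Hom.one_def]
    refine Over.OverMorphism.ext ?_
    show (pullback.fst P η[G].left ≫ O.ι) ≫ (𝟙 G ^ n).left = (toUnit E).left ≫ η[G].left
    rw [Category.assoc]
    exact pullback.condition
  have hm : Mono e := by
    have : Mono η[G].left := by
      have : IsSplitMono η[G].left := IsSplitMono.mk' ⟨G.hom, Over.w η[G]⟩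
      infer_instance
    have : Mono e.left := inferInstanceAs (Mono (pullback.fst P η[G].left ≫ O.ι))
    exact (Over.forget S).mono_of_mono_map this
  rw [MonObj.comp_pow, Category.comp_id] at he
  refine ⟨E, e, hE, hm, he, fun z => (pullback.fst P η[G].left z).2, fun {W} w hwn hwO => ?_⟩
  let l₁ := IsOpenImmersion.lift O.ι w.left (by rw [Scheme.Opens.range_ι]; rintro _ ⟨z, rfl⟩; exact hwO z)
  have hl : l₁ ≫ O.ι = w.left := IsOpenImmersion.lift_fac _ _ _
  have h1 : w ≫ (𝟙 G ^ n) = 1 := by rw [MonObj.comp_pow, Category.comp_id, hwn]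
  have hl' : l₁ ≫ P = W.hom ≫ η[G].left := by
    show l₁ ≫ O.ι ≫ (𝟙 G ^ n).left = W.hom ≫ η[G].left
    rw [reassoc_of% hl, ← Over.comp_left, h1, Hom.one_def]
    rfl
  exact ⟨Over.homMk (pullback.lift l₁ W.hom hl') (pullback.lift_snd _ _ _),
    Over.OverMorphism.ext (show pullback.lift l₁ W.hom hl' ≫ pullback.fst P η[G].left ≫ O.ι = w.left by
      rw [pullback.lift_fst_assoc, hl])⟩

/-- Over an algebraically closed field a torsion point at which the power map is étale is central in a
connected group. -/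
theorem conj_eq_of_mem_etLocus {K : Type u} [Field K] [IsAlgClosed K] (G : Over (Spec (CommRingCat.of K)))
    [GrpObj G] [LocallyOfFiniteType G.hom] [ConnectedSpace G.left] (n : ℕ) (v : 𝟙_ _ ⟶ G) (hv : v ^ n = 1)
    (hO : ∀ z, v.left.base z ∈ etLocus G n) (g : 𝟙_ _ ⟶ G) : g⁻¹ * v * g = v := by
  have : IsSeparated G.hom := Groth.AlgGrp1.isSeparated_grpObj G
  let z0 : (𝟙_ (Over (Spec (CommRingCat.of K)))).left := IsLocalRing.closedPoint K
  let x0 := v.left.base z0
  let θ : G ⟶ G := (𝟙 G)⁻¹ * (toUnit G ≫ v) * 𝟙 G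
  have hθ : θ ^ n = 1 := by
    have h1 : (toUnit G ≫ v) ^ n = 1 := by rw [← MonObj.comp_pow, hv, MonObj.comp_one]
    have h2 := conj_pow (i := n) (a := (𝟙 G)⁻¹) (b := toUnit G ≫ v)
    rw [inv_inv, h1, _root_.mul_one, inv_mul_cancel] at h2
    exact h2
  have hgθ : ∀ a : 𝟙_ _ ⟶ G, a ≫ θ = a⁻¹ * v * a := fun a => by
    simp only [θ, MonObj.comp_mul, GrpObj.comp_inv, Category.comp_id]
    rw [← Category.assoc, toUnit_unique (a ≫ toUnit G) (𝟙 _), Category.id_comp]
  let C : Set G.left := θ.left.base ⁻¹' {x0}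
  have hx0 : IsClosed ({x0} : Set G.left) := by
    have : IsClosedImmersion (v.left ≫ G.hom) := by
      rw [Over.w v]
      exact inferInstanceAs (IsClosedImmersion (𝟙 (Spec (CommRingCat.of K))))
    have : IsClosedImmersion v.left := IsClosedImmersion.of_comp v.left G.hom
    have h : Set.range v.left.base = {x0} := by
      ext x
      constructor
      · rintro ⟨z, rfl⟩
        exact congrArg v.left.base (Subsingleton.elim (α := PrimeSpectrum K) z z0)
      · rintro rfl
        exact ⟨z0, rfl⟩
    exact h ▸ v.left.isClosedEmbedding.isClosed_range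
  have hC : IsClopen C := by
    refine ⟨hx0.preimage θ.left.continuous, ?_⟩
    obtain ⟨E, e, hE, -, -, -, hfac⟩ := exists_torsionScheme G n
    let O' : G.left.Opens := θ.left ⁻¹ᵁ etLocus G n
    let ι' : Over.mk (O'.ι ≫ G.hom) ⟶ G := Over.homMk O'.ι rfl
    obtain ⟨l, hl⟩ := hfac (ι' ≫ θ) (by rw [← MonObj.comp_pow, hθ, MonObj.comp_one]) fun z => z.2
    have : IsLocallyArtinian E.left := .of_locallyQuasiFinite E.hom
    have heq : C = O'.ι.base '' (l.left.base ⁻¹' (e.left.base ⁻¹' {x0})) := by
      ext x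
      constructor
      · intro hx
        refine ⟨⟨x, ?_⟩, ?_, rfl⟩
        · show θ.left.base x ∈ etLocus G n
          exact (show θ.left.base x = x0 from hx) ▸ hO z0
        · show e.left (l.left ⟨x, _⟩) = x0
          rw [← Scheme.Hom.comp_apply, ← Over.comp_left, hl]
          exact hx
      · rintro ⟨z, hz, rfl⟩
        show θ.left (O'.ι z) = x0
        rw [← hz, ← Scheme.Hom.comp_apply]
        exact (congrArg (fun φ : Over.mk (O'.ι ≫ G.hom) ⟶ G => φ.left.base z) hl).symm
    rw [heq]
    exact O'.ι.isOpenEmbedding.isOpenMap _ ((isOpen_discrete _).preimage l.left.continuous)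
  have hne : C.Nonempty := ⟨(η[G]).left.base z0, by
    show θ.left (η[G].left z0) = x0
    rw [← Scheme.Hom.comp_apply, ← Over.comp_left, hgθ, MonObj.one_eq_one, inv_one, _root_.one_mul,
      _root_.mul_one]⟩
  have hg : g.left.base z0 ∈ C := (hC.eq_univ hne).ge (Set.mem_univ _)
  rw [← hgθ]
  refine Over.OverMorphism.ext (ext_of_apply_closedPoint_eq G.hom ?_ ?_ ?_)
  · exact Over.w _
  · exact Over.w _
  · exact hg

/-- A group with connected fibres is geometrically connected over the base. -/
theorem geometricallyConnected_of_fibres (G : Over S) [GrpObj G] [LocallyOfFiniteType G.hom]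
    (hconn : ∀ s : S, _root_.IsConnected (G.hom.base ⁻¹' {s})) : GeometricallyConnected G.hom := by
  refine (GeometricallyConnected.iff_geometricallyConnected_fiber G.hom).mpr fun s => ?_
  have : ConnectedSpace (G.hom.fiber s) :=
    (G.hom.fiberHomeo s).connectedSpace_iff.mpr (isConnected_iff_connectedSpace.mp (hconn s))
  have : LocallyOfFiniteType (G.hom.fiberToSpecResidueField s) :=
    inferInstanceAs (LocallyOfFiniteType (pullback.snd G.hom (S.fromSpecResidueField s)))
  exact Groth.AlgGrp1.geometricallyConnected_of_point (k := S.residueField s) _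
    (pullback.lift (S.fromSpecResidueField s ≫ η[G].left) (𝟙 _) (by
      rw [Category.assoc, Over.w η[G]]
      exact (Category.comp_id _).trans (Category.id_comp _).symm)) (pullback.lift_snd _ _ _)

/-- A torsion point with values in an algebraically closed field at which the power map is étale
commutes with all points when the fibres are connected. -/
theorem conj_eq_of_geomPt (G : Over S) [GrpObj G] [LocallyOfFiniteType G.hom]
    (hconn : ∀ s : S, _root_.IsConnected (G.hom.base ⁻¹' {s})) {K : Type u} [Field K] [IsAlgClosed K]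
    {p : Spec (CommRingCat.of K) ⟶ S} (n : ℕ) (v g : Over.mk p ⟶ G) (hv : v ^ n = 1)
    (hO : ∀ z, v.left.base z ∈ etLocus G n) : g⁻¹ * v * g = v := by
  let GK := Red.bc p G
  let c : (Over.map p).obj (𝟙_ (Over (Spec (CommRingCat.of K)))) ⟶ Over.mk p := Over.homMk (𝟙 _) rfl
  let c' : Over.mk p ⟶ (Over.map p).obj (𝟙_ (Over (Spec (CommRingCat.of K)))) :=
    Over.homMk (𝟙 _) (Category.id_comp _)
  have hcc : c' ≫ c = 𝟙 _ := Over.OverMorphism.ext (Category.id_comp _)
  let pt := bcPointEquiv p G (𝟙_ (Over (Spec (CommRingCat.of K))))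
  have hGc : GeometricallyConnected GK.hom := by
    have := geometricallyConnected_of_fibres G hconn
    exact inferInstanceAs (GeometricallyConnected (pullback.snd G.hom p))
  have : ConnectedSpace GK.left := GeometricallyConnected.connectedSpace_of_subsingleton (f := GK.hom)
  have : LocallyOfFiniteType GK.hom := inferInstanceAs (LocallyOfFiniteType (pullback.snd G.hom p))
  let vK := pt.symm (c ≫ v)
  let gK := pt.symm (c ≫ g)
  have hfst : vK.left ≫ pullback.fst G.hom p = v.left := by
    have h := congrArg CommaMorphism.left (MulEquiv.apply_symm_apply pt (c ≫ v))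
    simp only [pt, bcPointEquiv, MulEquiv.coe_mk, Adjunction.homEquiv_counit] at h
    simpa [Over.mapPullbackAdj_counit_app, c, vK, pt, bcPointEquiv] using h
  have hvK : vK ^ n = 1 := by
    rw [← map_pow, ← MonObj.comp_pow, hv, MonObj.comp_one, map_one]
  have hOK : ∀ z, vK.left.base z ∈ etLocus GK n := fun z => by
    have hQ : IsPullback (pullback.fst G.hom p) ((Over.pullback p).map (𝟙 G ^ n)).left (𝟙 G ^ n).left
        (pullback.fst G.hom p) := isPullback_map_left (𝟙 G ^ n) p
    let U := etLocus G n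
    have h1 := (isPullback_morphismRestrict (pullback.fst G.hom p) U).paste_vert hQ.flip.flip
    have he : Etale ((pullback.fst G.hom p ⁻¹ᵁ U).ι ≫ (𝟙 GK ^ n).left) := by
      rw [← map_pow_id p G n]
      exact MorphismProperty.of_isPullback (P := @Etale) h1 (etale_etLocus G n)
    refine le_etLocus he ?_
    show pullback.fst G.hom p (vK.left z) ∈ etLocus G n
    rw [← Scheme.Hom.comp_apply, hfst]
    exact hO _
  have h := congrArg pt (conj_eq_of_mem_etLocus GK n vK hvK hOK gK)
  simp only [map_mul, map_inv, vK, gK, MulEquiv.apply_symm_apply] at h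
  have h' := c' ≫= h
  simpa [MonObj.comp_mul, GrpObj.comp_inv, reassoc_of% hcc] using h'

section Henselian

variable {A : Type u} [CommRing A] [HenselianLocalRing A]
  {G M : Over (Spec (CommRingCat.of A))} [GrpObj G] [GrpObj M]

/-- The closed point of the base. -/
abbrev cl (A : Type u) [CommRing A] [IsLocalRing A] :=
  Spec.map (CommRingCat.ofHom (Ideal.Quotient.mk (IsLocalRing.maximalIdeal A)))

omit [GrpObj G] [GrpObj M] in
/-- An open containing the closed fibre of a finite scheme is everything. -/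
theorem mem_of_closedFibre {Y : Over (Spec (CommRingCat.of A))} [IsFinite Y.hom] (U : Y.left.Opens)
    (hU : ∀ z : (Red.bc (cl A) Y).left, (pullback.fst Y.hom (cl A)).base z ∈ U) (y : Y.left) : y ∈ U := by
  have hcl := Y.hom.isClosedMap _ (isClosed_closure (s := {y}))
  have hy : Y.hom.base y ∈ Y.hom.base '' closure {y} := ⟨y, subset_closure rfl, rfl⟩
  obtain ⟨x, hx, hxs⟩ := (IsLocalRing.specializes_closedPoint (R := A) (Y.hom.base y)).mem_closed hcl hy
  have : Nontrivial (A ⧸ IsLocalRing.maximalIdeal A) :=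
    Ideal.Quotient.nontrivial_iff.mpr (IsLocalRing.maximalIdeal.isMaximal A).ne_top
  have : IsLocalHom (Ideal.Quotient.mk (IsLocalRing.maximalIdeal A)) :=
    IsLocalHom.of_surjective _ Ideal.Quotient.mk_surjective
  obtain ⟨z, hz⟩ : x ∈ Set.range (pullback.fst Y.hom (cl A)).base := by
    rw [Scheme.Pullback.range_fst]
    refine ⟨IsLocalRing.closedPoint (A ⧸ IsLocalRing.maximalIdeal A), ?_⟩
    rw [hxs]
    exact sp_closedPoint (Ideal.Quotient.mk (IsLocalRing.maximalIdeal A))
  exact (specializes_iff_mem_closure.mpr hx).mem_open U.2 (hz ▸ hU z)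

omit [GrpObj G] [GrpObj M] in
theorem qPt_map_left {Y : Over (Spec (CommRingCat.of A))} (a : Y ⟶ G) :
    pullback.fst Y.hom (cl A) ≫ a.left = (qPt (cl A) ((Over.pullback (cl A)).map a)).left := by
  rw [qPt, Adjunction.homEquiv_counit]
  simp [Over.mapPullbackAdj_counit_app, pullback.lift_fst]

variable (u₀ : Red.bc (cl A) M ⟶ Red.bc (cl A) G) [IsMonHom u₀] {n : ℕ}
  (hO : ∀ z, (qPt (cl A) u₀).left.base z ∈ etLocus G n)

include hO in
omit [IsMonHom u₀] in
theorem qPt_mem {Y : Over (Spec (CommRingCat.of A))} (x : Y ⟶ M) (z : (Red.bc (cl A) Y).left) :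
    (qPt (cl A) ((Over.pullback (cl A)).map x ≫ u₀)).left.base z ∈ etLocus G n := by
  rw [qPt, Adjunction.homEquiv_naturality_left_symm, Over.comp_left, Scheme.Hom.comp_apply]
  exact hO _

include hO in
omit [IsMonHom u₀] in
/-- Torsion points through the étale locus over a finite scheme are determined by the closed fibre. -/
theorem ext_torsion {Y : Over (Spec (CommRingCat.of A))} [IsFinite Y.hom] (x : Y ⟶ M) {a b : Y ⟶ G}
    (ha : a ^ n = 1) (ha' : (Over.pullback (cl A)).map a = (Over.pullback (cl A)).map x ≫ u₀) (hb : b ^ n = 1)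
    (hb' : (Over.pullback (cl A)).map b = (Over.pullback (cl A)).map x ≫ u₀) : a = b := by
  obtain ⟨E, e, hE, he, -, -, hfac⟩ := exists_torsionScheme G n
  have hmem : ∀ a : Y ⟶ G, (Over.pullback (cl A)).map a = (Over.pullback (cl A)).map x ≫ u₀ →
      ∀ y, a.left.base y ∈ etLocus G n := fun a h y =>
    mem_of_closedFibre (a.left ⁻¹ᵁ etLocus G n) (fun z => by
      show a.left (pullback.fst Y.hom (cl A) z) ∈ etLocus G n
      rw [← Scheme.Hom.comp_apply, qPt_map_left, h]
      exact qPt_mem u₀ hO x z) y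
  obtain ⟨la, rfl⟩ := hfac a ha (hmem a ha')
  obtain ⟨lb, rfl⟩ := hfac b hb (hmem b hb')
  congr 1
  refine (HenselLift.pullback_hom_bijective E Y).1 ((cancel_mono ((Over.pullback (cl A)).map e)).mp ?_)
  rw [← Functor.map_comp, ← Functor.map_comp, ha', hb']

include hO in
/-- The lift of a central homomorphism. -/
theorem existsUnique_hom [IsFinite M.hom] (hn : (𝟙 M) ^ n = 1)
    (hc₀ : ∀ (X : Over _) (x : X ⟶ Red.bc (cl A) M) (g : X ⟶ Red.bc (cl A) G), (x ≫ u₀) * g = g * (x ≫ u₀)) :
    ∃ u : M ⟶ G, IsMonHom u ∧ (Over.pullback (cl A)).map u = u₀ ∧ u ^ n = 1 ∧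
      (∀ z, u.left.base z ∈ etLocus G n) ∧
      ∀ u' : M ⟶ G, IsMonHom u' → (Over.pullback (cl A)).map u' = u₀ → u' = u := by
  obtain ⟨E, e, hE, he, hen, heO, hfac⟩ := exists_torsionScheme G n
  have hu0n : u₀ ^ n = 1 := by
    rw [← Category.id_comp u₀, ← MonObj.pow_comp, ← CategoryTheory.Functor.map_id, ← map_pow', hn, map_one',
      MonObj.one_comp]
  obtain ⟨ψ', hψ'⟩ := hfac (qPt (cl A) u₀) ((map_pow (bcPointEquiv (cl A) G _) u₀ n).symm.trans
    ((congrArg _ hu0n).trans (map_one _))) hO
  obtain ⟨ψ, rfl⟩ := ((Over.mapPullbackAdj (cl A)).homEquiv (Red.bc (cl A) M) E).symm.surjective ψ'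
  obtain ⟨φ, hφ : (Over.pullback (cl A)).map φ = ψ⟩ := (HenselLift.pullback_hom_bijective E M).2 ψ
  let u := φ ≫ e
  have hmap : (Over.pullback (cl A)).map u = u₀ := by
    apply qPt_injective (cl A)
    rw [Functor.map_comp, hφ, qPt_map]
    exact hψ'
  have hun : u ^ n = 1 := by rw [← MonObj.comp_pow, hen, MonObj.comp_one]
  have hmap' : ∀ {W : Over (Spec (CommRingCat.of A))} (x : W ⟶ M),
      (Over.pullback (cl A)).map (x ≫ u) = (Over.pullback (cl A)).map x ≫ u₀ :=
    fun x => by rw [Functor.map_comp, hmap]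
  have hxun : ∀ {W : Over (Spec (CommRingCat.of A))} (x : W ⟶ M), (x ≫ u) ^ n = 1 :=
    fun x => by rw [← MonObj.comp_pow, hun, MonObj.comp_one]
  refine ⟨u, ?_, hmap, hun, fun z => heO _, fun u' hu' hu'map => ?_⟩
  · haveI : IsFinite (M ⊗ M).hom := inferInstanceAs (IsFinite (pullback.fst M.hom M.hom ≫ M.hom))
    let a := fst M M ≫ u
    let b := snd M M ≫ u
    have hcomm : b⁻¹ * a * b = a := by
      refine ext_torsion u₀ hO (fst M M) ?_ ?_ (hxun _) (hmap' _)
      · have h := conj_pow (i := n) (a := b⁻¹) (b := a)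
        rw [inv_inv, hxun, _root_.mul_one, inv_mul_cancel] at h
        exact h
      · rw [map_mul', map_mul', map_inv', hmap', hmap', _root_.mul_assoc, hc₀, inv_mul_cancel_left]
    have hcomm' : Commute a b := by
      show a * b = b * a
      conv_rhs => rw [← hcomm]
      group
    have huniv : (fst M M * snd M M) ≫ u = a * b := by
      refine ext_torsion u₀ hO (fst M M * snd M M) (hxun _) (hmap' _) ?_ ?_
      · rw [hcomm'.mul_pow, hxun, hxun, _root_.one_mul]
      · rw [map_mul', map_mul', hmap', hmap', MonObj.mul_comp]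
    refine Groth.AlgGrp1.isMonHom_of_points _ fun Z x y => ?_
    have h := lift x y ≫= huniv
    have hxy : lift x y ≫ (fst M M * snd M M) = x * y := by rw [MonObj.comp_mul, lift_fst, lift_snd]
    rw [← Category.assoc, hxy, MonObj.comp_mul, lift_fst_assoc, lift_snd_assoc] at h
    exact h
  · haveI := hu'
    rw [← Category.id_comp u', ← Category.id_comp u]
    refine ext_torsion u₀ hO (𝟙 M) ?_ ?_ (hxun _) (hmap' _)
    · rw [Category.id_comp, ← Category.id_comp u', ← MonObj.pow_comp, hn, MonObj.one_comp]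
    · rw [Category.id_comp, CategoryTheory.Functor.map_id, Category.id_comp, hu'map]

end Henselian

/-- Centrality from geometric points. -/
theorem central_of_connected (G M : Over S) [GrpObj G] [LocallyOfFiniteType G.hom]
    (hconn : ∀ s : S, _root_.IsConnected (G.hom.base ⁻¹' {s})) (u : M ⟶ G) {n : ℕ} (hun : u ^ n = 1)
    (hO : ∀ z, u.left.base z ∈ etLocus G n) (X : Over S) (x : X ⟶ M) (g : X ⟶ G) :
    (x ≫ u) * g = g * (x ≫ u) := by
  suffices h : g⁻¹ * (x ≫ u) * g = x ≫ u by
    conv_rhs => rw [← h]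
    group
  obtain ⟨E, e, hE, he, -, -, hfac⟩ := exists_torsionScheme G n
  set a := g⁻¹ * (x ≫ u) * g
  have hxn : (x ≫ u) ^ n = 1 := by rw [← MonObj.comp_pow, hun, MonObj.comp_one]
  have han : a ^ n = 1 := by
    have h := conj_pow (i := n) (a := g⁻¹) (b := x ≫ u)
    rw [inv_inv, hxn, _root_.mul_one, inv_mul_cancel] at h
    exact h
  let K := fun y : X.left => AlgebraicClosure (X.left.residueField y)
  let q := fun y : X.left => Spec.map (CommRingCat.ofHom (algebraMap (X.left.residueField y) (K y))) ≫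
    X.left.fromSpecResidueField y
  have hq : ∀ y : X.left, (q y).base (IsLocalRing.closedPoint (K y)) = y := fun y => by
    rw [Scheme.Hom.comp_apply]
    exact Scheme.fromSpecResidueField_apply _ _
  have key : ∀ y, q y ≫ a.left = q y ≫ (x ≫ u).left := fun y => by
    let qy : Over.mk (q y ≫ X.hom) ⟶ X := Over.homMk (q y) rfl
    have h := conj_eq_of_geomPt G hconn n (qy ≫ x ≫ u) (qy ≫ g)
      (by rw [← MonObj.comp_pow, hxn, MonObj.comp_one]) (fun z => hO _)
    rw [← GrpObj.comp_inv, ← MonObj.comp_mul, ← MonObj.comp_mul] at h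
    exact congrArg CommaMorphism.left h
  have haO : ∀ y, a.left.base y ∈ etLocus G n := fun y => by
    rw [← hq y, ← Scheme.Hom.comp_apply, key, Scheme.Hom.comp_apply]
    exact hO _
  obtain ⟨la, hla⟩ := hfac a han haO
  obtain ⟨lx, hlx⟩ := hfac (x ≫ u) hxn (fun z => hO _)
  rw [← hla, ← hlx]
  congr 1
  have : Mono e.left := inferInstanceAs (Mono ((Over.forget S).map e))
  have hs : Surjective (Sigma.desc q) := ⟨fun y => ⟨(Sigma.ι (fun y => Spec (CommRingCat.of (K y))) y).base (IsLocalRing.closedPoint (K y)), by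
    rw [← Scheme.Hom.comp_apply, Sigma.ι_desc, hq]⟩⟩
  refine Over.OverMorphism.ext (Groth.EtaleBase.eq_of_surjective_agree E.hom _ _
    ((Over.w la).trans (Over.w lx).symm) (Sigma.desc q) (Sigma.hom_ext _ _ fun y => ?_))
  rw [Sigma.ι_desc_assoc, Sigma.ι_desc_assoc, ← cancel_mono e.left]
  exact ((Category.assoc _ _ _).trans ((congrArg (fun φ : X ⟶ G => q y ≫ φ.left) hla).trans (key y))).trans
    ((congrArg (fun φ : X ⟶ G => q y ≫ φ.left) hlx).symm.trans (Category.assoc _ _ _).symm)

end Groth.Reductive2.CentralHensel
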