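import Groth.Agent.AlgGrp1.CartanField
import Groth.Agent.Misc1.Unip.MultType
import Groth.Agent.S7966

/-!
Diagonalisable subgroups of a connected solvable group with a central maximal torus lie in that torus.
-/

set_option autoImplicit false
set_option linter.style.haveILetI false
universe u

open CategoryTheory MonoidalCategory CartesianMonoidalCategory MonObj GrpObj AlgebraicGeometry
open Groth.AlgGrp1 TensorProduct WithConv Groth.Sga3.UnipotentExt Groth.Sga3.SectionConj

noncomputable section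

namespace Groth.Reductive2.DiagTorus

variable {k : Type u} [Field k] [IsAlgClosed k]

/-- A nilpotent group on points is solvable on points. -/
theorem isSolvableGrp_of_nilpotent {G : Over (Spec (CommRingCat.of k))} [GrpObj G]
    (h : AGF.IsNilpotentGrp G) : Red.IsSolvableGrp G := by
  obtain ⟨n, hn⟩ := h
  refine ⟨n, fun X => ?_⟩
  refine le_bot_iff.1 ((Subgroup.derived_le_lower_central (G := X ⟶ G) n).trans_eq ?_)
  rw [Subgroup.lowerCentralSeries_eq_bot_iff_upperCentralSeries_eq_top]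
  exact hn X

/-- A bialgebra map from a unipotent group algebra to a diagonalisable one is trivial. -/
theorem trivial_of_isDiag {U D : Type u} [CommRing U] [HopfAlgebra k U] [Algebra.FiniteType k U]
    (hU : HopfRep.IsUnipotent k U) [CommRing D] [HopfAlgebra k D] (hD : SGA3b.IsDiag k D)
    (φ : U →ₐc[k] D) (a : U) : φ a = algebraMap k D (Coalgebra.counit (R := k) a) := by
  obtain ⟨M, _, ⟨e⟩⟩ := hD
  have hdiag : HopfRep.IsDiagonalizable k D := by
    refine eq_top_iff.2 fun d _ => ?_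
    obtain ⟨x, rfl⟩ : ∃ x, (e.symm : MonoidAlgebra k M →ₐc[k] D) x = d := e.symm.surjective d
    induction x using MonoidAlgebra.induction_linear with
    | zero => rw [map_zero]; exact zero_mem _
    | add p q hp hq => rw [map_add]; exact add_mem (hp trivial) (hq trivial)
    | single m r =>
      rw [show MonoidAlgebra.single m r = r • MonoidAlgebra.single m (1 : k) by simp, map_smul]
      exact Submodule.smul_mem _ _ (Submodule.subset_span
        ((MonoidAlgebra.isGroupLikeElem_single_one m).map (e.symm : MonoidAlgebra k M →ₐc[k] D)))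
  have := Groth.Misc1.Unip.hom_trivial (fun a => Groth.ComodLib.exists_mem_fixSeries hU a)
    (Groth.Misc1.Unip.primDefect_injective_of_span hdiag)
    (φ.comp ((Bialgebra.TensorProduct.lid k U : k ⊗[k] U →ₐc[k] U))) (1 ⊗ₜ[k] a)
  simpa using this

/-- In a connected solvable group with a central maximal torus, every homomorphism from a diagonalisable
group factors through that torus. -/
theorem exists_factor {B T : Over (Spec (CommRingCat.of k))} [GrpObj B] [GrpObj T] [IsAffine B.left]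
    [Smooth B.hom] [ConnectedSpace B.left] (hs : Red.IsSolvableGrp B) (t : T ⟶ B) (hT : AGF.IsMaxTorus t)
    (hcen : ∀ (X : Over (Spec (CommRingCat.of k))) (s : X ⟶ T) (g : X ⟶ B), g * (s ≫ t) = (s ≫ t) * g)
    {C : Type u} [CommRing C] [HopfAlgebra k C] (hC : SGA3b.IsDiag k C) (j : CoactBr.sp k C ⟶ B)
    [IsMonHom j] : ∃ q : CoactBr.sp k C ⟶ T, q ≫ t = j := by
  obtain ⟨A, _, _, _, e, he⟩ := exists_hopf_iso B
  obtain ⟨hdom, htri⟩ := isTrigonalizable_of_iso hs e
  haveI := hdom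
  obtain ⟨r, ψ, ρ, J, hJh, hρ, hJ, hU⟩ := exists_split_extension (k := k) A htri
  haveI := hJh
  let N := MonoidAlgebra k (Multiplicative (Fin r → ℤ))
  haveI := isMonHom_pt_bialg ρ
  let iS : CoactBr.sp k N ⟶ B := CoactBr.pt (ρ : A →ₐ[k] N) ≫ e.hom
  -- every homomorphism from a diagonalisable group is conjugate into the split torus
  have habs : ∀ {D : Type u} [CommRing D] [HopfAlgebra k D] [_root_.IsReduced D] [Algebra.FiniteType k D],
      SGA3b.IsDiag k D →
      ∀ (l : CoactBr.sp k D ⟶ B) [IsMonHom l], ∃ (b : 𝟙_ (Over (Spec (CommRingCat.of k))) ⟶ B)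
        (q : CoactBr.sp k D ⟶ CoactBr.sp k N),
        l = (toUnit _ ≫ b) * (q ≫ iS) * (toUnit _ ≫ b)⁻¹ := by
    intro D _ _ _ _ hD l _
    obtain ⟨φ, hφ⟩ := exists_bialgHom_of_isMonHom (l ≫ e.inv)
    let φ₀ : A →ₐc[k] D := (φ.comp ψ).comp ρ
    have hφ₀ : φ₀.comp ψ = φ.comp ψ := BialgHom.ext fun x => by
      change φ (ψ (ρ (ψ x))) = φ (ψ x)
      rw [show ρ (ψ x) = x from DFunLike.congr_fun hρ x]
    obtain ⟨v, -, hv⟩ := Groth.AlgGrp1.LiftConj.exists_conj_lift hD ψ J hJ hU (φ.comp ψ) φ φ₀ rfl hφ₀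
    let c : CoactBr.sp k D ⟶ CoactBr.sp k A := CoactBr.pt ((Algebra.ofId k D).comp v)
    have hc : CoactBr.pt (φ : A →ₐ[k] D) = c * CoactBr.pt (φ₀ : A →ₐ[k] D) * c⁻¹ := by
      rw [show (φ : A →ₐ[k] D) = (conjP v (WithConv.toConv (φ₀ : A →ₐ[k] D))).ofConv from
        congrArg WithConv.ofConv hv]
      rw [conjP, CoactBr.pt_inv]
      rw [show c * CoactBr.pt (φ₀ : A →ₐ[k] D) *
        CoactBr.pt (((Algebra.ofId k D).comp v).comp (HopfAlgebra.antipodeAlgHom k A)) =
          CoactBr.pt (pt D v * WithConv.toConv (φ₀ : A →ₐ[k] D) * pinv (pt D v).ofConv).ofConv from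
        ((congrArg₂ (· * ·) (map_mul Spec.mapMulEquiv (pt D v) (WithConv.toConv (φ₀ : A →ₐ[k] D))).symm rfl).trans
          (map_mul Spec.mapMulEquiv _ _).symm)]
    refine ⟨unitSp.hom ≫ CoactBr.pt v ≫ e.hom, CoactBr.pt ((φ.comp ψ : N →ₐc[k] D) : N →ₐ[k] D), ?_⟩
    have hb : toUnit (CoactBr.sp k D) ≫ unitSp.hom ≫ CoactBr.pt v ≫ e.hom = c ≫ e.hom := by
      rw [← Category.assoc, toUnit_unitSp, ← Category.assoc, ← CoactBr.pt_comp]
    have h0 : CoactBr.pt ((φ.comp ψ : N →ₐc[k] D) : N →ₐ[k] D) ≫ iS = CoactBr.pt (φ₀ : A →ₐ[k] D) ≫ e.hom := by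
      show CoactBr.pt _ ≫ CoactBr.pt _ ≫ e.hom = _
      rw [← Category.assoc, ← CoactBr.pt_comp]
      rfl
    rw [hb, h0, ← GrpObj.inv_comp, ← MonObj.mul_comp, ← MonObj.mul_comp, ← hc, hφ]
    simp
  -- the torus `T` is the split torus
  obtain ⟨hm, hmono, hTt, hmax⟩ := hT
  obtain ⟨r', eT, heT⟩ := exists_diag_iso_of_isTorus hTt
  haveI := heT
  have hdiag : SGA3b.IsDiag k (MonoidAlgebra k (Multiplicative (Fin r' → ℤ))) :=
    ⟨Multiplicative (ULift.{u} (Fin r' → ℤ)), inferInstance,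
      ⟨MonoidAlgebra.domCongrBialgEquiv k k (AddEquiv.toMultiplicative AddEquiv.ulift).symm⟩⟩
  obtain ⟨b, q₀, hq₀⟩ := habs hdiag (eT.hom ≫ t)
  have hTS : (eT.inv ≫ q₀) ≫ iS = t := by
    have h1 : q₀ ≫ iS = (toUnit _ ≫ b)⁻¹ * (eT.hom ≫ t) * (toUnit _ ≫ b) := by rw [hq₀]; group
    rw [Category.assoc, h1, _root_.mul_assoc, ← hcen, inv_mul_cancel_left, Iso.inv_hom_id_assoc]
  have : IsClosedImmersion iS.left := by
    have : IsClosedImmersion (CoactBr.pt (ρ : A →ₐ[k] N)).left := by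
      rw [CoactBr.pt_left]
      exact IsClosedImmersion.spec_of_surjective _ fun b => ⟨ψ b, DFunLike.congr_fun hρ b⟩
    have : IsIso e.hom.left := inferInstanceAs (IsIso ((Over.forget _).map e.hom))
    change IsClosedImmersion ((CoactBr.pt (ρ : A →ₐ[k] N)).left ≫ e.hom.left)
    infer_instance
  have : Mono iS := Over.mono_of_mono_left iS
  have : IsIso (eT.inv ≫ q₀) := hmax (CoactBr.sp k N) iS (eT.inv ≫ q₀)
    (isTorus_of_diag_iso (Iso.refl _) (inferInstanceAs (IsMonHom (𝟙 _)))) hTS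
  have hiS : iS = inv (eT.inv ≫ q₀) ≫ t := by rw [← hTS, IsIso.inv_hom_id_assoc]
  have hScen : ∀ (X : Over (Spec (CommRingCat.of k))) (x : X ⟶ CoactBr.sp k N) (g : X ⟶ B),
      g * (x ≫ iS) = (x ≫ iS) * g := fun X x g => by
    rw [hiS, ← Category.assoc]
    exact hcen X _ g
  -- the unipotent component of `j`
  let p : B ⟶ CoactBr.sp k N := e.inv ≫ CoactBr.pt (ψ : N →ₐ[k] A)
  haveI := isMonHom_pt_bialg ψ
  have hp : iS ≫ p = 𝟙 _ := by
    simp only [iS, p, Category.assoc, Iso.hom_inv_id_assoc]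
    rw [← CoactBr.pt_comp, ← CoactBr.pt_id]
    congr 1
    exact AlgHom.ext fun x => DFunLike.congr_fun hρ x
  let u : CoactBr.sp k C ⟶ B := j * ((j ≫ p) ≫ iS)⁻¹
  have : IsMonHom u := isMonHom_of_points _ fun W a b => by
    simp only [u, MonObj.comp_mul, GrpObj.comp_inv, ← Category.assoc, MonObj.mul_comp, _root_.mul_inv_rev]
    have c : ∀ (z : W ⟶ CoactBr.sp k C) (g : W ⟶ B),
        (((z ≫ j) ≫ p) ≫ iS)⁻¹ * g = g * (((z ≫ j) ≫ p) ≫ iS)⁻¹ := fun z g =>
      ((show Commute (((z ≫ j) ≫ p) ≫ iS) g from (hScen W _ g).symm).inv_left).eq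
    rw [c b (((a ≫ j) ≫ p) ≫ iS)⁻¹, ← _root_.mul_assoc (a ≫ j * b ≫ j), _root_.mul_assoc (a ≫ j) (b ≫ j),
      ← c a (b ≫ j), ← _root_.mul_assoc (a ≫ j), _root_.mul_assoc _ (b ≫ j)]
  have hup : u ≫ p = 1 := by
    simp only [u, MonObj.mul_comp, GrpObj.inv_comp, Category.assoc, hp, Category.comp_id, mul_inv_cancel]
  obtain ⟨φ, hφ⟩ := exists_bialgHom_of_isMonHom (u ≫ e.inv)
  have hφψ : ∀ x, φ (ψ x) = algebraMap k C (Coalgebra.counit (R := k) x) := by
    have h1 : CoactBr.pt ((φ : A →ₐ[k] C).comp (ψ : N →ₐ[k] A)) = (1 : CoactBr.sp k C ⟶ CoactBr.sp k N) := by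
      rw [CoactBr.pt_comp, hφ, Category.assoc]
      exact hup
    rw [CoactBr.one_eq_pt] at h1
    exact fun x => DFunLike.congr_fun (CoactBr.pt_injective h1) x
  have hJk : ∀ a ∈ J, φ a = 0 := by
    have : J ≤ RingHom.ker (φ : A →+* C) := by
      rw [hJ, Ideal.map_le_iff_le_comap]
      intro x hx
      rw [Ideal.mem_comap, RingHom.mem_ker]
      rw [RingHom.mem_ker, Bialgebra.counitAlgHom_apply] at hx
      show φ (ψ x) = 0
      rw [hφψ, hx, map_zero]
    exact fun a ha => RingHom.mem_ker.1 (this ha)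
  let φJ : A ⧸ J →ₐc[k] C := BialgHom.ofAlgHom (Ideal.Quotient.liftₐ J (φ : A →ₐ[k] C) hJk)
    (by
      refine AlgHom.ext fun z => ?_
      obtain ⟨z, rfl⟩ := Ideal.Quotient.mk_surjective z
      exact CoalgHomClass.counit_comp_apply φ z)
    (by
      refine AlgHom.ext fun z => ?_
      obtain ⟨z, rfl⟩ := Ideal.Quotient.mk_surjective z
      let Q := Bialgebra.Quotient.mkBialgHom (R := k) J
      show Algebra.TensorProduct.map _ _ (Coalgebra.comul (R := k) (Q z)) = Coalgebra.comul (R := k) (φ z)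
      rw [← CoalgHomClass.map_comp_comul_apply Q z, ← CoalgHomClass.map_comp_comul_apply φ z]
      generalize Coalgebra.comul (R := k) z = w
      induction w using TensorProduct.induction_on with
      | zero => simp
      | tmul x y => simp only [TensorProduct.map_tmul, Algebra.TensorProduct.map_tmul]; rfl
      | add x y hx hy => simp only [map_add, hx, hy])
  have : Algebra.FiniteType k (A ⧸ J) :=
    .of_surjective (Ideal.Quotient.mkₐ k J) Ideal.Quotient.mk_surjective
  have hu1 : u ≫ e.inv = 1 := by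
    rw [← hφ, CoactBr.one_eq_pt]
    congr 1
    refine AlgHom.ext fun x => ?_
    exact (trivial_of_isDiag hU hC φJ (Ideal.Quotient.mk J x)).trans
      (congrArg _ (CoalgHomClass.counit_comp_apply (Bialgebra.Quotient.mkBialgHom (R := k) J) x))
  have hu : u = 1 := by rw [← cancel_mono e.inv, hu1, MonObj.one_comp]
  refine ⟨(j ≫ p) ≫ inv (eT.inv ≫ q₀), ?_⟩
  rw [Category.assoc (j ≫ p), ← hiS]
  exact (mul_inv_eq_one.1 hu).symm

end Groth.Reductive2.DiagTorus
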