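import Groth.Agent.Reductive.CentralEq.Global
import Groth.Agent.Reductive.MTCrit.Ext
import Groth.Agent.Reductive.MultTypeComm
import Groth.Agent.Reductive.MTImm
import Groth.Agent.Reductive.TorusMT
import Groth.Agent.Reductive.BaseChangeMT
import Groth.Agent.Reductive2.CentralHensel
import Groth.Agent.Reductive2.DiagInTorus
import Groth.Agent.Reductive2.MultTypeSplit
import Groth.Agent.AlgGrp1.CartanField
import Groth.Agent.S3006

/-!
A central homomorphism from a group of multiplicative type factors through every maximal torus.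
-/

set_option autoImplicit false
set_option linter.style.haveILetI false
universe u

open CategoryTheory MonoidalCategory CartesianMonoidalCategory MonObj GrpObj AlgebraicGeometry
open Groth.Reductive.CentralNhd Groth.Reductive.FreeDiag

noncomputable section

namespace Groth.Reductive2.CentralInTorus

/-- Over an algebraically closed field a central homomorphism from a group of multiplicative type
factors through every maximal torus. -/
theorem exists_factor_field {k : Type u} [Field k] [IsAlgClosed k] {G T H : Over (Spec (CommRingCat.of k))}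
    [GrpObj G] [GrpObj T] [GrpObj H] [IsAffine G.left] [Smooth G.hom] [ConnectedSpace G.left] (i : T ⟶ G)
    (hT : AGF.IsMaxTorus i) (hH : SGA3x.IsMultTypeFT H) (u : H ⟶ G) [IsMonHom u]
    (hu : ∀ (X : Over (Spec (CommRingCat.of k))) (x : X ⟶ H) (g : X ⟶ G), (x ≫ u) * g = g * (x ≫ u)) :
    ∃ w : H ⟶ T, w ≫ i = u := by
  obtain ⟨hm, hmono, htor, hmx⟩ := hT
  haveI := hm; haveI := hmono
  have hsep : IsSeparated G.hom := Groth.AlgGrp1.isSeparated_grpObj G
  obtain ⟨⟨C, _, c, hc, -, -⟩, -⟩ := Groth.Agent.S3006.result (Spec (CommRingCat.of k)) G T i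
    (Groth.AlgGrp1.isClosedImmersion_of_isTorus i htor) htor
  obtain ⟨hCs, hccl, hCc, hCn⟩ := Groth.AlgGrp1.isNilpotentGrp_centralizer_maxTorus
    ⟨hm, hmono, htor, hmx⟩ hc
  obtain ⟨hcm, hcmo, hcp⟩ := hc
  haveI := hcm; haveI := hcmo
  have : IsAffine C.left := isAffine_of_isAffineHom c.left
  obtain ⟨t, ht⟩ := (hcp T i).2 fun X' a b => by
    rw [← MonObj.mul_comp, ← MonObj.mul_comp, Groth.Reductive2.torus_mul_comm htor a b]
  have : IsMonHom t := Groth.AlgGrp1.isMonHom_of_points _ fun W p q => by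
    rw [← cancel_mono c, Category.assoc, ht, MonObj.mul_comp, MonObj.mul_comp, Category.assoc, ht,
      Category.assoc, ht]
  have : Mono t := by
    have : Mono (t ≫ c) := by rw [ht]; infer_instance
    exact mono_of_mono t c
  have hTC : AGF.IsMaxTorus t := ⟨inferInstance, inferInstance, htor, fun T' _ j _ _ f hT' hf =>
    hmx T' (j ≫ c) f hT' (by rw [← Category.assoc, hf, ht])⟩
  have hcen : ∀ (X : Over (Spec (CommRingCat.of k))) (s : X ⟶ T) (g : X ⟶ C), g * (s ≫ t) = (s ≫ t) * g := by
    intro X s g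
    rw [← cancel_mono c, MonObj.mul_comp, MonObj.mul_comp, Category.assoc, ht]
    have := (hcp X (g ≫ c)).1 ⟨g, rfl⟩ X (𝟙 X) s
    rwa [Category.id_comp] at this
  obtain ⟨u', hu'⟩ := (hcp H u).2 fun X' a b => hu X' a (b ≫ i)
  have : IsMonHom u' := Groth.AlgGrp1.isMonHom_of_points _ fun W p q => by
    rw [← cancel_mono c, Category.assoc, hu', MonObj.mul_comp, MonObj.mul_comp, Category.assoc, hu',
      Category.assoc, hu']
  obtain ⟨D, _, _, e, he, hD⟩ := Groth.Reductive2.MTSplit.exists_diag_iso hH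
  haveI := he
  obtain ⟨q, hq⟩ := Groth.Reductive2.DiagTorus.exists_factor
    (Groth.Reductive2.DiagTorus.isSolvableGrp_of_nilpotent hCn) t hTC hcen hD (e.hom ≫ u')
  exact ⟨e.inv ≫ q, by rw [← ht, Category.assoc, reassoc_of% hq, hu', Iso.inv_hom_id_assoc]⟩

/-- Tori are stable under base change. -/
theorem isTorus_bc' {S T : Scheme.{u}} {H : Over S} [GrpObj H] (hH : Red.IsTorus H) (g : T ⟶ S) :
    Red.IsTorus (Red.bc g H) := by
  obtain ⟨S', f, hflat, hsurj, hqc, hloc⟩ := hH
  let p := Limits.pullback.fst g f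
  let q := Limits.pullback.snd g f
  haveI := hflat
  haveI := hsurj
  refine ⟨Limits.pullback g f, p, inferInstanceAs (Flat (Limits.pullback.fst g f)),
    inferInstanceAs (Surjective (Limits.pullback.fst g f)), qcCover_pullback_fst f hqc g, fun x ↦ ?_⟩
  obtain ⟨V, hV, r, ⟨e⟩⟩ := hloc (q.base x)
  refine ⟨q ⁻¹ᵁ V, hV, r, ?_⟩
  let e' : Red.DS (V : Scheme.{u}) (Fin r → ℤ) ≅ Red.bc (V.ι ≫ f) H := (Grp.forget _).mapIso e.symm
  haveI : IsMonHom e'.hom := inferInstanceAs (IsMonHom e.inv.hom.hom)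
  obtain ⟨i, hi⟩ := exists_trivialisation_comp H (q ∣_ V) (V.ι ≫ f) e'
  obtain ⟨j, hj⟩ := exists_bc_comp_iso H ((q ⁻¹ᵁ V).ι ≫ p) g
  have heq : (q ∣_ V) ≫ V.ι ≫ f = ((q ⁻¹ᵁ V).ι ≫ p) ≫ g := by
    rw [morphismRestrict_ι_assoc, Category.assoc, Limits.pullback.condition]
  revert i hi
  rw [heq]
  intro i hi
  haveI := hi
  haveI := hj
  haveI : IsMonHom (i ≪≫ j.symm).hom := by
    rw [Iso.trans_hom, Iso.symm_hom]
    infer_instance
  exact ⟨(Grp.mkIso' (i ≪≫ j.symm)).symm⟩

variable {S : Scheme.{u}} {G T H : Over S} [GrpObj G] [GrpObj T] [GrpObj H]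

/-- Products of pairs of points. -/
theorem mul_lift {A B W : Over S} [GrpObj A] [GrpObj B] (a₁ a₂ : W ⟶ A) (b₁ b₂ : W ⟶ B) :
    lift a₁ b₁ * lift a₂ b₂ = lift (a₁ * a₂) (b₁ * b₂) := by
  apply CartesianMonoidalCategory.hom_ext
  · rw [MonObj.mul_comp, lift_fst, lift_fst, lift_fst]
  · rw [MonObj.mul_comp, lift_snd, lift_snd, lift_snd]

/-- A product of two groups of multiplicative type is of multiplicative type. -/
theorem isMultTypeFT_tensor {A B : Over S} [GrpObj A] [GrpObj B] (hA : SGA3x.IsMultTypeFT A)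
    (hB : SGA3x.IsMultTypeFT B) : SGA3x.IsMultTypeFT (A ⊗ B) := by
  have hfl := Groth.Reductive.flat_lfp_of_multTypeFT B hB Groth.AlgSp2.flat_descendsAlong inferInstance
  haveI := hfl.1
  haveI := (Groth.Reductive.MTInt.locTriv_of_multTypeFT hB).1
  haveI : Flat (fst A B).left := inferInstanceAs (Flat (Limits.pullback.fst A.hom B.hom))
  haveI : QuasiCompact (fst A B).left := inferInstanceAs (QuasiCompact (Limits.pullback.fst A.hom B.hom))
  haveI : Surjective (fst A B).left := ⟨fun z => by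
    refine ⟨(lift (𝟙 A) (1 : A ⟶ B)).left z, ?_⟩
    rw [← Scheme.Hom.comp_apply, ← Over.comp_left, lift_fst]
    rfl⟩
  let i : B ⟶ A ⊗ B := lift 1 (𝟙 B)
  haveI : IsMonHom i := Groth.AlgGrp1.isMonHom_of_points _ fun W p q => by
    simp only [i, comp_lift, MonObj.comp_one, Category.comp_id, mul_lift, _root_.mul_one]
  refine Groth.Reductive.MTCrit.isMultTypeFT_of_ext_comm (p := fst A B) (i := i) ?_ hB hA fun X a b => by
    rw [← lift_comp_fst_snd a, ← lift_comp_fst_snd b, mul_lift, mul_lift,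
      Groth.Reductive.FreeDiag.comm_of_multTypeFT hA, Groth.Reductive.FreeDiag.comm_of_multTypeFT hB]
  haveI : Mono i := ⟨fun a b h => by simpa [i] using congrArg (· ≫ snd A B) h⟩
  refine Groth.AlgGrp1.IsKernel.mk' inferInstance fun W g => ⟨?_, fun h => ⟨g ≫ snd A B, ?_⟩⟩
  · rintro ⟨n, rfl⟩
    simp [i, MonObj.comp_one]
  · apply CartesianMonoidalCategory.hom_ext
    · simp [i, MonObj.comp_one, h]
    · simp [i]

/-- **A central homomorphism from a group of multiplicative type factors through a maximal torus.** -/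
theorem exists_factor [Smooth G.hom] [IsAffineHom G.hom] (hconn : ∀ s : S, _root_.IsConnected (G.hom.base ⁻¹' {s}))
    (i : T ⟶ G) (hT : Red.IsMaximalTorus i) (hH : SGA3x.IsMultTypeFT H) (u : H ⟶ G) [IsMonHom u]
    (hc : ∀ (X : Over S) (x : X ⟶ H) (g : X ⟶ G), (x ≫ u) * g = g * (x ≫ u)) :
    ∃ w : H ⟶ T, w ≫ i = u := by
  obtain ⟨hm, hmono, htor, hgeo⟩ := hT
  haveI := hm; haveI := hmono
  have hTm := Groth.Reductive.FreeDiag.isMultTypeFT_of_isTorus htor
  haveI hicl : IsClosedImmersion i.left :=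
    Groth.Reductive.MTInt.isClosedImmersion_of_mono (Groth.Reductive.MTInt.locTriv_of_multTypeFT hTm) inferInstance i
  let i₁ : H ⟶ H ⊗ G := lift (𝟙 H) u
  let i₂ : H ⊗ T ⟶ H ⊗ G := H ◁ i
  haveI : IsMonHom i₁ := Groth.AlgGrp1.isMonHom_of_points _ fun W p q => by
    simp only [i₁, comp_lift, Category.comp_id, mul_lift, MonObj.mul_comp]
  haveI : IsMonHom i₂ := Groth.AlgGrp1.isMonHom_of_points _ fun W p q => by
    simp only [i₂]
    rw [← lift_comp_fst_snd p, ← lift_comp_fst_snd q, mul_lift, lift_whiskerLeft, lift_whiskerLeft,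
      lift_whiskerLeft, mul_lift, MonObj.mul_comp]
  haveI : IsImmersion i₁.left := by
    have : IsImmersion (i₁.left ≫ (fst H G).left) := by
      rw [← Over.comp_left, lift_fst]
      exact inferInstanceAs (IsImmersion (𝟙 H.left))
    exact IsImmersion.of_comp i₁.left (fst H G).left
  haveI : IsClosedImmersion i₂.left :=
    MorphismProperty.of_isPullback (Groth.AlgGrp1.isPullback_whiskerLeft H i) hicl
  haveI : IsImmersion i₂.left := inferInstance
  haveI : Mono i₂.left := inferInstance
  haveI : LocallyOfFinitePresentation (H ⊗ G).hom := by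
    haveI := (Groth.Reductive.flat_lfp_of_multTypeFT H hH Groth.AlgSp2.flat_descendsAlong inferInstance).2
    exact inferInstanceAs (LocallyOfFinitePresentation (Limits.pullback.fst H.hom G.hom ≫ H.hom))
  have hcc : ∀ Z : Over S, TrivOn (commMap i₁) Z := fun Z => (trivOn_commMap_iff i₁).2 fun W _ g h => by
    rw [← lift_comp_fst_snd g]
    simp only [i₁, comp_lift, Category.comp_id, mul_lift]
    rw [Groth.Reductive.FreeDiag.comm_of_multTypeFT hH, hc]
  have hgconn := Groth.Reductive2.CentralHensel.geometricallyConnected_of_fibres G hconn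
  have hfac : ∀ s : S, FacOn i₁ i₂ (Over.mk (S.fromSpecResidueField s)) := by
    intro s
    let ψ := Red.geomPt s
    have hpt : ψ.base (IsLocalRing.closedPoint _) = s := by
      exact (Scheme.Hom.comp_apply _ (S.fromSpecResidueField s) _).trans (Scheme.fromSpecResidueField_apply s _)
    suffices h : FacOn i₁ i₂ (Over.mk ψ) by
      have h' := (facOn_fieldPoint_iff _ ψ).1 h
      rwa [hpt] at h'
    have : IsAffine (Red.bc ψ G).left := by
      show IsAffine (Limits.pullback G.hom ψ)
      infer_instance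
    have : Smooth (Red.bc ψ G).hom := by
      show Smooth (Limits.pullback.snd G.hom ψ)
      infer_instance
    have : GeometricallyConnected (Red.bc ψ G).hom :=
      inferInstanceAs (GeometricallyConnected (Limits.pullback.snd G.hom ψ))
    have : ConnectedSpace (Red.bc ψ G).left :=
      GeometricallyConnected.connectedSpace_of_subsingleton (f := (Red.bc ψ G).hom)
    have := Groth.Abvar.isMonHom_map (f := ψ) u
    have hmax : AGF.IsMaxTorus ((Over.pullback ψ).map i) :=
      ⟨Groth.Abvar.isMonHom_map (f := ψ) i, inferInstance, isTorus_bc' htor ψ,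
        fun T' _ j _ _ f hT' hf => hgeo s T' j f hT' hf⟩
    obtain ⟨w, hw⟩ := exists_factor_field ((Over.pullback ψ).map i) hmax
      (Groth.Reductive.FreeDiag.isMultTypeFT_bc hH ψ) ((Over.pullback ψ).map u) fun X x g => by
        apply (Groth.Reductive.bcPointEquiv ψ G X).injective
        rw [map_mul, map_mul, show Groth.Reductive.bcPointEquiv ψ G X (x ≫ (Over.pullback ψ).map u) =
          qPt ψ x ≫ u from qPt_map ψ x u]
        exact hc _ _ _
    intro W z x
    let W' : Over (Spec (CommRingCat.of (AlgebraicClosure (S.residueField s)))) := Over.mk z.left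
    let e : W ⟶ (Over.map ψ).obj W' := Over.homMk (𝟙 _) (by
      show 𝟙 _ ≫ z.left ≫ ψ = W.hom
      rw [Category.id_comp]
      exact Over.w z)
    let e' : (Over.map ψ).obj W' ⟶ W := Over.homMk (𝟙 _) (by
      show 𝟙 _ ≫ W.hom = z.left ≫ ψ
      rw [Category.id_comp]
      exact (Over.w z).symm)
    have hee : e ≫ e' = 𝟙 W := Over.OverMorphism.ext (Category.id_comp _)
    let m := (Over.mapPullbackAdj ψ).homEquiv W' H (e' ≫ x)
    have hm' : qPt ψ m = e' ≫ x := Equiv.symm_apply_apply _ _
    have h1 : qPt ψ (m ≫ w) ≫ i = qPt ψ m ≫ u := by rw [← qPt_map, Category.assoc, hw, qPt_map]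
    refine ⟨lift x (e ≫ qPt ψ (m ≫ w)), ?_⟩
    rw [lift_whiskerLeft, Category.assoc, h1, hm', Category.assoc, reassoc_of% hee, comp_lift, Category.comp_id]
  choose V hsV hV using fun s => Groth.Reductive.CentralEq.exists_facOn_nhd (Or.inr inferInstance) hH
    (isMultTypeFT_tensor hH hTm) i₁ i₂ s (hcc _) (hfac s)
  have hglob : FacOn i₁ i₂ (𝟙_ (Over S)) := FacOn.of_openCover V hsV fun z => by
    refine (hV z).of_hom (Over.homMk (𝟙 _) ?_)
    show 𝟙 _ ≫ (V z).ι = (V z).ι ≫ 𝟙 S
    simp
  obtain ⟨y, hy⟩ := hglob H (toUnit H) (𝟙 H)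
  refine ⟨y ≫ snd H T, ?_⟩
  have h2 := congrArg (· ≫ snd H G) hy
  simpa [i₁, i₂] using h2

end Groth.Reductive2.CentralInTorus
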