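import Groth.Agent.MagnetEtale.Descend
import Groth.Agent.Agf.SubobjGrp
import Groth.Agent.Reductive.BaseChangeMT
import Groth.Agent.Reductive.ClopenDescent
import Groth.Agent.Reductive.MTLocTriv
import Groth.Agent.Abvar.BaseChange

/-!
Descent along fpqc covers of a subgroup which is universal for central homomorphisms from groups of
multiplicative type.
-/

set_option autoImplicit false
set_option linter.style.haveILetI false
universe u

open CategoryTheory MonoidalCategory CartesianMonoidalCategory MonObj GrpObj AlgebraicGeometry Opposite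
open Groth.Reductive.FreeDiag Groth.Reductive

noncomputable section

namespace Groth.Reductive2.SubDescent

variable {S S' : Scheme.{u}}

/-- The universal property of a reductive centre. -/
def IsUniv (G' : Over S') [GrpObj G'] (Z' : Over S') [GrpObj Z'] (z' : Z' ⟶ G') : Prop :=
  ∀ (S'' : Scheme.{u}) (f' : S'' ⟶ S') (H : Over S'') [GrpObj H] (v : H ⟶ Red.bc f' G') [IsMonHom v],
    SGA3x.IsMultTypeFT H →
    (∀ (X : Over S'') (x : X ⟶ H) (g : X ⟶ Red.bc f' G'), (x ≫ v) * g = g * (x ≫ v)) →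
    ∃ w : H ⟶ Red.bc f' Z', w ≫ (Over.pullback f').map z' = v

variable (f : S' ⟶ S) {G : Over S} [GrpObj G] {Z' : Over S'} (z' : Z' ⟶ Red.bc f G)

/-- A point of `W` over a point of `S'`. -/
abbrev incl {W : Over S} (a : W.left ⟶ S') (ha : a ≫ f = W.hom) : (Over.map f).obj (Over.mk a) ⟶ W :=
  Over.homMk (𝟙 W.left) (by
    show 𝟙 _ ≫ W.hom = a ≫ f
    rw [Category.id_comp, ha])

/-- The points of `G` which lie in `Z'` after every base change to `S'`. -/
def Mem {W : Over S} (g : W ⟶ G) : Prop :=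
  ∀ (W' : Over S) (h : W' ⟶ W) (a : W'.left ⟶ S') (ha : a ≫ f = W'.hom),
    ∃ y : Over.mk a ⟶ Z', bcPointEquiv f G (Over.mk a) (y ≫ z') = incl f a ha ≫ h ≫ g

variable {f z'}

lemma Mem.comp {W W' : Over S} {g : W ⟶ G} (hg : Mem f z' g) (h : W' ⟶ W) : Mem f z' (h ≫ g) :=
  fun W'' h' a ha => by
    obtain ⟨y, hy⟩ := hg W'' (h' ≫ h) a ha
    exact ⟨y, by rw [hy, Category.assoc]⟩

section Grp

variable [GrpObj Z'] [IsMonHom z']

lemma mem_one (W : Over S) : Mem f z' (1 : W ⟶ G) := fun W' h a ha =>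
  ⟨1, by rw [MonObj.one_comp, map_one, MonObj.comp_one, MonObj.comp_one]⟩

lemma Mem.mul {W : Over S} {g g' : W ⟶ G} (hg : Mem f z' g) (hg' : Mem f z' g') : Mem f z' (g * g') :=
  fun W' h a ha => by
    obtain ⟨y, hy⟩ := hg W' h a ha
    obtain ⟨y', hy'⟩ := hg' W' h a ha
    exact ⟨y * y', by rw [MonObj.mul_comp, map_mul, hy, hy', MonObj.comp_mul, MonObj.comp_mul]⟩

lemma Mem.inv {W : Over S} {g : W ⟶ G} (hg : Mem f z' g) : Mem f z' g⁻¹ :=
  fun W' h a ha => by
    obtain ⟨y, hy⟩ := hg W' h a ha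
    exact ⟨y⁻¹, by rw [GrpObj.inv_comp, map_inv, hy, GrpObj.comp_inv, GrpObj.comp_inv]⟩

end Grp

lemma bcPointEquiv_map {T T' : Scheme.{u}} (a : T' ⟶ T) {A B : Over T} [GrpObj A] [GrpObj B] (m : A ⟶ B)
    {X : Over T'} (x : X ⟶ Red.bc a A) :
    bcPointEquiv a B X (x ≫ (Over.pullback a).map m) = bcPointEquiv a A X x ≫ m :=
  Adjunction.homEquiv_naturality_right_symm _ _ _

/-- Points of `G` over a scheme mapping to two bases over `S`. -/
theorem exists_switch {U S₂ : Scheme.{u}} (f₂ : S₂ ⟶ S) (a : U ⟶ S') (b : U ⟶ S₂) (hab : a ≫ f = b ≫ f₂) :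
    ∃ d : Red.bc b (Red.bc f₂ G) ≅ Red.bc a (Red.bc f G), IsMonHom d.hom ∧
      ∀ (X : Over U) (x : X ⟶ Red.bc b (Red.bc f₂ G))
        (c : (Over.map f).obj ((Over.map a).obj X) ⟶ (Over.map f₂).obj ((Over.map b).obj X)), c.left = 𝟙 _ →
        bcPointEquiv f G _ (bcPointEquiv a (Red.bc f G) X (x ≫ d.hom)) =
          c ≫ bcPointEquiv f₂ G _ (bcPointEquiv b (Red.bc f₂ G) X x) := by
  let c : ∀ X : Over U, (Over.map f).obj ((Over.map a).obj X) ≅ (Over.map f₂).obj ((Over.map b).obj X) :=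
    fun X => Over.isoMk (Iso.refl X.left) (by simp [hab])
  let E : ∀ X : Over U, (X ⟶ Red.bc b (Red.bc f₂ G)) ≃* (X ⟶ Red.bc a (Red.bc f G)) := fun X =>
    (bcPointEquiv b (Red.bc f₂ G) X).trans ((bcPointEquiv f₂ G _).trans
      (({ toFun := fun x ↦ (c X).hom ≫ x
          invFun := fun x ↦ (c X).inv ≫ x
          left_inv := fun x ↦ by simp
          right_inv := fun x ↦ by simp
          map_mul' := fun p q ↦ MonObj.comp_mul _ p q } : _ ≃* _).trans
        ((bcPointEquiv f G _).symm.trans (bcPointEquiv a (Red.bc f G) X).symm)))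
  have hE : ∀ {Z W : Over U} (z : W ⟶ Z) (x : Z ⟶ Red.bc b (Red.bc f₂ G)), E W (z ≫ x) = z ≫ E Z x := by
    intro Z W z x
    apply (bcPointEquiv a (Red.bc f G) W).injective
    apply (bcPointEquiv f G _).injective
    simp only [E, MulEquiv.trans_apply, MulEquiv.apply_symm_apply, MulEquiv.coe_mk, Equiv.coe_fn_mk,
      bcPointEquiv_comp]
    rw [← Category.assoc, ← Category.assoc]
    congr 1
  have h1 : ∀ Z (x : Z ⟶ Red.bc b (Red.bc f₂ G)), x ≫ E _ (𝟙 _) = E Z x := fun Z x => by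
    rw [← hE, Category.comp_id]
  let d : Red.bc b (Red.bc f₂ G) ≅ Red.bc a (Red.bc f G) :=
    ⟨E _ (𝟙 _), (E _).symm (𝟙 _), by
      apply (E _).injective
      rw [hE, MulEquiv.apply_symm_apply, Category.comp_id], by
      rw [h1, MulEquiv.apply_symm_apply]⟩
  refine ⟨d, Groth.AlgGrp1.isMonHom_of_points _ fun Z p q ↦ by
    show (p * q) ≫ E _ (𝟙 _) = (p ≫ E _ (𝟙 _)) * (q ≫ E _ (𝟙 _))
    rw [h1, h1, h1, map_mul], fun X x c' hc' => ?_⟩
  show bcPointEquiv f G _ (bcPointEquiv a (Red.bc f G) X (x ≫ E _ (𝟙 _))) = _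
  rw [h1]
  simp only [E, MulEquiv.trans_apply, MulEquiv.apply_symm_apply, MulEquiv.coe_mk, Equiv.coe_fn_mk]
  congr 1
  exact Over.OverMorphism.ext (by simp [c, hc'])

variable [GrpObj Z'] [IsMonHom z']

/-- A central homomorphism from a group of multiplicative type over any base gives points lying in `Z'`. -/
theorem mem_of_central (hu : IsUniv (Red.bc f G) Z' z') {S₂ : Scheme.{u}} (f₂ : S₂ ⟶ S) {H : Over S₂} [GrpObj H]
    (hH : SGA3x.IsMultTypeFT H) (v : H ⟶ Red.bc f₂ G) [IsMonHom v]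
    (hv : ∀ (X : Over S₂) (x : X ⟶ H) (g : X ⟶ Red.bc f₂ G), (x ≫ v) * g = g * (x ≫ v)) :
    Mem f z' (bcPointEquiv f₂ G H v) := by
  intro W' h a ha
  let b : W'.left ⟶ S₂ := h.left ≫ H.hom
  have hb : b ≫ f₂ = W'.hom := (Category.assoc _ _ _).trans (Over.w h)
  obtain ⟨d, hdm, hd⟩ := exists_switch (f := f) (G := G) f₂ a b (ha.trans hb.symm)
  haveI := hdm
  haveI := Groth.Abvar.isMonHom_map (f := b) v
  obtain ⟨w, hw⟩ := hu W'.left a (Red.bc b H) ((Over.pullback b).map v ≫ d.hom) (isMultTypeFT_bc hH b)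
    fun X x g => by
      have hc : (x ≫ (Over.pullback b).map v) * (g ≫ d.inv) = (g ≫ d.inv) * (x ≫ (Over.pullback b).map v) := by
        apply (bcPointEquiv b (Red.bc f₂ G) X).injective
        rw [map_mul, map_mul, bcPointEquiv_map]
        exact hv _ _ _
      have := congrArg (· ≫ d.hom) hc
      simpa [MonObj.mul_comp] using this
  let P : Over W'.left := Over.mk (𝟙 W'.left)
  let hb' : (Over.map b).obj P ⟶ H := Over.homMk h.left (by
    show h.left ≫ H.hom = 𝟙 _ ≫ b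
    rw [Category.id_comp])
  let x : P ⟶ Red.bc b H := (bcPointEquiv b H P).symm hb'
  let ea : Over.mk a ⟶ (Over.map a).obj P := Over.homMk (𝟙 W'.left) (by
    show 𝟙 _ ≫ 𝟙 _ ≫ a = a
    simp)
  refine ⟨ea ≫ bcPointEquiv a Z' P (x ≫ w), ?_⟩
  rw [Category.assoc, ← bcPointEquiv_map, Category.assoc, hw, bcPointEquiv_comp, ← Category.assoc x]
  let c : (Over.map f).obj ((Over.map a).obj P) ⟶ (Over.map f₂).obj ((Over.map b).obj P) :=
    Over.homMk (𝟙 W'.left) (by
      show 𝟙 _ ≫ (𝟙 _ ≫ b) ≫ f₂ = (𝟙 _ ≫ a) ≫ f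
      simp [ha, hb])
  rw [hd P _ c rfl, bcPointEquiv_map, show bcPointEquiv b H P x = hb' from MulEquiv.apply_symm_apply _ _,
    bcPointEquiv_comp, ← Category.assoc, ← Category.assoc, ← Category.assoc]
  congr 1

/-- Points with values in `Z'` are detected after a cover. -/
theorem exists_factor_of_cover {X' X A : Over S'} [Mono z'] (p : X' ⟶ X) (hp : Groth.Pi1Desc.IsCover p.left)
    (m : X ⟶ Red.bc f G) (y : X' ⟶ Z') (h : p ≫ m = y ≫ z') : ∃ y₀ : X ⟶ Z', y₀ ≫ z' = m := by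
  haveI := hp
  haveI := Groth.Pi1Desc.IsCover.effectiveEpi p.left
  have hc : ∀ {R : Scheme.{u}} (r₁ r₂ : R ⟶ X'.left), r₁ ≫ p.left = r₂ ≫ p.left →
      r₁ ≫ y.left = r₂ ≫ y.left := by
    intro R r₁ r₂ hr
    let R₀ : Over S' := Over.mk (r₁ ≫ X'.hom)
    let a₁ : R₀ ⟶ X' := Over.homMk r₁ rfl
    let a₂ : R₀ ⟶ X' := Over.homMk r₂ (by
      show r₂ ≫ X'.hom = r₁ ≫ X'.hom
      rw [← Over.w p, ← Category.assoc, ← hr, Category.assoc])
    have ha : a₁ ≫ p = a₂ ≫ p := Over.OverMorphism.ext hr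
    have : a₁ ≫ y = a₂ ≫ y := by
      rw [← cancel_mono z', Category.assoc, Category.assoc, ← h, reassoc_of% ha]
    exact congrArg (fun t => t.left) this
  let y₀ : X.left ⟶ Z'.left := EffectiveEpi.desc p.left y.left hc
  have hy₀ : p.left ≫ y₀ = y.left := EffectiveEpi.fac p.left y.left hc
  haveI : Epi p := Over.epi_of_epi_left p
  refine ⟨Over.homMk y₀ ?_, ?_⟩
  · rw [← cancel_epi p.left, ← Category.assoc, hy₀, Over.w, Over.w]
  · rw [← cancel_epi p, h, ← Category.assoc]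
    congr 1
    exact Over.OverMorphism.ext hy₀

variable (f z')

/-- The functor of points lying in `Z'`. -/
def memFunctor : (Over S)ᵒᵖ ⥤ Type u where
  obj T := { g : T.unop ⟶ G // Mem f z' g }
  map h := ↾fun g => ⟨h.unop ≫ g.1, g.2.comp h.unop⟩
  map_id T := by
    ext g
    exact Category.id_comp _
  map_comp h h' := by
    ext g
    exact Category.assoc _ _ _

theorem memFunctor_hasDesc [Mono z'] : Groth.MagnetEtale.HasDesc (memFunctor f z') := by
  intro T T' e he φ' hφ'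
  haveI := he
  haveI := Groth.Pi1Desc.IsCover.effectiveEpi e.left
  have hc : ∀ {R : Scheme.{u}} (r₁ r₂ : R ⟶ T'.left), r₁ ≫ e.left = r₂ ≫ e.left →
      r₁ ≫ φ'.1.left = r₂ ≫ φ'.1.left := by
    intro R r₁ r₂ hr
    let R₀ : Over S := Over.mk (r₁ ≫ T'.hom)
    let a₁ : R₀ ⟶ T' := Over.homMk r₁ rfl
    let a₂ : R₀ ⟶ T' := Over.homMk r₂ (by
      show r₂ ≫ T'.hom = r₁ ≫ T'.hom
      rw [← Over.w e, ← Category.assoc, ← hr, Category.assoc])
    have : a₁ ≫ φ'.1 = a₂ ≫ φ'.1 :=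
      congrArg Subtype.val (hφ' R₀ a₁ a₂ (Over.OverMorphism.ext hr))
    exact congrArg (fun t => t.left) this
  let g₀ : T.left ⟶ G.left := EffectiveEpi.desc e.left φ'.1.left hc
  have hg₀ : e.left ≫ g₀ = φ'.1.left := EffectiveEpi.fac e.left φ'.1.left hc
  let g : T ⟶ G := Over.homMk g₀ (by rw [← cancel_epi e.left, ← Category.assoc, hg₀, Over.w, Over.w])
  have hg : e ≫ g = φ'.1 := Over.OverMorphism.ext hg₀
  haveI : Epi e := Over.epi_of_epi_left e
  refine ⟨⟨g, fun W h a ha => ?_⟩, Subtype.ext hg, fun ψ hψ => Subtype.ext ?_⟩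
  · let q := Limits.pullback.fst h.left e.left
    have hq : Groth.Pi1Desc.IsCover q :=
      Groth.Pi1Desc.IsCover.of_isPullback (p := e.left) (IsPullback.of_hasPullback h.left e.left).flip
    let W'' : Over S := Over.mk (q ≫ W.hom)
    let hq' : W'' ⟶ W := Over.homMk q rfl
    let h'' : W'' ⟶ T' := Over.homMk (Limits.pullback.snd h.left e.left) (by
      show _ ≫ T'.hom = q ≫ W.hom
      rw [← Over.w e, ← Limits.pullback.condition_assoc, Over.w h])
    have hsq : hq' ≫ h = h'' ≫ e := Over.OverMorphism.ext Limits.pullback.condition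
    have ha' : (q ≫ a) ≫ f = W''.hom := by rw [Category.assoc, ha]; rfl
    obtain ⟨y, hy⟩ := φ'.2 W'' h'' (q ≫ a) ha'
    let p : Over.mk (q ≫ a) ⟶ Over.mk a := Over.homMk q rfl
    obtain ⟨y₀, hy₀⟩ := exists_factor_of_cover (A := Z') (z' := z') p hq
      ((bcPointEquiv f G _).symm (incl f a ha ≫ h ≫ g)) y (by
        apply (bcPointEquiv f G _).injective
        rw [bcPointEquiv_comp, MulEquiv.apply_symm_apply, hy, ← hg, ← reassoc_of% hsq]
        simp only [← Category.assoc]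
        congr 2)
    exact ⟨y₀, by rw [hy₀, MulEquiv.apply_symm_apply]⟩
  · have h1 : e ≫ ψ.1 = φ'.1 := congrArg Subtype.val hψ
    rw [← cancel_epi e, h1, hg]

variable {f z'}

/-- Being of multiplicative type descends along a cover. -/
theorem isMultTypeFT_descend (Z : Over S) [GrpObj Z] [Flat f] [Surjective f]
    (hcov : ∀ V : S.Opens, IsAffineOpen V → ∃ W : S'.Opens, IsCompact (W : Set S') ∧ f.base '' (W : Set S') = (V : Set S))
    (h : SGA3x.IsMultTypeFT (Red.bc f Z)) : SGA3x.IsMultTypeFT Z := by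
  obtain ⟨S'', k, hflat, hsurj, hqc, hloc⟩ := h
  haveI := hflat; haveI := hsurj
  refine ⟨S'', k ≫ f, inferInstance, inferInstance, qcCover_comp k f hqc hcov, fun s => ?_⟩
  obtain ⟨U, hU, M, iM, hM, ⟨φ⟩⟩ := hloc s
  obtain ⟨i, hi⟩ := exists_bc_comp_iso Z (U.ι ≫ k) f
  refine ⟨U, hU, M, iM, hM, ?_⟩
  rw [← Category.assoc]
  haveI := hi
  exact ⟨(Grp.mkIso' i).symm ≪≫ φ⟩

/-- **Descent of a reductive centre.** -/
theorem exists_descend [Mono z'] [Flat f] [Surjective f]
    (hcov : ∀ V : S.Opens, IsAffineOpen V → ∃ W : S'.Opens, IsCompact (W : Set S') ∧ f.base '' (W : Set S') = (V : Set S))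
    (hMT : SGA3x.IsMultTypeFT Z')
    (hcen : ∀ (X : Over S') (x : X ⟶ Z') (g : X ⟶ Red.bc f G), (x ≫ z') * g = g * (x ≫ z'))
    (hu : IsUniv (Red.bc f G) Z' z') :
    ∃ (Z : Over S) (_ : GrpObj Z) (z : Z ⟶ G), IsMonHom z ∧ Mono z ∧ SGA3x.IsMultTypeFT Z ∧
      (∀ (X : Over S) (x : X ⟶ Z) (g : X ⟶ G), (x ≫ z) * g = g * (x ≫ z)) ∧ IsUniv G Z z := by
  haveI : IsAffineHom Z'.hom := (Groth.Reductive.MTInt.locTriv_of_multTypeFT hMT).1
  haveI hfc : Groth.Pi1Desc.IsCover f := ⟨‹_›, ‹_›, by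
    rw [← PreZeroHypercover.presieve₀_singleton.{u} f, Scheme.presieve₀_mem_qcPrecoverage_iff]
    exact (qcCover_singleton_iff f).2 hcov⟩
  let V : Over S := (Over.map f).obj Z'
  let φ₀ : V ⟶ G := bcPointEquiv f G Z' z'
  have hφ₀ : Mem f z' φ₀ := mem_of_central hu f hMT z' hcen
  let k : Over.mk f ⟶ 𝟙_ (Over S) := toUnit _
  have hk : k.left = f := by
    have := Over.w k
    exact (Category.comp_id k.left).symm.trans this
  haveI : Groth.Pi1Desc.IsCover k.left := hk.symm ▸ hfc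
  let w : V ⟶ Over.mk f := Over.homMk Z'.hom rfl
  haveI : IsAffineHom w.left := inferInstanceAs (IsAffineHom Z'.hom)
  let π : memFunctor f z' ⟶ yoneda.obj (𝟙_ (Over S)) :=
    { app := fun T => ↾fun _ => toUnit T.unop
      naturality := fun T T' h => by ext g; exact toUnit_unique _ _ }
  obtain ⟨Z, eN, j, hj, -⟩ := Groth.MagnetEtale.exists_representableBy_of_cover (memFunctor_hasDesc f z') π k w
    ⟨φ₀, hφ₀⟩ (toUnit_unique _ _) (fun T φ t _ => by
      have ha : t.left ≫ f = T.hom := Over.w t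
      obtain ⟨y, hy⟩ := φ.2 T (𝟙 T) t.left ha
      rw [Category.id_comp] at hy
      let v : T ⟶ V := Over.homMk y.left (by
        show y.left ≫ Z'.hom ≫ f = T.hom
        rw [← Category.assoc, Over.w y]; exact ha)
      refine ⟨v, ⟨Subtype.ext ?_, Over.OverMorphism.ext (Over.w y)⟩, fun v' hv' => ?_⟩
      · show v ≫ φ₀ = φ.1
        let c : T ⟶ (Over.map f).obj (Over.mk t.left) := Over.homMk (𝟙 _) (by
          show 𝟙 _ ≫ t.left ≫ f = T.hom
          rw [Category.id_comp, ha])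
        have e1 : c ≫ (Over.map f).map y = v := Over.OverMorphism.ext (Category.id_comp _)
        rw [← e1, Category.assoc, ← bcPointEquiv_comp, hy, ← Category.assoc]
        have : c ≫ incl f t.left ha = 𝟙 T := Over.OverMorphism.ext (Category.id_comp _)
        rw [this, Category.id_comp]
      · obtain ⟨h1, h2⟩ := hv'
        have h1' : v' ≫ φ₀ = φ.1 := congrArg Subtype.val h1
        let y' : Over.mk t.left ⟶ Z' := Over.homMk v'.left (congrArg (fun z => z.left) h2)
        have : y' = y := by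
          rw [← cancel_mono z']
          apply (bcPointEquiv f G _).injective
          rw [hy, bcPointEquiv_comp, ← h1', ← Category.assoc]
          congr 1
        refine Over.OverMorphism.ext ?_
        show v'.left = y.left
        rw [← this]
        rfl)
  haveI : IsAffineHom j.left := hj
  let z : Z ⟶ G := (eN.homEquiv (𝟙 Z)).1
  have hz : ∀ {T : Over S} (t : T ⟶ Z), (eN.homEquiv t).1 = t ≫ z := fun {T} t => by
    rw [eN.homEquiv_eq]; rfl
  have hmem : ∀ (T : Over S) (g : T ⟶ G), (∃ t : T ⟶ Z, t ≫ z = g) ↔ Mem f z' g := fun T g => by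
    constructor
    · rintro ⟨t, rfl⟩
      rw [← hz]; exact (eN.homEquiv t).2
    · intro hg
      exact ⟨eN.homEquiv.symm ⟨g, hg⟩, (hz _).symm.trans (congrArg Subtype.val (eN.homEquiv.apply_symm_apply _))⟩
  haveI : Mono z := ⟨fun t t' h => eN.homEquiv.injective (Subtype.ext (by rw [hz, hz, h]))⟩
  obtain ⟨inst, hm⟩ := Groth.Agf.exists_grpObj_of_subgroup z (fun T g => Mem f z' g) hmem
    (fun T => mem_one T) (fun T a b ha hb => ha.mul hb) (fun T a ha => ha.inv)
  haveI := hm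
  -- the base change is the given subgroup
  obtain ⟨t₀, ht₀⟩ := (hmem V φ₀).2 hφ₀
  let i : Z' ⟶ Red.bc f Z := (bcPointEquiv f Z Z').symm t₀
  have hi : i ≫ (Over.pullback f).map z = z' := by
    apply (bcPointEquiv f G _).injective
    rw [bcPointEquiv_map, MulEquiv.apply_symm_apply, ht₀]
  obtain ⟨y, hy⟩ := (hmem _ (bcPointEquiv f G _ ((Over.pullback f).map z))).1
    ⟨bcPointEquiv f Z _ (𝟙 _), by rw [← bcPointEquiv_map, Category.id_comp]⟩
    _ (𝟙 _) (Red.bc f Z).hom rfl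
  rw [Category.id_comp] at hy
  let jj : Red.bc f Z ⟶ Z' := Over.homMk y.left (Over.w y)
  have hjj : jj ≫ z' = (Over.pullback f).map z := by
    apply (bcPointEquiv f G _).injective
    let c : (Over.map f).obj (Red.bc f Z) ⟶ (Over.map f).obj (Over.mk (Red.bc f Z).hom) :=
      Over.homMk (𝟙 _) (Category.id_comp _)
    have e1 : (Over.map f).map jj = c ≫ (Over.map f).map y :=
      Over.OverMorphism.ext (by simp [c, jj])
    rw [bcPointEquiv_comp, e1, Category.assoc, ← bcPointEquiv_comp, hy, ← Category.assoc]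
    have : c ≫ incl f (W := (Over.map f).obj (Red.bc f Z)) (Red.bc f Z).hom rfl = 𝟙 _ :=
      Over.OverMorphism.ext (by simp [c])
    rw [this]
    exact Category.id_comp _
  let e : Z' ≅ Red.bc f Z :=
    ⟨i, jj, by rw [← cancel_mono z', Category.assoc, hjj, hi, Category.id_comp],
      by rw [← cancel_mono ((Over.pullback f).map z), Category.assoc, hi, hjj, Category.id_comp]⟩
  haveI := Groth.Abvar.isMonHom_map (f := f) z
  haveI : IsMonHom e.hom := Groth.AlgGrp1.isMonHom_of_points _ fun W p q => by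
    rw [← cancel_mono ((Over.pullback f).map z)]
    simp only [e, Category.assoc, MonObj.mul_comp, hi]
  refine ⟨Z, inst, z, hm, inferInstance, isMultTypeFT_descend Z hcov ?_, ?_, ?_⟩
  · obtain ⟨S'', k', h1, h2, h3, hloc⟩ := hMT
    refine ⟨S'', k', h1, h2, h3, fun s ↦ ?_⟩
    obtain ⟨U, hU, M, iM, hM, ⟨φ⟩⟩ := hloc s
    let e' : Red.bc (U.ι ≫ k') Z' ≅ Red.bc (U.ι ≫ k') (Red.bc f Z) := (Over.pullback (U.ι ≫ k')).mapIso e
    haveI : IsMonHom e'.hom := Groth.Abvar.isMonHom_map (f := U.ι ≫ k') e.hom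
    exact ⟨U, hU, M, iM, hM, ⟨(Grp.mkIso' e').symm ≪≫ φ⟩⟩
  · intro X x g
    let q := Limits.pullback.fst X.hom f
    have hq : Groth.Pi1Desc.IsCover q :=
      Groth.Pi1Desc.IsCover.of_isPullback (p := f) (IsPullback.of_hasPullback X.hom f).flip
    let X₁ : Over S := Over.mk (q ≫ X.hom)
    let p : X₁ ⟶ X := Over.homMk q rfl
    haveI := hq
    haveI := Groth.Pi1Desc.IsCover.effectiveEpi q
    haveI : Epi p.left := inferInstanceAs (Epi q)
    haveI : Epi p := Over.epi_of_epi_left p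
    let a : X₁.left ⟶ S' := Limits.pullback.snd X.hom f
    have ha : a ≫ f = X₁.hom := Limits.pullback.condition.symm
    obtain ⟨y, hy⟩ := (hmem _ (x ≫ z)).1 ⟨x, rfl⟩ X₁ p a ha
    have h1 := congrArg (bcPointEquiv f G (Over.mk a))
      (hcen _ y ((bcPointEquiv f G _).symm (incl f a ha ≫ p ≫ g)))
    rw [map_mul, map_mul, MulEquiv.apply_symm_apply, hy, ← MonObj.comp_mul, ← MonObj.comp_mul,
      ← MonObj.comp_mul, ← MonObj.comp_mul] at h1
    rw [← cancel_epi p]
    haveI : IsIso (incl f a ha) := by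
      refine ⟨Over.homMk (𝟙 _) ?_, Over.OverMorphism.ext (Category.id_comp _),
        Over.OverMorphism.ext (Category.id_comp _)⟩
      show 𝟙 _ ≫ a ≫ f = X₁.hom
      rw [Category.id_comp, ha]
    exact (cancel_epi (incl f a ha)).1 h1
  · intro S₂ f₂ H _ v _ hH hv
    obtain ⟨t, ht⟩ := (hmem _ _).2 (mem_of_central hu f₂ hH v hv)
    exact ⟨(bcPointEquiv f₂ Z H).symm t, (bcPointEquiv f₂ G H).injective
      (by rw [bcPointEquiv_map, MulEquiv.apply_symm_apply, ht])⟩

end Groth.Reductive2.SubDescent
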