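import Mathlib.AlgebraicGeometry.Morphisms.Affine
import Mathlib.AlgebraicGeometry.Morphisms.Flat
import Mathlib.CategoryTheory.Monoidal.Cartesian.Over
import Mathlib.RingTheory.Polynomial.Basic
import Mathlib.RingTheory.Localization.Away.Basic

/-!
Points with values in affine schemes: equalities of points of a relatively affine scheme may be checked
after an injective extension of the ring of functions, and generic values of a parameter.
-/

set_option autoImplicit false
universe u

open CategoryTheory CategoryTheory.Limits AlgebraicGeometry Polynomial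

noncomputable section

namespace Groth.Reductive2

variable {S : Scheme.{u}}

/-- Pullback of functions along a morphism over `S`. -/
abbrev pull {X Y : Over S} (q : Y ⟶ X) : Γ(X.left, ⊤) →+* Γ(Y.left, ⊤) := q.left.appTop.hom

@[simp] lemma pull_id {X : Over S} : pull (𝟙 X) = RingHom.id _ := by simp [pull]

lemma pull_comp {X Y Z : Over S} (r : Z ⟶ Y) (q : Y ⟶ X) :
    pull (r ≫ q) = (pull r).comp (pull q) := by
  simp [pull]

lemma pull_comp_apply {X Y Z : Over S} (r : Z ⟶ Y) (q : Y ⟶ X) (a : Γ(X.left, ⊤)) :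
    pull (r ≫ q) a = pull r (pull q a) := by
  simp [pull]

/-- Points of a relatively affine scheme are determined after an injective extension of functions. -/
theorem ext_of_injective {H : Over S} [IsAffineHom H.hom] {X X' : Over S} [IsAffine X.left] (q : X' ⟶ X)
    (hq : Function.Injective (pull q)) {f g : X ⟶ H} (h : q ≫ f = q ≫ g) : f = g := by
  have : IsAffineHom (pullback.snd H.hom X.hom) := MorphismProperty.pullback_snd _ _ inferInstance
  have : IsAffine (pullback H.hom X.hom) := isAffine_of_isAffineHom (pullback.snd H.hom X.hom)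
  let F (e : X ⟶ H) : X.left ⟶ pullback H.hom X.hom :=
    pullback.lift e.left (𝟙 _) ((Over.w e).trans (Category.id_comp _).symm)
  have hF : q.left ≫ F f = q.left ≫ F g := by
    apply pullback.hom_ext
    · simp only [F, Category.assoc, pullback.lift_fst]
      exact congrArg CommaMorphism.left h
    · simp only [F, Category.assoc]
      erw [pullback.lift_snd, pullback.lift_snd]
  have hFG : F f = F g := ext_of_isAffine (by
    ext a
    refine hq ?_
    have := congrArg (fun m ↦ m.appTop.hom a) hF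
    simpa [pull] using this)
  apply Over.OverMorphism.ext
  have h1 := hFG =≫ pullback.fst _ _
  simp only [F] at h1
  erw [pullback.lift_fst, pullback.lift_fst] at h1
  exact h1

/-- Morphisms out of `X` are determined on its affine opens. -/
theorem hom_ext_affine {X H : Over S} {f g : X ⟶ H}
    (h : ∀ (U : Over S) (j : U ⟶ X), IsAffine U.left → j ≫ f = j ≫ g) : f = g := by
  apply Over.OverMorphism.ext
  refine Scheme.Cover.hom_ext X.left.affineCover _ _ fun i ↦ ?_
  exact congrArg CommaMorphism.left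
    (h (Over.mk (X.left.affineCover.f i ≫ X.hom)) (Over.homMk (X.left.affineCover.f i) rfl)
      (inferInstanceAs (IsAffine (X.left.affineCover.X i))))

/-- The affine scheme of a ring over the functions of `X`, over `S`. -/
abbrev ext {X : Over S} [IsAffine X.left] {R : Type u} [CommRing R] (φ : Γ(X.left, ⊤) →+* R) : Over S :=
  Over.mk (Spec.map (CommRingCat.ofHom φ) ≫ X.left.isoSpec.inv ≫ X.hom)

/-- The projection of `ext φ`. -/
def extProj {X : Over S} [IsAffine X.left] {R : Type u} [CommRing R] (φ : Γ(X.left, ⊤) →+* R) : ext φ ⟶ X :=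
  Over.homMk (Spec.map (CommRingCat.ofHom φ) ≫ X.left.isoSpec.inv) (Category.assoc _ _ _)

/-- Functions on `ext φ`. -/
abbrev extFn {X : Over S} [IsAffine X.left] {R : Type u} [CommRing R] (φ : Γ(X.left, ⊤) →+* R) (r : R) :
    Γ((ext φ).left, ⊤) :=
  (Scheme.ΓSpecIso (CommRingCat.of R)).inv r

lemma pull_extProj {X : Over S} [IsAffine X.left] {R : Type u} [CommRing R] (φ : Γ(X.left, ⊤) →+* R)
    (a : Γ(X.left, ⊤)) : pull (extProj φ) a = extFn φ (φ a) := by
  have h : (Spec.map (CommRingCat.ofHom φ) ≫ X.left.isoSpec.inv).appTop =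
      CommRingCat.ofHom φ ≫ (Scheme.ΓSpecIso (CommRingCat.of R)).inv := by
    rw [Scheme.Hom.comp_appTop, Scheme.ΓSpecIso_inv_naturality]
    congr 1
    have e : X.left.isoSpec.inv.appTop ≫ X.left.isoSpec.hom.appTop = 𝟙 _ := by
      rw [← Scheme.Hom.comp_appTop, Iso.hom_inv_id, Scheme.Hom.id_appTop]
    rw [Scheme.isoSpec_hom, Scheme.toSpecΓ_appTop] at e
    exact ((Iso.comp_hom_eq_id _).mp e).trans rfl
  exact congrArg (fun m ↦ m.hom a) h

lemma injective_pull_extProj {X : Over S} [IsAffine X.left] {R : Type u} [CommRing R]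
    {φ : Γ(X.left, ⊤) →+* R} (hφ : Function.Injective φ) : Function.Injective (pull (extProj φ)) :=
  fun a b h ↦ hφ (by
    rw [pull_extProj, pull_extProj] at h
    exact (Scheme.ΓSpecIso (CommRingCat.of R)).symm.commRingCatIsoToRingEquiv.injective h)

/-- A morphism into `ext φ` from a ring map. -/
theorem exists_extLift {X Y : Over S} [IsAffine X.left] {R : Type u} [CommRing R] (φ : Γ(X.left, ⊤) →+* R)
    (q : Y ⟶ X) (ψ : R →+* Γ(Y.left, ⊤)) (hψ : ψ.comp φ = pull q) :
    ∃ σ : Y ⟶ ext φ, σ ≫ extProj φ = q ∧ ∀ r, pull σ (extFn φ r) = ψ r := by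
  let m : Y.left ⟶ Spec (CommRingCat.of R) := Y.left.toSpecΓ ≫ Spec.map (CommRingCat.ofHom ψ)
  have hm : m ≫ Spec.map (CommRingCat.ofHom φ) ≫ X.left.isoSpec.inv = q.left := by
    simp only [m, Category.assoc]
    rw [← Spec.map_comp_assoc, ← CommRingCat.ofHom_comp, hψ]
    simp only [pull, CommRingCat.ofHom_hom]
    rw [← Scheme.toSpecΓ_naturality_assoc]
    simp [← Scheme.isoSpec_hom]
  refine ⟨Over.homMk m ?_, Over.OverMorphism.ext hm, fun r ↦ ?_⟩
  · show m ≫ Spec.map (CommRingCat.ofHom φ) ≫ X.left.isoSpec.inv ≫ X.hom = Y.hom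
    rw [reassoc_of% hm]
    exact Over.w q
  · have h : m.appTop = (Scheme.ΓSpecIso (CommRingCat.of R)).hom ≫ CommRingCat.ofHom ψ := by
      simp only [m, Scheme.Hom.comp_appTop, Scheme.toSpecΓ_appTop]
      exact Scheme.ΓSpecIso_naturality (CommRingCat.ofHom ψ)
    show m.appTop.hom _ = _
    rw [h]
    exact congrArg ψ (Iso.inv_hom_id_apply (Scheme.ΓSpecIso (CommRingCat.of R)) r)

/-- A generic value of a parameter at which a given polynomial is invertible. -/
theorem exists_generic {X : Over S} [IsAffine X.left] (f : Γ(X.left, ⊤)[X]) (hf : ∃ n, IsUnit (f.coeff n)) :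
    ∃ (X₁ X₂ : Over S) (q₁ : X₁ ⟶ X) (j : X₂ ⟶ X₁) (t : Γ(X₁.left, ⊤)), IsAffine X₁.left ∧
      IsAffine X₂.left ∧ Function.Injective (pull j) ∧ Function.Injective (pull (j ≫ q₁)) ∧
      IsUnit (f.eval₂ (pull (j ≫ q₁)) (pull j t)) ∧
      ∀ r : Γ(X.left, ⊤), ∃ σ : X ⟶ X₁, σ ≫ q₁ = 𝟙 X ∧ pull σ t = r := by
  set A : Type u := ↑Γ(X.left, ⊤)
  let X₁ : Over S := ext (Polynomial.C : A →+* A[X])
  have : IsAffine X₁.left := inferInstanceAs (IsAffine (Spec (CommRingCat.of A[X])))
  let e : A[X] ≃+* Γ(X₁.left, ⊤) := (Scheme.ΓSpecIso (CommRingCat.of A[X])).symm.commRingCatIsoToRingEquiv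
  have hf0 : f ∈ nonZeroDivisors A[X] := by
    by_contra hn
    obtain ⟨a, ha, h0⟩ := Polynomial.notMem_nonZeroDivisors_iff.mp hn
    obtain ⟨n, hu⟩ := hf
    have := congrArg (fun p : A[X] ↦ p.coeff n) h0
    simp only [coeff_smul, smul_eq_mul, coeff_zero] at this
    exact ha (hu.mul_left_eq_zero.mp this)
  have hef : e f ∈ nonZeroDivisors Γ(X₁.left, ⊤) :=
    MulEquivClass.map_nonZeroDivisors e ▸ Submonoid.mem_map_of_mem e.toMonoidHom hf0
  let φ : Γ(X₁.left, ⊤) →+* Localization.Away (e f) := algebraMap _ _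
  have hφ : Function.Injective φ :=
    IsLocalization.injective (Localization.Away (e f)) (Submonoid.powers_le.mpr hef)
  have hunit : IsUnit (φ (e f)) := IsLocalization.Away.algebraMap_isUnit (e f)
  refine ⟨X₁, ext φ, extProj _, extProj φ, e Polynomial.X, ‹_›, inferInstanceAs (IsAffine (Spec _)),
    injective_pull_extProj hφ, ?_, ?_, fun r ↦ ?_⟩
  · rw [pull_comp]
    exact (injective_pull_extProj hφ).comp (injective_pull_extProj Polynomial.C_injective)
  · have hC : ∀ a, pull (extProj (Polynomial.C : A →+* A[X])) a = e (Polynomial.C a) := pull_extProj _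
    have : f.eval₂ (pull (extProj φ ≫ extProj Polynomial.C)) (pull (extProj φ) (e Polynomial.X)) =
        pull (extProj φ) (e f) := by
      rw [pull_comp, ← Polynomial.hom_eval₂]
      congr 1
      have : (f.eval₂ ((e : A[X] →+* Γ(X₁.left, ⊤)).comp Polynomial.C) ((e : A[X] →+* _) Polynomial.X)) = e f := by
        rw [← Polynomial.hom_eval₂, Polynomial.eval₂_C_X]; rfl
      convert this using 2
      · ext a; exact hC a
      · rfl
    rw [this, pull_extProj]
    exact hunit.map _
  · obtain ⟨σ, hσ, hσr⟩ := exists_extLift (Polynomial.C : A →+* A[X]) (𝟙 X) (evalRingHom r)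
      (by ext a; simp [pull])
    exact ⟨σ, hσ, (hσr Polynomial.X).trans eval_X⟩

end Groth.Reductive2
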