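import Groth.Agent.Reductive2.BorelNonAffine2
import Groth.Agent.GrpschAbsch.FibreFlat

/-!
Borel subgroups and quotients by central subgroups, over an algebraically closed field.
-/

set_option autoImplicit false
set_option linter.style.haveILetI false
universe u

open CategoryTheory Limits MonoidalCategory CartesianMonoidalCategory MonObj GrpObj AlgebraicGeometry
open Groth.AlgGrp1

noncomputable section

namespace Groth.Reductive2.BorelCentralQuot

variable {k : Type u} [Field k] [IsAlgClosed k]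


theorem flat_of_surjective_borel {B B' : (Over (Spec (CommRingCat.of k)))} [GrpObj B] [GrpObj B'] [Smooth B.hom] [QuasiCompact B.hom]
    [Smooth B'.hom] (p : B ⟶ B') [IsMonHom p] [Surjective p.left] : Flat p.left := by
  haveI : GeometricallyReduced B'.hom := geometricallyReduced_of_smooth_hom B'
  exact Groth.GrpschAbsch.FibreFlat.flat_of_surjective_field p

/-- The affine quotients of the source and of the target of a surjective homomorphism with central kernel. -/
structure Data {G G' : (Over (Spec (CommRingCat.of k)))} [GrpObj G] [GrpObj G'] (u : G ⟶ G') (E E' : (Over (Spec (CommRingCat.of k)))) [GrpObj E] [GrpObj E']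
    (q : G ⟶ E) (q' : G' ⟶ E') (e : E ⟶ E') : Prop where
  affine : IsAffine E.left
  affine' : IsAffine E'.left
  smooth : Smooth E.hom
  smooth' : Smooth E'.hom
  connected : ConnectedSpace E.left
  connected' : ConnectedSpace E'.left
  isMonHom : IsMonHom e
  surjective : Surjective e.left
  comm : q ≫ e = u ≫ q'
  preimage : ∀ {B : (Over (Spec (CommRingCat.of k)))} [GrpObj B] {iB : B ⟶ E}, Red.IsBorelOver k iB →
    ∃ (D : (Over (Spec (CommRingCat.of k)))) (_ : GrpObj D) (d : D ⟶ G), Red.IsBorelOver k d ∧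
      ∀ (W : (Over (Spec (CommRingCat.of k)))) (g : W ⟶ G), (∃ y, y ≫ d = g) ↔ ∃ y, y ≫ iB = g ≫ q
  preimage' : ∀ {B : (Over (Spec (CommRingCat.of k)))} [GrpObj B] {iB : B ⟶ E'}, Red.IsBorelOver k iB →
    ∃ (D : (Over (Spec (CommRingCat.of k)))) (_ : GrpObj D) (d : D ⟶ G'), Red.IsBorelOver k d ∧
      ∀ (W : (Over (Spec (CommRingCat.of k)))) (g : W ⟶ G'), (∃ y, y ≫ d = g) ↔ ∃ y, y ≫ iB = g ≫ q'
  image : ∀ {D : (Over (Spec (CommRingCat.of k)))} [GrpObj D] {d : D ⟶ G}, Red.IsBorelOver k d →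
    ∃ (B : (Over (Spec (CommRingCat.of k)))) (_ : GrpObj B) (iB : B ⟶ E), Red.IsBorelOver k iB ∧
      ∀ (W : (Over (Spec (CommRingCat.of k)))) (g : W ⟶ G), (∃ y, y ≫ d = g) ↔ ∃ y, y ≫ iB = g ≫ q
  image' : ∀ {D : (Over (Spec (CommRingCat.of k)))} [GrpObj D] {d : D ⟶ G'}, Red.IsBorelOver k d →
    ∃ (B : (Over (Spec (CommRingCat.of k)))) (_ : GrpObj B) (iB : B ⟶ E'), Red.IsBorelOver k iB ∧
      ∀ (W : (Over (Spec (CommRingCat.of k)))) (g : W ⟶ G'), (∃ y, y ≫ d = g) ↔ ∃ y, y ≫ iB = g ≫ q'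
  kernel : ∀ {B : (Over (Spec (CommRingCat.of k)))} [GrpObj B] {iB : B ⟶ E}, Red.IsBorelOver k iB →
    ∀ (T : (Over (Spec (CommRingCat.of k)))) (z : T ⟶ E), z ≫ e = 1 → ∃ y, y ≫ iB = z

variable {G G' : (Over (Spec (CommRingCat.of k)))} [GrpObj G] [GrpObj G'] [Smooth G.hom] [QuasiCompact G.hom] [ConnectedSpace G.left]
  [Smooth G'.hom] [QuasiCompact G'.hom] [ConnectedSpace G'.left]
  (u : G ⟶ G') [IsMonHom u] [Surjective u.left]

theorem exists_data
    (hcen : ∀ (X : (Over (Spec (CommRingCat.of k)))) (z : X ⟶ G), z ≫ u = 1 → ∀ (X' : (Over (Spec (CommRingCat.of k)))) (x : X' ⟶ X) (g : X' ⟶ G),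
      (x ≫ z) * g = g * (x ≫ z)) :
    ∃ (E E' : (Over (Spec (CommRingCat.of k)))) (_ : GrpObj E) (_ : GrpObj E') (q : G ⟶ E) (q' : G' ⟶ E') (e : E ⟶ E'),
      Data u E E' q q' e := by
  obtain ⟨M, _, m, E, _, q, hm, hmc, hMs, hMq, hMc, hEa, hEs, hEc, hqm, hqf, hqs, hqq, hker, -, hMK, hMcen⟩ :=
    exists_central_affine_quotient G
  obtain ⟨M', _, m', E', _, q', hm', hmc', hMs', hMq', hMc', hEa', hEs', hEc', hqm', hqf', hqs', hqq', hker', -,
    -, hMcen'⟩ := exists_central_affine_quotient G'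
  haveI := hm; haveI := hmc; haveI := hMs; haveI := hMq; haveI := hMc; haveI := hEa; haveI := hEs; haveI := hEc
  haveI := hqm; haveI := hqf; haveI := hqs; haveI := hqq
  haveI := hm'; haveI := hmc'; haveI := hMs'; haveI := hMq'; haveI := hMc'; haveI := hEa'; haveI := hEs'
  haveI := hEc'; haveI := hqm'; haveI := hqf'; haveI := hqs'; haveI := hqq'
  obtain ⟨w, hw⟩ : ∃ w : G ⟶ E', w = u ≫ q' := ⟨_, rfl⟩
  haveI : IsMonHom w := by rw [hw]; infer_instance
  have hmw : m ≫ w = 1 := by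
    rw [hMK.over_eq_const (m ≫ w) η[M], IsMonHom.one_hom]
    rfl
  obtain ⟨e, he⟩ := (isCover q).exists_desc w fun T a b hab => by
    obtain ⟨n, hn⟩ := IsKernel.exists_lift hker (a⁻¹ * b)
      (by rw [MonObj.mul_comp, GrpObj.inv_comp, hab, inv_mul_cancel])
    have h0 : (a⁻¹ * b) ≫ w = 1 := by rw [← hn, Category.assoc, hmw, MonObj.comp_one]
    rw [MonObj.mul_comp, GrpObj.inv_comp] at h0
    exact inv_mul_eq_one.1 h0
  haveI : IsMonHom e := isMonHom_of_points _ fun T a b => by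
    obtain ⟨T', c, ab, hc, hab⟩ := (isCover q).exists_lift a
    obtain ⟨T'', c', bb, hc', hbb⟩ := (isCover q).exists_lift (c ≫ b)
    refine (hc'.comp hc).cancel ?_
    have ha : (c' ≫ ab) ≫ q = (c' ≫ c) ≫ a := by rw [Category.assoc, hab, Category.assoc]
    rw [← Category.assoc] at hbb
    rw [← Category.assoc (c' ≫ c) (a * b), MonObj.comp_mul, ← ha, ← hbb, ← MonObj.mul_comp, Category.assoc, he,
      MonObj.mul_comp, MonObj.comp_mul, ← Category.assoc (c' ≫ c) a, ← ha, ← Category.assoc (c' ≫ c) b, ← hbb,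
      Category.assoc (c' ≫ ab), Category.assoc bb, he]
  haveI : Surjective e.left := by
    haveI : Surjective (q.left ≫ e.left) := by rw [← Over.comp_left, he, hw, Over.comp_left]; infer_instance
    exact Surjective.of_comp q.left e.left
  refine ⟨E, E', inferInstance, inferInstance, q, q', e, ⟨hEa, hEa', hEs, hEs', hEc, hEc', inferInstance,
    inferInstance, he.trans hw, fun hB => BorelNonAffine.exists_borel_preimage q m hker hMcen hB,
    fun hB => BorelNonAffine.exists_borel_preimage q' m' hker' hMcen' hB,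
    fun hD => BorelNonAffine.exists_borel_image q m hker hMcen hD,
    fun hD => BorelNonAffine.exists_borel_image q' m' hker' hMcen' hD, ?_⟩⟩
  intro B _ iB hB T z hz
  obtain ⟨D, _, d, hD, hmem⟩ := BorelNonAffine.exists_borel_preimage q m hker hMcen hB
  haveI : IsClosedImmersion iB.left := hB.2.1
  haveI : Mono iB := Over.mono_of_mono_left iB
  haveI := hD.1
  obtain ⟨T', c, t, hc, ht⟩ := (isCover q).exists_lift z
  obtain ⟨n, hn⟩ := IsKernel.exists_lift hker' (t ≫ u)
    (by rw [Category.assoc, ← hw, ← he, ← Category.assoc, ht, Category.assoc, hz, MonObj.comp_one])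
  have htn : Normalizes d t := fun X x h => by
    have key : ∀ (r : X ⟶ G) (nr : X ⟶ M'), nr ≫ m' = r ≫ u →
        ∃ h' : X ⟶ D, r * (h ≫ d) * r⁻¹ = h' ≫ d := fun r nr hnr => by
      have h1 : (r * (h ≫ d) * r⁻¹ * (h ≫ d)⁻¹) ≫ u = 1 := by
        simp only [MonObj.mul_comp, GrpObj.inv_comp]
        rw [← hnr, hMcen' X nr ((h ≫ d) ≫ u), mul_inv_cancel_right, mul_inv_cancel]
      obtain ⟨y, hy⟩ := BorelNonAffine.mem_borel_of_central hD _ (hcen X _ h1)
      exact ⟨y * h, by rw [MonObj.mul_comp, hy, inv_mul_cancel_right]⟩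
    refine ⟨key (x ≫ t) (x ≫ n) (by rw [Category.assoc, hn, Category.assoc]), ?_⟩
    obtain ⟨h', hh'⟩ := key (x ≫ t)⁻¹ ((x ≫ n)⁻¹)
      (by rw [GrpObj.inv_comp, GrpObj.inv_comp, Category.assoc, hn, Category.assoc])
    exact ⟨h', by rwa [_root_.inv_inv] at hh'⟩
  obtain ⟨y, hy⟩ := ((BorelNonAffine.isNormalizerOf_borel hD).2.2 T' t).2 htn
  obtain ⟨y', hy'⟩ := (hmem T' t).1 ⟨y, hy⟩
  obtain ⟨z', hz'⟩ := hc.exists_desc y' fun X a b hab => by
    rw [← cancel_mono iB, Category.assoc, Category.assoc, hy', ht, ← Category.assoc, hab, Category.assoc]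
  exact ⟨z', hc.cancel (by rw [← Category.assoc, hz', hy', ht])⟩

include u in
/-- **Borel subgroups of a central quotient pull back to Borel subgroups.** -/
theorem exists_borel_preimage
    (hcen : ∀ (X : (Over (Spec (CommRingCat.of k)))) (z : X ⟶ G), z ≫ u = 1 → ∀ (X' : (Over (Spec (CommRingCat.of k)))) (x : X' ⟶ X) (g : X' ⟶ G),
      (x ≫ z) * g = g * (x ≫ z))
    {B' : (Over (Spec (CommRingCat.of k)))} [GrpObj B'] {b' : B' ⟶ G'} (hB' : Red.IsBorelOver k b') :
    ∃ (D : (Over (Spec (CommRingCat.of k)))) (_ : GrpObj D) (d : D ⟶ G), Red.IsBorelOver k d ∧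
      ∀ (W : (Over (Spec (CommRingCat.of k)))) (g : W ⟶ G), (∃ y, y ≫ d = g) ↔ ∃ y, y ≫ b' = g ≫ u := by
  obtain ⟨E, E', _, _, q, q', e, hd⟩ := exists_data u hcen
  haveI := hd.affine; haveI := hd.affine'; haveI := hd.smooth; haveI := hd.smooth'
  haveI := hd.connected; haveI := hd.connected'; haveI := hd.isMonHom; haveI := hd.surjective
  obtain ⟨C, _, iC, hC, hmemC⟩ := hd.image' hB'
  obtain ⟨B, _, iB, p, hB, hps, hp⟩ := exists_borel_lift e hC
  haveI := hB.1; haveI : IsClosedImmersion iB.left := hB.2.1; haveI := hB.2.2.1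
  haveI := hC.1; haveI : IsClosedImmersion iC.left := hC.2.1; haveI := hC.2.2.1; haveI := hps
  haveI : Mono iB := Over.mono_of_mono_left iB
  haveI : Mono iC := Over.mono_of_mono_left iC
  haveI : QuasiCompact B.hom := by rw [← Over.w iB]; infer_instance
  haveI : IsMonHom p := isMonHom_of_points _ fun T a b => by
    rw [← cancel_mono iC, MonObj.mul_comp (a ≫ p), Category.assoc, Category.assoc, Category.assoc, hp,
      ← Category.assoc, MonObj.mul_comp a b iB, MonObj.mul_comp, Category.assoc, Category.assoc]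
  haveI := flat_of_surjective_borel p
  obtain ⟨D, gD, d, hD, hmem⟩ := hd.preimage hB
  refine ⟨D, gD, d, hD, fun W g => ?_⟩
  rw [hmem, hmemC]
  constructor
  · rintro ⟨y, hy⟩
    exact ⟨y ≫ p, by rw [Category.assoc, hp, ← Category.assoc, hy, Category.assoc, hd.comm, Category.assoc]⟩
  · rintro ⟨y, hy⟩
    obtain ⟨W', c, r, hc, hr⟩ := (isCover p).exists_lift y
    obtain ⟨z, hz⟩ := hd.kernel hB W' ((c ≫ g ≫ q) * (r ≫ iB)⁻¹) (by
      rw [MonObj.mul_comp, GrpObj.inv_comp, Category.assoc r, ← hp, ← Category.assoc r, hr, Category.assoc c y,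
        hy]
      simp only [Category.assoc, hd.comm]
      rw [mul_inv_cancel])
    have key : (z * r) ≫ iB = c ≫ g ≫ q := by rw [MonObj.mul_comp, hz, inv_mul_cancel_right]
    obtain ⟨z', hz'⟩ := hc.exists_desc (z * r) fun X a b hab => by
      rw [← cancel_mono iB, Category.assoc, Category.assoc, key, ← Category.assoc, hab, Category.assoc]
    exact ⟨z', hc.cancel (by rw [← Category.assoc, hz', key])⟩

include u in
/-- **Every Borel subgroup is the preimage of a Borel subgroup of a central quotient.** -/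
theorem exists_borel_image
    (hcen : ∀ (X : (Over (Spec (CommRingCat.of k)))) (z : X ⟶ G), z ≫ u = 1 → ∀ (X' : (Over (Spec (CommRingCat.of k)))) (x : X' ⟶ X) (g : X' ⟶ G),
      (x ≫ z) * g = g * (x ≫ z))
    {D₁ : (Over (Spec (CommRingCat.of k)))} [GrpObj D₁] {d₁ : D₁ ⟶ G} (hD₁ : Red.IsBorelOver k d₁) :
    ∃ (B' : (Over (Spec (CommRingCat.of k)))) (_ : GrpObj B') (b' : B' ⟶ G'), Red.IsBorelOver k b' ∧
      ∀ (W : (Over (Spec (CommRingCat.of k)))) (g : W ⟶ G), (∃ y, y ≫ d₁ = g) ↔ ∃ y, y ≫ b' = g ≫ u := by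
  obtain ⟨E, E', _, _, q, q', e, hd⟩ := exists_data u hcen
  haveI := hd.affine; haveI := hd.affine'; haveI := hd.smooth; haveI := hd.smooth'
  haveI := hd.connected; haveI := hd.connected'; haveI := hd.isMonHom; haveI := hd.surjective
  obtain ⟨B₂, _, iB₂, hB₂, hmem₂⟩ := hd.image hD₁
  obtain ⟨C₀, _, iC₀, _, X, a, o, hC₀, -, -⟩ := exists_borel_proper (G := E')
  obtain ⟨B, _, iB, p, hB, hps, hp⟩ := exists_borel_lift e hC₀
  haveI := hB.1; haveI : IsClosedImmersion iB.left := hB.2.1; haveI := hB.2.2.1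
  haveI := hC₀.1; haveI : IsClosedImmersion iC₀.left := hC₀.2.1; haveI := hC₀.2.2.1; haveI := hps
  haveI : Mono iB := Over.mono_of_mono_left iB
  haveI : Mono iC₀ := Over.mono_of_mono_left iC₀
  obtain ⟨x, f, hf⟩ := borel_conj hB hB₂
  have hconjB : Red.IsBorelOver k (AGF.conjBy x iB) := isBorelOver_conj hB x
  obtain ⟨B', gB', b', hb', hmem'⟩ := hd.preimage' (isBorelOver_conj hC₀ (x ≫ e))
  refine ⟨B', gB', b', hb', fun W g => ?_⟩
  rw [hmem₂, hmem']
  constructor
  · rintro ⟨y, hy⟩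
    refine ⟨y ≫ f.inv ≫ p, ?_⟩
    rw [Category.assoc, Category.assoc, comp_conjBy', hp, Category.assoc g u, ← hd.comm, ← Category.assoc g q,
      ← hy, Category.assoc y, ← f.inv_hom_id_assoc iB₂, hf]
    simp only [comp_conjBy', Category.assoc, AGF.conjBy]
    simp only [MonObj.mul_comp, GrpObj.inv_comp, MonObj.comp_mul, GrpObj.comp_inv, Category.assoc]
    simp only [← Category.assoc, toUnit_unique (y ≫ toUnit B₂) (toUnit W)]
  · rintro ⟨y, hy⟩
    haveI : QuasiCompact B.hom := by rw [← Over.w iB]; infer_instance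
    haveI : IsMonHom p := isMonHom_of_points _ fun T a b => by
      rw [← cancel_mono iC₀, MonObj.mul_comp (a ≫ p), Category.assoc, Category.assoc, Category.assoc, hp,
        ← Category.assoc, MonObj.mul_comp a b iB, MonObj.mul_comp, Category.assoc, Category.assoc]
    haveI := flat_of_surjective_borel p
    haveI : Mono iB₂ := BorelNonAffine.mono_of_closed _ hB₂.2.1
    obtain ⟨W', c, r, hc, hr⟩ := (isCover p).exists_lift y
    obtain ⟨z, hz⟩ := hd.kernel hB₂ W' ((c ≫ g ≫ q) * ((r ≫ f.hom) ≫ iB₂)⁻¹) (by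
      rw [Category.assoc r, hf, MonObj.mul_comp, GrpObj.inv_comp, Category.assoc c, Category.assoc g, hd.comm,
        ← Category.assoc g u q', ← hy, ← Category.assoc c y, ← hr]
      simp only [comp_conjBy', Category.assoc, hp, AGF.conjBy]
      simp only [MonObj.mul_comp, GrpObj.inv_comp, MonObj.comp_mul, GrpObj.comp_inv, Category.assoc]
      rw [mul_inv_cancel])
    have key : (z * (r ≫ f.hom)) ≫ iB₂ = c ≫ g ≫ q := by
      haveI := hB₂.1
      rw [MonObj.mul_comp, hz, inv_mul_cancel_right]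
    obtain ⟨z', hz'⟩ := hc.exists_desc (z * (r ≫ f.hom)) fun X a b hab => by
      rw [← cancel_mono iB₂, Category.assoc, Category.assoc, key, ← Category.assoc, hab, Category.assoc]
    exact ⟨z', hc.cancel (by rw [← Category.assoc, hz', key])⟩

end Groth.Reductive2.BorelCentralQuot
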