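import Groth.Agent.Reductive2.BorelNonAffine2
import Groth.Agent.Reductive2.BorelFiniteExist
import Groth.Agent.GrpschAbsch.NeutralSet
import Groth.Agent.S5393
import Groth.Agent.S5260
import Groth.Agent.AbvarAlb.HomDescent

/-!
Borel subgroups over a base: fibres, self-normalization and closedness.
-/

set_option autoImplicit false
set_option linter.style.haveILetI false
universe u

open CategoryTheory Limits MonoidalCategory CartesianMonoidalCategory MonObj GrpObj AlgebraicGeometry
open Groth.AlgGrp1 Groth.AlgGrp2

noncomputable section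

namespace Groth.Reductive2.BorelBase

/-- Base change of a normalizing point normalizes. -/
theorem normalizes_bc' {S S' : Scheme.{u}} (φ : S' ⟶ S)
    {G H : Over S} [GrpObj G] [GrpObj H] {i : H ⟶ G} {X : Over S}
    {g : X ⟶ G} (hg : Normalizes i g) : Normalizes ((Over.pullback φ).map i) ((Over.pullback φ).map g) := by
  intro X' x h
  obtain ⟨⟨a, ha⟩, ⟨b, hb⟩⟩ := hg _ (bcPt φ x) (bcPt φ h)
  refine ⟨⟨bcPtInv φ a, bcPt_injective φ ?_⟩, ⟨bcPtInv φ b, bcPt_injective φ ?_⟩⟩ <;>
    simp only [bcPt_mul, bcPt_inv, bcPt_comp_map, bcPt_bcPtInv, ha, hb]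

variable {S : Scheme.{u}}

/-- The map from the residue field to the algebraic closure. -/
abbrev toBar (s : S) : Spec (CommRingCat.of (AlgebraicClosure (S.residueField s))) ⟶
    Spec (CommRingCat.of (S.residueField s)) :=
  Spec.map (CommRingCat.ofHom (algebraMap (S.residueField s) (AlgebraicClosure (S.residueField s))))

/-- The point of the base. -/
abbrev fibPt (s : S) : Spec (CommRingCat.of (S.residueField s)) ⟶ S := S.fromSpecResidueField s

/-- The geometric fibre as base change of the fibre. -/
def geomIso (s : S) (X : Over S) :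
    (Over.pullback (Red.geomPt s)).obj X ≅ (Over.pullback (toBar s)).obj ((Over.pullback (fibPt s)).obj X) :=
  (Over.pullbackComp (toBar s) (fibPt s)).app X

theorem geomIso_natural (s : S) {X Y : Over S} (f : X ⟶ Y) :
    (Over.pullback (Red.geomPt s)).map f ≫ (geomIso s Y).hom =
      (geomIso s X).hom ≫ (Over.pullback (toBar s)).map ((Over.pullback (fibPt s)).map f) :=
  (Over.pullbackComp (toBar s) (fibPt s)).hom.naturality f

theorem connectedSpace_left_of_iso {T : Scheme.{u}} {X Y : Over T} (e : X ≅ Y) [ConnectedSpace X.left] :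
    ConnectedSpace Y.left := by
  haveI : IsIso e.hom.left := inferInstanceAs (IsIso ((Over.forget T).map e.hom))
  exact e.hom.left.surjective.connectedSpace e.hom.left.continuous

/-- A subgroup with connected geometric fibres has connected fibres. -/
theorem connectedSpace_fibre_of_geom (s : S) (B : Over S)
    [ConnectedSpace ((Over.pullback (Red.geomPt s)).obj B).left] :
    ConnectedSpace ((Over.pullback (fibPt s)).obj B).left := by
  haveI : ConnectedSpace (Red.bc (toBar s) (Red.bc (fibPt s) B)).left := connectedSpace_left_of_iso (geomIso s B)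
  exact connectedSpace_of_bc (toBar s)

variable (G : Over S) [GrpObj G]

theorem connectedSpace_fibre (hconn : ∀ s : S, _root_.IsConnected (G.hom.base ⁻¹' {s})) (s : S) :
    ConnectedSpace ((Over.pullback (fibPt s)).obj G).left := by
  haveI := isConnected_iff_connectedSpace.mp (hconn s)
  exact (G.hom.fiberHomeo s).connectedSpace_iff.mpr this

theorem connectedSpace_geomFibre [LocallyOfFiniteType G.hom]
    (hconn : ∀ s : S, _root_.IsConnected (G.hom.base ⁻¹' {s})) (s : S) :
    ConnectedSpace ((Over.pullback (Red.geomPt s)).obj G).left := by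
  haveI : ConnectedSpace (Red.bc (fibPt s) G).left := connectedSpace_fibre G hconn s
  haveI : LocallyOfFiniteType (Red.bc (fibPt s) G).hom :=
    inferInstanceAs (LocallyOfFiniteType (pullback.snd G.hom (fibPt s)))
  haveI : ConnectedSpace (Red.bc (toBar s) (Red.bc (fibPt s) G)).left :=
    Groth.AlgGrp1.connectedSpace_bc (toBar s) (Red.bc (fibPt s) G)
  exact connectedSpace_left_of_iso (geomIso s G).symm

/-- A morphism which is an isomorphism on the geometric fibre is one on the fibre. -/
theorem isIso_fibre_of_geom (s : S) {X Y : Over S} (f : X ⟶ Y) [IsIso ((Over.pullback (Red.geomPt s)).map f)] :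
    IsIso ((Over.pullback (fibPt s)).map f) := by
  refine Groth.AbvarAlb.isIso_of_bc (K := AlgebraicClosure (S.residueField s)) _ ?_
  have h : (Over.pullback (toBar s)).map ((Over.pullback (fibPt s)).map f) =
      (geomIso s X).inv ≫ (Over.pullback (Red.geomPt s)).map f ≫ (geomIso s Y).hom := by
    rw [geomIso_natural, Iso.inv_hom_id_assoc]
  show IsIso ((Over.pullback (toBar s)).map ((Over.pullback (fibPt s)).map f))
  rw [h]
  infer_instance

/-- A monomorphism to a finite type scheme from a flat finitely presented one, which is an isomorphism on all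
fibres, is an isomorphism. -/
theorem isIso_of_fibres {H N : Over S} [Flat H.hom] [LocallyOfFinitePresentation H.hom]
    [LocallyOfFiniteType N.hom] (j : H ⟶ N) [Mono j]
    (hf : ∀ s : S, IsIso ((Over.pullback (fibPt s)).map j)) : IsIso j := by
  have hleft : ∀ s : S, IsIso ((Over.pullback (fibPt s)).map j).left := fun s =>
    haveI := hf s
    inferInstanceAs (IsIso ((Over.forget _).map ((Over.pullback (fibPt s)).map j)))
  haveI : Flat j.left := Groth.Agent.S5393.flat_of_fibres j fun s => by
    haveI := hleft s
    exact inferInstanceAs (IsOpenImmersion ((Over.pullback (fibPt s)).map j).left)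
  haveI : LocallyOfFinitePresentation (j.left ≫ N.hom) := by rw [Over.w]; infer_instance
  haveI : LocallyOfFinitePresentation j.left := Groth.PropsBasic2.lfp_of_comp j.left N.hom
  haveI : Mono j.left := (Over.forget S).map_mono j
  haveI : IsOpenImmersion j.left := IsOpenImmersion.of_flat_of_mono _
  haveI : Surjective j.left := ⟨fun y => by
    haveI := hleft (N.hom y)
    obtain ⟨z, hz⟩ : y ∈ Set.range (pullback.fst N.hom (fibPt (N.hom y))) := by
      rw [Scheme.Pullback.range_fst]
      exact Scheme.range_fromSpecResidueField (N.hom y) ▸ rfl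
    obtain ⟨w, hw⟩ := ((Over.pullback (fibPt (N.hom y))).map j).left.surjective z
    refine ⟨pullback.fst H.hom (fibPt (N.hom y)) w, Eq.trans ?_ hz⟩
    have h0 := (Groth.GrpschAbsch.FibreFlat.isPullback_map (fibPt (N.hom y)) j).w
    exact (congr(($h0).base w)).trans (congrArg (pullback.fst N.hom (fibPt (N.hom y))).base hw)⟩
  haveI : IsIso j.left := (isIso_iff_isOpenImmersion_and_surjective j.left).2 ⟨inferInstance, inferInstance⟩
  haveI : IsIso ((Over.forget S).map j) := ‹IsIso j.left›
  exact isIso_of_reflects_iso j (Over.forget S)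

theorem isClosedImmersion_bc' {S' : Scheme.{u}} (φ : S' ⟶ S) {H K : Over S} (i : H ⟶ K) [IsClosedImmersion i.left] :
    IsClosedImmersion ((Over.pullback φ).map i).left :=
  MorphismProperty.of_isPullback (Groth.GrpschAbsch.FibreFlat.isPullback_map φ i) ‹IsClosedImmersion i.left›

/-- A point of a smooth connected group over an algebraically closed field normalizing a Borel subgroup
factors through it; applied to the geometric fibres. -/
theorem exists_factor_geom [Smooth G.hom] [QuasiCompact G.hom]
    (hconn : ∀ s : S, _root_.IsConnected (G.hom.base ⁻¹' {s})) {B : Over S} [GrpObj B] {b : B ⟶ G} (s : S)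
    (hB : Red.IsBorelOver (AlgebraicClosure (S.residueField s)) ((Over.pullback (Red.geomPt s)).map b))
    {N : Over S} (n : N ⟶ G) (hn : Normalizes b n) :
    ∃ w, w ≫ (Over.pullback (Red.geomPt s)).map b = (Over.pullback (Red.geomPt s)).map n := by
  haveI : Smooth (Red.bc (Red.geomPt s) G).hom := inferInstanceAs (Smooth (pullback.snd G.hom (Red.geomPt s)))
  haveI : QuasiCompact (Red.bc (Red.geomPt s) G).hom :=
    inferInstanceAs (QuasiCompact (pullback.snd G.hom (Red.geomPt s)))
  haveI : ConnectedSpace (Red.bc (Red.geomPt s) G).left := connectedSpace_geomFibre G hconn s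
  exact ((BorelNonAffine.isNormalizerOf_borel hB).2.2 _ _).2 (normalizes_bc' (Red.geomPt s) hn)

/-- Borel subgroups over a base are closed and are their own normalizers. -/
theorem self_normalizing [Smooth G.hom] [QuasiCompact G.hom] [QuasiSeparated G.hom]
    (hconn : ∀ s : S, _root_.IsConnected (G.hom.base ⁻¹' {s}))
    {B : Over S} [GrpObj B] (b : B ⟶ G) [IsMonHom b] [Mono b] [Smooth B.hom] [QuasiCompact B.hom]
    (hB : ∀ s : S, Red.IsBorelOver (AlgebraicClosure (S.residueField s)) ((Over.pullback (Red.geomPt s)).map b)) :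
    Red.IsNormalizerOf b b ∧ IsClosedImmersion b.left := by
  haveI : Mono b.left := (Over.forget S).map_mono b
  haveI : QuasiSeparated B.hom := by rw [← Over.w b]; infer_instance
  obtain ⟨N, _, n, hN, hnc, -⟩ := Groth.Agent.S5260.result G B (fun s => by
    haveI := (hB s).2.2.2.1
    exact connectedSpace_fibre_of_geom s B) b
  haveI := hnc; haveI := hN.1; haveI : Mono n := hN.2.1
  haveI : LocallyOfFiniteType N.hom := by rw [← Over.w n]; infer_instance
  obtain ⟨f, hf⟩ := (hN.2.2 B b).2 (by
    have := normalizes_of_factor b (𝟙 B)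
    rwa [Category.id_comp] at this)
  haveI : Mono f := mono_of_mono_fac hf
  haveI : IsIso f := isIso_of_fibres f fun s => by
    haveI : IsIso ((Over.pullback (Red.geomPt s)).map f) := by
      obtain ⟨w, hw⟩ := exists_factor_geom G hconn s (hB s) n ((hN.2.2 N n).1 ⟨𝟙 N, Category.id_comp _⟩)
      haveI := isClosedImmersion_bc' (Red.geomPt s) n
      haveI : Mono ((Over.pullback (Red.geomPt s)).map n) := BorelNonAffine.mono_of_closed _ ‹_›
      haveI : Mono ((Over.pullback (Red.geomPt s)).map b) := BorelNonAffine.mono_of_closed _ (hB s).2.1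
      refine ⟨w, ?_, ?_⟩
      · rw [← cancel_mono ((Over.pullback (Red.geomPt s)).map b), Category.assoc, hw, ← Functor.map_comp, hf,
          Category.id_comp]
      · rw [← cancel_mono ((Over.pullback (Red.geomPt s)).map n), Category.assoc, ← Functor.map_comp, hf, hw,
          Category.id_comp]
    exact isIso_fibre_of_geom s f
  refine ⟨⟨inferInstance, inferInstance, fun X g => ⟨fun ⟨z, hz⟩ => hz ▸ normalizes_of_factor b z, fun hg => ?_⟩⟩, ?_⟩
  · obtain ⟨z, hz⟩ := (hN.2.2 X g).2 hg
    exact ⟨z ≫ inv f, by rw [Category.assoc, ← hf, IsIso.inv_hom_id_assoc, hz]⟩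
  · haveI : IsIso f.left := inferInstanceAs (IsIso ((Over.forget _).map f))
    rw [← hf, Over.comp_left]
    infer_instance

end Groth.Reductive2.BorelBase
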