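import Groth.Agent.Reductive2.BorelCentralQuot
import Groth.Agent.Reductive2.BorelOverBase
import Groth.Agent.Reductive2.SubgroupDescent
import Groth.Agent.MagnetEtale.Descend
import Groth.Agent.EtaleBase.FpqcDescent
import Groth.Agent.DescentBase.SourceLocal

/-!
Borel subgroups and quotients by central subgroups, over a base.
-/

set_option autoImplicit false
set_option linter.style.haveILetI false
universe u

open CategoryTheory Limits MonoidalCategory CartesianMonoidalCategory MonObj GrpObj AlgebraicGeometry Opposite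
open Groth.AlgGrp1 Groth.AlgGrp2

noncomputable section

namespace Groth.Reductive2.BorelCentralBase

section Geom

variable {k : Type u} [Field k] [IsAlgClosed k] {G G' B B' : Over (Spec (CommRingCat.of k))}
  [GrpObj G] [GrpObj G'] [GrpObj B] [GrpObj B']
  [Smooth G.hom] [QuasiCompact G.hom] [ConnectedSpace G.left]
  [Smooth G'.hom] [QuasiCompact G'.hom] [ConnectedSpace G'.left]
  {u : G ⟶ G'} [IsMonHom u] [Flat u.left] [Surjective u.left]
  {b : B ⟶ G} {v : B ⟶ B'} {b' : B' ⟶ G'}

theorem exists_iff_of_isPullback (sq : IsPullback b v u b') (W : Over (Spec (CommRingCat.of k))) (g : W ⟶ G) :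
    (∃ y, y ≫ b = g) ↔ ∃ y, y ≫ b' = g ≫ u :=
  ⟨fun ⟨y, hy⟩ => ⟨y ≫ v, by rw [Category.assoc, ← sq.w, ← Category.assoc, hy]⟩,
    fun ⟨y, hy⟩ => ⟨sq.lift g y hy.symm, sq.lift_fst _ _ _⟩⟩

variable (sq : IsPullback b v u b')
  (hcen : ∀ (X : Over (Spec (CommRingCat.of k))) (z : X ⟶ G), z ≫ u = 1 →
    ∀ (X' : Over (Spec (CommRingCat.of k))) (x : X' ⟶ X) (g : X' ⟶ G), (x ≫ z) * g = g * (x ≫ z))
include sq hcen

/-- The preimage of a Borel subgroup is a Borel subgroup. -/
theorem isBorelOver_of_target [IsMonHom b] (hB' : Red.IsBorelOver k b') : Red.IsBorelOver k b := by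
  haveI : Mono b' := BorelNonAffine.mono_of_closed _ hB'.2.1
  haveI : Mono b := sq.mono_fst_of_mono
  obtain ⟨D, _, d, hD, hmem⟩ := BorelCentralQuot.exists_borel_preimage u hcen hB'
  haveI : Mono d := BorelNonAffine.mono_of_closed _ hD.2.1
  obtain ⟨f, hf⟩ := (hmem B b).2 ((exists_iff_of_isPullback sq B b).1 ⟨𝟙 B, Category.id_comp _⟩)
  obtain ⟨f', hf'⟩ := (exists_iff_of_isPullback sq D d).2 ((hmem D d).1 ⟨𝟙 D, Category.id_comp _⟩)
  let e : B ≅ D := ⟨f, f', by rw [← cancel_mono b, Category.assoc, hf', hf, Category.id_comp],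
    by rw [← cancel_mono d, Category.assoc, hf, hf', Category.id_comp]⟩
  have he : e.hom ≫ d = b := hf
  haveI : IsMonHom (e.hom ≫ d) := he.symm ▸ ‹IsMonHom b›
  have := BorelFiniteExist.isBorelOver_comp_iso e hD
  rwa [he] at this

/-- A subgroup whose preimage is a Borel subgroup is a Borel subgroup. -/
theorem isBorelOver_of_source [IsMonHom b'] [Mono b'] [IsClosedImmersion b'.left]
    (hB : Red.IsBorelOver k b) : Red.IsBorelOver k b' := by
  obtain ⟨C, _, c, hC, hmem⟩ := BorelCentralQuot.exists_borel_image u hcen hB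
  haveI : Mono c := BorelNonAffine.mono_of_closed _ hC.2.1
  haveI hu : Groth.AlgGrp1.IsCover u := isCover u
  obtain ⟨f, hf⟩ : ∃ f : B' ⟶ C, f ≫ c = b' := by
    obtain ⟨W, p, r, hp, hr⟩ := hu.exists_lift b'
    obtain ⟨y, hy⟩ := (hmem W r).1 ((exists_iff_of_isPullback sq W r).2 ⟨p, hr.symm⟩)
    obtain ⟨f, hf⟩ := hp.exists_desc y fun T a₁ a₂ h => by
      rw [← cancel_mono c, Category.assoc, Category.assoc, hy, hr, ← Category.assoc, h, Category.assoc]
    exact ⟨f, hp.cancel (by rw [← Category.assoc, hf, hy, hr])⟩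
  obtain ⟨f', hf'⟩ : ∃ f' : C ⟶ B', f' ≫ b' = c := by
    obtain ⟨W, p, r, hp, hr⟩ := hu.exists_lift c
    obtain ⟨y, hy⟩ := (exists_iff_of_isPullback sq W r).1 ((hmem W r).2 ⟨p, hr.symm⟩)
    obtain ⟨f, hf⟩ := hp.exists_desc y fun T a₁ a₂ h => by
      rw [← cancel_mono b', Category.assoc, Category.assoc, hy, hr, ← Category.assoc, h, Category.assoc]
    exact ⟨f, hp.cancel (by rw [← Category.assoc, hf, hy, hr])⟩
  let e : B' ≅ C := ⟨f, f', by rw [← cancel_mono b', Category.assoc, hf', hf, Category.id_comp],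
    by rw [← cancel_mono c, Category.assoc, hf, hf', Category.id_comp]⟩
  have he : e.hom ≫ c = b' := hf
  haveI : IsMonHom (e.hom ≫ c) := he.symm ▸ ‹IsMonHom b'›
  have := BorelFiniteExist.isBorelOver_comp_iso e hC
  rwa [he] at this

end Geom

/-! ### Smoothness from the geometric fibres -/

/-- A flat finitely presented scheme with smooth geometric fibres is smooth. -/
theorem smooth_of_geomFibres {S : Scheme.{u}} (X : Over S) [Flat X.hom] [LocallyOfFinitePresentation X.hom]
    (h : ∀ s : S, Smooth ((Over.pullback (Red.geomPt s)).obj X).hom) : Smooth X.hom := by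
  refine Smooth.of_smooth_fiberToSpecResidueField _ fun s => ?_
  show Smooth (pullback.snd X.hom (BorelBase.fibPt s))
  refine MorphismProperty.of_pullback_snd_of_descendsAlong (P := @Smooth)
    (Q := @Surjective ⊓ @Flat ⊓ @QuasiCompact) (g := BorelBase.toBar s) ?_ ?_
  · exact ⟨⟨inferInstance, inferInstance⟩, inferInstance⟩
  · haveI := h s
    haveI : IsIso (BorelBase.geomIso s X).inv.left :=
      inferInstanceAs (IsIso ((Over.forget _).map (BorelBase.geomIso s X).inv))
    show Smooth ((Over.pullback (BorelBase.toBar s)).obj ((Over.pullback (BorelBase.fibPt s)).obj X)).hom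
    rw [← Over.w (BorelBase.geomIso s X).inv]
    infer_instance

variable {S : Scheme.{u}} {G G' : Over S} [GrpObj G] [GrpObj G'] (u : G ⟶ G') [IsMonHom u]

theorem central_bc {S' : Scheme.{u}} (t : S' ⟶ S)
    (hker : ∀ (X : Over S) (z : X ⟶ G), z ≫ u = 1 → ∀ (X' : Over S) (x : X' ⟶ X) (g : X' ⟶ G),
      (x ≫ z) * g = g * (x ≫ z))
    (X : Over S') (z : X ⟶ Red.bc t G) (hz : z ≫ (Over.pullback t).map u = 1)
    (X' : Over S') (x : X' ⟶ X) (g : X' ⟶ Red.bc t G) : (x ≫ z) * g = g * (x ≫ z) := by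
  apply bcPt_injective t
  rw [bcPt_mul, bcPt_mul, bcPt_comp]
  refine hker _ (bcPt t z) ?_ _ ((Over.map t).map x) (bcPt t g)
  rw [← bcPt_comp_map, hz, bcPt_one]

theorem surjective_map_bc {S' : Scheme.{u}} (t : S' ⟶ S) {X Y : Over S} (f : X ⟶ Y) [Surjective f.left] :
    Surjective ((Over.pullback t).map f).left :=
  MorphismProperty.of_isPullback (Groth.GrpschAbsch.FibreFlat.isPullback_map t f) ‹Surjective f.left›

theorem flat_map_bc {S' : Scheme.{u}} (t : S' ⟶ S) {X Y : Over S} (f : X ⟶ Y) [Flat f.left] :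
    Flat ((Over.pullback t).map f).left :=
  MorphismProperty.of_isPullback (Groth.GrpschAbsch.FibreFlat.isPullback_map t f) ‹Flat f.left›

theorem qc_lfp_left [LocallyOfFinitePresentation G.hom] [LocallyOfFiniteType G'.hom] [QuasiCompact G.hom]
    [QuasiSeparated G'.hom] : QuasiCompact u.left ∧ LocallyOfFinitePresentation u.left := by
  haveI : LocallyOfFinitePresentation (u.left ≫ G'.hom) := by rw [Over.w]; infer_instance
  haveI : QuasiCompact (u.left ≫ G'.hom) := by rw [Over.w]; infer_instance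
  exact ⟨QuasiCompact.of_comp u.left G'.hom, Groth.PropsBasic2.lfp_of_comp u.left G'.hom⟩

theorem pullback_props {B B' : Over S} {b : B ⟶ G} {v : B ⟶ B'} {b' : B' ⟶ G'} (sq : IsPullback b v u b')
    [Flat u.left] [Surjective u.left] [QuasiCompact u.left] [LocallyOfFinitePresentation u.left] :
    Flat v.left ∧ Surjective v.left ∧ QuasiCompact v.left ∧ LocallyOfFinitePresentation v.left :=
  ⟨MorphismProperty.of_isPullback (sq.map (Over.forget _)) ‹Flat u.left›,
    MorphismProperty.of_isPullback (sq.map (Over.forget _)) ‹Surjective u.left›,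
    MorphismProperty.of_isPullback (sq.map (Over.forget _)) ‹QuasiCompact u.left›,
    MorphismProperty.of_isPullback (sq.map (Over.forget _)) ‹LocallyOfFinitePresentation u.left›⟩

section Fibre

variable [Smooth G.hom] [QuasiCompact G.hom] [Smooth G'.hom] [QuasiCompact G'.hom]
  (hconn : ∀ s : S, _root_.IsConnected (G.hom.base ⁻¹' {s}))
  (hconn' : ∀ s : S, _root_.IsConnected (G'.hom.base ⁻¹' {s}))
  [Flat u.left] [Surjective u.left]
  (hker : ∀ (X : Over S) (z : X ⟶ G), z ≫ u = 1 → ∀ (X' : Over S) (x : X' ⟶ X) (g : X' ⟶ G),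
    (x ≫ z) * g = g * (x ≫ z))
  {B B' : Over S} [GrpObj B] [GrpObj B'] {b : B ⟶ G} {v : B ⟶ B'} {b' : B' ⟶ G'} (sq : IsPullback b v u b')

include hconn hconn' hker sq

theorem isBorelOver_geom_of_target [IsMonHom b] (s : S)
    (hB' : Red.IsBorelOver (AlgebraicClosure (S.residueField s)) ((Over.pullback (Red.geomPt s)).map b')) :
    Red.IsBorelOver (AlgebraicClosure (S.residueField s)) ((Over.pullback (Red.geomPt s)).map b) := by
  haveI : Smooth (Red.bc (Red.geomPt s) G).hom := inferInstanceAs (Smooth (pullback.snd G.hom (Red.geomPt s)))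
  haveI : QuasiCompact (Red.bc (Red.geomPt s) G).hom :=
    inferInstanceAs (QuasiCompact (pullback.snd G.hom (Red.geomPt s)))
  haveI : ConnectedSpace (Red.bc (Red.geomPt s) G).left := BorelBase.connectedSpace_geomFibre G hconn s
  haveI : Smooth (Red.bc (Red.geomPt s) G').hom := inferInstanceAs (Smooth (pullback.snd G'.hom (Red.geomPt s)))
  haveI : QuasiCompact (Red.bc (Red.geomPt s) G').hom :=
    inferInstanceAs (QuasiCompact (pullback.snd G'.hom (Red.geomPt s)))
  haveI : ConnectedSpace (Red.bc (Red.geomPt s) G').left := BorelBase.connectedSpace_geomFibre G' hconn' s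
  haveI := Groth.Abvar.isMonHom_map (f := Red.geomPt s) u
  haveI := Groth.Abvar.isMonHom_map (f := Red.geomPt s) b
  haveI := surjective_map_bc (Red.geomPt s) u
  haveI := flat_map_bc (Red.geomPt s) u
  exact isBorelOver_of_target (sq.map (Over.pullback (Red.geomPt s))) (central_bc u (Red.geomPt s) hker) hB'

theorem isBorelOver_geom_of_source [IsMonHom b'] [IsClosedImmersion b'.left] (s : S)
    (hB : Red.IsBorelOver (AlgebraicClosure (S.residueField s)) ((Over.pullback (Red.geomPt s)).map b)) :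
    Red.IsBorelOver (AlgebraicClosure (S.residueField s)) ((Over.pullback (Red.geomPt s)).map b') := by
  haveI : Smooth (Red.bc (Red.geomPt s) G).hom := inferInstanceAs (Smooth (pullback.snd G.hom (Red.geomPt s)))
  haveI : QuasiCompact (Red.bc (Red.geomPt s) G).hom :=
    inferInstanceAs (QuasiCompact (pullback.snd G.hom (Red.geomPt s)))
  haveI : ConnectedSpace (Red.bc (Red.geomPt s) G).left := BorelBase.connectedSpace_geomFibre G hconn s
  haveI : Smooth (Red.bc (Red.geomPt s) G').hom := inferInstanceAs (Smooth (pullback.snd G'.hom (Red.geomPt s)))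
  haveI : QuasiCompact (Red.bc (Red.geomPt s) G').hom :=
    inferInstanceAs (QuasiCompact (pullback.snd G'.hom (Red.geomPt s)))
  haveI : ConnectedSpace (Red.bc (Red.geomPt s) G').left := BorelBase.connectedSpace_geomFibre G' hconn' s
  haveI := Groth.Abvar.isMonHom_map (f := Red.geomPt s) u
  haveI := Groth.Abvar.isMonHom_map (f := Red.geomPt s) b'
  haveI := surjective_map_bc (Red.geomPt s) u
  haveI := flat_map_bc (Red.geomPt s) u
  haveI := BorelBase.isClosedImmersion_bc' (Red.geomPt s) b'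
  haveI : Mono ((Over.pullback (Red.geomPt s)).map b') := BorelNonAffine.mono_of_closed _ ‹_›
  exact isBorelOver_of_source (sq.map (Over.pullback (Red.geomPt s))) (central_bc u (Red.geomPt s) hker) hB

end Fibre

/-! ### The forward statement -/

theorem borel_preimage [Smooth G.hom] [QuasiCompact G.hom] [Smooth G'.hom] [QuasiCompact G'.hom]
    [QuasiSeparated G'.hom]
    (hconn : ∀ s : S, _root_.IsConnected (G.hom.base ⁻¹' {s}))
    (hconn' : ∀ s : S, _root_.IsConnected (G'.hom.base ⁻¹' {s}))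
    [Flat u.left] [Surjective u.left]
    (hker : ∀ (X : Over S) (z : X ⟶ G), z ≫ u = 1 → ∀ (X' : Over S) (x : X' ⟶ X) (g : X' ⟶ G),
      (x ≫ z) * g = g * (x ≫ z))
    {B B' : Over S} [GrpObj B] [GrpObj B'] {b : B ⟶ G} [IsMonHom b] {v : B ⟶ B'} {b' : B' ⟶ G'}
    (sq : IsPullback b v u b') [Mono b'] [Smooth B'.hom] [QuasiCompact B'.hom]
    (hgeo : ∀ s : S, Red.IsBorelOver (AlgebraicClosure (S.residueField s)) ((Over.pullback (Red.geomPt s)).map b')) :
    Mono b ∧ Smooth B.hom ∧ QuasiCompact B.hom ∧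
      ∀ s : S, Red.IsBorelOver (AlgebraicClosure (S.residueField s)) ((Over.pullback (Red.geomPt s)).map b) := by
  obtain ⟨hq, hl⟩ := qc_lfp_left u
  haveI := hq; haveI := hl
  obtain ⟨hvf, hvs, hvq, hvl⟩ := pullback_props u sq
  haveI := hvf; haveI := hvs; haveI := hvq; haveI := hvl
  have h : ∀ s : S, Red.IsBorelOver (AlgebraicClosure (S.residueField s)) ((Over.pullback (Red.geomPt s)).map b) :=
    fun s => isBorelOver_geom_of_target u hconn hconn' hker sq s (hgeo s)
  haveI : Flat B.hom := by rw [← Over.w v]; infer_instance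
  haveI : LocallyOfFinitePresentation B.hom := by rw [← Over.w v]; infer_instance
  exact ⟨sq.mono_fst_of_mono, smooth_of_geomFibres B fun s => (h s).2.2.1, by rw [← Over.w v]; infer_instance, h⟩

/-! ### Descent of a subgroup containing the kernel -/

variable {B : Over S} (b : B ⟶ G)

/-- The points of `G'` all of whose liftings to `G` lie in `B`. -/
def Mem {T : Over S} (g : T ⟶ G') : Prop :=
  ∀ (W : Over S) (h : W ⟶ T) (x : W ⟶ G), x ≫ u = h ≫ g → ∃ y, y ≫ b = x

variable {u b}

omit [GrpObj G] [GrpObj G'] [IsMonHom u] in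
theorem Mem.comp {T T' : Over S} {g : T ⟶ G'} (hg : Mem u b g) (h : T' ⟶ T) : Mem u b (h ≫ g) :=
  fun W h' x hx => hg W (h' ≫ h) x (hx.trans (Category.assoc _ _ _).symm)

variable (u b)

/-- The functor of points with all liftings in `B`. -/
def memFunctor : (Over S)ᵒᵖ ⥤ Type u where
  obj T := { g : T.unop ⟶ G' // Mem u b g }
  map h := ↾fun g => ⟨h.unop ≫ g.1, g.2.comp h.unop⟩
  map_id T := by
    ext g
    exact Category.id_comp _
  map_comp h h' := by
    ext g
    exact Category.assoc _ _ _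

omit [GrpObj G] [GrpObj G'] [IsMonHom u] in
/-- Factoring through a monomorphism may be checked after a cover. -/
theorem exists_factor_of_pi1Cover [Mono b] {W' W : Over S} (c : W' ⟶ W) [Groth.Pi1Desc.IsCover c.left]
    (x : W ⟶ G) (y : W' ⟶ B) (h : y ≫ b = c ≫ x) : ∃ y₀, y₀ ≫ b = x := by
  haveI := Groth.Pi1Desc.IsCover.effectiveEpi c.left
  have hc : ∀ {R : Scheme.{u}} (r₁ r₂ : R ⟶ W'.left), r₁ ≫ c.left = r₂ ≫ c.left →
      r₁ ≫ y.left = r₂ ≫ y.left := by
    intro R r₁ r₂ hr
    let R₀ : Over S := Over.mk (r₁ ≫ W'.hom)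
    let a₁ : R₀ ⟶ W' := Over.homMk r₁ rfl
    let a₂ : R₀ ⟶ W' := Over.homMk r₂ (by
      show r₂ ≫ W'.hom = r₁ ≫ W'.hom
      rw [← Over.w c, ← Category.assoc, ← hr, Category.assoc])
    have ha : a₁ ≫ c = a₂ ≫ c := Over.OverMorphism.ext hr
    have : a₁ ≫ y = a₂ ≫ y := by
      rw [← cancel_mono b, Category.assoc, Category.assoc, h, ← Category.assoc, ha, Category.assoc]
    exact congrArg (fun t => t.left) this
  let y₀ : W ⟶ B := Over.homMk (EffectiveEpi.desc c.left y.left hc) (by
    rw [← cancel_epi c.left, ← Category.assoc, EffectiveEpi.fac c.left y.left hc, Over.w, Over.w])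
  have hy₀ : c ≫ y₀ = y := Over.OverMorphism.ext (EffectiveEpi.fac c.left y.left hc)
  haveI : Epi c := Over.epi_of_epi_left c
  exact ⟨y₀, by rw [← cancel_epi c, ← Category.assoc, hy₀, h]⟩

omit [GrpObj G] [GrpObj G'] [IsMonHom u] in
theorem memFunctor_hasDesc [Mono b] : Groth.MagnetEtale.HasDesc (memFunctor u b) := by
  intro T T' e he φ' hφ'
  haveI := he
  haveI := Groth.Pi1Desc.IsCover.effectiveEpi e.left
  have hc : ∀ {R : Scheme.{u}} (r₁ r₂ : R ⟶ T'.left), r₁ ≫ e.left = r₂ ≫ e.left →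
      r₁ ≫ φ'.1.left = r₂ ≫ φ'.1.left := by
    intro R r₁ r₂ hr
    let R₀ : Over S := Over.mk (r₁ ≫ T'.hom)
    let a₁ : R₀ ⟶ T' := Over.homMk r₁ rfl
    let a₂ : R₀ ⟶ T' := Over.homMk r₂ (by
      show r₂ ≫ T'.hom = r₁ ≫ T'.hom
      rw [← Over.w e, ← Category.assoc, ← hr, Category.assoc])
    exact congrArg (fun t => t.left)
      (congrArg Subtype.val (hφ' R₀ a₁ a₂ (Over.OverMorphism.ext hr)) : a₁ ≫ φ'.1 = a₂ ≫ φ'.1)
  let g : T ⟶ G' := Over.homMk (EffectiveEpi.desc e.left φ'.1.left hc) (by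
    rw [← cancel_epi e.left, ← Category.assoc, EffectiveEpi.fac e.left φ'.1.left hc, Over.w, Over.w])
  have hg : e ≫ g = φ'.1 := Over.OverMorphism.ext (EffectiveEpi.fac e.left φ'.1.left hc)
  haveI : Epi e := Over.epi_of_epi_left e
  refine ⟨⟨g, fun W h x hx => ?_⟩, Subtype.ext hg, fun ψ hψ => Subtype.ext ?_⟩
  · let q := Limits.pullback.fst h.left e.left
    haveI hq : Groth.Pi1Desc.IsCover q :=
      Groth.Pi1Desc.IsCover.of_isPullback (p := e.left) (IsPullback.of_hasPullback h.left e.left).flip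
    let W'' : Over S := Over.mk (q ≫ W.hom)
    let c : W'' ⟶ W := Over.homMk q rfl
    let h'' : W'' ⟶ T' := Over.homMk (Limits.pullback.snd h.left e.left) (by
      show _ ≫ T'.hom = q ≫ W.hom
      rw [← Over.w e, ← Limits.pullback.condition_assoc, Over.w h])
    have hsq : c ≫ h = h'' ≫ e := Over.OverMorphism.ext Limits.pullback.condition
    obtain ⟨y, hy⟩ := φ'.2 W'' h'' (c ≫ x)
      (by rw [Category.assoc, hx, ← Category.assoc, hsq, Category.assoc, hg])
    haveI : Groth.Pi1Desc.IsCover c.left := hq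
    exact exists_factor_of_pi1Cover b c x y hy
  · have h1 : e ≫ ψ.1 = φ'.1 := congrArg Subtype.val hψ
    rw [← cancel_epi e, h1, hg]

/-- **Descent of a closed subgroup containing the kernel.** -/
theorem exists_image_subgroup [GrpObj B] [IsMonHom b] [IsClosedImmersion b.left]
    [Flat u.left] [Surjective u.left] [QuasiCompact u.left]
    (hk : ∀ (X : Over S) (z : X ⟶ G), z ≫ u = 1 → ∃ y, y ≫ b = z) :
    ∃ (B' : Over S) (_ : GrpObj B') (b' : B' ⟶ G') (v : B ⟶ B'),
      IsMonHom b' ∧ IsClosedImmersion b'.left ∧ IsMonHom v ∧ IsPullback b v u b' := by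
  haveI : Mono b := Over.mono_of_mono_left b
  haveI hu : Groth.Pi1Desc.IsCover u.left := inferInstance
  have hmem₀ : ∀ {T : Over S} (y : T ⟶ B), Mem u b (y ≫ b ≫ u) := fun {T} y W h x hx => by
    obtain ⟨z, hz⟩ := hk W (x * (h ≫ y ≫ b)⁻¹) (by
      rw [MonObj.mul_comp, GrpObj.inv_comp, hx]
      simp only [Category.assoc]
      rw [mul_inv_cancel])
    exact ⟨z * (h ≫ y), by rw [MonObj.mul_comp, hz, Category.assoc, inv_mul_cancel_right]⟩
  let π : memFunctor u b ⟶ yoneda.obj G' :=
    { app := fun T => ↾fun g => g.1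
      naturality := fun T T' h => by ext g; rfl }
  obtain ⟨B', eN, j, hj, hjπ⟩ := Groth.MagnetEtale.exists_representableBy_of_cover (memFunctor_hasDesc u b) π u b
    (V := B) ⟨b ≫ u, by have := hmem₀ (𝟙 B); rwa [Category.id_comp] at this⟩ rfl
    (fun T φ t ht => by
      have ht' : φ.1 = t ≫ u := ht
      obtain ⟨y, hy⟩ := φ.2 T (𝟙 T) t (by rw [Category.id_comp, ht'])
      refine ⟨y, ⟨Subtype.ext ?_, hy⟩, fun y' hy' => by rw [← cancel_mono b, hy, hy'.2]⟩
      show y ≫ b ≫ u = φ.1
      rw [← Category.assoc, hy, ht'])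
  have hjm : ∀ (T : Over S) (g : T ⟶ G'), (∃ t : T ⟶ B', t ≫ j = g) ↔ Mem u b g := fun T g => by
    constructor
    · rintro ⟨t, rfl⟩
      rw [← hjπ]
      exact (eN.homEquiv t).2
    · intro hg
      exact ⟨eN.homEquiv.symm ⟨g, hg⟩, by
        rw [← hjπ]
        exact congrArg Subtype.val (eN.homEquiv.apply_symm_apply _)⟩
  haveI : Mono j := ⟨fun t t' h => eN.homEquiv.injective (Subtype.ext (by
    have h1 := hjπ _ t
    have h2 := hjπ _ t'
    exact h1.trans (h.trans h2.symm)))⟩
  have hlift : ∀ {T : Over S} (g : T ⟶ G'), ∃ (T' : Over S) (c : T' ⟶ T) (x : T' ⟶ G),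
      Groth.Pi1Desc.IsCover c.left ∧ x ≫ u = c ≫ g := fun {T} g => by
    let T' : Over S := Over.mk (pullback.fst g.left u.left ≫ T.hom)
    let c : T' ⟶ T := Over.homMk (pullback.fst g.left u.left) rfl
    let x : T' ⟶ G := Over.homMk (pullback.snd g.left u.left) (by
      show pullback.snd _ _ ≫ G.hom = pullback.fst _ _ ≫ T.hom
      rw [← Over.w u, ← Over.w g, pullback.condition_assoc])
    exact ⟨T', c, x, Groth.Pi1Desc.IsCover.of_isPullback (p := u.left)
      (IsPullback.of_hasPullback g.left u.left).flip, Over.OverMorphism.ext pullback.condition.symm⟩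
  obtain ⟨gB', hm⟩ := Groth.Agf.exists_grpObj_of_subgroup j (fun T g => Mem u b g) hjm
    (fun T W h x hx => hk W x (by rw [hx, MonObj.comp_one]))
    (fun T g g' hg hg' W h x hx => by
      obtain ⟨W', c, x₁, hc, hx₁⟩ := hlift (h ≫ g)
      haveI := hc
      obtain ⟨y₁, hy₁⟩ := hg W' (c ≫ h) x₁ (by rw [hx₁, Category.assoc])
      obtain ⟨y₂, hy₂⟩ := hg' W' (c ≫ h) (x₁⁻¹ * (c ≫ x)) (by
        rw [MonObj.mul_comp, GrpObj.inv_comp, hx₁, Category.assoc, hx, MonObj.comp_mul, MonObj.comp_mul,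
          Category.assoc, inv_mul_cancel_left])
      exact exists_factor_of_pi1Cover b c x (y₁ * y₂) (by rw [MonObj.mul_comp, hy₁, hy₂, mul_inv_cancel_left]))
    (fun T g hg W h x hx => by
      obtain ⟨y, hy⟩ := hg W h x⁻¹ (by rw [GrpObj.inv_comp, hx, GrpObj.comp_inv, _root_.inv_inv])
      exact ⟨y⁻¹, by rw [GrpObj.inv_comp, hy, _root_.inv_inv]⟩)
  haveI := hm
  obtain ⟨v, hv⟩ := (hjm B (b ≫ u)).2 (by have := hmem₀ (𝟙 B); rwa [Category.id_comp] at this)
  have sq : IsPullback b v u j := by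
    have hex : ∀ (T : Over S) (a : T ⟶ G) (y : T ⟶ B'), a ≫ u = y ≫ j → ∃ l : T ⟶ B, l ≫ b = a ∧ l ≫ v = y :=
      fun T a y h => by
        obtain ⟨l, hl⟩ := (hjm T (y ≫ j)).1 ⟨y, rfl⟩ T (𝟙 T) a (by rw [Category.id_comp, h])
        exact ⟨l, hl, by rw [← cancel_mono j, Category.assoc, hv, ← Category.assoc, hl, h]⟩
    exact IsPullback.of_isLimit' ⟨hv.symm⟩ (PullbackCone.IsLimit.mk _
      (fun s => (hex s.pt s.fst s.snd s.condition).choose)
      (fun s => (hex s.pt s.fst s.snd s.condition).choose_spec.1)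
      (fun s => (hex s.pt s.fst s.snd s.condition).choose_spec.2)
      (fun s l hl _ => by rw [← cancel_mono b, hl, (hex s.pt s.fst s.snd s.condition).choose_spec.1]))
  haveI : IsClosedImmersion j.left :=
    MorphismProperty.of_isPullback_of_descendsAlong (P := @IsClosedImmersion)
      (Q := @Surjective ⊓ @Flat ⊓ @QuasiCompact) (sq.map (Over.forget _))
      ⟨⟨‹Surjective u.left›, ‹Flat u.left›⟩, ‹QuasiCompact u.left›⟩ ‹IsClosedImmersion b.left›
  refine ⟨B', gB', j, v, hm, inferInstance, isMonHom_of_points _ fun T p q => ?_, sq⟩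
  rw [← cancel_mono j, MonObj.mul_comp (p ≫ v), Category.assoc, Category.assoc, Category.assoc, hv,
    ← Category.assoc, MonObj.mul_comp p q b, MonObj.mul_comp, Category.assoc, Category.assoc]

/-- **Every Borel subgroup is a preimage.** -/
theorem borel_image [Smooth G.hom] [QuasiCompact G.hom] [QuasiSeparated G.hom] [Smooth G'.hom] [QuasiCompact G'.hom]
    [QuasiSeparated G'.hom]
    (hconn : ∀ s : S, _root_.IsConnected (G.hom.base ⁻¹' {s}))
    (hconn' : ∀ s : S, _root_.IsConnected (G'.hom.base ⁻¹' {s}))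
    [Flat u.left] [Surjective u.left]
    (hker : ∀ (X : Over S) (z : X ⟶ G), z ≫ u = 1 → ∀ (X' : Over S) (x : X' ⟶ X) (g : X' ⟶ G),
      (x ≫ z) * g = g * (x ≫ z))
    [GrpObj B] [IsMonHom b] [Mono b] [Smooth B.hom] [QuasiCompact B.hom]
    (hgeo : ∀ s : S, Red.IsBorelOver (AlgebraicClosure (S.residueField s)) ((Over.pullback (Red.geomPt s)).map b)) :
    ∃ (B' : Over S) (_ : GrpObj B') (b' : B' ⟶ G') (v : B ⟶ B'), (IsMonHom b' ∧ Mono b' ∧ Smooth B'.hom ∧
      QuasiCompact B'.hom ∧
      ∀ s : S, Red.IsBorelOver (AlgebraicClosure (S.residueField s)) ((Over.pullback (Red.geomPt s)).map b')) ∧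
      IsMonHom v ∧ IsPullback b v u b' := by
  obtain ⟨hq, hl⟩ := qc_lfp_left u
  haveI := hq; haveI := hl
  obtain ⟨hN, hc⟩ := BorelBase.self_normalizing G hconn b hgeo
  haveI := hc
  obtain ⟨B', _, b', v, hm, hcl, hv, sq⟩ := exists_image_subgroup u b fun X z hz => (hN.2.2 X z).2 fun X' x h =>
    ⟨⟨h, by rw [hker X z hz X' x (h ≫ b), mul_inv_cancel_right]⟩,
      ⟨h, by rw [_root_.mul_assoc, ← hker X z hz X' x (h ≫ b), inv_mul_cancel_left]⟩⟩
  haveI := hm; haveI := hcl
  obtain ⟨hvf, hvs, hvq, hvl⟩ := pullback_props u sq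
  haveI := hvf; haveI := hvs; haveI := hvq; haveI := hvl
  have h : ∀ s : S, Red.IsBorelOver (AlgebraicClosure (S.residueField s)) ((Over.pullback (Red.geomPt s)).map b') :=
    fun s => isBorelOver_geom_of_source u hconn hconn' hker sq s (hgeo s)
  haveI : LocallyOfFinitePresentation b.left := by
    haveI : LocallyOfFinitePresentation (b.left ≫ G.hom) := by rw [Over.w]; infer_instance
    exact Groth.PropsBasic2.lfp_of_comp b.left G.hom
  haveI : LocallyOfFinitePresentation b'.left :=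
    MorphismProperty.of_isPullback_of_descendsAlong (P := @LocallyOfFinitePresentation)
      (Q := @Surjective ⊓ @Flat ⊓ @QuasiCompact) (sq.map (Over.forget _))
      ⟨⟨‹Surjective u.left›, ‹Flat u.left›⟩, ‹QuasiCompact u.left›⟩ ‹LocallyOfFinitePresentation b.left›
  haveI : LocallyOfFinitePresentation B'.hom := by rw [← Over.w b']; infer_instance
  haveI : Flat B'.hom := by
    haveI : Flat (v.left ≫ B'.hom) := by rw [Over.w]; infer_instance
    exact Groth.DescentBase.flat_of_flat_surjective v.left B'.hom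
  haveI : Mono b' := Over.mono_of_mono_left b'
  exact ⟨B', inferInstance, b', v, ⟨hm, inferInstance, smooth_of_geomFibres B' fun s => (h s).2.2.1,
    by rw [← Over.w b']; infer_instance, h⟩, hv, sq⟩

end Groth.Reductive2.BorelCentralBase
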