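import Groth.Agent.AlgGrp1.BorelNormalizer
import Groth.Agent.AlgGrp1.CartanBorel
import Groth.Agent.AlgGrp1.Points
import Groth.Agent.AlgGrp1.TorusField
import Groth.Agent.Agf.Lang
import Groth.Agent.StkGerb.QuotFin.RationalPoint

/-!
Borel pairs of a connected group over a finite field are conjugate by a rational point.
-/

set_option autoImplicit false
set_option linter.style.haveILetI false
universe u

open CategoryTheory Limits MonoidalCategory CartesianMonoidalCategory MonObj GrpObj AlgebraicGeometry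
open Groth.AlgGrp2 (bcPt bcPtInv bcPt_injective bcPt_comp bcPt_comp_map bcPt_mul bcPt_inv bcPt_bcPtInv bcPtInv_bcPt)
open Groth.AlgGrp1 Groth.Agf

noncomputable section

namespace Groth.Reductive2.BorelFinite

variable {k : Type u} [Field k]

section Carries

variable (K : Type u) [Field K] [Algebra k K]

/-- Conjugation by `g` maps `K`-points of the first subscheme into the second. -/
def Carries {G B B' : Over (Spec (CommRingCat.of k))} [GrpObj G] (g : VecGrp.pt k K ⟶ G) (i : B ⟶ G)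
    (i' : B' ⟶ G) : Prop :=
  ∀ b : VecGrp.pt k K ⟶ B, ∃ b' : VecGrp.pt k K ⟶ B', b' ≫ i' = g * (b ≫ i) * g⁻¹

variable {K} {G B B' B'' : Over (Spec (CommRingCat.of k))} [GrpObj G] {i : B ⟶ G} {i' : B' ⟶ G} {i'' : B'' ⟶ G}
  {g h : VecGrp.pt k K ⟶ G}

theorem Carries.mul (hh : Carries K h i' i'') (hg : Carries K g i i') : Carries K (h * g) i i'' := fun b => by
  obtain ⟨b', hb'⟩ := hg b
  obtain ⟨b'', hb''⟩ := hh b'
  exact ⟨b'', by rw [hb'', hb']; group⟩

/-- Frobenius preserves carrying. -/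
theorem Carries.frob [Finite k] [IsAlgClosed K] (hg : Carries K g i i') : Carries K (frobPt g) i i' := by
  intro b
  have hbij : Function.Bijective (Groth.Agf.frob k K) :=
    ⟨(Groth.Agf.frob k K).toRingHom.injective, fun x => by
      obtain ⟨z, hz⟩ := IsAlgClosed.exists_pow_nat_eq x (n := Nat.card k) Nat.card_pos
      exact ⟨z, by rw [frob_apply, hz]⟩⟩
  let e := AlgEquiv.ofBijective (Groth.Agf.frob k K) hbij
  have he : VecGrp.ptMap (Groth.Agf.frob k K) ≫ VecGrp.ptMap e.symm.toAlgHom = 𝟙 (VecGrp.pt k K) := by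
    apply Over.OverMorphism.ext
    show Spec.map _ ≫ Spec.map _ = 𝟙 _
    rw [← Spec.map_comp, ← Spec.map_id]
    congr 1
    ext x
    exact e.apply_symm_apply x
  obtain ⟨b', hb'⟩ := hg (VecGrp.ptMap e.symm.toAlgHom ≫ b)
  refine ⟨VecGrp.ptMap (Groth.Agf.frob k K) ≫ b', ?_⟩
  rw [Category.assoc, hb', MonObj.comp_mul, MonObj.comp_mul, GrpObj.comp_inv, ← Category.assoc,
    ← Category.assoc (VecGrp.ptMap _), he, Category.id_comp]
  rfl

theorem carries_of_factor {C : Over (Spec (CommRingCat.of k))} [GrpObj C] [GrpObj B] [IsMonHom i] (c : C ⟶ G)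
    (f : C ⟶ B) (hf : f ≫ i = c) (h : VecGrp.pt k K ⟶ C) : Carries K (h ≫ c) i i := fun b =>
  ⟨(h ≫ f) * b * (h ≫ f)⁻¹, by rw [MonObj.mul_comp, MonObj.mul_comp, GrpObj.inv_comp, Category.assoc, hf]⟩

theorem carries_centralizer {C : Over (Spec (CommRingCat.of k))} [GrpObj C] [GrpObj B] (c : C ⟶ G)
    (hc : Red.IsCentralizerOf i c) (h : VecGrp.pt k K ⟶ C) : Carries K (h ≫ c) i i := fun b => ⟨b, by
  have h1 := (hc.2.2 _ (h ≫ c)).1 ⟨h, rfl⟩ _ (𝟙 _) b
  rw [Category.id_comp] at h1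
  rw [h1, _root_.mul_inv_cancel_right]⟩

end Carries

section Bridge

variable (K : Type u) [Field K] [Algebra k K]

local notation "ψ" => Spec.map (CommRingCat.ofHom (algebraMap k K))

/-- `Spec K` as a point over `k`. -/
def ptIso : VecGrp.pt k K ≅ (Over.map ψ).obj (𝟙_ (Over (Spec (CommRingCat.of K)))) :=
  Over.isoMk (Iso.refl _) (by
    show 𝟙 _ ≫ 𝟙 _ ≫ ψ = _
    rw [Category.id_comp, Category.id_comp]; rfl)

variable {K} {G B B' : Over (Spec (CommRingCat.of k))}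

/-- A `K`-point of `G` as a rational point of the base change. -/
def toK (g : VecGrp.pt k K ⟶ G) : 𝟙_ (Over (Spec (CommRingCat.of K))) ⟶ Red.bc ψ G :=
  bcPtInv ψ ((ptIso K).inv ≫ g)

theorem bcPt_toK (g : VecGrp.pt k K ⟶ G) : bcPt ψ (toK g) = (ptIso K).inv ≫ g := bcPt_bcPtInv _ _

theorem toK_surjective (x : 𝟙_ (Over (Spec (CommRingCat.of K))) ⟶ Red.bc ψ G) :
    ∃ g : VecGrp.pt k K ⟶ G, toK g = x :=
  ⟨(ptIso K).hom ≫ bcPt ψ x, by rw [toK, Iso.inv_hom_id_assoc, bcPtInv_bcPt]⟩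

theorem toK_injective : Function.Injective (toK (K := K) (G := G)) := fun a b h => by
  have h1 := congrArg (bcPt ψ) h
  rwa [bcPt_toK, bcPt_toK, cancel_epi] at h1

theorem toK_comp_map {H : Over (Spec (CommRingCat.of k))} (g : VecGrp.pt k K ⟶ G) (f : G ⟶ H) :
    toK g ≫ (Over.pullback ψ).map f = toK (g ≫ f) :=
  bcPt_injective ψ (by rw [bcPt_comp_map, bcPt_toK, bcPt_toK, Category.assoc])

theorem toK_mul [GrpObj G] (g h : VecGrp.pt k K ⟶ G) : toK (g * h) = toK g * toK h :=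
  bcPt_injective ψ (by rw [bcPt_mul, bcPt_toK, bcPt_toK, bcPt_toK, MonObj.comp_mul])

theorem toK_inv [GrpObj G] (g : VecGrp.pt k K ⟶ G) : toK g⁻¹ = (toK g)⁻¹ :=
  bcPt_injective ψ (by rw [bcPt_inv, bcPt_toK, bcPt_toK, GrpObj.comp_inv])

theorem toK_conj [GrpObj G] (g : VecGrp.pt k K ⟶ G) (i : B ⟶ G) (b : VecGrp.pt k K ⟶ B) :
    toK b ≫ AGF.conjBy (toK g) ((Over.pullback ψ).map i) = toK (g * (b ≫ i) * g⁻¹) := by
  rw [Groth.AlgGrp1.comp_conjBy, toUnit_unique (toUnit _) (𝟙 _), Category.id_comp, toK_comp_map, toK_mul, toK_mul,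
    toK_inv]

theorem unitSp_toUnit : toUnit (CoactBr.sp K K) ≫ (unitSp (k := K)).hom = 𝟙 _ := by
  rw [← cancel_mono (unitSp (k := K)).inv]
  exact toUnit_unique _ _

/-- Carrying of points is carrying of base changes. -/
theorem carries_iff [IsAlgClosed K] [GrpObj G] [Smooth B.hom] {i : B ⟶ G} {i' : B' ⟶ G}
    [IsClosedImmersion i'.left] (g : VecGrp.pt k K ⟶ G) :
    Carries K g i i' ↔ ∃ f : Red.bc ψ B ⟶ Red.bc ψ B',
      f ≫ (Over.pullback ψ).map i' = AGF.conjBy (toK g) ((Over.pullback ψ).map i) := by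
  constructor
  · intro h
    have := smooth_bc ψ B
    have := geometricallyReduced_of_smooth_hom (Red.bc ψ B)
    have := isClosedImmersion_bc ψ i'
    refine factor_of_sepClosed_points K _ _ fun t => ?_
    obtain ⟨b, hb⟩ := toK_surjective (K := K) (unitSp.hom ≫ t)
    obtain ⟨b', hb'⟩ := h b
    refine ⟨toUnit _ ≫ toK b', ?_⟩
    have ht : t = toUnit _ ≫ toK b := by
      rw [hb]
      exact ((Category.assoc _ _ _).symm.trans ((congrArg (· ≫ t) unitSp_toUnit).trans (Category.id_comp t))).symm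
    rw [Category.assoc, toK_comp_map, hb', ← toK_conj, ht, Category.assoc]
  · rintro ⟨f, hf⟩ b
    obtain ⟨b', hb'⟩ := toK_surjective (K := K) (toK b ≫ f)
    exact ⟨b', toK_injective (by rw [← toK_comp_map, hb', Category.assoc, hf, toK_conj])⟩

/-- Base change of conjugation by a rational point. -/
theorem map_conjBy [GrpObj G] (g₀ : 𝟙_ (Over (Spec (CommRingCat.of k))) ⟶ G) (i : B ⟶ G) :
    (Over.pullback ψ).map (AGF.conjBy g₀ i) =
      AGF.conjBy (toK (toUnit (VecGrp.pt k K) ≫ g₀)) ((Over.pullback ψ).map i) := by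
  apply bcPt_injective ψ
  have h1 : ∀ {H : Over (Spec (CommRingCat.of k))} (f : B ⟶ H),
      bcPt ψ ((Over.pullback ψ).map f) = bcPt ψ (𝟙 (Red.bc ψ B)) ≫ f := fun f => by
    rw [← bcPt_comp_map]; exact congrArg _ (Category.id_comp _).symm
  rw [h1, Groth.AlgGrp1.comp_conjBy, ← h1 i]
  unfold AGF.conjBy
  rw [bcPt_mul, bcPt_mul, bcPt_inv, bcPt_comp, bcPt_toK, ← Category.assoc (ptIso K).inv, ← Category.assoc,
    toUnit_unique (((Over.map ψ).map (toUnit (Red.bc ψ B))) ≫ (ptIso K).inv ≫ toUnit _) (toUnit _)]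

end Bridge

/-- A point fixed by Frobenius is rational. -/
theorem exists_rational [Finite k] {P : Over (Spec (CommRingCat.of k))} {K : Type u} [Field K] [Algebra k K]
    (q : VecGrp.pt k K ⟶ P) (hq : frobPt q = q) :
    ∃ s : 𝟙_ (Over (Spec (CommRingCat.of k))) ⟶ P, toUnit _ ≫ s = q := by
  let q₀ : Spec (CommRingCat.of K) ⟶ P.left := q.left
  let x := q₀ (IsLocalRing.closedPoint K)
  let φ : P.left.residueField x ⟶ CommRingCat.of K := P.left.descResidueField (Scheme.stalkClosedPointTo q₀)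
  have hφ : Spec.map φ ≫ P.left.fromSpecResidueField x = q₀ :=
    Scheme.descResidueField_stalkClosedPointTo_fromSpecResidueField K P.left q₀
  let F : CommRingCat.of K ⟶ CommRingCat.of K := CommRingCat.ofHom (Groth.Agf.frob k K).toRingHom
  have hfix : φ ≫ F = φ := by
    apply Spec.map_injective
    rw [← cancel_mono (P.left.fromSpecResidueField x), Spec.map_comp, Category.assoc, hφ]
    exact congrArg CommaMorphism.left hq
  obtain ⟨j, hj⟩ : ∃ j : CommRingCat.of k ⟶ P.left.residueField x,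
      Spec.map j = P.left.fromSpecResidueField x ≫ P.hom := ⟨_, Spec.map_preimage _⟩
  have hjφ : j ≫ φ = CommRingCat.ofHom (algebraMap k K) := by
    apply Spec.map_injective
    rw [Spec.map_comp, hj, reassoc_of% hφ]
    exact Over.w q
  have hbij : Function.Bijective j := by
    refine ⟨j.hom.injective, fun z => ?_⟩
    have hz : φ z ^ Nat.card k = φ z := by
      rw [← frob_apply (k := k)]
      exact congrArg (fun f : P.left.residueField x ⟶ CommRingCat.of K => f z) hfix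
    obtain ⟨c, hc⟩ := Groth.StkGerb.QuotFin.exists_pow_card_fixed hz
    refine ⟨c, φ.hom.injective ?_⟩
    rw [← hc]
    exact congrArg (fun f : CommRingCat.of k ⟶ CommRingCat.of K => f c) hjφ
  have : IsIso j := (ConcreteCategory.isIso_iff_bijective j).2 hbij
  refine ⟨Over.homMk (Spec.map (inv j) ≫ P.left.fromSpecResidueField x) (by
    show _ = 𝟙 _
    rw [Category.assoc, ← hj, ← Spec.map_comp, IsIso.hom_inv_id, Spec.map_id]; rfl), ?_⟩
  apply Over.OverMorphism.ext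
  show Spec.map (CommRingCat.ofHom (algebraMap k K)) ≫ Spec.map (inv j) ≫ P.left.fromSpecResidueField x = q₀
  rw [← hφ, ← Category.assoc, ← Spec.map_comp, ← hjφ, IsIso.inv_hom_id_assoc]

/-- A point preserving a Borel pair centralizes the torus. -/
theorem fix_torus {K : Type u} [Field K] [IsAlgClosed K] {G B T : Over (Spec (CommRingCat.of K))} [GrpObj G]
    [GrpObj B] [GrpObj T] [IsAffine G.left] [Smooth G.hom] [ConnectedSpace G.left] {iB : B ⟶ G}
    (hB : Red.IsBorelOver K iB) {iT : T ⟶ G} (hT : AGF.IsMaxTorus iT) (t : T ⟶ B) (ht : t ≫ iB = iT)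
    (c : 𝟙_ (Over (Spec (CommRingCat.of K))) ⟶ G) (e e' : B ⟶ B) (he : e ≫ iB = AGF.conjBy c iB)
    (he' : e' ≫ iB = AGF.conjBy c⁻¹ iB) (f : T ⟶ T) (hf : f ≫ iT = AGF.conjBy c iT) :
    AGF.conjBy c iT = iT := by
  have hN : Normalizes iB c := fun X' x h => by
    rw [toUnit_unique x (toUnit X')]
    refine ⟨⟨h ≫ e, ?_⟩, ⟨h ≫ e', ?_⟩⟩
    · rw [Category.assoc, he, Groth.AlgGrp1.comp_conjBy]
    · rw [Category.assoc, he', Groth.AlgGrp1.comp_conjBy, GrpObj.comp_inv, _root_.inv_inv]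
  obtain ⟨b, hb⟩ := mem_borel_of_normalizes hB c hN
  obtain ⟨hmB, hcB, hsB, hnB, hsol, -⟩ := hB
  haveI := hmB; haveI := hcB; haveI := hsB; haveI := hnB
  haveI : Mono iB := Over.mono_of_mono_left iB
  obtain ⟨htm, π, hπm, hπ, -⟩ := exists_retraction_of_isMaxTorus iB hsol hT t ht
  haveI := hπm
  have h1 : f ≫ t = AGF.conjBy b t := by
    rw [← cancel_mono iB, Category.assoc, ht, hf, ← hb, ← ht]
    simp only [AGF.conjBy, MonObj.mul_comp, GrpObj.inv_comp, Category.assoc]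
  have h2 : f = 𝟙 T := by
    have h3 := congrArg (· ≫ π) h1
    simp only [Category.assoc, hπ, Category.comp_id, AGF.conjBy, MonObj.mul_comp, GrpObj.inv_comp] at h3
    rw [h3, Groth.Reductive2.torus_mul_comm hT.2.2.1 (toUnit T ≫ b ≫ π) (𝟙 T), _root_.mul_inv_cancel_right]
  rw [← hf, h2, Category.id_comp]

/-- **Conjugacy of Borel pairs over a finite field**, relative to an algebraically closed extension. -/
theorem exists_conj [Finite k] {K : Type u} [Field K] [IsAlgClosed K] [Algebra k K]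
    {G B B' T T' C : Over (Spec (CommRingCat.of k))} [GrpObj G] [GrpObj B] [GrpObj B'] [GrpObj T] [GrpObj T'] [GrpObj C]
    [IsAffine G.left] [Smooth G.hom] [ConnectedSpace G.left]
    (iB : B ⟶ G) [IsMonHom iB] [IsClosedImmersion iB.left] [Smooth B.hom]
    (iB' : B' ⟶ G) [IsClosedImmersion iB'.left] [Smooth B'.hom]
    (t : T ⟶ B) (t' : T' ⟶ B') [IsClosedImmersion (t ≫ iB).left] [IsClosedImmersion (t' ≫ iB').left]
    [Smooth T.hom] [Smooth T'.hom]
    (hB : Red.IsBorelOver K ((Over.pullback (Spec.map (CommRingCat.ofHom (algebraMap k K)))).map iB))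
    (hB' : Red.IsBorelOver K ((Over.pullback (Spec.map (CommRingCat.ofHom (algebraMap k K)))).map iB'))
    (hT : AGF.IsMaxTorus ((Over.pullback (Spec.map (CommRingCat.ofHom (algebraMap k K)))).map (t ≫ iB)))
    (hT' : AGF.IsMaxTorus ((Over.pullback (Spec.map (CommRingCat.ofHom (algebraMap k K)))).map (t' ≫ iB')))
    (c : C ⟶ G) (hc : Red.IsCentralizerOf (t ≫ iB) c) [IsAffine C.left] [Smooth C.hom] [ConnectedSpace C.left]
    (fC : C ⟶ B) (hfC : fC ≫ iB = c) :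
    ∃ (g : 𝟙_ (Over (Spec (CommRingCat.of k))) ⟶ G) (f : B ≅ B') (e : T ≅ T'),
      f.hom ≫ iB' = AGF.conjBy g iB ∧ e.hom ≫ t' ≫ iB' = AGF.conjBy g (t ≫ iB) := by
  let ψ := Spec.map (CommRingCat.ofHom (algebraMap k K))
  have := smooth_bc ψ G
  have := isAffine_bc ψ G
  have := connectedSpace_bc ψ G
  obtain ⟨x, f, f', hf, hf'⟩ := borelPair_conj hB hB' hT hT' ((Over.pullback ψ).map t) (by rw [← Functor.map_comp])
    ((Over.pullback ψ).map t') (by rw [← Functor.map_comp])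
  obtain ⟨g, rfl⟩ := toK_surjective x
  have h1 : Carries K g iB iB' := (carries_iff g).2 ⟨f.hom, hf⟩
  have h2 : Carries K g⁻¹ iB' iB := (carries_iff g⁻¹).2 ⟨f.inv, by
    rw [← cancel_epi f.hom, Iso.hom_inv_id_assoc, comp_conjBy', hf, conjBy_conjBy, toK_inv, inv_mul_cancel,
      conjBy_one]⟩
  have h3 : Carries K g (t ≫ iB) (t' ≫ iB') := (carries_iff g).2 ⟨f'.hom, hf'⟩
  have h4 : Carries K g⁻¹ (t' ≫ iB') (t ≫ iB) := (carries_iff g⁻¹).2 ⟨f'.inv, by
    rw [← cancel_epi f'.hom, Iso.hom_inv_id_assoc, comp_conjBy', hf', conjBy_conjBy, toK_inv, inv_mul_cancel,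
      conjBy_one]⟩
  -- the discrepancy centralizes the torus
  let a := g⁻¹ * frobPt g
  have a1 : Carries K a iB iB := h2.mul h1.frob
  have a2 : Carries K a⁻¹ iB iB := by
    have := h2.frob.mul h1
    rwa [frobPt_inv, show (frobPt g)⁻¹ * g = a⁻¹ by simp only [a]; group] at this
  have a3 : Carries K a (t ≫ iB) (t ≫ iB) := h4.mul h3.frob
  obtain ⟨e₁, he₁⟩ := (carries_iff a).1 a1
  obtain ⟨e₂, he₂⟩ := (carries_iff a⁻¹).1 a2
  obtain ⟨e₃, he₃⟩ := (carries_iff a).1 a3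
  rw [toK_inv] at he₂
  have hfix := fix_torus hB hT ((Over.pullback ψ).map t) (by rw [← Functor.map_comp]) (toK a) e₁ e₂ he₁ he₂ e₃ he₃
  obtain ⟨z, hz⟩ := ((isCentralizerOf_bc ψ hc).2.2 _ (toK a)).2 fun X' w y => by
    have h := congrArg (y ≫ ·) hfix
    simp only [Groth.AlgGrp1.comp_conjBy] at h
    rw [toUnit_unique w (toUnit X')]
    exact mul_inv_eq_iff_eq_mul.1 h
  obtain ⟨cC, rfl⟩ := toK_surjective z
  rw [toK_comp_map] at hz
  have hcC : cC ≫ c = g⁻¹ * frobPt g := toK_injective hz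
  obtain ⟨h, hh⟩ := exists_lang K cC
  have hcm := hc.1
  let g' := g * (h ≫ c)
  have hg' : frobPt g' = g' := by
    have e1 : frobPt (h ≫ c) = frobPt h ≫ c := (Category.assoc _ _ _).symm
    rw [← hh, MonObj.mul_comp, GrpObj.inv_comp] at hcC
    show frobPt (g * (h ≫ c)) = g * (h ≫ c)
    rw [frobPt_mul, e1]
    generalize frobPt h ≫ c = p at hcC ⊢
    calc frobPt g * p = g * (g⁻¹ * frobPt g) * p := by group
      _ = g * ((h ≫ c) * p⁻¹) * p := by rw [hcC]
      _ = g * (h ≫ c) := by group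
  obtain ⟨g₀, hg₀⟩ := exists_rational g' hg'
  have hinv : g'⁻¹ = (h⁻¹ ≫ c) * g⁻¹ := by simp only [g', _root_.mul_inv_rev, GrpObj.inv_comp]
  have hg₀' : toUnit _ ≫ g₀⁻¹ = g'⁻¹ := by rw [GrpObj.comp_inv, hg₀]
  -- descent
  have desc : ∀ {X X' : Over (Spec (CommRingCat.of k))} [Smooth X.hom] (i : X ⟶ G) (i' : X' ⟶ G)
      [IsClosedImmersion i'.left] (u₀ : 𝟙_ (Over (Spec (CommRingCat.of k))) ⟶ G) (u : VecGrp.pt k K ⟶ G),
      toUnit _ ≫ u₀ = u → Carries K u i i' → ∃ φ : X ⟶ X', φ ≫ i' = AGF.conjBy u₀ i := by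
    intro X X' _ i i' _ u₀ u hu hcar
    obtain ⟨φ, hφ⟩ := (carries_iff u).1 hcar
    exact exists_factor_descend ψ _ i' φ (by rw [hφ, map_conjBy, hu])
  obtain ⟨φ₁, hφ₁⟩ := desc iB iB' g₀ g' hg₀ (h1.mul (carries_of_factor c fC hfC h))
  obtain ⟨φ₂, hφ₂⟩ := desc iB' iB g₀⁻¹ g'⁻¹ hg₀' (hinv ▸ (carries_of_factor c fC hfC h⁻¹).mul h2)
  obtain ⟨φ₃, hφ₃⟩ := desc (t ≫ iB) (t' ≫ iB') g₀ g' hg₀ (h3.mul (carries_centralizer c hc h))
  obtain ⟨φ₄, hφ₄⟩ := desc (t' ≫ iB') (t ≫ iB) g₀⁻¹ g'⁻¹ hg₀' (hinv ▸ (carries_centralizer c hc h⁻¹).mul h4)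
  have inv_pair : ∀ {X X' : Over (Spec (CommRingCat.of k))} (i : X ⟶ G) (i' : X' ⟶ G) [IsClosedImmersion i.left]
      (u : 𝟙_ (Over (Spec (CommRingCat.of k))) ⟶ G) (a : X ⟶ X') (b : X' ⟶ X),
      a ≫ i' = AGF.conjBy u i → b ≫ i = AGF.conjBy u⁻¹ i' → a ≫ b = 𝟙 X := by
    intro X X' i i' _ u a b ha hb
    have : Mono i := Over.mono_of_mono_left i
    rw [← cancel_mono i, Category.assoc, hb, comp_conjBy', ha, conjBy_conjBy, inv_mul_cancel, conjBy_one,
      Category.id_comp]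
  exact ⟨g₀, ⟨φ₁, φ₂, inv_pair iB iB' g₀ φ₁ φ₂ hφ₁ hφ₂,
      inv_pair iB' iB g₀⁻¹ φ₂ φ₁ hφ₂ (by rwa [_root_.inv_inv])⟩,
    ⟨φ₃, φ₄, inv_pair (t ≫ iB) (t' ≫ iB') g₀ φ₃ φ₄ hφ₃ hφ₄,
      inv_pair (t' ≫ iB') (t ≫ iB) g₀⁻¹ φ₄ φ₃ hφ₄ (by rwa [_root_.inv_inv])⟩, hφ₁, hφ₃⟩

/-- Tori over any field are smooth. -/
theorem smooth_torus {T : Over (Spec (CommRingCat.of k))} [GrpObj T] (hT : Red.IsTorus T) : Smooth T.hom := by
  let ψ : Spec (CommRingCat.of (AlgebraicClosure k)) ⟶ Spec (CommRingCat.of k) :=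
    Spec.map (CommRingCat.ofHom (algebraMap k (AlgebraicClosure k)))
  have := (isAffine_smooth_connected_of_isTorus (isTorus_bc ψ hT)).2.1
  exact MorphismProperty.of_isPullback_of_descendsAlong (P := @Smooth) (Q := Groth.EtaleBase.Fpqc)
    (IsPullback.of_hasPullback T.hom ψ).flip (fpqc_fieldMap ψ) this

end Groth.Reductive2.BorelFinite
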