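import Groth.Agent.AlgGrp1.CentralAffine
import Groth.Agent.AlgGrp1.BorelCover
import Groth.Agent.AlgGrp1.BorelLift

/-!
Borel subgroups of smooth connected groups, not necessarily affine: preimages of Borel subgroups of the
affine quotient by a connected central subgroup.
-/

set_option autoImplicit false
set_option linter.style.haveILetI false
universe u

open CategoryTheory Limits MonoidalCategory CartesianMonoidalCategory MonObj GrpObj AlgebraicGeometry
open Groth.AlgGrp1

noncomputable section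

namespace Groth.Reductive2.BorelNonAffine

variable {k : Type u} [Field k]

/-- A central extension of a solvable group is solvable. -/
theorem isSolvableGrp_of_central {S : Scheme.{u}} {D B M : Over S} [GrpObj D] [GrpObj B]
    (p : D ⟶ B) [IsMonHom p] (m : M ⟶ D) (hker : ∀ (X : Over S) (a : X ⟶ D), a ≫ p = 1 → ∃ z, z ≫ m = a)
    (hcen : ∀ (X : Over S) (z : X ⟶ M) (g : X ⟶ D), (z ≫ m) * g = g * (z ≫ m)) (hB : Red.IsSolvableGrp B) :
    Red.IsSolvableGrp D := by
  obtain ⟨n, hn⟩ := hB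
  refine ⟨n + 1, fun X => ?_⟩
  rw [derivedSeries_succ, eq_bot_iff, Subgroup.commutator_le]
  intro a ha b _
  let φ : (X ⟶ D) →* (X ⟶ B) := MonoidHom.mk' (· ≫ p) fun r s => MonObj.mul_comp r s p
  have := map_derivedSeries_le_derivedSeries φ n ⟨a, ha, rfl⟩
  rw [hn] at this
  obtain ⟨z, hz⟩ := hker X a (Subgroup.mem_bot.1 this)
  rw [Subgroup.mem_bot, commutatorElement_eq_one_iff_mul_comm, ← hz]
  exact hcen X z b

theorem mono_of_closed {S : Scheme.{u}} {X Y : Over S} (f : X ⟶ Y) (hf : IsClosedImmersion f.left) : Mono f :=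
  Over.mono_of_mono_left f

theorem pullback_props {S : Scheme.{u}} {D G B E : Over S} {d : D ⟶ G} {qD : D ⟶ B} {q : G ⟶ E} {i : B ⟶ E}
    (sq : IsPullback d qD q i) (hi : IsClosedImmersion i.left) (hf : Flat q.left) (hs : Surjective q.left)
    (hsm : Smooth q.left) :
    IsClosedImmersion d.left ∧ Flat qD.left ∧ Surjective qD.left ∧ Smooth qD.left :=
  ⟨MorphismProperty.of_isPullback (sq.map (Over.forget _)).flip hi,
    MorphismProperty.of_isPullback (sq.map (Over.forget _)) hf,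
    MorphismProperty.of_isPullback (sq.map (Over.forget _)) hs,
    MorphismProperty.of_isPullback (sq.map (Over.forget _)) hsm⟩

variable [IsAlgClosed k] {G E M : Over (Spec (CommRingCat.of k))} [GrpObj G] [GrpObj E] [GrpObj M]
  [Smooth G.hom] [QuasiCompact G.hom] [Smooth M.hom] [QuasiCompact M.hom] [ConnectedSpace M.left]
  [IsAffine E.left] [Smooth E.hom] [ConnectedSpace E.left]
  (q : G ⟶ E) [IsMonHom q] [Flat q.left] [Surjective q.left] [QuasiCompact q.left]
  (m : M ⟶ G) [IsMonHom m] [IsClosedImmersion m.left]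

/-- The preimage of a Borel subgroup of the quotient by a connected central subgroup is a Borel subgroup. -/
theorem exists_borel_preimage (hker : AlgGrp.IsKernel m q)
    (hcen : ∀ (X : Over (Spec (CommRingCat.of k))) (a : X ⟶ M) (g : X ⟶ G), (a ≫ m) * g = g * (a ≫ m))
    {B' : Over (Spec (CommRingCat.of k))} [GrpObj B'] {iB' : B' ⟶ E} (hB' : Red.IsBorelOver k iB') :
    ∃ (D : Over (Spec (CommRingCat.of k))) (_ : GrpObj D) (d : D ⟶ G), Red.IsBorelOver k d ∧
      ∀ (W : Over (Spec (CommRingCat.of k))) (g : W ⟶ G), (∃ y, y ≫ d = g) ↔ ∃ y, y ≫ iB' = g ≫ q := by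
  obtain ⟨hm', hc', hs', hn', hsol', hmax'⟩ := hB'
  haveI := hm'; haveI := hc'; haveI := hs'; haveI := hn'
  haveI := isSeparated_grpObj G; haveI := isSeparated_grpObj M
  haveI : Mono m := Over.mono_of_mono_left m
  haveI : Mono iB' := mono_of_closed iB' hc'
  obtain ⟨D, d, qD, sq⟩ : ∃ (D : Over (Spec (CommRingCat.of k))) (d : D ⟶ G) (qD : D ⟶ B'),
      IsPullback d qD q iB' := ⟨_, _, _, IsPullback.of_hasPullback q iB'⟩
  haveI : Mono d := sq.mono_fst_of_mono
  have hD : ∀ (W : Over (Spec (CommRingCat.of k))) (g : W ⟶ G),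
      (∃ y, y ≫ d = g) ↔ ∃ y, y ≫ iB' = g ≫ q := fun W g =>
    ⟨fun ⟨y, hy⟩ => ⟨y ≫ qD, by rw [Category.assoc, ← sq.w, ← Category.assoc, hy]⟩,
      fun ⟨y, hy⟩ => ⟨sq.lift g y hy.symm, sq.lift_fst _ _ _⟩⟩
  obtain ⟨_, hd⟩ := Groth.Agf.exists_grpObj_of_subgroup d (fun W g => ∃ y, y ≫ iB' = g ≫ q) hD
    (fun W => ⟨1, by rw [MonObj.one_comp, MonObj.one_comp]⟩)
    (fun W a b ⟨y, hy⟩ ⟨y', hy'⟩ => ⟨y * y', by rw [MonObj.mul_comp, MonObj.mul_comp, hy, hy']⟩)
    (fun W a ⟨y, hy⟩ => ⟨y⁻¹, by rw [GrpObj.inv_comp, GrpObj.inv_comp, hy]⟩)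
  haveI := hd
  haveI : IsMonHom qD := isMonHom_of_points _ fun W a b => by
    rw [← cancel_mono iB', MonObj.mul_comp (a ≫ qD), Category.assoc, Category.assoc, Category.assoc, ← sq.w,
      ← Category.assoc, ← Category.assoc, ← Category.assoc, ← MonObj.mul_comp, MonObj.mul_comp a b d]
  obtain ⟨hdc, hqDf, hqDs, hqDsm⟩ := pullback_props sq hc' ‹Flat q.left› ‹Surjective q.left›
    (IsKernel.descends hker @Smooth ‹Smooth M.hom›)
  haveI := hdc; haveI := hqDf; haveI := hqDs; haveI := hqDsm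
  haveI : Smooth D.hom := by rw [← Over.w qD]; infer_instance
  obtain ⟨mD, hmD⟩ := (hD M m).2 ⟨1, by rw [MonObj.one_comp, IsKernel.comp_eq_one hker]⟩
  have hkerD : AlgGrp.IsKernel mD qD := IsKernel.mk' (mono_of_mono_fac hmD) fun W g => by
    rw [← cancel_mono iB', MonObj.one_comp, Category.assoc, ← sq.w, ← Category.assoc,
      ← IsKernel.exists_iff hker]
    exact exists_congr fun y => by rw [← cancel_mono d, Category.assoc, hmD]
  haveI : QuasiCompact D.hom := by rw [← Over.w d]; infer_instance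
  haveI : ConnectedSpace D.left := connectedSpace_of_extension hkerD inferInstance inferInstance
  have hsol : Red.IsSolvableGrp D := isSolvableGrp_of_central qD mD
    (fun X a ha => (IsKernel.exists_iff hkerD a).2 ha)
    (fun X z g => by
      rw [← cancel_mono d, MonObj.mul_comp, MonObj.mul_comp, Category.assoc, hmD]
      exact hcen X z (g ≫ d)) hsol'
  refine ⟨D, inferInstance, d, ⟨inferInstance, inferInstance, inferInstance, inferInstance, hsol,
    fun D₁ _ i₁ _ f hc₁ hs₁ hn₁ hsol₁ hf => ?_⟩, hD⟩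
  haveI := hc₁; haveI := hs₁; haveI := hn₁
  haveI : QuasiCompact D₁.hom := by rw [← Over.w i₁]; infer_instance
  haveI : Mono i₁ := Over.mono_of_mono_left i₁
  obtain ⟨K, _, c, g, hcm, hcc, hgm, hlft, hqc, hgfl, hgs, hgc⟩ := exists_image_hom (i₁ ≫ q)
  haveI := hcm; haveI := hcc; haveI := hgm; haveI := hlft; haveI := hqc; haveI := hgfl; haveI := hgs
  haveI : Smooth K.hom := smooth_of_flat_surjective_hom g
  haveI : ConnectedSpace K.left := connectedSpace_of_surjective g
  have hsK : Red.IsSolvableGrp K := by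
    obtain ⟨n, hn⟩ := hsol₁
    let φ : (𝟙_ (Over (Spec (CommRingCat.of k))) ⟶ D₁) →* (𝟙_ (Over (Spec (CommRingCat.of k))) ⟶ K) :=
      MonoidHom.mk' (· ≫ g) fun r s => MonObj.mul_comp r s g
    have hsur : Function.Surjective φ := fun y => exists_rpt_lift g y (g.left.surjective _)
    exact isSolvableGrp_of_derivedSeries n K (by rw [← map_derivedSeries_eq hsur n, hn, Subgroup.map_bot])
  haveI := geometricallyReduced_of_smooth_hom B'
  haveI : LocallyOfFiniteType B'.hom := inferInstance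
  obtain ⟨f', hf'⟩ := factor_of_sepClosed_points k c iB' fun t => by
    have h0 : toUnit (CoactBr.sp k k) ≫ (unitSp (k := k)).hom = 𝟙 _ := by
      rw [← cancel_mono (unitSp (k := k)).inv]
      exact toUnit_unique _ _
    obtain ⟨y, hy⟩ := exists_rpt_lift qD (unitSp.hom ≫ t) (qD.left.surjective _)
    refine ⟨toUnit _ ≫ y ≫ f ≫ g, ?_⟩
    rw [Category.assoc, Category.assoc, Category.assoc, hgc, ← Category.assoc f, hf, sq.w, ← Category.assoc y,
      hy]
    exact (congrArg (toUnit _ ≫ ·) (Category.assoc _ _ _)).trans ((Category.assoc _ _ _).symm.trans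
      ((congrArg (· ≫ t ≫ iB') h0).trans (Category.id_comp _)))
  haveI := hmax' K c f' hcc inferInstance inferInstance hsK hf'
  obtain ⟨r, hr⟩ := (hD D₁ i₁).2 ⟨g ≫ inv f', by rw [Category.assoc, ← hf', IsIso.inv_hom_id_assoc, hgc]⟩
  exact ⟨r, by rw [← cancel_mono d, Category.assoc, hr, hf, Category.id_comp],
    by rw [← cancel_mono i₁, Category.assoc, hf, hr, Category.id_comp]⟩

omit [Smooth M.hom] [QuasiCompact M.hom] [ConnectedSpace M.left] in
/-- **Every rational point lies in a Borel subgroup.** -/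
theorem exists_borel_mem [ConnectedSpace G.left] (g : 𝟙_ (Over (Spec (CommRingCat.of k))) ⟶ G) :
    ∃ (B : Over (Spec (CommRingCat.of k))) (_ : GrpObj B) (b : B ⟶ G), Red.IsBorelOver k b ∧
      ∃ g' : 𝟙_ (Over (Spec (CommRingCat.of k))) ⟶ B, g' ≫ b = g := by
  obtain ⟨M, _, m, E, _, q, hm, hmc, hMs, hMq, hMc, hEa, hEs, hEc, hqm, hqf, hqs, hqq, hker, -, -, hcen⟩ :=
    exists_central_affine_quotient G
  haveI := hm; haveI := hmc; haveI := hMs; haveI := hMq; haveI := hMc; haveI := hEa; haveI := hEs; haveI := hEc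
  haveI := hqm; haveI := hqf; haveI := hqs; haveI := hqq
  obtain ⟨B₀, _, i₀, _, X, a, o, hB₀, -, -⟩ := exists_borel_proper (G := E)
  obtain ⟨x, b, hb⟩ := exists_conj_mem hB₀ (g ≫ q)
  obtain ⟨D, gD, d, hd, hmem⟩ := exists_borel_preimage q m hker hcen (isBorelOver_conj hB₀ x)
  exact ⟨D, gD, d, hd, (hmem _ g).2 ⟨b, by
    rw [comp_conjBy, toUnit_unique (toUnit _) (𝟙 _), Category.id_comp, hb]⟩⟩

end Groth.Reductive2.BorelNonAffine
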