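import Groth.Agent.Reductive2.BorelNonAffine
import Groth.Agent.AlgGrp1.BorelNormalizer

/-!
Borel subgroups of smooth connected groups, not necessarily affine: all are preimages of Borel subgroups
of the affine quotient, and are their own normalizers.
-/

set_option autoImplicit false
set_option linter.style.haveILetI false
universe u

open CategoryTheory Limits MonoidalCategory CartesianMonoidalCategory MonObj GrpObj AlgebraicGeometry
open Groth.AlgGrp1

noncomputable section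

namespace Groth.Reductive2.BorelNonAffine

variable {k : Type u} [Field k] [IsAlgClosed k]

/-- Every Borel subgroup is the preimage of a Borel subgroup of the quotient by a connected central
subgroup. -/
theorem exists_borel_image {G E M : Over (Spec (CommRingCat.of k))} [GrpObj G] [GrpObj E] [GrpObj M]
    [Smooth G.hom] [QuasiCompact G.hom] [Smooth M.hom] [QuasiCompact M.hom] [ConnectedSpace M.left]
    [IsAffine E.left] [Smooth E.hom] [ConnectedSpace E.left]
    (q : G ⟶ E) [IsMonHom q] [Flat q.left] [Surjective q.left] [QuasiCompact q.left]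
    (m : M ⟶ G) [IsMonHom m] [IsClosedImmersion m.left] (hker : AlgGrp.IsKernel m q)
    (hcen : ∀ (X : Over (Spec (CommRingCat.of k))) (a : X ⟶ M) (g : X ⟶ G), (a ≫ m) * g = g * (a ≫ m))
    {D₁ : Over (Spec (CommRingCat.of k))} [GrpObj D₁] {i₁ : D₁ ⟶ G} (hD₁ : Red.IsBorelOver k i₁) :
    ∃ (B' : Over (Spec (CommRingCat.of k))) (_ : GrpObj B') (iB' : B' ⟶ E), Red.IsBorelOver k iB' ∧
      ∀ (W : Over (Spec (CommRingCat.of k))) (g : W ⟶ G), (∃ y, y ≫ i₁ = g) ↔ ∃ y, y ≫ iB' = g ≫ q := by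
  obtain ⟨hm₁, hc₁, hs₁, hn₁, ⟨n, hn⟩, hmax₁⟩ := hD₁
  haveI := hm₁; haveI := hc₁; haveI := hs₁; haveI := hn₁
  haveI : QuasiCompact D₁.hom := by rw [← Over.w i₁]; infer_instance
  obtain ⟨K, _, c, g, hcm, hcc, hgm, hlft, hqc, hgfl, hgs, hgc⟩ := exists_image_hom (i₁ ≫ q)
  haveI := hcm; haveI := hcc; haveI := hgm; haveI := hlft; haveI := hqc; haveI := hgfl; haveI := hgs
  haveI : Smooth K.hom := smooth_of_flat_surjective_hom g
  haveI : ConnectedSpace K.left := connectedSpace_of_surjective g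
  have hsK : Red.IsSolvableGrp K := by
    let φ : (𝟙_ (Over (Spec (CommRingCat.of k))) ⟶ D₁) →* (𝟙_ (Over (Spec (CommRingCat.of k))) ⟶ K) :=
      MonoidHom.mk' (· ≫ g) fun r s => MonObj.mul_comp r s g
    have hsur : Function.Surjective φ := fun y => exists_rpt_lift g y (g.left.surjective _)
    exact isSolvableGrp_of_derivedSeries n K (by rw [← map_derivedSeries_eq hsur n, hn, Subgroup.map_bot])
  obtain ⟨B₀, _, i₀, _, X, a, o, hB₀, hX, hp⟩ := exists_borel_proper (G := E)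
  haveI := hp
  obtain ⟨x, f, hf⟩ := exists_conj_le hX c hsK
  have hB' : Red.IsBorelOver k (AGF.conjBy x⁻¹ i₀) := isBorelOver_conj hB₀ x⁻¹
  have hcf : f ≫ AGF.conjBy x⁻¹ i₀ = c := by
    rw [comp_conjBy', hf, conjBy_conjBy, inv_mul_cancel, conjBy_one]
  obtain ⟨D, gD, d, hd, hmem⟩ := exists_borel_preimage q m hker hcen hB'
  obtain ⟨φ, hφ⟩ := (hmem D₁ i₁).2 ⟨g ≫ f, by rw [Category.assoc, hcf, hgc]⟩
  obtain ⟨hmd, hcd, hsd, hnd, hsold, -⟩ := hd
  haveI := hmd
  haveI := hmax₁ D d φ hcd hsd hnd hsold hφ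
  refine ⟨B₀, inferInstance, AGF.conjBy x⁻¹ i₀, hB', fun W t => ?_⟩
  rw [← hmem W t]
  exact ⟨fun ⟨y, hy⟩ => ⟨y ≫ φ, by rw [Category.assoc, hφ, hy]⟩,
    fun ⟨y, hy⟩ => ⟨y ≫ inv φ, by rw [Category.assoc, ← hφ, IsIso.inv_hom_id_assoc, hy]⟩⟩

variable {G : Over (Spec (CommRingCat.of k))} [GrpObj G] [Smooth G.hom] [QuasiCompact G.hom]
  [ConnectedSpace G.left]

/-- A Borel subgroup of a smooth connected group is its own normalizer. -/
theorem isNormalizerOf_borel {D : Over (Spec (CommRingCat.of k))} [GrpObj D] {d : D ⟶ G}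
    (hD : Red.IsBorelOver k d) : Red.IsNormalizerOf d d := by
  obtain ⟨M, _, m, E, _, q, hm, hmc, hMs, hMq, hMc, hEa, hEs, hEc, hqm, hqf, hqs, hqq, hker, -, -, hcen⟩ :=
    exists_central_affine_quotient G
  haveI := hm; haveI := hmc; haveI := hMs; haveI := hMq; haveI := hMc; haveI := hEa; haveI := hEs; haveI := hEc
  haveI := hqm; haveI := hqf; haveI := hqs; haveI := hqq
  haveI := hD.1; haveI := hD.2.1
  obtain ⟨B', _, iB', hB', hmem⟩ := exists_borel_image q m hker hcen hD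
  refine ⟨inferInstance, Over.mono_of_mono_left d,
    fun X g => ⟨fun ⟨z, hz⟩ => hz ▸ normalizes_of_factor d z, fun hg => (hmem X g).2 ?_⟩⟩
  haveI : Mono iB' := mono_of_closed iB' hB'.2.1
  haveI := hB'.2.2.1
  refine ((isNormalizerOf_borelOver hB').2.2 X (g ≫ q)).2 fun X' x h => ?_
  obtain ⟨X'', c, r, hc, hr⟩ := (isCover q).exists_lift (h ≫ iB')
  obtain ⟨y, hy⟩ := (hmem X'' r).2 ⟨c ≫ h, by rw [hr, Category.assoc]⟩
  obtain ⟨⟨a, ha⟩, ⟨b, hb⟩⟩ := hg X'' (c ≫ x) y
  constructor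
  · obtain ⟨e, he⟩ := (hmem X'' (a ≫ d)).1 ⟨a, rfl⟩
    have key : c ≫ ((x ≫ g ≫ q) * (h ≫ iB') * (x ≫ g ≫ q)⁻¹) = e ≫ iB' := by
      rw [he, ← ha, hy, MonObj.mul_comp, MonObj.mul_comp, GrpObj.inv_comp, hr, MonObj.comp_mul, MonObj.comp_mul,
        GrpObj.comp_inv]
      simp only [Category.assoc]
    obtain ⟨h', hh'⟩ := hc.exists_desc e fun T u v huv => by
      rw [← cancel_mono iB', Category.assoc, Category.assoc, ← key, ← Category.assoc, huv, Category.assoc]
    exact ⟨h', hc.cancel (by rw [key, ← Category.assoc, hh'])⟩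
  · obtain ⟨e, he⟩ := (hmem X'' (b ≫ d)).1 ⟨b, rfl⟩
    have key : c ≫ ((x ≫ g ≫ q)⁻¹ * (h ≫ iB') * (x ≫ g ≫ q)) = e ≫ iB' := by
      rw [he, ← hb, hy, MonObj.mul_comp, MonObj.mul_comp, GrpObj.inv_comp, hr, MonObj.comp_mul, MonObj.comp_mul,
        GrpObj.comp_inv]
      simp only [Category.assoc]
    obtain ⟨h', hh'⟩ := hc.exists_desc e fun T u v huv => by
      rw [← cancel_mono iB', Category.assoc, Category.assoc, ← key, ← Category.assoc, huv, Category.assoc]
    exact ⟨h', hc.cancel (by rw [key, ← Category.assoc, hh'])⟩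

/-- Points commuting with a Borel subgroup lie in it. -/
theorem mem_borel_of_central {D : Over (Spec (CommRingCat.of k))} [GrpObj D] {d : D ⟶ G}
    (hD : Red.IsBorelOver k d) {X : Over (Spec (CommRingCat.of k))} (z : X ⟶ G)
    (hz : ∀ (X' : Over (Spec (CommRingCat.of k))) (x : X' ⟶ X) (g : X' ⟶ G), (x ≫ z) * g = g * (x ≫ z)) :
    ∃ y, y ≫ d = z := by
  refine ((isNormalizerOf_borel hD).2.2 X z).2 fun X' x h => ⟨⟨h, ?_⟩, ⟨h, ?_⟩⟩
  · rw [hz, mul_inv_cancel_right]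
  · rw [_root_.mul_assoc, ← hz, inv_mul_cancel_left]

end Groth.Reductive2.BorelNonAffine
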