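import Groth.Agent.GrpschAbsch.GrpEtalePoint
import Groth.Agent.FlatMor2.FibCrit.Fibrewise
import Groth.Agent.Reductive.MultTypeHom
import Groth.Agent.EtaleBase.Rigidity

/-!
Power maps of flat group schemes are étale near central points; central torsion points lift uniquely
along surjective closed immersions of the base.
-/

set_option autoImplicit false
universe u

open CategoryTheory CategoryTheory.Limits MonoidalCategory CartesianMonoidalCategory MonObj AlgebraicGeometry
open Groth.Reductive Groth.Reductive.FreeDiag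

noncomputable section

namespace Groth.Reductive2.CentralTorsion

variable {S : Scheme.{u}}

theorem map_pow_id {T : Scheme.{u}} (g : T ⟶ S) (G : Over S) [GrpObj G] (n : ℕ) :
    (Over.pullback g).map (𝟙 G ^ n) = (𝟙 (Red.bc g G)) ^ n := by
  apply qPt_injective g
  have h1 : (Over.pullback g).map (𝟙 G ^ n) = 𝟙 (Red.bc g G) ≫ (Over.pullback g).map (𝟙 G ^ n) :=
    (Category.id_comp _).symm
  rw [h1, qPt_map, MonObj.comp_pow, Category.comp_id]
  exact (map_pow (bcPointEquiv g G _) (𝟙 _) n).symm

theorem exists_descResidueField {K : Type u} [Field K] (p : Spec (CommRingCat.of K) ⟶ S) (s : S)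
    (hs : p.base (IsLocalRing.closedPoint K) = s) :
    ∃ d : Spec (CommRingCat.of K) ⟶ Spec (S.residueField s), Flat d ∧ d ≫ S.fromSpecResidueField s = p := by
  subst hs
  refine ⟨Spec.map (S.descResidueField (Scheme.stalkClosedPointTo p)), ?_,
    Scheme.descResidueField_stalkClosedPointTo_fromSpecResidueField K S p⟩
  rw [HasRingHomProperty.Spec_iff (P := @Flat)]
  algebraize [(S.descResidueField (Scheme.stalkClosedPointTo p)).hom]
  exact RingHom.flat_algebraMap_iff.mpr (Module.Flat.of_free)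

/-- Power maps are étale near central points. -/
theorem exists_etale_nhd (G : Over S) [GrpObj G] [Flat G.hom] [LocallyOfFinitePresentation G.hom]
    (n : ℕ) {K : Type u} [Field K] (hn : (n : K) ≠ 0) {p : Spec (CommRingCat.of K) ⟶ S} (q : Over.mk p ⟶ G)
    (hc : ∀ (W : Over S) (a : W ⟶ Over.mk p) (b : W ⟶ G), (a ≫ q) * b = b * (a ≫ q)) :
    ∃ U : G.left.Opens, q.left.base (IsLocalRing.closedPoint K) ∈ U ∧ Etale (U.ι ≫ (𝟙 G ^ n).left) := by
  let f := (𝟙 G ^ n).left
  have hf : f ≫ G.hom = G.hom := Over.w _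
  have : LocallyOfFinitePresentation (f ≫ G.hom) := by rw [hf]; infer_instance
  have : LocallyOfFinitePresentation f := Groth.FlatMor2.FibCrit.lfp_of_comp f G.hom
  -- the rational point over `K`
  let c : (Over.map p).obj (𝟙_ (Over (Spec (CommRingCat.of K)))) ⟶ Over.mk p :=
    Over.homMk (𝟙 _) rfl
  let qK : 𝟙_ (Over (Spec (CommRingCat.of K))) ⟶ Red.bc p G := (bcPointEquiv p G _).symm (c ≫ q)
  have hqK : bcPointEquiv p G _ qK = c ≫ q := MulEquiv.apply_symm_apply _ _
  have hqfst : qK.left ≫ pullback.fst G.hom p = q.left := by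
    have h := congrArg CommaMorphism.left hqK
    simp only [bcPointEquiv, MulEquiv.coe_mk, Adjunction.homEquiv_counit] at h
    simpa [Over.mapPullbackAdj_counit_app, c] using h
  have : LocallyOfFiniteType (Red.bc p G).hom := inferInstanceAs (LocallyOfFiniteType (pullback.snd G.hom p))
  obtain ⟨U, hU, hUet⟩ := Groth.GrpschAbsch.exists_etale_nhd_pow (G := Red.bc p G) n hn qK fun X y => by
    apply (bcPointEquiv p G X).injective
    rw [map_mul, map_mul, bcPointEquiv_comp, hqK, ← Category.assoc]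
    exact hc _ _ _
  rw [← map_pow_id p G n] at hUet
  let fK := ((Over.pullback p).map (𝟙 G ^ n)).left
  have hUet' : Etale (U.ι ≫ fK) := hUet
  have hQ : IsPullback (pullback.fst G.hom p) fK f (pullback.fst G.hom p) :=
    Groth.Reductive.FreeDiag.isPullback_map_left (𝟙 G ^ n) p
  -- factor through the fibre
  let x' : (Red.bc p G).left := qK.left.base (IsLocalRing.closedPoint K)
  let x : G.left := q.left.base (IsLocalRing.closedPoint K)
  have hx : pullback.fst G.hom p x' = x := by
    show pullback.fst G.hom p (qK.left _) = q.left _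
    rw [← hqfst, Scheme.Hom.comp_apply]
  let s := (f ≫ G.hom) x
  obtain ⟨d, hd, hdp⟩ := exists_descResidueField p s (by
    show p (IsLocalRing.closedPoint K) = (f ≫ G.hom) (q.left _)
    rw [hf, ← Scheme.Hom.comp_apply, Over.w q]
    rfl)
  let m : pullback G.hom p ⟶ G.hom.fiber s :=
    pullback.lift (pullback.fst G.hom p) (pullback.snd G.hom p ≫ d) (by
      rw [Category.assoc, hdp]; exact pullback.condition)
  have hm : m ≫ G.hom.fiberι s = pullback.fst G.hom p := pullback.lift_fst _ _ _
  have hc' := Groth.FlatMor2.FibCrit.isPullback_fiberMap f G.hom s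
  let m' : (Red.bc p G).left ⟶ (f ≫ G.hom).fiber s := hc'.lift (pullback.fst G.hom p) (fK ≫ m) (by
    rw [Category.assoc, hm, hQ.w])
  have hm' : m' ≫ (f ≫ G.hom).fiberι s = pullback.fst G.hom p := hc'.lift_fst _ _ _
  have h1 : IsPullback m' fK (MoreMor.fiberMap f G.hom s) m := by
    refine IsPullback.of_right ?_ (hc'.lift_snd _ _ _) hc'
    rw [hm', hm]
    exact hQ
  have h2 : IsPullback m (pullback.snd G.hom p) (pullback.snd G.hom (S.fromSpecResidueField s)) d := by
    refine IsPullback.of_right ?_ (pullback.lift_snd _ _ _)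
      (IsPullback.of_hasPullback G.hom (S.fromSpecResidueField s))
    rw [hdp, show m ≫ pullback.fst G.hom (S.fromSpecResidueField s) = pullback.fst G.hom p from hm]
    exact IsPullback.of_hasPullback _ _
  have : Flat m := MorphismProperty.of_isPullback h2.flip hd
  have : LocallyOfFinitePresentation (MoreMor.fiberMap f G.hom s) :=
    MorphismProperty.of_isPullback hc' inferInstance
  have : LocallyOfFinitePresentation fK := MorphismProperty.of_isPullback hQ inferInstance
  obtain ⟨V₁, hV₁, hV₁u⟩ := Groth.PropsBasic.Loci.exists_formallyUnramified_of_baseChange h1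
    (x' := x') ⟨U, hU, inferInstance⟩
  have hsm : x' ∈ fK.smoothLocus := by
    have h := Scheme.Hom.preimage_smoothLocus_eq U.ι fK
    rw [Scheme.Hom.smoothLocus_eq_top (U.ι ≫ fK)] at h
    exact (h.ge (Set.mem_univ (⟨x', hU⟩ : U)) :)
  have hsm' := Groth.PropsBasic.Loci.mem_smoothLocus_of_flat h1 hsm
  let fm := MoreMor.fiberMap f G.hom s
  let V := V₁ ⊓ fm.smoothLocus
  have hVs : Smooth (V.ι ≫ fm) := by
    rw [← Scheme.Hom.smoothLocus_eq_top_iff, ← Scheme.Hom.preimage_smoothLocus_eq]
    exact top_le_iff.mp fun t _ => t.2.2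
  have hVu : FormallyUnramified (V.ι ≫ fm) := by
    rw [← Scheme.homOfLE_ι _ (inf_le_left : V ≤ V₁), Category.assoc]
    exact MorphismProperty.comp_mem @FormallyUnramified _ _ inferInstance hV₁u
  have hVe : Etale (V.ι ≫ fm) := Etale.of_formallyUnramified_of_flat _
  have hflat : ((f ≫ G.hom).stalkMap x).hom.Flat :=
    have : Flat (f ≫ G.hom) := by rw [hf]; infer_instance
    Flat.stalkMap _ x
  exact (Groth.FlatMor2.FibCrit.exists_etale_iff_fiberMap f G.hom x hflat (m' x') (by
    rw [← Scheme.Hom.comp_apply]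
    exact (congrArg (fun φ => φ x') hm').trans hx)).mpr ⟨V, ⟨hV₁, hsm'⟩, hVe⟩

/-- The étale locus of a power map. -/
def etLocus (G : Over S) [GrpObj G] (n : ℕ) : G.left.Opens :=
  ⨆ U : {U : G.left.Opens // Etale (U.ι ≫ (𝟙 G ^ n).left)}, (U : G.left.Opens)

theorem etale_etLocus (G : Over S) [GrpObj G] (n : ℕ) : Etale ((etLocus G n).ι ≫ (𝟙 G ^ n).left) := by
  let O := etLocus G n
  have hcov : TopologicalSpace.IsOpenCover fun U : {U : G.left.Opens // Etale (U.ι ≫ (𝟙 G ^ n).left)} =>
      O.ι ⁻¹ᵁ U.1 := .mk (top_le_iff.mp fun z _ => by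
    obtain ⟨U, hU⟩ := TopologicalSpace.Opens.mem_iSup.mp z.2
    exact TopologicalSpace.Opens.mem_iSup.mpr ⟨U, hU⟩)
  rw [IsZariskiLocalAtSource.iff_of_openCover (P := @Etale) (Scheme.openCoverOfIsOpenCover _ _ hcov)]
  intro U
  show Etale ((O.ι ⁻¹ᵁ U.1).ι ≫ O.ι ≫ (𝟙 G ^ n).left)
  rw [← Category.assoc, ← morphismRestrict_ι, Category.assoc]
  have := U.2
  infer_instance

theorem le_etLocus {G : Over S} [GrpObj G] {n : ℕ} {U : G.left.Opens} (h : Etale (U.ι ≫ (𝟙 G ^ n).left)) :
    U ≤ etLocus G n :=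
  le_iSup (fun U : {U : G.left.Opens // Etale (U.ι ≫ (𝟙 G ^ n).left)} => (U : G.left.Opens)) ⟨U, h⟩

variable {S₀ : Scheme.{u}} (i₀ : S₀ ⟶ S) [IsClosedImmersion i₀] [Surjective i₀]

/-- The images of central points lie in the étale locus. -/
theorem mem_etLocus (G : Over S) [GrpObj G] [Flat G.hom] [LocallyOfFinitePresentation G.hom] (n : ℕ)
    {Z : Over S} (q : Z ⟶ G) (hc : ∀ (W : Over S) (a : W ⟶ Z) (b : W ⟶ G), (a ≫ q) * b = b * (a ≫ q))
    (z : Z.left) (hn : (n : Z.left.residueField z) ≠ 0) : q.left.base z ∈ etLocus G n := by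
  let p := Z.left.fromSpecResidueField z ≫ Z.hom
  let a : Over.mk p ⟶ Z := Over.homMk (Z.left.fromSpecResidueField z) rfl
  obtain ⟨U, hU, hUe⟩ := exists_etale_nhd G n hn (a ≫ q) fun W w b => by
    rw [← Category.assoc]
    exact hc W _ b
  refine le_etLocus hUe ?_
  have e : (a ≫ q).left.base (IsLocalRing.closedPoint (Z.left.residueField z)) = q.left.base z := by
    show q.left (Z.left.fromSpecResidueField z _) = q.left z
    rw [Scheme.fromSpecResidueField_apply]
  exact e ▸ hU

/-- Torsion points in the étale locus of the power map lift uniquely. -/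
theorem exists_lift (G : Over S) [GrpObj G] (n : ℕ) {Y : Over S} (y₀ : Red.bc i₀ Y ⟶ Red.bc i₀ G)
    (hy : y₀ ^ n = 1) (hO : ∀ z, (qPt i₀ y₀).left.base z ∈ etLocus G n) :
    ∃ y : Y ⟶ G, (Over.pullback i₀).map y = y₀ ∧ y ^ n = 1 ∧
      ∀ y' : Y ⟶ G, (Over.pullback i₀).map y' = y₀ → y' ^ n = 1 → y' = y := by
  have := etale_etLocus G n
  let O := etLocus G n
  let P := O.ι ≫ (𝟙 G ^ n).left
  let E : Over S := Over.mk (pullback.snd P η[G].left)
  have hw : (pullback.fst P η[G].left ≫ O.ι) ≫ G.hom = pullback.snd P η[G].left := by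
    calc (pullback.fst P η[G].left ≫ O.ι) ≫ G.hom
        = (pullback.fst P η[G].left ≫ P) ≫ G.hom := by simp [P, Category.assoc, Over.w (𝟙 G ^ n)]
      _ = pullback.snd P η[G].left ≫ η[G].left ≫ G.hom := by rw [pullback.condition, Category.assoc]
      _ = pullback.snd P η[G].left := by
          rw [Over.w η[G]]
          exact Category.comp_id _
  let e : E ⟶ G := Over.homMk (pullback.fst P η[G].left ≫ O.ι) hw
  have : Etale E.hom := inferInstanceAs (Etale (pullback.snd P η[G].left))
  have he : e ≫ (𝟙 G ^ n) = 1 := by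
    rw [Hom.one_def]
    refine Over.OverMorphism.ext ?_
    show (pullback.fst P η[G].left ≫ O.ι) ≫ (𝟙 G ^ n).left = (toUnit E).left ≫ η[G].left
    rw [Category.assoc]
    exact pullback.condition
  have : Mono e := by
    have : Mono η[G].left := by
      have : IsSplitMono η[G].left := IsSplitMono.mk' ⟨G.hom, Over.w η[G]⟩
      infer_instance
    have : Mono e.left := inferInstanceAs (Mono (pullback.fst P η[G].left ≫ O.ι))
    exact (Over.forget S).mono_of_mono_map this
  -- torsion points in the locus factor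
  have hfac : ∀ {W : Over S} (w : W ⟶ G), w ^ n = 1 → (∀ z, w.left.base z ∈ O) → ∃ l : W ⟶ E, l ≫ e = w := by
    intro W w hwn hwO
    let l₁ := IsOpenImmersion.lift O.ι w.left (by rw [Scheme.Opens.range_ι]; rintro _ ⟨z, rfl⟩; exact hwO z)
    have hl : l₁ ≫ O.ι = w.left := IsOpenImmersion.lift_fac _ _ _
    have h1 : w ≫ (𝟙 G ^ n) = 1 := by rw [MonObj.comp_pow, Category.comp_id, hwn]
    have hl' : l₁ ≫ P = W.hom ≫ η[G].left := by
      show l₁ ≫ O.ι ≫ (𝟙 G ^ n).left = W.hom ≫ η[G].left
      rw [reassoc_of% hl, ← Over.comp_left, h1, Hom.one_def]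
      rfl
    exact ⟨Over.homMk (pullback.lift l₁ W.hom hl') (pullback.lift_snd _ _ _),
      Over.OverMorphism.ext (show pullback.lift l₁ W.hom hl' ≫ pullback.fst P η[G].left ≫ O.ι = w.left by
        rw [pullback.lift_fst_assoc, hl])⟩
  obtain ⟨ψ', hψ'⟩ := hfac (qPt i₀ y₀) ((map_pow (bcPointEquiv i₀ G _) y₀ n).symm.trans
    ((congrArg _ hy).trans (map_one _))) hO
  obtain ⟨ψ, rfl⟩ := ((Over.mapPullbackAdj i₀).homEquiv (Red.bc i₀ Y) E).symm.surjective ψ'
  have hbij := Groth.EtaleBase.pullback_hom_bijective i₀ E Y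
  obtain ⟨φ, hφ : (Over.pullback i₀).map φ = ψ⟩ := hbij.2 ψ
  have hφe : (Over.pullback i₀).map (φ ≫ e) = y₀ := by
    apply qPt_injective i₀
    rw [Functor.map_comp, hφ, qPt_map]
    exact hψ'
  refine ⟨φ ≫ e, hφe, ?_, fun y' hy' hyn => ?_⟩
  · have := φ ≫= he
    rwa [MonObj.comp_one, ← Category.assoc, MonObj.comp_pow, Category.comp_id] at this
  · have hmem : ∀ z, y'.left.base z ∈ O := by
      have hfst : pullback.fst Y.hom i₀ ≫ y'.left = (qPt i₀ y₀).left := by
        rw [← hy', qPt, Adjunction.homEquiv_counit]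
        simp [Over.mapPullbackAdj_counit_app, pullback.lift_fst]
      intro z
      obtain ⟨z', rfl⟩ := (pullback.fst Y.hom i₀).surjective z
      rw [← Scheme.Hom.comp_apply, hfst]
      exact hO z'
    obtain ⟨φ', hφ'⟩ := hfac y' hyn hmem
    have : φ' = φ := by
      refine hbij.1 (?_ : (Over.pullback i₀).map φ' = (Over.pullback i₀).map φ)
      have h := hy'.trans hφe.symm
      rw [← hφ', Functor.map_comp, Functor.map_comp] at h
      exact (cancel_mono _).mp h
    rw [← hφ', this]

end Groth.Reductive2.CentralTorsion
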