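import Groth.Agent.Reductive2.HomDescent
import Groth.Agent.Reductive.HomDiag
import Groth.Agent.SGA7.ConstPoints

/-!
Homomorphisms between diagonalisable groups with finitely generated target character group are
parametrised by the constant scheme of homomorphisms of character groups.
-/

set_option autoImplicit false
universe u

open CategoryTheory CategoryTheory.Limits MonoidalCategory CartesianMonoidalCategory MonObj AlgebraicGeometry
open Groth.Reductive Groth.Reductive.FreeDiag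

noncomputable section

namespace Groth.Reductive2.HomSplit

attribute [local instance] algΓ'

open HomDesc

variable {T : Scheme.{u}} {M N : Type} [AddCommGroup M] [AddCommGroup N]

/-- The index type of homomorphisms of character groups. -/
abbrev Idx (M N : Type) [AddCommGroup M] [AddCommGroup N] : Type u :=
  ULift.{u} (Multiplicative N →* Multiplicative M)

theorem whiskerLeft_constFam (f : Multiplicative N →* Multiplicative M) {Y Y' : Over T} (v : Y' ⟶ Y) :
    (Red.DS T M ◁ v) ≫ constFam f Y = constFam f Y' := dsVal_ext fun n ↦ by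
  have h1 : Red.DS T M ◁ v = lift (fst (Red.DS T M) Y') (snd (Red.DS T M) Y' ≫ v) := by
    ext1 <;> simp
  rw [h1, lift_constFam, constFam, dsVal_dsMk, MonoidHom.comp_apply, dsValHom_apply]

theorem isPieces_pt (I : Type u) : IsPieces fun i : I => TwC.pt T I i := by
  refine ⟨fun i => inferInstanceAs (IsOpenImmersion (Sigma.ι (fun _ : I => T) i)), fun a b hab => ?_, fun z => ?_⟩
  · refine Set.disjoint_iff_forall_ne.mpr ?_
    rintro _ ⟨x, rfl⟩ _ ⟨y, rfl⟩ e
    exact hab (eq_of_range_ι e)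
  · obtain ⟨⟨i, x⟩, hx⟩ := (sigmaMk fun _ : I => T).surjective z
    exact ⟨i, x, by rw [← hx, sigmaMk_mk]; rfl⟩

/-- An open piece. -/
abbrev opn (Z : Over T) (O : Z.left.Opens) : Over T := Over.mk (O.ι ≫ Z.hom)

/-- Its inclusion. -/
abbrev opnι (Z : Over T) (O : Z.left.Opens) : opn Z O ⟶ Z := Over.homMk O.ι rfl

theorem hom_ext_cover (G : Over T) {Z H : Over T} {κ : Type u} (O : κ → Z.left.Opens)
    (hO : ∀ z, ∃ i, z ∈ O i) {f g : G ⊗ Z ⟶ H}
    (h : ∀ i, (G ◁ opnι Z (O i)) ≫ f = (G ◁ opnι Z (O i)) ≫ g) : f = g := by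
  let V : κ → (G ⊗ Z).left.Opens := fun i => (snd G Z).left ⁻¹ᵁ O i
  ext
  refine ((G ⊗ Z).left.openCoverOfIsOpenCover V (.mk (top_le_iff.mp fun x _ =>
    TopologicalSpace.Opens.mem_iSup.mpr (hO ((snd G Z).left x))))).hom_ext _ _ fun i => ?_
  let w : opn (G ⊗ Z) (V i) ⟶ opn Z (O i) :=
    Over.homMk (IsOpenImmersion.lift (O i).ι ((V i).ι ≫ (snd G Z).left)
      (by rw [Scheme.Opens.range_ι]; rintro _ ⟨x, rfl⟩; exact x.2)) (by
        show _ ≫ (O i).ι ≫ Z.hom = (V i).ι ≫ (G ⊗ Z).hom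
        rw [IsOpenImmersion.lift_fac_assoc, Category.assoc, Over.w (snd G Z)])
  have hv : opnι (G ⊗ Z) (V i) = lift (opnι (G ⊗ Z) (V i) ≫ fst G Z) w ≫ (G ◁ opnι Z (O i)) := by
    ext1
    · simp
    · rw [Category.assoc, whiskerLeft_snd, lift_snd_assoc]
      ext
      exact (IsOpenImmersion.lift_fac _ _ _).symm
  have := congr(lift (opnι (G ⊗ Z) (V i) ≫ fst G Z) w ≫ $(h i))
  rw [← Category.assoc, ← Category.assoc, ← hv] at this
  exact congrArg CommaMorphism.left this

section Affine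

variable [IsAffine T]

theorem eq_of_constFam_eq {f f' : Multiplicative N →* Multiplicative M} {Z : Over T} (z : Z.left)
    (h : constFam f Z = constFam f' Z) : f = f' := by
  obtain ⟨_, ⟨O, hO, rfl⟩, hzO, -⟩ :=
    Z.left.isBasis_affineOpens.exists_subset_of_mem_open (Set.mem_univ z) isOpen_univ
  change Z.left.Opens at O
  haveI : IsAffine (opn Z O).left := hO
  have h' := congr((Red.DS T M ◁ opnι Z O) ≫ $h)
  rw [whiskerLeft_constFam, whiskerLeft_constFam] at h'
  haveI : Nonempty (opn Z O).left := ⟨⟨z, hzO⟩⟩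
  haveI : Nonempty (⊤ : (opn Z O).left.Opens) := ⟨⟨⟨z, hzO⟩, trivial⟩⟩
  haveI : Nontrivial Γ((opn Z O).left, ⊤) := inferInstance
  refine MonoidHom.ext fun n => ?_
  have := congr((famU $h' n).coeff (f n))
  by_contra hne
  rw [famU_constFam, famU_constFam, MonoidAlgebra.coeff_single, MonoidAlgebra.coeff_single,
    Finsupp.single_eq_same, Finsupp.single_eq_of_ne hne] at this
  exact one_ne_zero this

theorem isUnit_ι_appTop_basicOpen {Y : Scheme.{u}} (e : Γ(Y, ⊤)) :
    IsUnit ((Y.basicOpen e).ι.appTop e) := by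
  rw [Scheme.Opens.ι_appTop]
  have h1 : (Y.basicOpen e).ι ''ᵁ ⊤ = Y.basicOpen e := Scheme.Opens.ι_image_top _
  have h3 := (RingedSpace.isUnit_res_basicOpen Y.toLocallyRingedSpace.toRingedSpace e).map
    (Y.presheaf.map (homOfLE h1.le).op).hom
  refine (congrArg IsUnit ?_).mp h3
  exact (ConcreteCategory.congr_hom (Y.presheaf.map_comp _ _) e).symm

open MonoidAlgebra in
/-- A family is constant near each point. -/
theorem exists_nhd_constFam [AddGroup.FG N] {Z : Over T} (ψ : Red.DS T M ⊗ Z ⟶ Red.DS T N)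
    (hψ : FreeDiag.IsHom ψ) (z : Z.left) :
    ∃ (O : Z.left.Opens) (f : Multiplicative N →* Multiplicative M), z ∈ O ∧
      (Red.DS T M ◁ opnι Z O) ≫ ψ = constFam f (opn Z O) := by
  classical
  obtain ⟨_, ⟨O, hO, rfl⟩, hzO, -⟩ :=
    Z.left.isBasis_affineOpens.exists_subset_of_mem_open (Set.mem_univ z) isOpen_univ
  change Z.left.Opens at O
  let Y := opn Z O
  haveI : IsAffine Y.left := hO
  let y : Y.left := ⟨z, hzO⟩
  let φ := (Red.DS T M ◁ opnι Z O) ≫ ψ
  have hφ : FreeDiag.IsHom φ := isHomFamily_comp hψ (opnι Z O)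
  let v : Γ(Y.left, ⊤) →+* Y.left.residueField y := (Y.left.evaluation ⊤ y trivial).hom
  let u := famU φ
  have hgl := fun n => famU_groupLike φ hφ n
  have horth := fun n => groupLike_coeff_mul (u n) (hgl n).1
  have hex : ∀ n, ∃ m, v ((u n).coeff m) ≠ 0 := fun n => by
    by_contra hc
    push Not at hc
    have h1 := (hgl n).2
    rw [ringHom_eq_sum] at h1
    have h2 := congrArg v h1
    simp [ev_single, map_sum, hc, u] at h2
  choose f hf using hex
  have hcoeff : ∀ n m, v ((u n).coeff m) = if f n = m then 1 else 0 := fun n m => by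
    have h := congrArg v (horth n (f n) m)
    rw [map_mul] at h
    split_ifs with hm
    · subst hm
      rw [if_pos rfl] at h
      exact (mul_left_eq_self₀.mp h).resolve_right (hf n)
    · rw [if_neg hm, map_zero] at h
      exact (mul_eq_zero.mp h).resolve_left (hf n)
  have hmap : ∀ n, MonoidAlgebra.mapRingHom (Multiplicative M) v (u n) = single (f n) 1 := fun n =>
    MonoidAlgebra.ext <| Finsupp.ext fun m => by
      rw [coeff_mapRingHom, hcoeff, coeff_single, Finsupp.single_apply]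
  have hinj : ∀ {a b : Multiplicative M},
      (single a (1 : Y.left.residueField y) : MonoidAlgebra _ _) = single b 1 → a = b := fun {a b} h => by
    by_contra hab
    have := congr(($h).coeff a)
    simp [Ne.symm hab] at this
  let F : Multiplicative N →* Multiplicative M :=
    { toFun := f
      map_one' := hinj (by rw [← hmap, map_one, map_one, MonoidAlgebra.one_def])
      map_mul' := fun a b => hinj (by
        rw [← hmap, map_mul, map_mul, hmap, hmap, single_mul_single, _root_.one_mul]) }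
  obtain ⟨s, hs⟩ := (inferInstance : AddGroup.FG N).out
  have hs' : Subgroup.closure (Multiplicative.ofAdd '' (s : Set N)) = ⊤ := by
    rw [← top_le_iff]
    intro n _
    refine (?_ : ∀ a ∈ AddSubgroup.closure (s : Set N),
      Multiplicative.ofAdd a ∈ Subgroup.closure (Multiplicative.ofAdd '' (s : Set N)))
      (Multiplicative.toAdd n) (by rw [hs]; trivial)
    intro a ha
    induction ha using AddSubgroup.closure_induction with
    | mem x hx => exact Subgroup.subset_closure ⟨x, hx, rfl⟩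
    | zero => exact one_mem _
    | add a b _ _ ha hb => exact mul_mem ha hb
    | neg a _ ha => exact inv_mem ha
  let e := ∏ n ∈ s.image Multiplicative.ofAdd, (u n).coeff (f n)
  have hye : y ∈ Y.left.basicOpen e := by
    rw [← Scheme.evaluation_ne_zero_iff_mem_basicOpen Y.left (U := ⊤) y trivial e]
    show v e ≠ 0
    rw [map_prod, Finset.prod_ne_zero_iff]
    exact fun n _ => hf n
  let O' := Y.left.basicOpen e
  let Y' := opn Y O'
  haveI : IsAffine Y'.left := (isAffineOpen_top Y.left).basicOpen e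
  let w : Y' ⟶ Y := opnι Y O'
  let r := w.left.appTop.hom
  have hr : IsUnit (r e) := isUnit_ι_appTop_basicOpen e
  let φ' := (Red.DS T M ◁ w) ≫ φ
  have hu' : ∀ n ∈ s.image Multiplicative.ofAdd, famU φ' n = single (F n) 1 := fun n hn => by
    rw [famU_comp]
    have h1 : IsUnit (r ((u n).coeff (f n))) := by
      refine isUnit_of_dvd_unit (map_dvd r ?_) hr
      exact Finset.dvd_prod_of_mem _ hn
    have h2 : r ((u n).coeff (f n)) = 1 := by
      refine h1.mul_left_cancel ?_
      rw [← map_mul, horth, if_pos rfl, _root_.mul_one]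
    refine MonoidAlgebra.ext <| Finsupp.ext fun m => ?_
    rw [coeff_mapRingHom, coeff_single, Finsupp.single_apply]
    show r ((u n).coeff m) = if f n = m then 1 else 0
    split_ifs with hm
    · rw [← hm]; exact h2
    · have h := congrArg r (horth n (f n) m)
      rwa [map_mul, h2, _root_.one_mul, if_neg hm, map_zero] at h
  have hall : φ' = constFam F Y' := famU_ext fun n => by
    rw [famU_constFam]
    let Φ : Multiplicative N →* MonoidAlgebra Γ(Y'.left, ⊤) (Multiplicative M) :=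
      (MonoidAlgebra.of _ _).comp F
    have key : ∀ x ∈ Subgroup.closure (Multiplicative.ofAdd '' (s : Set N)), famU φ' x = Φ x := by
      intro x hx
      induction hx using Subgroup.closure_induction with
      | mem x hx =>
        obtain ⟨a, ha, rfl⟩ := hx
        exact hu' _ (Finset.mem_image_of_mem _ ha)
      | one => rw [map_one, map_one]
      | mul a b _ _ ha hb => rw [map_mul, map_mul, ha, hb]
      | inv a _ ha =>
        have h1 : famU φ' a⁻¹ * famU φ' a = 1 := by rw [← map_mul, inv_mul_cancel, map_one]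
        have h2 : Φ a⁻¹ * Φ a = 1 := by rw [← map_mul, inv_mul_cancel, map_one]
        rw [ha] at h1
        exact ((Group.isUnit a).map Φ).mul_right_cancel (h1.trans h2.symm)
    exact key n (by rw [hs']; trivial)
  let O'' : Z.left.Opens := O.ι ''ᵁ O'
  refine ⟨O'', F, ⟨y, hye, rfl⟩, ?_⟩
  have hrange : Set.range O''.ι ⊆ Set.range (O'.ι ≫ O.ι) := by
    rw [Scheme.Opens.range_ι]
    rintro _ ⟨a, ha, rfl⟩
    exact ⟨⟨a, ha⟩, rfl⟩
  let l : opn Z O'' ⟶ Y' := Over.homMk (IsOpenImmersion.lift (O'.ι ≫ O.ι) O''.ι hrange) (by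
    show _ ≫ O'.ι ≫ O.ι ≫ Z.hom = O''.ι ≫ Z.hom
    rw [← Category.assoc O'.ι, IsOpenImmersion.lift_fac_assoc])
  have hl : opnι Z O'' = l ≫ w ≫ opnι Z O := by
    ext
    exact (IsOpenImmersion.lift_fac (O'.ι ≫ O.ι) O''.ι hrange).symm
  rw [hl, whiskerLeft_comp_assoc, whiskerLeft_comp_assoc]
  show (Red.DS T M ◁ l) ≫ φ' = _
  rw [hall, whiskerLeft_constFam]

/-- The constant scheme of homomorphisms of character groups represents. -/
theorem exists_universal [AddGroup.FG N] :
    ∃ ω : Red.DS T M ⊗ TwC.const T (Idx.{u} M N) ⟶ Red.DS T N, FreeDiag.IsHom ω ∧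
      (∀ i, (Red.DS T M ◁ TwC.pt T (Idx.{u} M N) i) ≫ ω = constFam i.down (𝟙_ (Over T))) ∧
      ∀ (Z : Over T) (ψ : Red.DS T M ⊗ Z ⟶ Red.DS T N), FreeDiag.IsHom ψ →
        ∃! a : Z ⟶ TwC.const T (Idx.{u} M N), (Red.DS T M ◁ a) ≫ ω = ψ := by
  obtain ⟨ω, hω⟩ := ((isPieces_pt (T := T) (Idx.{u} M N)).whiskerLeft (Red.DS T M)).exists_glue
    fun i => constFam i.down (𝟙_ (Over T))
  refine ⟨ω, (isPieces_pt (T := T) (Idx.{u} M N)).isHomFamily (G := Red.DS T M) (H := Red.DS T N)
    (fun i => (hω i).symm ▸ isHom_constFam i.down _), hω, fun Z ψ hψ => ?_⟩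
  choose O f hzO hOf using exists_nhd_constFam ψ hψ
  have hconst : ∀ z z' : Z.left, z' ∈ O z → f z' = f z := fun z z' hz' => by
    let P := O z ⊓ O z'
    let a : opn Z P ⟶ opn Z (O z) := Over.homMk (Z.left.homOfLE inf_le_left) (by
      show Z.left.homOfLE inf_le_left ≫ (O z).ι ≫ Z.hom = P.ι ≫ Z.hom
      rw [Scheme.homOfLE_ι_assoc])
    let b : opn Z P ⟶ opn Z (O z') := Over.homMk (Z.left.homOfLE inf_le_right) (by
      show Z.left.homOfLE inf_le_right ≫ (O z').ι ≫ Z.hom = P.ι ≫ Z.hom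
      rw [Scheme.homOfLE_ι_assoc])
    refine eq_of_constFam_eq (Z := opn Z P) (⟨z', hz', hzO z'⟩ : P) ?_
    rw [← whiskerLeft_constFam (f z') b, ← hOf z', ← whiskerLeft_constFam (f z) a, ← hOf z,
      ← whiskerLeft_comp_assoc, ← whiskerLeft_comp_assoc]
    congr 2
    ext
    show Z.left.homOfLE inf_le_right ≫ (O z').ι = Z.left.homOfLE inf_le_left ≫ (O z).ι
    rw [Scheme.homOfLE_ι, Scheme.homOfLE_ι]
  let F : Z.left → Idx.{u} M N := fun z => ⟨f z⟩
  have hF : IsLocallyConstant F := (IsLocallyConstant.iff_exists_open F).mpr fun z =>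
    ⟨O z, (O z).isOpen, hzO z, fun z' hz' => congrArg ULift.up (hconst z z' hz')⟩
  obtain ⟨a, ha⟩ := Groth.SGA7.ConstPoints.exists_of_isLocallyConstant Z F hF
  have hval : ∀ (c : Z ⟶ TwC.const T (Idx.{u} M N)) (P : Z.left.Opens) (i : Idx.{u} M N),
      (∀ z ∈ P, Groth.SGA7.ConstPoints.idx c z = i) →
        (Red.DS T M ◁ opnι Z P) ≫ (Red.DS T M ◁ c) ≫ ω = constFam i.down (opn Z P) := fun c P i hi => by
    rw [← whiskerLeft_comp_assoc, Groth.SGA7.ConstPoints.eq_pt (opnι Z P ≫ c) i fun t => hi _ t.2,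
      whiskerLeft_comp_assoc, hω, whiskerLeft_constFam]
  refine ⟨a, hom_ext_cover (Red.DS T M) O (fun z => ⟨z, hzO z⟩) fun z => ?_, fun c hc => ?_⟩
  · rw [hOf z, hval a (O z) ⟨f z⟩ fun z' hz' =>
      (congrFun ha z').trans (congrArg ULift.up (hconst z z' hz'))]
  · refine Groth.SGA7.ConstPoints.ext (funext fun z => ?_)
    let i := Groth.SGA7.ConstPoints.idx c z
    let P : Z.left.Opens := O z ⊓ ⟨Groth.SGA7.ConstPoints.idx c ⁻¹' {i},
      Groth.SGA7.ConstPoints.isLocallyConstant_idx c _⟩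
    have hzP : z ∈ P := ⟨hzO z, rfl⟩
    let b : opn Z P ⟶ opn Z (O z) := Over.homMk (Z.left.homOfLE inf_le_left) (by
      show Z.left.homOfLE inf_le_left ≫ (O z).ι ≫ Z.hom = P.ι ≫ Z.hom
      rw [Scheme.homOfLE_ι_assoc])
    have hb : b ≫ opnι Z (O z) = opnι Z P := by
      ext
      exact Z.left.homOfLE_ι inf_le_left
    have h1 : constFam i.down (opn Z P) = constFam (f z) (opn Z P) := by
      rw [← hval c P i fun z' hz' => hz'.2, hc, ← hb, whiskerLeft_comp_assoc, hOf z, whiskerLeft_constFam]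
    rw [congrFun ha z]
    exact ULift.ext _ _ (eq_of_constFam_eq (Z := opn Z P) (⟨z, hzP⟩ : P) h1)

end Affine

section Transport

variable {S : Scheme.{u}} {G H : Over S} [GrpObj G] [GrpObj H] {g : T ⟶ S}
  (iG : Red.DS T M ≅ Red.bc g G) [IsMonHom iG.hom] (iH : Red.DS T N ≅ Red.bc g H) [IsMonHom iH.hom]

/-- The change of presentation of a product. -/
def θ (Z : Over T) : (Over.map g).obj (Red.DS T M ⊗ Z) ⟶ G ⊗ (Over.map g).obj Z :=
  lift (bcPointEquiv g G _ (fst (Red.DS T M) Z ≫ iG.hom)) ((Over.map g).map (snd (Red.DS T M) Z))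

omit [IsMonHom iG.hom] in
theorem map_lift_θ {Z W : Over T} (h : W ⟶ Red.DS T M) (y : W ⟶ Z) :
    (Over.map g).map (lift h y) ≫ θ iG Z =
      lift (bcPointEquiv g G W (h ≫ iG.hom)) ((Over.map g).map y) := by
  rw [θ, comp_lift, ← bcPointEquiv_comp, ← Functor.map_comp, lift_fst_assoc, lift_snd]

omit [IsMonHom iG.hom] in
theorem exists_over_point {Z : Over T} {W : Over S} (t : W ⟶ (Over.map g).obj Z) :
    ∃ (n : Over T) (c : (Over.map g).obj n ≅ W) (y : n ⟶ Z), (Over.map g).map y = c.hom ≫ t ∧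
      ∀ x : W ⟶ G, ∃ h : n ⟶ Red.DS T M, bcPointEquiv g G n (h ≫ iG.hom) = c.hom ≫ x := by
  let n : Over T := Over.mk (t.left ≫ Z.hom)
  let c : (Over.map g).obj n ≅ W := Over.isoMk (Iso.refl _) (by
    show 𝟙 _ ≫ W.hom = (t.left ≫ Z.hom) ≫ g
    rw [Category.id_comp, ← Over.w t]
    simp)
  refine ⟨n, c, Over.homMk t.left rfl, Over.OverMorphism.ext (Category.id_comp _).symm, fun x => ?_⟩
  refine ⟨(bcPointEquiv g G n).symm (c.hom ≫ x) ≫ iG.inv, ?_⟩
  rw [Category.assoc, Iso.inv_hom_id, Category.comp_id, MulEquiv.apply_symm_apply]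

omit [IsMonHom iG.hom] in
theorem isIso_θ (Z : Over T) : IsIso (θ iG Z) := by
  obtain ⟨n, c, y, hy, hh⟩ := exists_over_point iG (snd G ((Over.map g).obj Z))
  obtain ⟨h, hh⟩ := hh (fst G ((Over.map g).obj Z))
  have e1 : ((Over.map g).map (lift h y)) ≫ θ iG Z = c.hom := by
    rw [map_lift_θ, hy, hh]
    ext1 <;> simp
  refine ⟨c.inv ≫ (Over.map g).map (lift h y), ?_, by rw [Category.assoc, e1, c.inv_hom_id]⟩
  let k : Red.DS T M ⊗ Z ⟶ n := Over.homMk ((θ iG Z ≫ c.inv).left) (by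
    have h1 : (θ iG Z ≫ c.inv).left ≫ ((Over.map g).map y).left = (snd (Red.DS T M) Z).left := by
      rw [← Over.comp_left, hy, Category.assoc, c.inv_hom_id_assoc, θ, lift_snd]
      rfl
    show (θ iG Z ≫ c.inv).left ≫ n.hom = _
    rw [← Over.w y, ← Category.assoc]
    exact (congrArg (· ≫ Z.hom) h1).trans (Over.w (snd (Red.DS T M) Z)))
  have hk : (Over.map g).map k = θ iG Z ≫ c.inv := Over.OverMorphism.ext rfl
  rw [← Category.assoc, ← hk, ← Functor.map_comp]
  have : k ≫ lift h y = 𝟙 _ := by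
    ext1
    · rw [Category.assoc, lift_fst, Category.id_comp, ← cancel_mono iG.hom, Category.assoc]
      apply (bcPointEquiv g G _).injective
      rw [bcPointEquiv_comp, hh, hk, Category.assoc, c.inv_hom_id_assoc, θ, lift_fst]
    · rw [Category.assoc, lift_snd, Category.id_comp]
      refine Over.OverMorphism.ext ?_
      show ((Over.map g).map k).left ≫ ((Over.map g).map y).left = _
      rw [← Over.comp_left, hk, hy, Category.assoc, c.inv_hom_id_assoc, θ, lift_snd]
      rfl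
  rw [this, CategoryTheory.Functor.map_id]

/-- The family over `T` of a family over `S`. -/
def toT {Z : Over T} (φ : G ⊗ (Over.map g).obj Z ⟶ H) : Red.DS T M ⊗ Z ⟶ Red.DS T N :=
  (bcPointEquiv g H _).symm (θ iG Z ≫ φ) ≫ iH.inv

/-- The family over `S` of a family over `T`. -/
def toS {Z : Over T} (ψ : Red.DS T M ⊗ Z ⟶ Red.DS T N) : G ⊗ (Over.map g).obj Z ⟶ H :=
  haveI := isIso_θ iG Z
  inv (θ iG Z) ≫ bcPointEquiv g H _ (ψ ≫ iH.hom)

omit [IsMonHom iG.hom] [IsMonHom iH.hom] in
theorem toT_toS {Z : Over T} (ψ : Red.DS T M ⊗ Z ⟶ Red.DS T N) : toT iG iH (toS iG iH ψ) = ψ := by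
  simp [toT, toS]

omit [IsMonHom iG.hom] [IsMonHom iH.hom] in
theorem toS_toT {Z : Over T} (φ : G ⊗ (Over.map g).obj Z ⟶ H) : toS iG iH (toT iG iH φ) = φ := by
  simp [toT, toS]

omit [IsMonHom iG.hom] [IsMonHom iH.hom] in
theorem point_toT {Z W : Over T} (h : W ⟶ Red.DS T M) (y : W ⟶ Z)
    (φ : G ⊗ (Over.map g).obj Z ⟶ H) :
    lift (bcPointEquiv g G W (h ≫ iG.hom)) ((Over.map g).map y) ≫ φ =
      bcPointEquiv g H W (lift h y ≫ toT iG iH φ ≫ iH.hom) := by
  rw [toT, Category.assoc, Iso.inv_hom_id, Category.comp_id, bcPointEquiv_comp g H (lift h y),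
    MulEquiv.apply_symm_apply, ← map_lift_θ iG h y, Category.assoc]

omit [IsMonHom iG.hom] [IsMonHom iH.hom] in
theorem toT_comp {Z Z' : Over T} (v : Z' ⟶ Z) (φ : G ⊗ (Over.map g).obj Z ⟶ H) :
    toT iG iH ((G ◁ (Over.map g).map v) ≫ φ) = (Red.DS T M ◁ v) ≫ toT iG iH φ := by
  rw [← cancel_mono iH.hom]
  apply (bcPointEquiv g H _).injective
  have key : θ iG Z' ≫ (G ◁ (Over.map g).map v) =
      (Over.map g).map (Red.DS T M ◁ v) ≫ θ iG Z := by
    ext1
    · simp only [θ, Category.assoc, lift_fst, whiskerLeft_fst, ← bcPointEquiv_comp, whiskerLeft_fst_assoc]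
    · simp only [θ, Category.assoc, lift_snd, whiskerLeft_snd, lift_snd_assoc, ← Functor.map_comp]
  rw [Category.assoc, bcPointEquiv_comp g H (Red.DS T M ◁ v)]
  simp only [toT, Category.assoc, Iso.inv_hom_id, Category.comp_id, MulEquiv.apply_symm_apply]
  rw [reassoc_of% key]

theorem isHom_toT_iff {Z : Over T} (φ : G ⊗ (Over.map g).obj Z ⟶ H) :
    FreeDiag.IsHom (toT iG iH φ) ↔ AutFam.IsHomFamily G H φ := by
  constructor
  · intro hψ W g₁ g₂ t
    obtain ⟨n, c, y, hy, hh⟩ := exists_over_point iG t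
    obtain ⟨h₁, e₁⟩ := hh g₁
    obtain ⟨h₂, e₂⟩ := hh g₂
    have e₁₂ : bcPointEquiv g G n ((h₁ * h₂) ≫ iG.hom) = c.hom ≫ (g₁ * g₂) := by
      rw [MonObj.mul_comp, map_mul, e₁, e₂, MonObj.comp_mul]
    have key : ∀ (x : W ⟶ G) (h : n ⟶ Red.DS T M), bcPointEquiv g G n (h ≫ iG.hom) = c.hom ≫ x →
        c.hom ≫ lift x t ≫ φ = bcPointEquiv g H n (lift h y ≫ toT iG iH φ ≫ iH.hom) := fun x h e => by
      rw [← point_toT, e, hy, comp_lift_assoc]
    rw [← cancel_epi c.hom, MonObj.comp_mul, key _ _ e₁₂, key _ _ e₁, key _ _ e₂, ← map_mul,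
      ← Category.assoc, hψ, MonObj.mul_comp, Category.assoc, Category.assoc]
  · intro hφ W h h' y
    rw [← cancel_mono iH.hom, MonObj.mul_comp]
    apply (bcPointEquiv g H W).injective
    rw [map_mul, Category.assoc, Category.assoc, Category.assoc, ← point_toT, ← point_toT, ← point_toT,
      MonObj.mul_comp, map_mul]
    exact hφ _ _ _ _

include iH in
/-- Over a chart trivialising source and target the functor of homomorphisms is constant. -/
theorem exists_representsOn [IsAffine T] [AddGroup.FG N] :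
    ∃ υ : G ⊗ (Over.map g).obj (TwC.const T (Idx.{u} M N)) ⟶ H,
      RepresentsOn G H g (TwC.const T (Idx.{u} M N)) υ ∧
      ∀ i, toT iG iH ((G ◁ (Over.map g).map (TwC.pt T (Idx.{u} M N) i)) ≫ υ) =
        constFam i.down (𝟙_ (Over T)) := by
  obtain ⟨ω, hω, hpt, huniv⟩ := exists_universal (T := T) (M := M) (N := N)
  refine ⟨toS iG iH ω, ⟨(isHom_toT_iff iG iH _).mp (by rwa [toT_toS]), fun Z φ hφ => ?_⟩, fun i => by
    rw [toT_comp, toT_toS, hpt]⟩
  obtain ⟨a, ha, hu⟩ := huniv Z (toT iG iH φ) ((isHom_toT_iff iG iH φ).mpr hφ)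
  refine ⟨a, ?_, fun b hb => hu b ?_⟩
  · beta_reduce at ha ⊢
    rw [← toS_toT iG iH ((G ◁ (Over.map g).map a) ≫ toS iG iH ω), toT_comp, toT_toS, ha, toS_toT]
  · beta_reduce at hb ⊢
    rw [← hb, toT_comp, toT_toS]

end Transport

end Groth.Reductive2.HomSplit
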