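import Groth.Agent.Reductive2.CentralTorsion
import Groth.Agent.Reductive2.HomSplit
import Groth.Agent.Reductive.MultTypeComm
import Groth.Agent.S4997
import Mathlib.Algebra.TrivSqZeroExt.Basic
import Mathlib.LinearAlgebra.Basis.VectorSpace
import Mathlib.Algebra.Field.ZMod
import Mathlib.GroupTheory.FiniteAbelian.Basic

/-!
Central homomorphisms from finite étale groups of multiplicative type lift uniquely along surjective
closed immersions of the base.
-/

set_option autoImplicit false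
universe u

open CategoryTheory CategoryTheory.Limits MonoidalCategory CartesianMonoidalCategory MonObj AlgebraicGeometry
open Groth.Reductive Groth.Reductive.FreeDiag

noncomputable section

namespace Groth.Reductive2.CentralTorsion

open HomSplit

variable {S : Scheme.{u}}

/-- An étale diagonalisable group over a field has no nonzero additive character to the field. -/
theorem hom_eq_zero_of_etale {K : Type u} [Field K] {M : Type} [AddCommGroup M]
    [Etale (Red.DS (Spec (CommRingCat.of K)) M).hom] (φ : M →+ K) : φ = 0 := by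
  let D := TrivSqZeroExt K K
  let T := Spec (CommRingCat.of K)
  let Y : Over T := Over.mk (Spec.map (CommRingCat.ofHom (algebraMap K D)))
  let χ₀ : Multiplicative M →* D :=
    { toFun := fun m => 1 + TrivSqZeroExt.inr (φ (Multiplicative.toAdd m))
      map_one' := by simp
      map_mul' := fun a b => by
        rw [_root_.add_mul, _root_.one_mul, _root_.mul_add, _root_.mul_one, TrivSqZeroExt.inr_mul_inr,
          toAdd_mul, map_add, TrivSqZeroExt.inr_add]
        abel }
  let ι' : D →+* Γ(Y.left, ⊤) := (Scheme.ΓSpecIso (CommRingCat.of D)).inv.hom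
  let y₁ : Y ⟶ Red.DS T M := dsMk Y (ι'.toMonoidHom.comp χ₀)
  let y₀ : Y ⟶ Red.DS T M := dsMk Y (ι'.toMonoidHom.comp 1)
  let bl := Spec.map (CommRingCat.ofHom (TrivSqZeroExt.fstHom K K K).toRingHom)
  let b : Over.mk (bl ≫ Y.hom) ⟶ Y := Over.homMk bl rfl
  have hb : b ≫ y₁ = b ≫ y₀ := dsVal_ext fun m => by
    rw [dsVal_comp, dsVal_comp, dsVal_dsMk, dsVal_dsMk]
    show bl.appTop (ι' (χ₀ m)) = bl.appTop (ι' 1)
    have hn : ∀ d : D, bl.appTop (ι' d) =
        (Scheme.ΓSpecIso (CommRingCat.of K)).inv ((TrivSqZeroExt.fstHom K K K) d) := fun d =>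
      (ConcreteCategory.congr_hom
        (Scheme.ΓSpecIso_inv_naturality (CommRingCat.ofHom (TrivSqZeroExt.fstHom K K K).toRingHom)) d).symm
    rw [hn, hn]
    congr 1
    show TrivSqZeroExt.fst (1 + TrivSqZeroExt.inr (φ (Multiplicative.toAdd m))) = TrivSqZeroExt.fst (1 : D)
    rw [TrivSqZeroExt.fst_add, TrivSqZeroExt.fst_inr, add_zero]
  have : Surjective bl := by
    refine ⟨fun z => ⟨IsLocalRing.closedPoint K, ?_⟩⟩
    apply PrimeSpectrum.ext
    refine le_antisymm (fun a ha => ?_) (fun a ha => ?_)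
    · have h0 : (TrivSqZeroExt.fstHom K K K) a = 0 := by
        have h1 : (TrivSqZeroExt.fstHom K K K) a ∈ IsLocalRing.maximalIdeal K := ha
        simpa [IsLocalRing.mem_maximalIdeal, mem_nonunits_iff, isUnit_iff_ne_zero] using h1
      have hnil : a ^ 2 = 0 := by
        rw [← TrivSqZeroExt.inl_fst_add_inr_snd_eq a, show a.fst = 0 from h0, TrivSqZeroExt.inl_zero,
          zero_add, pow_two, TrivSqZeroExt.inr_mul_inr]
      exact z.isPrime.mem_of_pow_mem 2 (by rw [hnil]; exact zero_mem _)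
    · show (TrivSqZeroExt.fstHom K K K) a ∈ IsLocalRing.maximalIdeal K
      by_contra h
      have hu : IsUnit a := TrivSqZeroExt.isUnit_iff_isUnit_fst.mpr (by
        simpa [IsLocalRing.mem_maximalIdeal, mem_nonunits_iff] using h)
      exact z.isPrime.ne_top (Ideal.eq_top_of_isUnit_mem _ ha hu)
  have hyy : y₁ = y₀ := Over.OverMorphism.ext
    (Groth.EtaleBase.eq_of_surjective_agree (Red.DS T M).hom y₁.left y₀.left
      ((Over.w y₁).trans (Over.w y₀).symm) bl (congrArg CommaMorphism.left hb))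
  ext m
  have h := congr(dsVal $hyy (Multiplicative.ofAdd m))
  rw [dsVal_dsMk, dsVal_dsMk] at h
  have hinj : Function.Injective ι' :=
    (Scheme.ΓSpecIso (CommRingCat.of D)).commRingCatIsoToRingEquiv.symm.injective
  have h' : TrivSqZeroExt.snd (1 + TrivSqZeroExt.inr (φ m) : D) = TrivSqZeroExt.snd (1 : D) :=
    congrArg TrivSqZeroExt.snd (hinj h)
  rw [TrivSqZeroExt.snd_add, TrivSqZeroExt.snd_inr, TrivSqZeroExt.snd_one, zero_add] at h'
  exact h'

theorem exists_hom_zmod {p : ℕ} [Fact p.Prime] {A : Type} [AddCommGroup A] (hA : ∀ a : A, p • a = 0)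
    (a : A) (ha : a ≠ 0) : ∃ f : A →+ ZMod p, f a ≠ 0 := by
  letI : Module (ZMod p) A := AddCommGroup.zmodModule hA
  let b := Module.Basis.ofVectorSpace (ZMod p) A
  by_contra hc
  push Not at hc
  exact ha (b.ext_elem fun i => by simpa using hc (b.coord i).toAddMonoidHom)

/-- A finitely generated abelian group without additive characters to a field is finite of order
invertible in the field. -/
theorem card_ne_zero {K : Type u} [Field K] {M : Type} [AddCommGroup M] [AddGroup.FG M]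
    (h : ∀ φ : M →+ K, φ = 0) : Finite M ∧ (Nat.card M : K) ≠ 0 := by
  classical
  have hfin : Finite M := by
    by_contra hinf
    obtain ⟨n, J, hJ, p, hp, e, ⟨E⟩⟩ := AddCommGroup.equiv_free_prod_directSum_zmod M
    rcases Nat.eq_zero_or_pos n with rfl | hn
    · haveI := fun i => Nat.Prime.pos (hp i)
      haveI : ∀ i, NeZero (p i ^ e i) := fun i => ⟨pow_ne_zero _ (hp i).ne_zero⟩
      exact hinf (Finite.of_equiv ((Fin 0 →₀ ℤ) × ∀ i, ZMod (p i ^ e i))
        ((Equiv.prodCongr (Equiv.refl _) DFinsupp.equivFunOnFintype.symm).trans E.symm.toEquiv))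
    · let φ : M →+ K := ((Int.castAddHom K).comp
        ((Finsupp.applyAddHom (⟨0, hn⟩ : Fin n)).comp (AddMonoidHom.fst _ _))).comp E.toAddMonoidHom
      have := DFunLike.congr_fun (h φ) (E.symm (Finsupp.single ⟨0, hn⟩ 1, 0))
      simp [φ] at this
  refine ⟨hfin, fun h0 => ?_⟩
  obtain ⟨p, hp⟩ := CharP.exists K
  rcases CharP.char_is_prime_or_zero K p with hpp | rfl
  · haveI := Fact.mk hpp
    haveI := Fintype.ofFinite M
    have hdvd : p ∣ Fintype.card M := by
      rw [← Nat.card_eq_fintype_card]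
      exact (CharP.cast_eq_zero_iff K p _).mp h0
    obtain ⟨x, hx⟩ := exists_prime_addOrderOf_dvd_card p hdvd
    let R : AddSubgroup M := (nsmulAddMonoidHom p : M →+ M).range
    obtain ⟨y, hy⟩ : ∃ y, y ∉ R := by
      by_contra hc
      push Not at hc
      have hsurj : Function.Surjective (nsmulAddMonoidHom p : M →+ M) := fun y => hc y
      have h1 : x = 0 := (Finite.injective_iff_surjective.mpr hsurj) (by
        show p • x = p • (0 : M)
        rw [smul_zero, ← hx, addOrderOf_nsmul_eq_zero])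
      rw [h1, addOrderOf_zero] at hx
      exact hpp.one_lt.ne hx
    obtain ⟨f, hf⟩ := exists_hom_zmod (p := p) (A := M ⧸ R) (fun q => by
      induction q using QuotientAddGroup.induction_on with
      | H m =>
        rw [← QuotientAddGroup.mk_nsmul, QuotientAddGroup.eq_zero_iff]
        exact ⟨m, rfl⟩) (y : M ⧸ R) (fun h1 => hy ((QuotientAddGroup.eq_zero_iff y).mp h1))
    let φ : M →+ K := ((ZMod.castHom (dvd_refl p) K).toAddMonoidHom.comp f).comp
      (QuotientAddGroup.mk' R)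
    have := DFunLike.congr_fun (h φ) y
    exact hf ((ZMod.castHom (dvd_refl p) K).injective (this.trans (map_zero _).symm))
  · haveI : CharZero K := CharP.charP_to_charZero K
    exact Nat.card_pos.ne' (Nat.cast_eq_zero.mp h0)

theorem pow_eq_one_of_iso {T : Scheme.{u}} {A B : Over T} [GrpObj A] [GrpObj B] (i : A ≅ B) [IsMonHom i.hom]
    {N : ℕ} (h : (𝟙 A) ^ N = 1) : (𝟙 B) ^ N = 1 := by
  have h1 : (𝟙 A ^ N) ≫ i.hom = i.hom ^ N := by rw [MonObj.pow_comp, Category.id_comp]
  rw [← cancel_epi i.hom, MonObj.comp_pow, Category.comp_id, MonObj.comp_one, ← h1, h, MonObj.one_comp]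

theorem pow_card_id_eq_one {T : Scheme.{u}} (M : Type) [AddCommGroup M] [Finite M] :
    (𝟙 (Red.DS T M)) ^ Nat.card M = 1 := by
  refine dsVal_ext fun m => ?_
  rw [← dsValHom_apply, ← dsValHom_apply, dsValHom_one]
  have h1 : ∀ k : ℕ, dsValHom ((𝟙 (Red.DS T M)) ^ k) m = dsValHom (𝟙 (Red.DS T M)) (m ^ k) := fun k => by
    induction k with
    | zero => rw [pow_zero, pow_zero, dsValHom_one, map_one]; rfl
    | succ k ih =>
      rw [pow_succ, pow_succ, dsValHom_apply, dsVal_mul, ← dsValHom_apply, ← dsValHom_apply, ih, map_mul]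
  have hm : m ^ Nat.card M = 1 := by
    have : Finite (Multiplicative M) := Finite.of_equiv M Multiplicative.ofAdd
    show m ^ Nat.card (Multiplicative M) = 1
    exact pow_card_eq_one'
  rw [h1, hm, map_one]
  rfl

/-- An open of the base on which `n` is invertible and kills `H`. -/
def Good (H : Over S) [GrpObj H] (n : ℕ) (V : S.Opens) : Prop :=
  (∀ v ∈ V, (n : S.residueField v) ≠ 0) ∧ TrivOn ((𝟙 H) ^ n) (Over.mk V.ι)

theorem Good.pow_eq_one {H : Over S} [GrpObj H] {n : ℕ} {V : S.Opens} (h : Good H n V) {W : Over S}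
    (w : W ⟶ Over.mk V.ι) (x : W ⟶ H) : x ^ n = 1 := by
  have := h.2 W w x
  rwa [MonObj.comp_pow, Category.comp_id] at this

theorem exists_good (H : Over S) [GrpObj H] [IsFinite H.hom] [Smooth H.hom] (hH : SGA3x.IsMultTypeFT H)
    (s : S) : ∃ (n : ℕ) (V : S.Opens), s ∈ V ∧ Good H n V := by
  haveI : Etale H.hom := (Groth.Agent.S4997.result H.hom).mpr ⟨inferInstance, inferInstance⟩
  obtain ⟨S', f, hflat, hsurj, hqc, hloc⟩ := id hH
  obtain ⟨t', rfl⟩ := f.surjective s
  obtain ⟨U, hU, M, hMg, hMfg, ⟨e⟩⟩ := hloc t'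
  let t : (U : Scheme.{u}) := ⟨t', hU⟩
  let K := (U : Scheme.{u}).residueField t
  let p : Spec (CommRingCat.of K) ⟶ S := (U : Scheme.{u}).fromSpecResidueField t ≫ U.ι ≫ f
  let i₁ : Red.DS (U : Scheme.{u}) M ≅ Red.bc (U.ι ≫ f) H := ((Grp.forget _).mapIso e).symm
  haveI : IsMonHom i₁.hom := inferInstanceAs (IsMonHom e.inv.hom.hom)
  obtain ⟨i, hi⟩ : ∃ i : Red.DS (Spec (CommRingCat.of K)) M ≅ Red.bc p H, IsMonHom i.hom :=
    exists_trivialisation_comp H ((U : Scheme.{u}).fromSpecResidueField t) (U.ι ≫ f) i₁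
  haveI : Etale (Red.DS (Spec (CommRingCat.of K)) M).hom := by
    haveI : Etale (Red.bc p H).hom := inferInstanceAs (Etale (pullback.snd H.hom p))
    haveI : IsIso i.hom.left := inferInstanceAs (IsIso ((Over.forget _).map i.hom))
    exact (congrArg (fun φ => Etale φ) (Over.w i.hom)).mp inferInstance
  obtain ⟨hfin, hN⟩ := card_ne_zero (K := K) (M := M) hom_eq_zero_of_etale
  let N := Nat.card M
  let u := (𝟙 H) ^ N
  haveI : IsMonHom u := Groth.AlgGrp1.isMonHom_of_points _ fun Z a b => by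
    simp only [u, MonObj.comp_pow, Category.comp_id]
    exact Commute.mul_pow (comm_of_multTypeFT hH Z a b) N
  have htriv : TrivOn u (Over.mk p) := by
    rw [← pullback_map_eq_one_iff, map_pow_id]
    haveI := hi
    exact pow_eq_one_of_iso i (pow_card_id_eq_one M)
  haveI : LocallyOfFinitePresentation H.hom := inferInstance
  obtain ⟨V₀, -, hV₀, hV₀t⟩ := exists_clopen_trivLocus' (u := u) hH (Or.inr inferInstance)
  have hps : p.base (IsLocalRing.closedPoint K) = f t' := by
    show f (U.ι ((U : Scheme.{u}).fromSpecResidueField t _)) = f t'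
    rw [Scheme.fromSpecResidueField_apply]
    rfl
  have hsV₀ : f t' ∈ V₀ := by
    rw [hV₀, pullback_map_eq_one_iff, ← hps, ← trivOn_fieldPoint_iff]
    exact htriv
  let V := V₀ ⊓ S.basicOpen (N : Γ(S, ⊤))
  refine ⟨N, V, ⟨hsV₀, ?_⟩, fun v hv => ?_, hV₀t.of_hom (Over.homMk (S.homOfLE inf_le_left) (S.homOfLE_ι _))⟩
  · refine (Scheme.evaluation_ne_zero_iff_mem_basicOpen S (U := ⊤) (f t') trivial (N : Γ(S, ⊤))).mp ?_
    rw [map_natCast]
    intro h0
    have h := congrArg ((U.ι ≫ f).residueFieldMap t) (show (N : S.residueField ((U.ι ≫ f) t)) = 0 from h0)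
    rw [map_natCast, map_zero] at h
    exact hN h
  · have h := (Scheme.evaluation_ne_zero_iff_mem_basicOpen S (U := ⊤) v trivial (N : Γ(S, ⊤))).mpr hv.2
    rwa [map_natCast] at h

variable {S₀ : Scheme.{u}} (i₀ : S₀ ⟶ S)

theorem map_comp_qPt {A B : Over S} (a : A ⟶ B) :
    qPt i₀ ((Over.pullback i₀).map a) = qPt i₀ (𝟙 (Red.bc i₀ A)) ≫ a := by
  rw [← qPt_map, Category.id_comp]

theorem map_mul' {A B : Over S} [GrpObj B] (a b : A ⟶ B) :
    (Over.pullback i₀).map (a * b) = (Over.pullback i₀).map a * (Over.pullback i₀).map b := by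
  apply (bcPointEquiv i₀ B _).injective
  rw [map_mul]
  show qPt i₀ _ = qPt i₀ _ * qPt i₀ _
  rw [map_comp_qPt, map_comp_qPt, map_comp_qPt, MonObj.comp_mul]

theorem map_one' {A B : Over S} [GrpObj B] : (Over.pullback i₀).map (1 : A ⟶ B) = 1 := by
  apply (bcPointEquiv i₀ B _).injective
  rw [map_one]
  show qPt i₀ _ = 1
  rw [map_comp_qPt, MonObj.comp_one]

theorem map_inv' {A B : Over S} [GrpObj B] (a : A ⟶ B) :
    (Over.pullback i₀).map a⁻¹ = ((Over.pullback i₀).map a)⁻¹ := by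
  rw [eq_inv_iff_mul_eq_one, ← map_mul', inv_mul_cancel, map_one']

theorem map_pow' {A B : Over S} [GrpObj B] (a : A ⟶ B) (n : ℕ) :
    (Over.pullback i₀).map (a ^ n) = ((Over.pullback i₀).map a) ^ n := by
  induction n with
  | zero => rw [pow_zero, pow_zero, map_one']
  | succ n ih => rw [pow_succ, pow_succ, map_mul', ih]

variable [IsClosedImmersion i₀] [Surjective i₀] {G H : Over S} [GrpObj G] [GrpObj H]
  [Flat G.hom] [LocallyOfFinitePresentation G.hom] (u₀ : Red.bc i₀ H ⟶ Red.bc i₀ G) [IsMonHom u₀]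
  (hc₀ : ∀ (X : Over S₀) (x : X ⟶ Red.bc i₀ H) (g : X ⟶ Red.bc i₀ G), (x ≫ u₀) * g = g * (x ≫ u₀))

include hc₀ in
theorem exists_lift_piece {n : ℕ} {V : S.Opens} (hV : Good H n V) {W : Over S} (w : W ⟶ Over.mk V.ι)
    (x : W ⟶ H) :
    ∃ L : W ⟶ G, (Over.pullback i₀).map L = (Over.pullback i₀).map x ≫ u₀ ∧ L ^ n = 1 ∧
      ∀ L', (Over.pullback i₀).map L' = (Over.pullback i₀).map x ≫ u₀ → L' ^ n = 1 → L' = L := by
  refine exists_lift i₀ G n _ ?_ fun z => ?_
  · rw [← MonObj.pow_comp, ← map_pow', hV.pow_eq_one w x, map_one', MonObj.one_comp]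
  · refine mem_etLocus G n _ (fun W' a b => ?_) z ?_
    · -- centrality over `S₀`
      let n₀ : Over S₀ := Over.mk (a.left ≫ (Red.bc i₀ W).hom)
      let c : (Over.map i₀).obj n₀ ≅ W' := Over.isoMk (Iso.refl _) (by
        show 𝟙 _ ≫ W'.hom = (a.left ≫ (Red.bc i₀ W).hom) ≫ i₀
        rw [Category.id_comp, ← Over.w a, Category.assoc]
        rfl)
      let a₀ : n₀ ⟶ Red.bc i₀ W := Over.homMk a.left rfl
      have ha : c.hom ≫ a = (Over.map i₀).map a₀ := Over.OverMorphism.ext (Category.id_comp _)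
      let b₀ : n₀ ⟶ Red.bc i₀ G := (bcPointEquiv i₀ G n₀).symm (c.hom ≫ b)
      have hb : bcPointEquiv i₀ G n₀ b₀ = c.hom ≫ b := MulEquiv.apply_symm_apply _ _
      have h := congrArg (bcPointEquiv i₀ G n₀) (hc₀ n₀ (a₀ ≫ (Over.pullback i₀).map x) b₀)
      rw [map_mul, map_mul, hb, Category.assoc, bcPointEquiv_comp, ← ha] at h
      rw [← cancel_epi c.hom, MonObj.comp_mul, MonObj.comp_mul]
      simp only [Category.assoc] at h ⊢
      exact h
    · have hz : ((Over.map i₀).obj (Red.bc i₀ W)).hom z ∈ V := by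
        have e : ((Over.map i₀).obj (Red.bc i₀ W)).hom = pullback.fst W.hom i₀ ≫ w.left ≫ V.ι := by
          rw [show w.left ≫ V.ι = W.hom from Over.w w]
          exact pullback.condition.symm
        rw [e, Scheme.Hom.comp_apply, Scheme.Hom.comp_apply]
        exact (w.left _).2
      intro h0
      refine hV.1 _ hz ((((Over.map i₀).obj (Red.bc i₀ W)).hom.residueFieldMap z).hom.injective ?_)
      rw [map_natCast, map_zero]
      exact h0

include hc₀ in
/-- Lifts over two good opens agree. -/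
theorem lift_eq {n n' : ℕ} {V V' : S.Opens} (hV : Good H n V) (hV' : Good H n' V') {W : Over S}
    (w : W ⟶ Over.mk V.ι) (w' : W ⟶ Over.mk V'.ι) (x : W ⟶ H) {L L' : W ⟶ G}
    (h₁ : (Over.pullback i₀).map L = (Over.pullback i₀).map x ≫ u₀) (hn : L ^ n = 1)
    (h₂ : (Over.pullback i₀).map L' = (Over.pullback i₀).map x ≫ u₀) (hn' : L' ^ n' = 1) : L = L' := by
  have hgood : Good H (n * n') (V ⊓ V') := by
    refine ⟨fun v hv => by rw [Nat.cast_mul]; exact mul_ne_zero (hV.1 v hv.1) (hV'.1 v hv.2), ?_⟩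
    intro W₁ w₁ x₁
    have : x₁ ^ n = 1 :=
      hV.pow_eq_one (w₁ ≫ Over.homMk (S.homOfLE inf_le_left) (S.homOfLE_ι _)) x₁
    rw [MonObj.comp_pow, Category.comp_id, pow_mul, this, one_pow]
  have hrange : Set.range W.hom ⊆ Set.range (V ⊓ V').ι := by
    rw [Scheme.Opens.range_ι]
    rintro _ ⟨z, rfl⟩
    refine ⟨?_, ?_⟩
    · rw [← Over.w w]; exact (w.left z).2
    · rw [← Over.w w']; exact (w'.left z).2
  obtain ⟨L₀, -, -, hu⟩ := exists_lift_piece i₀ u₀ hc₀ hgood
    (Over.homMk (IsOpenImmersion.lift (V ⊓ V').ι W.hom hrange) (IsOpenImmersion.lift_fac _ _ _)) x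
  rw [hu L h₁ (by rw [pow_mul, hn, one_pow]), hu L' h₂ (by rw [mul_comm, pow_mul, hn', one_pow])]

omit [GrpObj G] [GrpObj H] [Flat G.hom] [LocallyOfFinitePresentation G.hom] in
theorem hom_ext_base {κ : Type u} (V : κ → S.Opens) (hcov : ∀ s, ∃ i, s ∈ V i) {W : Over S} {a b : W ⟶ G}
    (h : ∀ i, opnι W (W.hom ⁻¹ᵁ V i) ≫ a = opnι W (W.hom ⁻¹ᵁ V i) ≫ b) : a = b := by
  refine Over.OverMorphism.ext ((W.left.openCoverOfIsOpenCover (fun i => W.hom ⁻¹ᵁ V i) (.mk ?_)).hom_ext _ _
    fun i => congrArg CommaMorphism.left (h i))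
  exact top_le_iff.mp fun z _ => TopologicalSpace.Opens.mem_iSup.mpr (hcov (W.hom z))

/-- The structure morphism of a piece. -/
def toOpen (W : Over S) (V : S.Opens) : opn W (W.hom ⁻¹ᵁ V) ⟶ Over.mk V.ι :=
  Over.homMk (W.hom ∣_ V) (morphismRestrict_ι W.hom V)

include hc₀ in
/-- The unique lift of a central homomorphism. -/
theorem existsUnique_hom [IsFinite H.hom] [Smooth H.hom] (hH : SGA3x.IsMultTypeFT H) :
    ∃ u : H ⟶ G, IsMonHom u ∧ (Over.pullback i₀).map u = u₀ ∧
      (∀ (X : Over S) (x : X ⟶ H) (g : X ⟶ G), (x ≫ u) * g = g * (x ≫ u)) ∧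
      ∀ u' : H ⟶ G, IsMonHom u' → (Over.pullback i₀).map u' = u₀ → u' = u := by
  choose n V hmem hgood using exists_good H hH
  have hcov : ∀ s, ∃ i, s ∈ V i := fun s => ⟨s, hmem s⟩
  choose L hL hLn hLu using fun s =>
    exists_lift_piece i₀ u₀ hc₀ (hgood s) (toOpen H (V s)) (opnι H (H.hom ⁻¹ᵁ V s))
  let O : S → H.left.Opens := fun s => H.hom ⁻¹ᵁ V s
  have hO : TopologicalSpace.IsOpenCover O := .mk (top_le_iff.mp fun h _ =>
    TopologicalSpace.Opens.mem_iSup.mpr (hcov (H.hom h)))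
  let 𝒰 := H.left.openCoverOfIsOpenCover O hO
  have hglue : ∀ s s', pullback.fst (O s).ι (O s').ι ≫ (L s).left = pullback.snd (O s).ι (O s').ι ≫ (L s').left := by
    intro s s'
    let W : Over S := Over.mk (pullback.fst (O s).ι (O s').ι ≫ (O s).ι ≫ H.hom)
    let a : W ⟶ opn H (O s) := Over.homMk (pullback.fst _ _) rfl
    let b : W ⟶ opn H (O s') := Over.homMk (pullback.snd _ _) (by
      show pullback.snd _ _ ≫ (O s').ι ≫ H.hom = _
      rw [← pullback.condition_assoc]
      rfl)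
    have hab : b ≫ opnι H (O s') = a ≫ opnι H (O s) := Over.OverMorphism.ext pullback.condition.symm
    refine congrArg CommaMorphism.left (lift_eq i₀ u₀ hc₀ (hgood s) (hgood s') (a ≫ toOpen H (V s))
      (b ≫ toOpen H (V s')) (a ≫ opnι H (O s)) (L := a ≫ L s) (L' := b ≫ L s') ?_ ?_ ?_ ?_)
    · rw [Functor.map_comp, Functor.map_comp, hL, Category.assoc]
    · rw [← MonObj.comp_pow, hLn, MonObj.comp_one]
    · rw [Functor.map_comp, hL, ← hab, Functor.map_comp, Category.assoc]
    · rw [← MonObj.comp_pow, hLn, MonObj.comp_one]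
  let ul : H.left ⟶ G.left := 𝒰.glueMorphisms (fun s => (L s).left) hglue
  have hul : ∀ s, (O s).ι ≫ ul = (L s).left := fun s => 𝒰.ι_glueMorphisms _ hglue s
  let u : H ⟶ G := Over.homMk ul (by
    refine 𝒰.hom_ext _ _ fun s => ?_
    show (O s).ι ≫ ul ≫ G.hom = (O s).ι ≫ H.hom
    rw [reassoc_of% hul s]
    exact Over.w (L s))
  have hu : ∀ s, opnι H (O s) ≫ u = L s := fun s => Over.OverMorphism.ext (hul s)
  have hmap : (Over.pullback i₀).map u = u₀ := by
    refine Over.OverMorphism.ext (Scheme.Cover.hom_ext (𝒰.pullback₁ (pullback.fst H.hom i₀)) _ _ fun s => ?_)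
    let k := pullback.fst (pullback.fst H.hom i₀) (O s).ι
    let l : pullback (pullback.fst H.hom i₀) (O s).ι ⟶ (Red.bc i₀ (opn H (O s))).left :=
      pullback.lift (pullback.snd _ _) (k ≫ pullback.snd H.hom i₀) (by
        show pullback.snd _ _ ≫ (O s).ι ≫ H.hom = _
        rw [← pullback.condition_assoc, Category.assoc, pullback.condition])
    have hl : l ≫ ((Over.pullback i₀).map (opnι H (O s))).left = k := by
      refine pullback.hom_ext ?_ ?_
      · rw [Category.assoc]
        erw [pullback.lift_fst, pullback.lift_fst_assoc]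
        exact pullback.condition.symm
      · rw [Category.assoc]
        erw [pullback.lift_snd, pullback.lift_snd]
    show k ≫ ((Over.pullback i₀).map u).left = k ≫ u₀.left
    rw [← hl, Category.assoc, Category.assoc, ← Over.comp_left, ← Over.comp_left, ← Functor.map_comp, hu, hL]
  have hmap' : ∀ {W : Over S} (x : W ⟶ H), (Over.pullback i₀).map (x ≫ u) = (Over.pullback i₀).map x ≫ u₀ :=
    fun x => by rw [Functor.map_comp, hmap]
  -- `u` sends points over a good open to torsion points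
  have htors : ∀ {W : Over S} (x : W ⟶ H) (s : S),
      (opnι W (W.hom ⁻¹ᵁ V s) ≫ x ≫ u) ^ n s = 1 := fun {W} x s => by
    let x' : opn W (W.hom ⁻¹ᵁ V s) ⟶ opn H (O s) :=
      Over.homMk (IsOpenImmersion.lift (O s).ι ((W.hom ⁻¹ᵁ V s).ι ≫ x.left) (by
        rw [Scheme.Opens.range_ι]
        rintro _ ⟨z, rfl⟩
        show H.hom (((W.hom ⁻¹ᵁ V s).ι ≫ x.left) z) ∈ V s
        rw [Scheme.Hom.comp_apply, ← Scheme.Hom.comp_apply x.left, Over.w x]
        exact z.2)) (by
        show _ ≫ (O s).ι ≫ H.hom = (W.hom ⁻¹ᵁ V s).ι ≫ W.hom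
        rw [IsOpenImmersion.lift_fac_assoc, Category.assoc, Over.w x])
    have hx : x' ≫ opnι H (O s) = opnι W (W.hom ⁻¹ᵁ V s) ≫ x :=
      Over.OverMorphism.ext (IsOpenImmersion.lift_fac _ _ _)
    rw [← reassoc_of% hx, hu, ← MonObj.comp_pow, hLn, MonObj.comp_one]
  have hext : ∀ {W : Over S} (x : W ⟶ H) (a : W ⟶ G), (Over.pullback i₀).map a = (Over.pullback i₀).map x ≫ u₀ →
      (∀ s, (opnι W (W.hom ⁻¹ᵁ V s) ≫ a) ^ n s = 1) → a = x ≫ u := fun {W} x a ha han =>
    hom_ext_base V hcov fun s => lift_eq i₀ u₀ hc₀ (hgood s) (hgood s) (toOpen W (V s)) (toOpen W (V s))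
      (opnι W (W.hom ⁻¹ᵁ V s) ≫ x) (by rw [Functor.map_comp, ha, Functor.map_comp, Category.assoc]) (han s)
      (by rw [Functor.map_comp, hmap', Functor.map_comp, Category.assoc]) (htors x s)
  have hcen : ∀ (X : Over S) (x : X ⟶ H) (g : X ⟶ G), (x ≫ u) * g = g * (x ≫ u) := fun X x g => by
    have : g⁻¹ * (x ≫ u) * g = x ≫ u := hext x _ (by
      rw [map_mul', map_mul', map_inv', hmap', _root_.mul_assoc, hc₀, inv_mul_cancel_left]) fun s => by
      rw [MonObj.comp_mul, MonObj.comp_mul, GrpObj.comp_inv]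
      have h := htors x s
      calc ((opnι X _ ≫ g)⁻¹ * (opnι X _ ≫ x ≫ u) * (opnι X _ ≫ g)) ^ n s
          = (opnι X _ ≫ g)⁻¹ * (opnι X _ ≫ x ≫ u) ^ n s * (opnι X _ ≫ g) := by
            simpa using conj_pow (i := n s) (a := (opnι X _ ≫ g)⁻¹) (b := opnι X _ ≫ x ≫ u)
        _ = 1 := by rw [h, _root_.mul_one, inv_mul_cancel]
    calc (x ≫ u) * g = g * (g⁻¹ * (x ≫ u) * g) := by group
      _ = g * (x ≫ u) := by rw [this]
  refine ⟨u, Groth.AlgGrp1.isMonHom_of_points _ fun Z a b => ?_, hmap, hcen, fun u' hu' hu'map => ?_⟩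
  · refine (hext (a * b) _ ?_ fun s => ?_).symm
    · rw [map_mul', map_mul', hmap', hmap', MonObj.mul_comp]
    · rw [MonObj.comp_mul, Commute.mul_pow, htors, htors, _root_.one_mul]
      rw [← Category.assoc, ← Category.assoc]
      exact hcen _ _ _
  · haveI := hu'
    rw [← Category.id_comp u', ← Category.id_comp u]
    refine hext (𝟙 H) _ (by rw [Category.id_comp, CategoryTheory.Functor.map_id, Category.id_comp, hu'map]) fun s => ?_
    rw [Category.id_comp, ← MonObj.pow_comp, (hgood s).pow_eq_one (toOpen H (V s)), MonObj.one_comp]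

end Groth.Reductive2.CentralTorsion
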