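import Groth.Agent.AlgGrp1.CartanDense
import Groth.Agent.VarietyBC.TensorAlgClosed

/-!
A point of an integral affine algebraic group over an algebraically closed field commuting with the rational
points of a nonempty open set is central.
-/

set_option autoImplicit false
universe u

open CategoryTheory MonoidalCategory CartesianMonoidalCategory MonObj AlgebraicGeometry TensorProduct

noncomputable section

namespace Groth.Reductive2.DensePts

variable {k : Type u} [Field k] [IsAlgClosed k] {A : Type u} [CommRing A] [Algebra k A] [IsDomain A]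
  [Algebra.FiniteType k A]

/-- An element of `R ⊗ A` vanishing at the rational points of a nonempty open set of `Spec A` is zero. -/
theorem eq_zero_of_points {R : Type u} [CommRing R] [Algebra k R] (f : A) (hf : f ≠ 0) (d : R ⊗[k] A)
    (h : ∀ x : A →ₐ[k] k, x f ≠ 0 →
      Algebra.TensorProduct.lift (AlgHom.id k R) ((Algebra.ofId k R).comp x) (fun _ _ => Commute.all _ _) d = 0) :
    d = 0 := by
  let b := Module.Free.chooseBasis k R
  apply (TensorProduct.equivFinsuppOfBasisLeft b (N := A)).injective
  ext i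
  rw [map_zero, Finsupp.zero_apply]
  let c : R ⊗[k] A →ₗ[k] A := (TensorProduct.lid k A).toLinearMap ∘ₗ (b.coord i).rTensor A
  have hc : ∀ e, TensorProduct.equivFinsuppOfBasisLeft b e i = c e := by
    intro e
    induction e using TensorProduct.induction_on with
    | zero => simp
    | tmul r a => simp [c]
    | add u v hu hv => simp [map_add, hu, hv]
  rw [hc]
  by_contra hne
  obtain ⟨x, hx⟩ := Groth.VarietyBC.exists_algHom_ne_zero (k := k) (a := c d * f)
    (fun hn => mul_ne_zero hne hf hn.eq_zero)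
  rw [map_mul] at hx
  have key : ∀ e : R ⊗[k] A, x (c e) = b.coord i
      (Algebra.TensorProduct.lift (AlgHom.id k R) ((Algebra.ofId k R).comp x) (fun _ _ => Commute.all _ _) e) := by
    intro e
    induction e using TensorProduct.induction_on with
    | zero => simp
    | tmul r a =>
      simp [c, Algebra.ofId_apply, ← Algebra.commutes, ← Algebra.smul_def]
      ring
    | add u v hu hv => simp [map_add, hu, hv]
  exact left_ne_zero_of_mul hx (by rw [key, h x (right_ne_zero_of_mul hx), map_zero])

end Groth.Reductive2.DensePts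

namespace Groth.Reductive2.DensePts

variable {k : Type u} [Field k] [IsAlgClosed k] {A : Type u} [CommRing A] [HopfAlgebra k A] [IsDomain A]
  [Algebra.FiniteType k A]

/-- Two affine points, one of which commutes with the rational points of a nonempty open, commute. -/
theorem commute_affine (f : A) (hf : f ≠ 0) (R : Type u) [CommRing R] [Algebra k R] (a b : A →ₐ[k] R)
    (hcomm : ∀ x : A →ₐ[k] k, x f ≠ 0 →
      CoactBr.pt a * CoactBr.pt ((Algebra.ofId k R).comp x) =
        CoactBr.pt ((Algebra.ofId k R).comp x) * CoactBr.pt a) :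
    CoactBr.pt a * CoactBr.pt b = CoactBr.pt b * CoactBr.pt a := by
  let iL : R →ₐ[k] R ⊗[k] A := Algebra.TensorProduct.includeLeft
  let iR : A →ₐ[k] R ⊗[k] A := Algebra.TensorProduct.includeRight
  obtain ⟨p, hp⟩ := Groth.AlgGrp2.pt_surjective (R := k) (K := R ⊗[k] A) (B := A)
    (CoactBr.pt (iL.comp a) * CoactBr.pt iR)
  obtain ⟨q, hq⟩ := Groth.AlgGrp2.pt_surjective (R := k) (K := R ⊗[k] A) (B := A)
    (CoactBr.pt iR * CoactBr.pt (iL.comp a))
  have hσ : ∀ v : A →ₐ[k] R, CoactBr.pt (Algebra.TensorProduct.lift (AlgHom.id k R) v (fun _ _ => Commute.all _ _))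
      ≫ CoactBr.pt (iL.comp a) = CoactBr.pt a ∧
      CoactBr.pt (Algebra.TensorProduct.lift (AlgHom.id k R) v (fun _ _ => Commute.all _ _))
      ≫ CoactBr.pt iR = CoactBr.pt v := fun v => by
    constructor <;> rw [← CoactBr.pt_comp] <;> congr 1 <;> ext z <;> simp [iL, iR]
  have hpq : p = q := by
    refine AlgHom.ext fun z => sub_eq_zero.1 (eq_zero_of_points f hf _ fun x hx => ?_)
    rw [map_sub, sub_eq_zero]
    let σ := Algebra.TensorProduct.lift (AlgHom.id k R) ((Algebra.ofId k R).comp x) (fun _ _ => Commute.all _ _)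
    refine DFunLike.congr_fun (CoactBr.pt_injective (R := k)
      (?_ : CoactBr.pt (σ.comp p) = CoactBr.pt (σ.comp q))) z
    rw [CoactBr.pt_comp, CoactBr.pt_comp, hp, hq, MonObj.comp_mul, MonObj.comp_mul,
      (hσ _).1, (hσ _).2, hcomm x hx]
  have := congrArg (CoactBr.pt (Algebra.TensorProduct.lift (AlgHom.id k R) b (fun _ _ => Commute.all _ _)) ≫ ·)
    (hp.symm.trans ((congrArg CoactBr.pt hpq).trans hq))
  simpa [MonObj.comp_mul, (hσ b).1, (hσ b).2] using this

/-- A point commuting with the rational points of a nonempty open is central. -/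
theorem commute_of_points (f : A) (hf : f ≠ 0) {X : Over (Spec (CommRingCat.of k))} (g : X ⟶ CoactBr.sp k A)
    (h : ∀ x : A →ₐ[k] k, x f ≠ 0 →
      g * (toUnit X ≫ Groth.AlgGrp1.unitSp.hom ≫ CoactBr.pt x) =
        (toUnit X ≫ Groth.AlgGrp1.unitSp.hom ≫ CoactBr.pt x) * g)
    (W : Over (Spec (CommRingCat.of k))) (t : W ⟶ X) (w : W ⟶ CoactBr.sp k A) :
    (t ≫ g) * w = w * (t ≫ g) := by
  have aux : ∀ (R : Type u) [CommRing R] [Algebra k R] (s : CoactBr.sp k R ⟶ X)
      (v : CoactBr.sp k R ⟶ CoactBr.sp k A), (s ≫ g) * v = v * (s ≫ g) := by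
    intro R _ _ s v
    obtain ⟨a, ha⟩ := Groth.AlgGrp2.pt_surjective (R := k) (K := R) (B := A) (s ≫ g)
    obtain ⟨b, hb⟩ := Groth.AlgGrp2.pt_surjective (R := k) (K := R) (B := A) v
    rw [← ha, ← hb]
    refine commute_affine f hf R a b fun x hx => ?_
    have hu : toUnit (CoactBr.sp k R) ≫ Groth.AlgGrp1.unitSp.hom ≫ CoactBr.pt x =
        CoactBr.pt ((Algebra.ofId k R).comp x) := by
      rw [← Category.assoc, Groth.AlgGrp1.toUnit_unitSp, ← CoactBr.pt_comp]
    have h1 := congrArg (s ≫ ·) (h x hx)
    simp only [MonObj.comp_mul] at h1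
    rw [← Category.assoc s (toUnit X), toUnit_unique (s ≫ toUnit X) (toUnit _), ← ha, hu] at h1
    exact h1
  refine Groth.GrassRep.hom_ext _ _ fun S y => ?_
  rw [MonObj.comp_mul, MonObj.comp_mul, ← Category.assoc]
  exact aux S (y ≫ t) (y ≫ w)

end Groth.Reductive2.DensePts
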