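import Mathlib.RingTheory.Flat.Basic
import Mathlib.LinearAlgebra.TensorProduct.Quotient
import Mathlib.RingTheory.RingHom.Flat
import Mathlib.RingTheory.Ideal.Operations
import Mathlib.RingTheory.TensorProduct.Free
import Mathlib.LinearAlgebra.FreeModule.Basic
import Mathlib.RingTheory.Nilpotent.Defs

/-!
A nilpotent ideal with free graded pieces in flat algebras: vanishing under a family of flat algebras
may be tested modulo the ideal.
-/

set_option autoImplicit false
universe u

open TensorProduct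

noncomputable section

namespace Groth.Reductive2

variable {A : Type u} [CommRing A] (J : Ideal A) (k : ℕ) {κ : Type*}
  (β : Module.Basis κ (A ⧸ J) ((A ⧸ J) ⊗[A] ↥(J ^ k)))

/-- The coordinate of an element of `J ^ k` along a basis of the graded piece. -/
def grCoord (B : Type u) [CommRing B] [Algebra A B] (l : κ) : ↥(J ^ k) →ₗ[A] B ⧸ J.map (algebraMap A B) :=
  (Ideal.quotientMapₐ (J.map (algebraMap A B)) (Algebra.ofId A B) Ideal.le_comap_map).toLinearMap ∘ₗ
    (β.coord l).restrictScalars A ∘ₗ TensorProduct.mk A (A ⧸ J) ↥(J ^ k) 1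

/-- The coordinate map on `B ⊗ J ^ k`. -/
def grCoordTensor (B : Type u) [CommRing B] [Algebra A B] (l : κ) : B ⊗[A] ↥(J ^ k) →ₗ[A] B ⧸ J.map (algebraMap A B) :=
  LinearMap.mul' A (B ⧸ J.map (algebraMap A B)) ∘ₗ
    TensorProduct.map (Ideal.Quotient.mkₐ A (J.map (algebraMap A B))).toLinearMap (grCoord J k β B l)

lemma grCoord_succ (B : Type u) [CommRing B] [Algebra A B] (l : κ) {x : ↥(J ^ k)} (hx : (x : A) ∈ J ^ (k + 1)) :
    grCoord J k β B l x = 0 := by
  have key : x ∈ J • (⊤ : Submodule A ↥(J ^ k)) := by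
    rw [pow_succ', ← smul_eq_mul] at hx
    have : Submodule.map (J ^ k).subtype (J • (⊤ : Submodule A ↥(J ^ k))) = J • (J ^ k : Ideal A) := by
      rw [Submodule.map_smul'', Submodule.map_top, Submodule.range_subtype]
    rw [← this] at hx
    obtain ⟨y, hy, e⟩ := hx
    rwa [Subtype.coe_injective e] at hy
  refine Submodule.smul_induction_on key (fun a ha y _ ↦ ?_) fun y z hy hz ↦ by rw [map_add, hy, hz, add_zero]
  rw [map_smul, Algebra.smul_def]
  rw [show algebraMap A (B ⧸ J.map (algebraMap A B)) a = Ideal.Quotient.mk _ (algebraMap A B a) from rfl,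
    Ideal.Quotient.eq_zero_iff_mem.mpr (Ideal.mem_map_of_mem _ ha), zero_mul]

lemma exists_lifts : ∃ j : κ → ↥(J ^ k),
    (∀ l, (1 : A ⧸ J) ⊗ₜ[A] j l = β l) ∧
      ∀ x : ↥(J ^ k), ∃ y : κ →₀ A, (x : A) - y.sum (fun l a ↦ a * (j l : A)) ∈ J ^ (k + 1) := by
  have hs : Function.Surjective (TensorProduct.mk A (A ⧸ J) ↥(J ^ k) 1) :=
    TensorProduct.mk_surjective A _ _ Ideal.Quotient.mk_surjective
  choose j hj using fun l ↦ hs (β l)
  refine ⟨j, hj, fun x ↦ ?_⟩
  classical
  choose r hr using fun a : A ⧸ J ↦ Ideal.Quotient.mk_surjective a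
  set c := β.repr ((1 : A ⧸ J) ⊗ₜ[A] x)
  refine ⟨Finsupp.onFinset c.support (fun l ↦ if c l = 0 then 0 else r (c l)) (fun l h ↦ by
    simp only [ne_eq, ite_eq_left_iff, not_forall] at h
    simpa using h.1), ?_⟩
  rw [Finsupp.onFinset_sum _ (fun l ↦ zero_mul _)]
  set d : ↥(J ^ k) := x - ∑ l ∈ c.support, (if c l = 0 then 0 else r (c l)) • j l with hd
  have h0 : (1 : A ⧸ J) ⊗ₜ[A] d = 0 := by
    rw [hd, TensorProduct.tmul_sub, TensorProduct.tmul_sum, sub_eq_zero]
    conv_lhs => rw [← β.linearCombination_repr ((1 : A ⧸ J) ⊗ₜ[A] x)]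
    rw [Finsupp.linearCombination_apply, Finsupp.sum]
    refine Finset.sum_congr rfl fun l hl ↦ ?_
    rw [if_neg (Finsupp.mem_support_iff.mp hl), TensorProduct.tmul_smul, ← hj l]
    show c l • ((1 : A ⧸ J) ⊗ₜ[A] j l) = _
    rw [← algebraMap_smul (A ⧸ J) (r (c l)), Ideal.Quotient.algebraMap_eq, hr]
  have h1 : d ∈ J • (⊤ : Submodule A ↥(J ^ k)) := by
    have := congrArg (TensorProduct.quotTensorEquivQuotSMul ↥(J ^ k) J) h0
    rw [← map_one (Ideal.Quotient.mk J), TensorProduct.quotTensorEquivQuotSMul_mk_tmul, map_zero, one_smul] at this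
    exact (Submodule.Quotient.mk_eq_zero _).mp this
  have h2 : (d : A) ∈ J • (J ^ k : Ideal A) := by
    have := Submodule.mem_map_of_mem (f := (J ^ k).subtype) h1
    rwa [Submodule.map_smul'', Submodule.map_top, Submodule.range_subtype] at this
  rw [smul_eq_mul, ← pow_succ'] at h2
  simpa [hd, apply_ite Subtype.val] using h2

/-- The coefficients of an element of `J ^ (k + 1)` lie in the ideal. -/
lemma coeff_mem (B : Type u) [CommRing B] [Algebra A B] [Module.Flat A B] {j : κ → ↥(J ^ k)}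
    (hj : ∀ l, (1 : A ⧸ J) ⊗ₜ[A] j l = β l) (b : κ →₀ B)
    (hb : b.sum (fun l c ↦ c * algebraMap A B (j l)) ∈ (J ^ (k + 1)).map (algebraMap A B)) (l : κ) :
    b l ∈ J.map (algebraMap A B) := by
  classical
  let Φ : B ⊗[A] A →ₗ[A] B := (TensorProduct.rid A B).toLinearMap
  let ι₀ : ↥(J ^ k) →ₗ[A] A := (J ^ k).subtype
  let ι₁ : ↥(J ^ (k + 1)) →ₗ[A] ↥(J ^ k) := Submodule.inclusion (Ideal.pow_le_pow_right (Nat.le_succ k))
  have hinj : Function.Injective (Φ ∘ₗ ι₀.lTensor B) :=
    (TensorProduct.rid A B).injective.comp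
      (Module.Flat.lTensor_preserves_injective_linearMap ι₀ (J ^ k).subtype_injective)
  have hsmul : ∀ (c : B) (v : B ⊗[A] ↥(J ^ (k + 1))),
      (Φ ∘ₗ ι₀.lTensor B) (ι₁.lTensor B (c • v)) = c • (Φ ∘ₗ ι₀.lTensor B) (ι₁.lTensor B v) := by
    intro c v
    induction v using TensorProduct.induction_on with
    | zero => simp
    | add v w hv hw => rw [smul_add]; simp only [map_add, smul_add, hv, hw]
    | tmul d a => simp [Φ, ι₀, ι₁, TensorProduct.smul_tmul', Algebra.smul_def]; ring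
  obtain ⟨u, hu⟩ : ∃ u : B ⊗[A] ↥(J ^ (k + 1)),
      (Φ ∘ₗ ι₀.lTensor B) (ι₁.lTensor B u) = b.sum (fun l c ↦ c * algebraMap A B (j l)) := by
    have : ∀ z ∈ (J ^ (k + 1)).map (algebraMap A B), ∃ u : B ⊗[A] ↥(J ^ (k + 1)),
        (Φ ∘ₗ ι₀.lTensor B) (ι₁.lTensor B u) = z := by
      intro z hz
      refine Submodule.span_induction ?_ ⟨0, by simp⟩ ?_ ?_ hz
      · rintro _ ⟨a, ha, rfl⟩
        exact ⟨1 ⊗ₜ ⟨a, ha⟩, by simp [Φ, ι₀, ι₁, Algebra.smul_def]⟩
      · rintro x y _ _ ⟨v, rfl⟩ ⟨w, rfl⟩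
        exact ⟨v + w, by simp⟩
      · rintro c x _ ⟨v, rfl⟩
        exact ⟨c • v, hsmul c v⟩
    exact this _ hb
  have hw : (Φ ∘ₗ ι₀.lTensor B) (b.sum fun l c ↦ c ⊗ₜ[A] j l) = b.sum (fun l c ↦ c * algebraMap A B (j l)) := by
    rw [map_finsuppSum]
    exact Finset.sum_congr rfl fun l _ ↦ by simp [Φ, ι₀, Algebra.smul_def, mul_comm]
  have e := hinj (hw.trans hu.symm)
  have h0' : ∀ v, grCoordTensor J k β B l (ι₁.lTensor B v) = 0 := fun v ↦ by
    induction v using TensorProduct.induction_on with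
    | zero => simp
    | add v w hv hw => rw [map_add, map_add, hv, hw, add_zero]
    | tmul d a =>
      simp only [LinearMap.lTensor_tmul, grCoordTensor, LinearMap.comp_apply, TensorProduct.map_tmul,
        LinearMap.mul'_apply]
      rw [grCoord_succ J k β B l (x := ι₁ a) a.2, mul_zero]
  have h0 := h0' u
  rw [← e, map_finsuppSum] at h0
  have hcoord : ∀ m (c : B), grCoordTensor J k β B l (c ⊗ₜ j m) =
      if m = l then Ideal.Quotient.mk _ c else 0 := fun m c ↦ by
    simp only [grCoordTensor, grCoord, LinearMap.comp_apply, TensorProduct.map_tmul, LinearMap.mul'_apply,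
      TensorProduct.mk_apply, hj, LinearMap.restrictScalars_apply, Module.Basis.coord_apply,
      Module.Basis.repr_self, Finsupp.single_apply]
    split_ifs <;> simp
  simp only [hcoord] at h0
  rw [Finsupp.sum, Finset.sum_ite_eq' b.support l] at h0
  split_ifs at h0 with hl
  · exact Ideal.Quotient.eq_zero_iff_mem.mp h0
  · rw [Finsupp.notMem_support_iff.mp hl]; exact zero_mem _

/-- An element killed by a family of flat algebras vanishes, if this holds modulo a nilpotent ideal with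
free graded pieces. -/
theorem eq_zero_of_map_eq_zero (hJ : IsNilpotent J)
    (hfree : ∀ k : ℕ, Module.Free (A ⧸ J) ((A ⧸ J) ⊗[A] ↥(J ^ k)))
    (B : Type u) [CommRing B] [Algebra A B] [Module.Flat A B] {σ : Type*} (C : σ → Type u)
    [∀ s, CommRing (C s)] [∀ s, Algebra A (C s)] [∀ s, Module.Flat A (C s)] (φ : ∀ s, B →ₐ[A] C s)
    (h0 : ∀ b : B, (∀ s, φ s b ∈ J.map (algebraMap A (C s))) → b ∈ J.map (algebraMap A B))
    (b : B) (hb : ∀ s, φ s b = 0) : b = 0 := by
  classical
  obtain ⟨n, hn⟩ := hJ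
  suffices ∀ k, b ∈ (J ^ k).map (algebraMap A B) by
    have := this n
    rwa [hn, Ideal.zero_eq_bot, Ideal.map_bot, Ideal.mem_bot] at this
  intro k
  induction k with
  | zero => rw [pow_zero, Ideal.one_eq_top, Ideal.map_top]; trivial
  | succ k ih =>
    obtain ⟨⟨κ, β⟩⟩ := (hfree k).exists_basis
    obtain ⟨j, hj, hjs⟩ := exists_lifts J k β
    have hdec : ∀ z ∈ (J ^ k).map (algebraMap A B), ∃ c : κ →₀ B,
        z - c.sum (fun l d ↦ d * algebraMap A B (j l)) ∈ (J ^ (k + 1)).map (algebraMap A B) := by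
      intro z hz
      refine Submodule.span_induction ?_ ⟨0, by simp⟩ ?_ ?_ hz
      · rintro _ ⟨a, ha, rfl⟩
        obtain ⟨y, hy⟩ := hjs ⟨a, ha⟩
        refine ⟨y.mapRange (algebraMap A B) (map_zero _), ?_⟩
        have h' := Ideal.mem_map_of_mem (algebraMap A B) hy
        rw [map_sub, map_finsuppSum] at h'
        rw [Finsupp.sum_mapRange_index (fun l ↦ zero_mul _)]
        simpa only [map_mul] using h'
      · rintro x y _ _ ⟨c, hc⟩ ⟨d, hd⟩
        refine ⟨c + d, ?_⟩
        rw [Finsupp.sum_add_index' (fun l ↦ zero_mul _) (fun l a b ↦ add_mul a b _)]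
        convert add_mem hc hd using 1
        ring
      · rintro r x _ ⟨c, hc⟩
        refine ⟨r • c, ?_⟩
        rw [Finsupp.sum_smul_index (fun l ↦ zero_mul _)]
        convert Ideal.mul_mem_left _ r hc using 1
        rw [smul_eq_mul, mul_sub, Finsupp.mul_sum]
        simp only [mul_assoc]
    obtain ⟨c, hc⟩ := hdec b ih
    have hmem : ∀ l, c l ∈ J.map (algebraMap A B) := fun l ↦ h0 _ fun s ↦ by
      refine (show (c.mapRange (φ s) (map_zero _)) l = φ s (c l) from Finsupp.mapRange_apply (hf := map_zero _)) ▸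
        coeff_mem J k β (C s) hj (c.mapRange (φ s) (map_zero _)) ?_ l
      have h' := Ideal.mem_map_of_mem (φ s : B →+* C s) hc
      rw [Ideal.map_map, AlgHom.comp_algebraMap, AlgHom.coe_toRingHom, map_sub, hb s, zero_sub, neg_mem_iff,
        map_finsuppSum] at h'
      rw [Finsupp.sum_mapRange_index (fun l ↦ zero_mul _)]
      simpa only [map_mul, AlgHom.commutes] using h'
    have hsum : c.sum (fun l d ↦ d * algebraMap A B (j l)) ∈ (J ^ (k + 1)).map (algebraMap A B) := by
      refine Submodule.sum_mem _ fun l _ ↦ ?_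
      rw [pow_succ', Ideal.map_mul]
      exact Ideal.mul_mem_mul (hmem l) (Ideal.mem_map_of_mem _ (j l).2)
    simpa using add_mem hc hsum

end Groth.Reductive2
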