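import Groth.Prelude.Def_Red2
import Mathlib.AlgebraicGeometry.Morphisms.Smooth
import Mathlib.LinearAlgebra.SymmetricAlgebra.Basis

/-!
The additive group is smooth.
-/

set_option autoImplicit false
universe u

open CategoryTheory AlgebraicGeometry

noncomputable section

namespace Groth.Reductive2

/-- The additive group is smooth over its base. -/
theorem smooth_Ga (S : Scheme.{u}) : Smooth (Red.Ga S).hom := by
  have h : Smooth (Red.GaZ : Over (Spec (CommRingCat.of (ULift.{u} ℤ)))).hom := by
    show Smooth (Spec.map (CommRingCat.ofHom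
      (algebraMap (ULift.{u} ℤ) (SymmetricAlgebra (ULift.{u} ℤ) (ULift.{u} ℤ)))))
    rw [HasRingHomProperty.Spec_iff (P := @Smooth)]
    have hs : Algebra.Smooth (ULift.{u} ℤ) (MvPolynomial PUnit.{u + 1} (ULift.{u} ℤ)) := ⟨inferInstance, inferInstance⟩
    exact RingHom.smooth_algebraMap.mpr (@Algebra.Smooth.of_equiv (ULift.{u} ℤ) _ _ _ _ _ _ _ hs
      (SymmetricAlgebra.equivMvPolynomial (Module.Basis.singleton PUnit.{u + 1} (ULift.{u} ℤ))).symm)
  exact MorphismProperty.of_isPullback (P := @Smooth)
    (IsPullback.of_hasPullback Red.GaZ.hom (specULiftZIsTerminal.from S)) h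

end Groth.Reductive2
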