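import Groth.Agent.Pi1Desc.Fpqc
import Groth.Agent.Pi1Desc.General

/-!
Effectiveness of descent for affine morphisms along arbitrary fpqc covers, and refinement of covers
by open pieces.
-/

universe u

set_option autoImplicit false
set_option backward.isDefEq.respectTransparency false

open CategoryTheory Limits AlgebraicGeometry TopologicalSpace

namespace Groth.Reductive2.HomCharts

open Groth.Pi1Desc

theorem eff_of_isAffineHom {V X S : Scheme.{u}} {h : V ⟶ X} {p : X ⟶ S} [IsCover p] [IsAffineHom h]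
    (A : Act h p) : A.Eff := by
  refine Act.eff_of_cover fun z => ?_
  obtain ⟨_, ⟨O, hO, rfl⟩, hzO, -⟩ :=
    S.isBasis_affineOpens.exists_subset_of_mem_open (Set.mem_univ ((h ≫ p) z)) isOpen_univ
  change S.Opens at O
  refine ⟨_, hzO, A.stable_preimage O, A.effOn_preimage ?_⟩
  haveI : IsAffine (Scheme.Opens.toScheme O) := hO
  obtain ⟨n, c, α, W, hWa, -, hWO, hcov⟩ := exists_affine_refinement (p := p) hO
    (fun _ (_ : Unit) => (⊤ : X.Opens)) (fun x => ⟨(), trivial⟩)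
  haveI : ∀ l, IsAffine (W l).toScheme := hWa
  let Y : Fin n → Scheme.{u} := fun l => (W l).toScheme
  let a : ∀ l, Y l ⟶ (p ⁻¹ᵁ O).toScheme := fun l => X.homOfLE (hWO l)
  let f := Sigma.desc a
  haveI : ∀ l, Flat (a l) := fun l => inferInstance
  haveI : Flat f := IsZariskiLocalAtSource.sigmaDesc fun l => inferInstance
  haveI : Flat p := IsCover.flat
  haveI : Flat (p ∣_ O) := IsZariskiLocalAtTarget.restrict ‹_› O
  haveI : Surjective (f ≫ p ∣_ O) := ⟨fun y => by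
    obtain ⟨l, x, hx, hxy⟩ := hcov (O.ι y) y.2
    refine ⟨Sigma.ι Y l ⟨x, hx⟩, O.ι.isOpenEmbedding.injective ?_⟩
    rw [← Scheme.Hom.comp_apply, ← Scheme.Hom.comp_apply]
    simp only [f, Category.assoc, morphismRestrict_ι, Sigma.ι_desc_assoc, a, Scheme.homOfLE_ι_assoc]
    exact hxy⟩
  haveI : IsAffine (∐ Y : Scheme.{u}) := inferInstance
  haveI : QuasiCompact (f ≫ p ∣_ O) := (quasiCompact_iff_compactSpace _).2 inferInstance
  haveI : IsAffineHom (h ∣_ (p ⁻¹ᵁ O)) :=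
    MorphismProperty.of_isPullback (isPullback_morphismRestrict h (p ⁻¹ᵁ O)).flip ‹IsAffineHom h›
  refine Act.eff_of_refine _ (IsPullback.of_hasPullback _ f) ?_
  haveI : IsAffineHom (pullback.snd (h ∣_ (p ⁻¹ᵁ O)) f) := MorphismProperty.pullback_snd _ _ ‹_›
  exact Act.eff_of_isAffineHom _

/-- Open pieces covering the source of an fpqc cover give an fpqc cover. -/
theorem isCover_of_pieces {X S : Scheme.{u}} (f : X ⟶ S) [Flat f] [Surjective f]
    (hqc : ∀ V : S.Opens, IsAffineOpen V → ∃ W : X.Opens, IsCompact (W : Set X) ∧ f.base '' (W : Set X) = (V : Set S))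
    {κ : Type u} (U : κ → X.Opens) (hU : ∀ x, ∃ k, x ∈ U k) :
    IsCover (Sigma.desc fun k => (U k).ι ≫ f) := by
  let π : (∐ fun k => (U k : Scheme.{u})) ⟶ X := Sigma.desc fun k => (U k).ι
  have hp : (Sigma.desc fun k => (U k).ι ≫ f) = π ≫ f := by
    refine Sigma.hom_ext _ _ fun k => ?_
    simp [π]
  rw [hp]
  haveI : Etale π := IsZariskiLocalAtSource.sigmaDesc fun k => inferInstance
  haveI : Flat π := IsZariskiLocalAtSource.sigmaDesc fun k => inferInstance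
  haveI : Surjective π := ⟨fun x => by
    obtain ⟨k, hk⟩ := hU x
    exact ⟨Sigma.ι (fun k => (U k : Scheme.{u})) k ⟨x, hk⟩, by
      rw [← Scheme.Hom.comp_apply, Sigma.ι_desc]; rfl⟩⟩
  refine ⟨inferInstance, inferInstance, ?_⟩
  rw [← PreZeroHypercover.presieve₀_singleton.{u}, Scheme.presieve₀_mem_qcPrecoverage_iff]
  change QuasiCompactCover (PreZeroHypercover.singleton.{u} (π ≫ f))
  refine ⟨fun {V} hV => IsCompactOpenCovered.iff_of_unique.2 ?_⟩
  obtain ⟨W, hW, hWV⟩ := hqc V hV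
  choose k hk using hU
  have hex : ∀ x : W, ∃ W' : (∐ fun k => (U k : Scheme.{u})).Opens, IsAffineOpen W' ∧
      x.1 ∈ π '' (W' : Set _) ∧ W' ≤ π ⁻¹ᵁ W := fun x => by
    obtain ⟨y, hy⟩ := π.surjective x.1
    obtain ⟨_, ⟨W', hW', rfl⟩, hyW', hle⟩ :=
      (∐ fun k => (U k : Scheme.{u})).isBasis_affineOpens.exists_subset_of_mem_open
        (show y ∈ π ⁻¹ᵁ W from (show π y ∈ W by rw [hy]; exact x.2)) (π ⁻¹ᵁ W).isOpen
    exact ⟨W', hW', ⟨y, hyW', hy⟩, hle⟩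
  choose W' hW'a hxW' hW'le using hex
  have hopen : ∀ x, IsOpen (π '' (W' x : Set _)) := fun x => π.isOpenMap _ (W' x).isOpen
  obtain ⟨t, ht⟩ := hW.elim_finite_subcover (fun x : W => π '' (W' x : Set _)) hopen
    fun x hx => Set.mem_iUnion.2 ⟨⟨x, hx⟩, hxW' ⟨x, hx⟩⟩
  let K : (∐ fun k => (U k : Scheme.{u})).Opens :=
    ⟨⋃ x ∈ t, (W' x : Set ↑(∐ fun k => (U k : Scheme.{u}))), isOpen_biUnion fun x _ => (W' x).isOpen⟩
  have hK : IsCompact (⋃ x ∈ t, (W' x : Set ↑(∐ fun k => (U k : Scheme.{u})))) :=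
    t.isCompact_biUnion fun x _ => (hW'a x).isCompact
  refine ⟨K, hK, ?_⟩
  show (π ≫ f).base '' (⋃ x ∈ t, (W' x : Set ↑(∐ fun k => (U k : Scheme.{u})))) = (V : Set S)
  rw [← hWV]
  refine Set.Subset.antisymm ?_ ?_
  · rintro _ ⟨y, hy, rfl⟩
    obtain ⟨x, hxt, hyx⟩ := Set.mem_iUnion₂.1 hy
    exact ⟨π y, hW'le x hyx, rfl⟩
  · rintro _ ⟨x, hx, rfl⟩
    obtain ⟨z, hzt, y, hy, rfl⟩ := Set.mem_iUnion₂.1 (ht hx)
    exact ⟨y, Set.mem_iUnion₂.2 ⟨z, hzt, hy⟩, rfl⟩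

end Groth.Reductive2.HomCharts
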