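import Groth.Agent.Reductive2.HomDual

/-!
Homomorphisms from a constant commutative group to the multiplicative group are parametrised by the
diagonalisable group with that character group.
-/

set_option autoImplicit false
universe u

open CategoryTheory CategoryTheory.Limits MonoidalCategory CartesianMonoidalCategory MonObj GrpObj AlgebraicGeometry
open Groth.Reductive Groth.Reductive.FreeDiag

noncomputable section

namespace Groth.Reductive2.HomComm

open HomDesc

variable {S T : Scheme.{u}}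

theorem isPieces_of_isIso {κ : Type u} {Z : Over S} {Zi : κ → Over S} (j : ∀ i, Zi i ⟶ Z)
    [IsIso (Sigma.desc fun i => (j i).left)] : IsPieces j := by
  let D := Sigma.desc fun i => (j i).left
  have hι : ∀ i, Sigma.ι (fun i => (Zi i).left) i ≫ D = (j i).left := fun i => Sigma.ι_desc _ _
  have hpt : ∀ i x, (j i).left x = D (Sigma.ι (fun i => (Zi i).left) i x) := fun i x => by
    rw [← Scheme.Hom.comp_apply, hι]
  refine ⟨fun i => ?_, fun a b hab => ?_, fun z => ?_⟩
  · rw [← hι]; infer_instance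
  · refine Set.disjoint_iff_forall_ne.mpr ?_
    rintro _ ⟨x, rfl⟩ _ ⟨y, rfl⟩ e
    rw [hpt, hpt] at e
    exact hab (eq_of_range_ι (D.homeomorph.injective e))
  · obtain ⟨w, hw⟩ := D.surjective z
    obtain ⟨⟨i, x⟩, hx⟩ := (sigmaMk fun i => (Zi i).left).surjective w
    exact ⟨i, x, by rw [hpt, ← sigmaMk_mk, hx, hw]⟩

/-- The value of a point of `G_m`. -/
def ev {X : Over S} (x : X ⟶ Red.Gm S) : Γ(X.left, ⊤) := dsVal x (Multiplicative.ofAdd (1 : ℤ))

theorem ev_ext {X : Over S} {x y : X ⟶ Red.Gm S} (h : ev x = ev y) : x = y := dsVal_ext fun m => by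
  have : dsValHom x = dsValHom y := MonoidHom.ext_mint (by rw [dsValHom_apply, dsValHom_apply]; exact h)
  simpa only [dsValHom_apply] using DFunLike.congr_fun this m

theorem ev_mul {X : Over S} (x y : X ⟶ Red.Gm S) : ev (x * y) = ev x * ev y := dsVal_mul _ _ _

theorem ev_comp {X Y : Over S} (v : Y ⟶ X) (x : X ⟶ Red.Gm S) : ev (v ≫ x) = v.left.appTop (ev x) :=
  dsVal_comp _ _ _

theorem ev_one {X : Over S} : ev (1 : X ⟶ Red.Gm S) = 1 := by
  rw [ev, ← dsValHom_apply, dsValHom_one]
  rfl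

theorem exists_ev {X : Over S} (a : Γ(X.left, ⊤)) (ha : IsUnit a) : ∃ x : X ⟶ Red.Gm S, ev x = a :=
  ⟨dsMk X ((Units.coeHom _).comp (zpowersHom _ ha.unit)), by simp [ev, dsVal_dsMk, zpowersHom_apply]⟩

/-- Constant schemes with equivalent index types. -/
def constCongr {M N : Type*} [Small.{u} M] [Small.{u} N] (φ : M ≃ N) : TwC.const T M ≅ TwC.const T N where
  hom := TwC.constMap T φ
  inv := TwC.constMap T φ.symm
  hom_inv_id := Over.OverMorphism.ext (Sigma.hom_ext _ _ fun m => by simp [TwC.constMap])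
  inv_hom_id := Over.OverMorphism.ext (Sigma.hom_ext _ _ fun m => by simp [TwC.constMap])

theorem pt_constMap {M N : Type*} [Small.{u} M] [Small.{u} N] (φ : M → N) (m : M) :
    TwC.pt T M m ≫ TwC.constMap T φ = TwC.pt T N (φ m) :=
  Over.OverMorphism.ext (by simp [TwC.constMap, TwC.pt])

/-- The base change of a scheme with a chart. -/
theorem exists_iso_bc {f : T ⟶ S} {A : Over T} {U : Over S} (c : (Over.map f).obj A ⟶ U)
    (hc : IsPullback c.left A.hom U.hom f) :
    ∃ e : Red.bc f U ≅ A, ((Over.mapPullbackAdj f).homEquiv A U).symm e.inv = c := by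
  refine ⟨Over.isoMk hc.isoPullback.symm hc.isoPullback_inv_snd, ?_⟩
  rw [Adjunction.homEquiv_counit]
  ext
  simp [Over.mapPullbackAdj_counit_app]

theorem isPullback_homEquiv {f : T ⟶ S} {A : Over T} {U : Over S} (e : Red.bc f U ≅ A) :
    IsPullback (((Over.mapPullbackAdj f).homEquiv A U).symm e.inv).left A.hom U.hom f := by
  let j : A.left ≅ pullback U.hom f := (Over.forget T).mapIso e.symm
  have h2 : j.hom ≫ pullback.snd U.hom f = A.hom := Over.w e.inv
  have h1 : (((Over.mapPullbackAdj f).homEquiv A U).symm e.inv).left = j.hom ≫ pullback.fst U.hom f := by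
    rw [Adjunction.homEquiv_counit]
    simp [Over.mapPullbackAdj_counit_app, j]
  rw [h1]
  refine IsPullback.of_iso_pullback ⟨?_⟩ j rfl h2
  rw [← h2, Category.assoc, Category.assoc, pullback.condition]

section Chart

variable {R : Over S} [GrpObj R] {f : T ⟶ S} {M : Type} [CommGroup M] (e : Red.bc f R ≅ TwC.const T M)

/-- The points of a constant group. -/
def r (m : M) : (Over.map f).obj (𝟙_ (Over T)) ⟶ R :=
  bcPointEquiv f R _ (TwC.pt T M m ≫ e.inv)

theorem r_mul (he : TwC.IsConstGrp M (Red.bc f R) e) (m n : M) : r e m * r e n = r e (m * n) := by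
  rw [r, r, r, ← map_mul, he]

theorem r_one (he : TwC.IsConstGrp M (Red.bc f R) e) : r e 1 = 1 := by
  have h := r_mul e he 1 1
  rw [_root_.one_mul] at h
  exact mul_eq_left.mp h

/-- A point of a constant group over a test object. -/
def toR (Z : Over T) (m : M) : (Over.map f).obj Z ⟶ R := (Over.map f).map (toUnit Z) ≫ r e m

/-- The piece of `R ⊗ Z` indexed by an element. -/
def piece (Z : Over T) (m : M) : (Over.map f).obj Z ⟶ R ⊗ (Over.map f).obj Z := lift (toR e Z m) (𝟙 _)

theorem toR_mul (he : TwC.IsConstGrp M (Red.bc f R) e) (Z : Over T) (m n : M) :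
    toR e Z m * toR e Z n = toR e Z (m * n) := by
  rw [toR, toR, toR, ← MonObj.comp_mul, r_mul e he]

theorem toR_one (he : TwC.IsConstGrp M (Red.bc f R) e) (Z : Over T) : toR e Z 1 = 1 := by
  rw [toR, r_one e he, MonObj.comp_one]

omit [GrpObj R] in
theorem comp_piece [GrpObj R] {Z Z' : Over T} (a : Z' ⟶ Z) (m : M) :
    (Over.map f).map a ≫ piece e Z m = piece e Z' m ≫ (R ◁ (Over.map f).map a) := by
  rw [piece, piece, lift_whiskerLeft, Category.id_comp, comp_lift, Category.comp_id, toR, toR,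
    ← Category.assoc, ← Functor.map_comp, comp_toUnit]

theorem isPieces_piece (Z : Over T) : IsPieces fun i : ULift.{u} M => piece e Z i.down := by
  let φ : M ≃ ULift.{u} M := Equiv.ulift.symm
  let e₁ : Red.bc f R ≅ TwC.const T (ULift.{u} M) := e ≪≫ constCongr φ
  have h1 := isPullback_homEquiv e₁
  let σ : ULift.{u} M → (T ⟶ R.left) := fun i => (r e i.down).left
  have hσ : (((Over.mapPullbackAdj f).homEquiv _ R).symm e₁.inv).left = Sigma.desc σ := by
    refine Sigma.hom_ext _ _ fun i => ?_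
    rw [Sigma.ι_desc]
    have h2 : r e i.down = (Over.map f).map (TwC.pt T (ULift.{u} M) i) ≫
        ((Over.mapPullbackAdj f).homEquiv _ R).symm e₁.inv := by
      rw [← Adjunction.homEquiv_naturality_left_symm]
      show ((Over.mapPullbackAdj f).homEquiv _ R).symm _ = _
      congr 1
      show _ = TwC.pt T (ULift.{u} M) i ≫ TwC.constMap T φ.symm ≫ e.inv
      rw [← Category.assoc, pt_constMap]
      rfl
    show _ = (r e i.down).left
    rw [h2]
    rfl
  rw [hσ] at h1
  have hp := TwConstEtale.isPullback_comp h1 Z.hom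
  have : IsIso (Sigma.desc fun i : ULift.{u} M => (piece e Z i.down).left) := by
    have e2 : (Sigma.desc fun i : ULift.{u} M => (piece e Z i.down).left) = hp.isoPullback.hom := by
      refine Sigma.hom_ext _ _ fun i => ?_
      rw [Sigma.ι_desc]
      refine pullback.hom_ext ?_ ?_
      · exact (congrArg CommaMorphism.left (lift_fst (toR e Z i.down) (𝟙 _))).trans
          ((Sigma.ι_desc (fun i => Z.hom ≫ σ i) i).symm.trans
            ((congrArg (Sigma.ι (fun _ : ULift.{u} M => Z.left) i ≫ ·) hp.isoPullback_hom_fst).symm.trans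
              (Category.assoc _ _ _).symm))
      · exact (congrArg CommaMorphism.left (lift_snd (toR e Z i.down) (𝟙 _))).trans
          ((Sigma.ι_desc (fun _ : ULift.{u} M => 𝟙 Z.left) i).symm.trans
            ((congrArg (Sigma.ι (fun _ : ULift.{u} M => Z.left) i ≫ ·) hp.isoPullback_hom_snd).symm.trans
              (Category.assoc _ _ _).symm))
    rw [e2]
    infer_instance
  exact isPieces_of_isIso (fun i : ULift.{u} M => piece e Z i.down)

theorem hom_ext_piece {Z : Over T} {Y : Over S} {φ ψ : R ⊗ (Over.map f).obj Z ⟶ Y}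
    (h : ∀ m, piece e Z m ≫ φ = piece e Z m ≫ ψ) : φ = ψ :=
  (isPieces_piece e Z).hom_ext fun i => h i.down

variable (he : TwC.IsConstGrp M (Red.bc f R) e)

/-- The character indexed by an element. -/
abbrev idx (m : M) : Multiplicative (Additive M) := Multiplicative.ofAdd (Additive.ofMul m)

theorem hval (υ : R ⊗ (Over.map f).obj (Red.DS T (Additive M)) ⟶ Red.Gm S)
    (hυ : ∀ m, ev (piece e (Red.DS T (Additive M)) m ≫ υ) = dsVal (𝟙 (Red.DS T (Additive M))) (idx m))
    {Z : Over T} (a : Z ⟶ Red.DS T (Additive M)) (m : M) :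
    ev (piece e Z m ≫ (R ◁ (Over.map f).map a) ≫ υ) = dsVal a (idx m) := by
  rw [← Category.assoc, ← comp_piece, Category.assoc, ev_comp, hυ]
  conv_rhs => rw [← Category.comp_id a, dsVal_comp]
  rfl

include he in
theorem isHomFamily_of_val (υ : R ⊗ (Over.map f).obj (Red.DS T (Additive M)) ⟶ Red.Gm S)
    (hυ : ∀ m, ev (piece e (Red.DS T (Additive M)) m ≫ υ) = dsVal (𝟙 (Red.DS T (Additive M))) (idx m)) :
    AutFam.IsHomFamily R (Red.Gm S) υ := by
  have E : lift (fst R (R ⊗ (Over.map f).obj (Red.DS T (Additive M))) * (snd R _ ≫ fst R _)) (snd R _ ≫ snd R _) ≫ υ =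
      (lift (fst R (R ⊗ (Over.map f).obj (Red.DS T (Additive M)))) (snd R _ ≫ snd R _) ≫ υ) *
        (lift (snd R (R ⊗ (Over.map f).obj (Red.DS T (Additive M))) ≫ fst R _) (snd R _ ≫ snd R _) ≫ υ) := by
    refine ((isPieces_piece e (Red.DS T (Additive M))).whiskerLeft R).hom_ext fun i => hom_ext_piece e fun n => ?_
    simp only [MonObj.comp_mul, comp_lift_assoc, whiskerLeft_fst, whiskerLeft_snd_assoc,
      piece, lift_fst, lift_snd, lift_snd_assoc, lift_fst_assoc, Category.id_comp, Category.comp_id,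
      Category.assoc, toR_mul e he]
    apply ev_ext
    rw [ev_mul]
    change ev (piece e _ (n * i.down) ≫ υ) = ev (piece e _ n ≫ υ) * ev (piece e _ i.down ≫ υ)
    rw [hυ, hυ, hυ]
    exact map_mul (dsValHom (𝟙 (Red.DS T (Additive M)))) (idx n) (idx i.down)
  intro W g g' t
  have := congr(lift g (lift g' t) ≫ $E)
  simpa only [MonObj.comp_mul, comp_lift_assoc, comp_lift, lift_fst, lift_snd_assoc, lift_snd] using this

include he in
theorem exists_char {Z : Over T} (φ : R ⊗ (Over.map f).obj Z ⟶ Red.Gm S)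
    (hφ : AutFam.IsHomFamily R (Red.Gm S) φ) :
    ∃ χ : Multiplicative (Additive M) →* Γ(Z.left, ⊤), ∀ m, χ (idx m) = ev (piece e Z m ≫ φ) := by
  have hmul : ∀ m n, ev (piece e Z (m * n) ≫ φ) = ev (piece e Z m ≫ φ) * ev (piece e Z n ≫ φ) :=
    fun m n => by
      rw [piece, ← toR_mul e he, hφ, ev_mul]
      rfl
  have hone : ev (piece e Z 1 ≫ φ) = 1 := by
    have h := hmul 1 1
    rw [_root_.one_mul] at h
    have hu : IsUnit (ev (piece e Z 1 ≫ φ)) := by
      rw [ev, ← dsValHom_apply]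
      exact (Group.isUnit _).map (dsValHom (piece e Z 1 ≫ φ))
    exact hu.mul_left_cancel (by rw [_root_.mul_one]; exact h.symm)
  change ∃ χ : Multiplicative (Additive M) →* Γ(((Over.map f).obj Z).left, ⊤),
    ∀ m, χ (idx m) = ev (piece e Z m ≫ φ)
  let g : M →* Γ(((Over.map f).obj Z).left, ⊤) :=
    { toFun := fun m => ev (piece e Z m ≫ φ)
      map_one' := hone
      map_mul' := fun m n => hmul m n }
  let v : Multiplicative (Additive M) →* M :=
    { toFun := fun x => Additive.toMul (Multiplicative.toAdd x)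
      map_one' := rfl
      map_mul' := fun x x' => rfl }
  exact ⟨g.comp v, fun m => rfl⟩

include he in
/-- Homomorphisms from a constant commutative group to the multiplicative group. -/
theorem exists_representsOn :
    ∃ υ : R ⊗ (Over.map f).obj (Red.DS T (Additive M)) ⟶ Red.Gm S,
      RepresentsOn R (Red.Gm S) f (Red.DS T (Additive M)) υ ∧
      ∀ (Z : Over T) (a b : Z ⟶ Red.DS T (Additive M)),
        (R ◁ (Over.map f).map (a * b)) ≫ υ = ((R ◁ (Over.map f).map a) ≫ υ) * ((R ◁ (Over.map f).map b) ≫ υ) := by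
  have hunit : ∀ m : M, IsUnit (dsVal (𝟙 (Red.DS T (Additive M))) (idx m)) := fun m => by
    rw [← dsValHom_apply]
    exact (Group.isUnit (idx m)).map (dsValHom (𝟙 (Red.DS T (Additive M))))
  choose y hy using fun m : M => exists_ev (X := (Over.map f).obj (Red.DS T (Additive M))) _ (hunit m)
  obtain ⟨υ, hυ⟩ := (isPieces_piece e (Red.DS T (Additive M))).exists_glue fun i => y i.down
  have hυ' : ∀ m, ev (piece e (Red.DS T (Additive M)) m ≫ υ) = dsVal (𝟙 (Red.DS T (Additive M))) (idx m) :=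
    fun m => (congrArg ev (hυ ⟨m⟩)).trans (hy m)
  refine ⟨υ, ⟨isHomFamily_of_val e he υ hυ', fun Z φ hφ => ?_⟩, fun Z a b => hom_ext_piece e fun m => ev_ext ?_⟩
  · obtain ⟨χ, hχ⟩ := exists_char e he φ hφ
    refine ⟨dsMk Z χ, hom_ext_piece e fun m => ev_ext ?_, fun b hb => dsVal_ext fun x => ?_⟩
    · rw [hval e υ hυ', dsVal_dsMk, hχ]
    · beta_reduce at hb
      show _ = dsVal (dsMk Z χ) (idx (Additive.toMul (Multiplicative.toAdd x)))
      rw [dsVal_dsMk, hχ, ← hb, hval e υ hυ']
      rfl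
  · rw [hval e υ hυ', MonObj.comp_mul, ev_mul, hval e υ hυ', hval e υ hυ', dsVal_mul]

end Chart

/-- The identification of a chart of a group of characters respects the group laws. -/
theorem exists_grpIso {G H D : Over S} [GrpObj G] [GrpObj H] [GrpObj D] {ω : G ⊗ D ⟶ H}
    (hD : AutFam.RepresentsHom G H D ω)
    (hmul : ∀ (X : Over S) (a b : X ⟶ D), (G ◁ (a * b)) ≫ ω = ((G ◁ a) ≫ ω) * ((G ◁ b) ≫ ω))
    {f : T ⟶ S} {A : Over T} [GrpObj A] {υ : G ⊗ (Over.map f).obj A ⟶ H}
    (hυ : ∀ (Z : Over T) (a b : Z ⟶ A),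
      (G ◁ (Over.map f).map (a * b)) ≫ υ = ((G ◁ (Over.map f).map a) ≫ υ) * ((G ◁ (Over.map f).map b) ≫ υ))
    (c : (Over.map f).obj A ⟶ D) (hc : (G ◁ c) ≫ ω = υ) (hsq : IsPullback c.left A.hom D.hom f) :
    Nonempty (Grp.mk (Red.bc f D) ≅ Grp.mk A) := by
  obtain ⟨e, he⟩ := exists_iso_bc c hsq
  have hpt : ∀ {Z : Over T} (a : Z ⟶ A), bcPointEquiv f D Z (a ≫ e.inv) = (Over.map f).map a ≫ c :=
    fun {Z} a => by
      rw [bcPointEquiv_comp, ← he]
      rfl
  have : IsMonHom e.symm.hom := Groth.AlgGrp1.isMonHom_of_points _ fun Z a b => by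
    apply (bcPointEquiv f D Z).injective
    show bcPointEquiv f D Z ((a * b) ≫ e.inv) = bcPointEquiv f D Z ((a ≫ e.inv) * (b ≫ e.inv))
    rw [map_mul, hpt, hpt, hpt]
    refine (hD.2 _ _ (isHomFamily_comp hD.1 _)).unique ?_ rfl
    beta_reduce
    rw [hmul, whiskerLeft_comp_assoc, whiskerLeft_comp_assoc, whiskerLeft_comp_assoc, hc, hυ]
  exact ⟨(Grp.mkIso' e.symm).symm⟩

end Groth.Reductive2.HomComm
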