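import Mathlib.AlgebraicGeometry.Limits
import Mathlib.AlgebraicGeometry.AffineScheme
import Mathlib.RingTheory.AdicCompletion.RingHom
import Mathlib.RingTheory.Idempotents

/-!
# Morphisms out of the spectrum of a complete local ring, and out of finite disjoint unions
-/

set_option autoImplicit false
universe u
open CategoryTheory CategoryTheory.Limits AlgebraicGeometry

namespace Groth.Reductive2

/-- `Spec.map` of a ring homomorphism. -/
noncomputable abbrev sp {R S : Type u} [CommRing R] [CommRing S] (f : R →+* S) :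
    Spec (CommRingCat.of S) ⟶ Spec (CommRingCat.of R) :=
  Spec.map (CommRingCat.ofHom f)

theorem sp_comp {R S T : Type u} [CommRing R] [CommRing S] [CommRing T] (f : R →+* S)
    (g : S →+* T) : sp (g.comp f) = sp g ≫ sp f := by
  rw [← Spec.map_comp, ← CommRingCat.ofHom_comp]

theorem sp_comp_assoc {R S T : Type u} [CommRing R] [CommRing S] [CommRing T] (f : R →+* S)
    (g : S →+* T) {Y : Scheme.{u}} (h : Spec (CommRingCat.of R) ⟶ Y) :
    sp (g.comp f) ≫ h = sp g ≫ sp f ≫ h := by
  rw [sp_comp, Category.assoc]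

/-- A morphism from the spectrum of a local ring lands in any open containing the image of the closed
point. -/
theorem range_subset_of_closedPoint {C : Type u} [CommRing C] [IsLocalRing C] {Y : Scheme.{u}}
    (w : Spec (CommRingCat.of C) ⟶ Y) (U : Y.Opens)
    (h : w.base (IsLocalRing.closedPoint C) ∈ U) : Set.range w.base ⊆ (U : Set Y) := by
  rintro _ ⟨x, rfl⟩
  exact (IsLocalRing.specializes_closedPoint x).mem_open (w ⁻¹ᵁ U).isOpen h

theorem sp_closedPoint {R S : Type u} [CommRing R] [CommRing S] [IsLocalRing R] [IsLocalRing S]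
    (f : R →+* S) [IsLocalHom f] :
    (sp f).base (IsLocalRing.closedPoint S) = IsLocalRing.closedPoint R :=
  IsLocalRing.comap_closedPoint f

section Local

variable {B : Type u} [CommRing B] [IsLocalRing B] {J : Ideal B} [IsAdicComplete J B]

/-- Morphisms out of a complete local ring are determined by the reductions. -/
theorem hom_ext_complete (hJ : J ≠ ⊤) {Y : Scheme.{u}} (f g : Spec (CommRingCat.of B) ⟶ Y)
    (h : ∀ n, sp (Ideal.Quotient.mk (J ^ n)) ≫ f = sp (Ideal.Quotient.mk (J ^ n)) ≫ g) :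
    f = g := by
  obtain ⟨U, hU, hxU, -⟩ := exists_isAffineOpen_mem_and_subset
    (x := f.base (IsLocalRing.closedPoint B)) (U := ⊤) trivial
  have : Nontrivial (B ⧸ J ^ 1) := Ideal.Quotient.nontrivial_iff.mpr (by rwa [pow_one])
  have : IsLocalRing (B ⧸ J ^ 1) :=
    IsLocalRing.of_surjective' (Ideal.Quotient.mk (J ^ 1)) Ideal.Quotient.mk_surjective
  have : IsLocalHom (Ideal.Quotient.mk (J ^ 1)) :=
    IsLocalHom.of_surjective _ Ideal.Quotient.mk_surjective
  have hxg : g.base (IsLocalRing.closedPoint B) ∈ U := by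
    have h1 : (sp (Ideal.Quotient.mk (J ^ 1)) ≫ f).base (IsLocalRing.closedPoint (B ⧸ J ^ 1))
        = (sp (Ideal.Quotient.mk (J ^ 1)) ≫ g).base (IsLocalRing.closedPoint (B ⧸ J ^ 1)) := by
      rw [h 1]
    rw [Scheme.Hom.comp_apply, Scheme.Hom.comp_apply,
      sp_closedPoint (Ideal.Quotient.mk (J ^ 1))] at h1
    rwa [← h1]
  have hrf : Set.range f.base ⊆ Set.range hU.fromSpec.base := by
    rw [hU.range_fromSpec]; exact range_subset_of_closedPoint f U hxU
  have hrg : Set.range g.base ⊆ Set.range hU.fromSpec.base := by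
    rw [hU.range_fromSpec]; exact range_subset_of_closedPoint g U hxg
  obtain ⟨a, ha⟩ := Spec.map_surjective (IsOpenImmersion.lift hU.fromSpec f hrf)
  obtain ⟨b, hb⟩ := Spec.map_surjective (IsOpenImmersion.lift hU.fromSpec g hrg)
  suffices a = b by
    rw [← IsOpenImmersion.lift_fac hU.fromSpec f hrf, ← IsOpenImmersion.lift_fac hU.fromSpec g hrg,
      ← ha, ← hb, this]
  refine CommRingCat.hom_ext (DFunLike.coe_injective (IsHausdorff.funext' J fun n r => ?_))
  have hab : a ≫ CommRingCat.ofHom (Ideal.Quotient.mk (J ^ n)) =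
      b ≫ CommRingCat.ofHom (Ideal.Quotient.mk (J ^ n)) := by
    refine Spec.map_injective ?_
    rw [Spec.map_comp, Spec.map_comp, ← cancel_mono hU.fromSpec, Category.assoc, Category.assoc,
      ha, hb, IsOpenImmersion.lift_fac, IsOpenImmersion.lift_fac]
    exact h n
  exact congr($(congrArg CommRingCat.Hom.hom hab) r)

/-- Compatible morphisms out of the reductions of a complete local ring glue. -/
theorem exists_hom_complete (hJ : J ≠ ⊤) {Y : Scheme.{u}}
    (u : ∀ n, Spec (CommRingCat.of (B ⧸ J ^ n)) ⟶ Y)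
    (hu : ∀ {m n : ℕ} (h : m ≤ n), sp (Ideal.Quotient.factorPow J h) ≫ u n = u m) :
    ∃ f : Spec (CommRingCat.of B) ⟶ Y, ∀ n, sp (Ideal.Quotient.mk (J ^ n)) ≫ f = u n := by
  have hloc : ∀ n, 1 ≤ n → Nontrivial (B ⧸ J ^ n) ∧ IsLocalRing (B ⧸ J ^ n) := fun n hn => by
    have : Nontrivial (B ⧸ J ^ n) := Ideal.Quotient.nontrivial_iff.mpr fun h =>
      hJ (eq_top_iff.mpr (h ▸ Ideal.pow_le_self (by omega)))
    exact ⟨this, IsLocalRing.of_surjective' (Ideal.Quotient.mk (J ^ n)) Ideal.Quotient.mk_surjective⟩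
  obtain ⟨_, hl1⟩ := hloc 1 le_rfl
  obtain ⟨U, hU, hxU, -⟩ := exists_isAffineOpen_mem_and_subset
    (x := (u 1).base (IsLocalRing.closedPoint (B ⧸ J ^ 1))) (U := ⊤) trivial
  have hr : ∀ n, Set.range (u n).base ⊆ Set.range hU.fromSpec.base := by
    intro n
    rw [hU.range_fromSpec]
    rcases Nat.eq_zero_or_pos n with rfl | hn
    · have : Subsingleton (B ⧸ J ^ 0) := Ideal.Quotient.subsingleton_iff.mpr (by simp)
      rintro _ ⟨x, rfl⟩
      exact (x.2.ne_top (Subsingleton.elim _ _)).elim
    · obtain ⟨_, hln⟩ := hloc n hn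
      have : IsLocalHom (Ideal.Quotient.factorPow J (show 1 ≤ n by omega)) :=
        IsLocalHom.of_surjective _ (Ideal.Quotient.factor_surjective _)
      refine range_subset_of_closedPoint (u n) U ?_
      have h1 := congrArg (fun w : Spec (CommRingCat.of (B ⧸ J ^ 1)) ⟶ Y =>
        w.base (IsLocalRing.closedPoint (B ⧸ J ^ 1))) (hu (show 1 ≤ n by omega))
      simp only [Scheme.Hom.comp_apply] at h1
      rw [sp_closedPoint (Ideal.Quotient.factorPow J (show 1 ≤ n by omega))] at h1
      rw [h1]; exact hxU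
  choose φ hφ using fun n => Spec.map_surjective (IsOpenImmersion.lift hU.fromSpec (u n) (hr n))
  have hcompat : ∀ {m n : ℕ} (h : m ≤ n),
      (Ideal.Quotient.factorPow J h).comp (φ n).hom = (φ m).hom := fun {m n} h => by
    have : φ n ≫ CommRingCat.ofHom (Ideal.Quotient.factorPow J h) = φ m := by
      refine Spec.map_injective ?_
      rw [Spec.map_comp, ← cancel_mono hU.fromSpec, Category.assoc, hφ, hφ,
        IsOpenImmersion.lift_fac, IsOpenImmersion.lift_fac]
      exact hu h
    rw [← this]; rfl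
  refine ⟨Spec.map (CommRingCat.ofHom
    (IsAdicComplete.liftRingHom J (fun n => (φ n).hom) hcompat)) ≫ hU.fromSpec, fun n => ?_⟩
  rw [sp, ← Spec.map_comp_assoc, ← CommRingCat.ofHom_comp, IsAdicComplete.mk_comp_liftRingHom,
    CommRingCat.ofHom_hom, hφ, IsOpenImmersion.lift_fac]

end Local

section Idem

variable {C : Type u} [CommRing C] {ι : Type u} [Fintype ι] {e : ι → C}

/-- The comparison map of the disjoint union of the pieces cut out by idempotents. -/
noncomputable def idemDesc (e : ι → C) :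
    (∐ fun i => Spec (CommRingCat.of (C ⧸ Ideal.span {1 - e i}))) ⟶ Spec (CommRingCat.of C) :=
  sigmaSpec (fun i => CommRingCat.of (C ⧸ Ideal.span {1 - e i})) ≫
    sp (RingHom.pi fun i => Ideal.Quotient.mk (Ideal.span {1 - e i}))

theorem ι_idemDesc (e : ι → C) (i : ι) :
    Sigma.ι (fun i => Spec (CommRingCat.of (C ⧸ Ideal.span {1 - e i}))) i ≫ idemDesc e =
      sp (Ideal.Quotient.mk (Ideal.span {1 - e i})) := by
  rw [idemDesc, ← Category.assoc, ι_sigmaSpec]
  exact (sp_comp _ _).symm

theorem isIso_idemDesc (he : CompleteOrthogonalIdempotents e) : IsIso (idemDesc e) := by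
  have h1 : IsIso (CommRingCat.ofHom
      (RingHom.pi fun i => Ideal.Quotient.mk (Ideal.span {1 - e i}))) :=
    (ConcreteCategory.isIso_iff_bijective _).mpr he.bijective_pi
  have h2 : IsIso (sp (RingHom.pi fun i => Ideal.Quotient.mk (Ideal.span {1 - e i}))) :=
    inferInstance
  exact IsIso.comp_isIso' inferInstance h2

theorem hom_ext_idem (he : CompleteOrthogonalIdempotents e) {Y : Scheme.{u}}
    (f g : Spec (CommRingCat.of C) ⟶ Y)
    (h : ∀ i, sp (Ideal.Quotient.mk (Ideal.span {1 - e i})) ≫ f =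
      sp (Ideal.Quotient.mk (Ideal.span {1 - e i})) ≫ g) : f = g := by
  have := isIso_idemDesc he
  rw [← cancel_epi (idemDesc e)]
  refine Sigma.hom_ext _ _ fun i => ?_
  rw [← Category.assoc, ← Category.assoc, ι_idemDesc, h i]

theorem exists_hom_idem (he : CompleteOrthogonalIdempotents e) {Y : Scheme.{u}}
    (f : ∀ i, Spec (CommRingCat.of (C ⧸ Ideal.span {1 - e i})) ⟶ Y) :
    ∃ g : Spec (CommRingCat.of C) ⟶ Y,
      ∀ i, sp (Ideal.Quotient.mk (Ideal.span {1 - e i})) ≫ g = f i := by
  have := isIso_idemDesc he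
  refine ⟨inv (idemDesc e) ≫ Sigma.desc f, fun i => ?_⟩
  rw [← ι_idemDesc e i, Category.assoc, IsIso.hom_inv_id_assoc, Sigma.ι_desc]

end Idem

end Groth.Reductive2
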