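import Groth.Prelude.Def_AutFam
import Groth.Agent.Pi1Desc.Act
import Mathlib.AlgebraicGeometry.Limits
import Mathlib.CategoryTheory.Monoidal.Cartesian.Grp

/-!
Decompositions of an object over `S` into disjoint opens: gluing of morphisms and of families of
homomorphisms. Descent of morphisms along covers.
-/

set_option autoImplicit false
universe u v

open CategoryTheory CategoryTheory.Limits MonoidalCategory CartesianMonoidalCategory MonObj AlgebraicGeometry

namespace Groth.Reductive2.HomDesc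

variable {S : Scheme.{u}} {κ : Type u}

/-- A decomposition of `Z` into disjoint open pieces. -/
structure IsPieces {Z : Over S} {Zi : κ → Over S} (j : ∀ i, Zi i ⟶ Z) : Prop where
  openImm : ∀ i, IsOpenImmersion (j i).left
  disj : Pairwise (Function.onFun Disjoint fun i => Set.range (j i).left)
  cover : ∀ z : Z.left, ∃ i, z ∈ Set.range (j i).left

namespace IsPieces

variable {Z : Over S} {Zi : κ → Over S} {j : ∀ i, Zi i ⟶ Z}

theorem isIso_desc (hj : IsPieces j) : IsIso (Sigma.desc fun i => (j i).left) := by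
  have := hj.openImm
  have : IsOpenImmersion (Sigma.desc fun i => (j i).left) := isOpenImmersion_sigmaDesc _ _ hj.disj
  refine (isIso_iff_isOpenImmersion_and_surjective _).mpr ⟨this, ⟨fun z => ?_⟩⟩
  obtain ⟨i, x, hx⟩ := hj.cover z
  exact ⟨Sigma.ι (fun i => (Zi i).left) i x, by rw [← Scheme.Hom.comp_apply, Sigma.ι_desc]; exact hx⟩

theorem hom_ext (hj : IsPieces j) {Y : Over S} {f g : Z ⟶ Y} (h : ∀ i, j i ≫ f = j i ≫ g) : f = g := by
  have := hj.isIso_desc
  ext
  rw [← cancel_epi (Sigma.desc fun i => (j i).left)]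
  refine Sigma.hom_ext _ _ fun i => ?_
  rw [Sigma.ι_desc_assoc, Sigma.ι_desc_assoc, ← Over.comp_left, ← Over.comp_left, h i]

theorem exists_glue (hj : IsPieces j) {Y : Over S} (f : ∀ i, Zi i ⟶ Y) :
    ∃ g : Z ⟶ Y, ∀ i, j i ≫ g = f i := by
  have := hj.isIso_desc
  let D := Sigma.desc fun i => (j i).left
  have hw : (Sigma.desc fun i => (f i).left) ≫ Y.hom = D ≫ Z.hom := Sigma.hom_ext _ _ fun i => by
    rw [Sigma.ι_desc_assoc, Sigma.ι_desc_assoc, Over.w, Over.w]
  refine ⟨Over.homMk (inv D ≫ Sigma.desc fun i => (f i).left) (by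
    rw [Category.assoc, hw, IsIso.inv_hom_id_assoc]), fun i => ?_⟩
  ext
  have : (j i).left = Sigma.ι (fun i => (Zi i).left) i ≫ D :=
    (Sigma.ι_desc (fun i => (j i).left) i).symm
  rw [Over.comp_left, this]
  show (Sigma.ι (fun i => (Zi i).left) i ≫ D) ≫ inv D ≫ Sigma.desc (fun i => (f i).left) = _
  rw [Category.assoc, IsIso.hom_inv_id_assoc, Sigma.ι_desc]

/-- Multiplying a decomposition by a fixed object. -/
theorem whiskerLeft (hj : IsPieces j) (G : Over S) : IsPieces fun i => G ◁ j i := by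
  have sq : ∀ i, IsPullback ((G ◁ j i).left) (pullback.snd G.hom (Zi i).hom) (pullback.snd G.hom Z.hom)
      (j i).left := fun i => by
    have h1 : (G ◁ j i).left ≫ pullback.fst G.hom Z.hom = pullback.fst G.hom (Zi i).hom :=
      Over.whiskerLeft_left_fst (j i)
    have h2 : (G ◁ j i).left ≫ pullback.snd G.hom Z.hom = pullback.snd G.hom (Zi i).hom ≫ (j i).left :=
      Over.whiskerLeft_left_snd (j i)
    have outer : IsPullback ((G ◁ j i).left ≫ pullback.fst G.hom Z.hom) (pullback.snd G.hom (Zi i).hom)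
        G.hom ((j i).left ≫ Z.hom) := by
      rw [h1, Over.w (j i)]
      exact IsPullback.of_hasPullback G.hom (Zi i).hom
    exact IsPullback.of_right outer h2 (IsPullback.of_hasPullback G.hom Z.hom)
  have hr : ∀ i, Set.range (G ◁ j i).left = pullback.snd G.hom Z.hom ⁻¹' Set.range (j i).left := fun i => by
    have := hj.openImm i
    rw [← (sq i).isoPullback_hom_fst, Scheme.Hom.comp_base, TopCat.coe_comp, Set.range_comp,
      Set.range_eq_univ.mpr (sq i).isoPullback.hom.surjective, Set.image_univ, Scheme.Pullback.range_fst]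
  refine ⟨fun i => ?_, fun a b hab => ?_, fun z => ?_⟩
  · exact MorphismProperty.of_isPullback (sq i).flip (hj.openImm i)
  · simp only [Function.onFun, hr]
    exact (hj.disj hab).preimage _
  · obtain ⟨i, hi⟩ := hj.cover (pullback.snd G.hom Z.hom z)
    refine ⟨i, ?_⟩
    rw [hr i]
    exact hi

/-- A point of `Z` decomposes accordingly. -/
theorem exists_lift (hj : IsPieces j) {W : Over S} (t : W ⟶ Z) :
    ∃ (Wi : κ → Over S) (k : ∀ i, Wi i ⟶ W) (l : ∀ i, Wi i ⟶ Zi i),
      IsPieces k ∧ ∀ i, l i ≫ j i = k i ≫ t := by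
  have := hj.openImm
  let O : κ → W.left.Opens := fun i => t.left ⁻¹ᵁ (j i).left.opensRange
  let Wi : κ → Over S := fun i => Over.mk ((O i).ι ≫ W.hom)
  let k : ∀ i, Wi i ⟶ W := fun i => Over.homMk (O i).ι rfl
  have hr : ∀ i, Set.range ((O i).ι ≫ t.left) ⊆ Set.range (j i).left := fun i => by
    rintro _ ⟨x, rfl⟩
    exact x.2
  refine ⟨Wi, k, fun i => Over.homMk (IsOpenImmersion.lift (j i).left _ (hr i)) ?_, ⟨fun i => ?_, fun a b hab => ?_, fun w => ?_⟩, fun i => ?_⟩
  · rw [← Over.w (j i), ← Category.assoc, IsOpenImmersion.lift_fac, Category.assoc, Over.w t]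
    rfl
  · exact inferInstanceAs (IsOpenImmersion (O i).ι)
  · show Disjoint (Set.range (O a).ι) (Set.range (O b).ι)
    rw [Scheme.Opens.range_ι, Scheme.Opens.range_ι]
    exact (hj.disj hab).preimage t.left
  · obtain ⟨i, hi⟩ := hj.cover (t.left w)
    exact ⟨i, ⟨w, hi⟩, rfl⟩
  · ext
    exact IsOpenImmersion.lift_fac _ _ _

/-- A morphism which is a family of homomorphisms on each piece is one. -/
theorem isHomFamily (hj : IsPieces j) {G H : Over S} [GrpObj G] [GrpObj H] {φ : G ⊗ Z ⟶ H}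
    (h : ∀ i, AutFam.IsHomFamily G H ((G ◁ j i) ≫ φ)) : AutFam.IsHomFamily G H φ := by
  intro X g₁ g₂ t
  obtain ⟨Wi, k, l, hk, hl⟩ := hj.exists_lift t
  refine hk.hom_ext fun i => ?_
  have := h i (Wi i) (k i ≫ g₁) (k i ≫ g₂) (l i)
  simp only [lift_whiskerLeft_assoc, hl] at this
  simpa only [MonObj.comp_mul, comp_lift_assoc] using this

end IsPieces

/-- A morphism over `S` which is a cover. -/
def IsCov {X Y : Over S} (c : X ⟶ Y) : Prop := Groth.Pi1Desc.IsCover c.left

theorem IsCov.hom_ext {X Y Z : Over S} {c : X ⟶ Y} (hc : IsCov c) {a b : Y ⟶ Z} (h : c ≫ a = c ≫ b) :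
    a = b := by
  haveI : Groth.Pi1Desc.IsCover c.left := hc
  haveI := Groth.Pi1Desc.IsCover.effectiveEpi c.left
  ext
  rw [← cancel_epi c.left, ← Over.comp_left, h, Over.comp_left]

theorem IsCov.exists_desc {X Y Z : Over S} {c : X ⟶ Y} (hc : IsCov c) (f : X ⟶ Z)
    (hf : ∀ (T : Over S) (a b : T ⟶ X), a ≫ c = b ≫ c → a ≫ f = b ≫ f) :
    ∃ g : Y ⟶ Z, c ≫ g = f := by
  haveI : Groth.Pi1Desc.IsCover c.left := hc
  haveI := Groth.Pi1Desc.IsCover.effectiveEpi c.left
  have hf' : ∀ {W : Scheme.{u}} (a b : W ⟶ X.left), a ≫ c.left = b ≫ c.left →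
      a ≫ f.left = b ≫ f.left := by
    intro W a b hab
    have hW : b ≫ X.hom = a ≫ X.hom := by
      rw [← Over.w c, ← Category.assoc, ← hab, Category.assoc]
    exact congr(($(hf (Over.mk (a ≫ X.hom)) (Over.homMk a rfl) (Over.homMk b hW)
      (by ext; exact hab))).left)
  refine ⟨Over.homMk (EffectiveEpi.desc c.left f.left (fun a b h => hf' a b h)) ?_, ?_⟩
  · rw [← cancel_epi c.left, EffectiveEpi.fac_assoc, Over.w f, Over.w c]
  · ext
    exact EffectiveEpi.fac c.left f.left (fun a b h => hf' a b h)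

theorem IsCov.of_isPullback {X Y X' Y' : Over S} {c : X ⟶ Y} (hc : IsCov c) {c' : X' ⟶ Y'}
    {a : X'.left ⟶ X.left} {b : Y'.left ⟶ Y.left} (sq : IsPullback a c'.left c.left b) : IsCov c' := by
  haveI : Groth.Pi1Desc.IsCover c.left := hc
  exact Groth.Pi1Desc.IsCover.of_isPullback sq

theorem IsCov.whiskerLeft {X Y : Over S} {c : X ⟶ Y} (hc : IsCov c) (G : Over S) : IsCov (G ◁ c) := by
  have h1 : (G ◁ c).left ≫ pullback.fst G.hom Y.hom = pullback.fst G.hom X.hom :=
    Over.whiskerLeft_left_fst c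
  have h2 : (G ◁ c).left ≫ pullback.snd G.hom Y.hom = pullback.snd G.hom X.hom ≫ c.left :=
    Over.whiskerLeft_left_snd c
  have outer : IsPullback ((G ◁ c).left ≫ pullback.fst G.hom Y.hom) (pullback.snd G.hom X.hom)
      G.hom (c.left ≫ Y.hom) := by
    rw [h1, Over.w c]
    exact IsPullback.of_hasPullback G.hom X.hom
  exact hc.of_isPullback (IsPullback.of_right outer h2 (IsPullback.of_hasPullback G.hom Y.hom)).flip

theorem IsCov.exists_lift {X Y W : Over S} {c : X ⟶ Y} (hc : IsCov c) (t : W ⟶ Y) :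
    ∃ (W' : Over S) (d : W' ⟶ W) (s : W' ⟶ X), IsCov d ∧ s ≫ c = d ≫ t := by
  let W' : Over S := Over.mk (pullback.snd c.left t.left ≫ W.hom)
  let d : W' ⟶ W := Over.homMk (pullback.snd c.left t.left) rfl
  refine ⟨W', d, Over.homMk (pullback.fst c.left t.left) ?_, ?_, ?_⟩
  · show pullback.fst c.left t.left ≫ X.hom = pullback.snd c.left t.left ≫ W.hom
    rw [← Over.w c, ← Over.w t, pullback.condition_assoc]
  · exact hc.of_isPullback (a := pullback.fst c.left t.left) (b := t.left) (IsPullback.of_hasPullback _ _)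
  · ext; exact pullback.condition

end Groth.Reductive2.HomDesc
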