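import Groth.Agent.Reductive2.CentralTorsionLift
import Groth.Agent.Reductive2.HomDual
import Groth.Agent.Reductive.SubgroupEq
import Groth.Agent.S5263

/-!
Finite étale groups of multiplicative type are étale-locally diagonalisable.
-/

set_option autoImplicit false
universe u

open CategoryTheory CategoryTheory.Limits MonoidalCategory CartesianMonoidalCategory MonObj AlgebraicGeometry
open Groth.Reductive Groth.Reductive.FreeDiag

noncomputable section

namespace Groth.Reductive2.MTEtaleSplit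

variable {S : Scheme.{u}} {G H A : Over S} [GrpObj G] [GrpObj H] (υ : G ⊗ A ⟶ H)

/-- The structure point of an object over a chart. -/
def str {T : Scheme.{u}} (g : T ⟶ S) (Z : Over T) : (Over.map g).obj Z ⟶ Over.mk g := Over.homMk Z.hom rfl

theorem str_nat {T : Scheme.{u}} (g : T ⟶ S) {Z W : Over T} (z : W ⟶ Z) :
    (Over.map g).map z ≫ str g Z = str g W := Over.OverMorphism.ext (Over.w z)

/-- The homomorphism over `T` of a family evaluated at a `T`-point. -/
def homOf {T : Scheme.{u}} (g : T ⟶ S) (a : Over.mk g ⟶ A) : Red.bc g G ⟶ Red.bc g H :=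
  (bcPointEquiv g H _).symm (lift (bcPointEquiv g G _ (𝟙 _)) (str g _ ≫ a) ≫ υ)

theorem comp_homOf {T : Scheme.{u}} (g : T ⟶ S) (a : Over.mk g ⟶ A) {Z : Over T} (x : Z ⟶ Red.bc g G) :
    bcPointEquiv g H Z (x ≫ homOf υ g a) = lift (bcPointEquiv g G Z x) (str g Z ≫ a) ≫ υ := by
  rw [bcPointEquiv_comp, homOf, MulEquiv.apply_symm_apply, comp_lift_assoc, ← bcPointEquiv_comp,
    Category.comp_id, ← Category.assoc ((Over.map g).map x), str_nat]

theorem isMonHom_homOf (hυ : AutFam.IsHomFamily G H υ) {T : Scheme.{u}} (g : T ⟶ S) (a : Over.mk g ⟶ A) :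
    IsMonHom (homOf υ g a) := Groth.AlgGrp1.isMonHom_of_points _ fun Z x x' => by
  apply (bcPointEquiv g H Z).injective
  rw [map_mul, comp_homOf, comp_homOf, comp_homOf, map_mul]
  exact hυ _ _ _ _

/-- Every homomorphism over a chart comes from a point of a representing object. -/
theorem exists_point (hA : AutFam.RepresentsHom G H A υ) {T : Scheme.{u}} (g : T ⟶ S)
    (j : Red.bc g G ⟶ Red.bc g H) [IsMonHom j] :
    ∃ a : Over.mk g ⟶ A, homOf υ g a = j := by
  let n : Over T := Over.mk (snd G (Over.mk g)).left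
  let c : (Over.map g).obj n ≅ G ⊗ Over.mk g := Over.isoMk (Iso.refl _) (by
    show 𝟙 _ ≫ _ = (snd G (Over.mk g)).left ≫ g
    rw [Category.id_comp]
    exact (Over.w (snd G (Over.mk g))).symm)
  let y : n ⟶ Red.bc g G := (bcPointEquiv g G n).symm (c.hom ≫ fst _ _)
  let φ : G ⊗ Over.mk g ⟶ H := c.inv ≫ bcPointEquiv g H n (y ≫ j)
  have key : ∀ (W : Over S) (x : W ⟶ G) (t : W ⟶ Over.mk g),
      ∃ (z : Over T) (d : (Over.map g).obj z ≅ W) (e : z ⟶ Red.bc g G),
        bcPointEquiv g G z e = d.hom ≫ x ∧ d.hom ≫ t = str g z ∧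
          d.hom ≫ lift x t ≫ φ = bcPointEquiv g H z (e ≫ j) := fun W x t => by
    let z : Over T := Over.mk t.left
    let d : (Over.map g).obj z ≅ W := Over.isoMk (Iso.refl _) (by
      show 𝟙 _ ≫ _ = t.left ≫ g
      rw [Category.id_comp]
      exact (Over.w t).symm)
    have hdt : d.hom ≫ t = str g z := Over.OverMorphism.ext (Category.id_comp _)
    let l : z ⟶ n := Over.homMk (lift x t).left (by
      show (lift x t).left ≫ (snd G (Over.mk g)).left = t.left
      rw [← Over.comp_left, lift_snd])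
    have hl : (Over.map g).map l ≫ c.hom = d.hom ≫ lift x t :=
      Over.OverMorphism.ext (by simp [l, c, d])
    refine ⟨z, d, l ≫ y, ?_, hdt, ?_⟩
    · rw [bcPointEquiv_comp, MulEquiv.apply_symm_apply, ← Category.assoc, hl, Category.assoc, lift_fst]
    · rw [Category.assoc, bcPointEquiv_comp g H l, ← Category.assoc d.hom, ← hl, Category.assoc]
      show (Over.map g).map l ≫ c.hom ≫ c.inv ≫ _ = _
      rw [Iso.hom_inv_id_assoc]
  have hφ : AutFam.IsHomFamily G H φ := fun W x x' t => by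
    obtain ⟨z₁, d₁, e₁, hxa, hta, h₁⟩ := key W x t
    obtain ⟨z₂, d₂, e₂, hxb, htb, h₂⟩ := key W x' t
    obtain ⟨z, d, e, hxc, htc, h⟩ := key W (x * x') t
    have tr : ∀ {z' : Over T} (d' : (Over.map g).obj z' ≅ W), d'.hom ≫ t = str g z' →
        ∃ m : z ⟶ z', (Over.map g).map m ≫ d'.hom = d.hom := fun {z'} d' ht' => by
      refine ⟨Over.homMk (d.hom ≫ d'.inv).left ?_, Over.OverMorphism.ext ?_⟩
      · have := congrArg CommaMorphism.left (congrArg (fun m => d.hom ≫ d'.inv ≫ m) ht')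
        simpa [htc, str] using this.symm
      · show (d.hom ≫ d'.inv).left ≫ d'.hom.left = d.hom.left
        rw [← Over.comp_left, Category.assoc, d'.inv_hom_id, Category.comp_id]
    obtain ⟨m₁, hm₁⟩ := tr d₁ hta
    obtain ⟨m₂, hm₂⟩ := tr d₂ htb
    rw [← cancel_epi d.hom, MonObj.comp_mul, h]
    have p₁ : d.hom ≫ lift x t ≫ φ = bcPointEquiv g H z ((m₁ ≫ e₁) ≫ j) := by
      rw [Category.assoc, bcPointEquiv_comp, ← h₁, ← hm₁, Category.assoc]
    have p₂ : d.hom ≫ lift x' t ≫ φ = bcPointEquiv g H z ((m₂ ≫ e₂) ≫ j) := by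
      rw [Category.assoc, bcPointEquiv_comp, ← h₂, ← hm₂, Category.assoc]
    have he : e = (m₁ ≫ e₁) * (m₂ ≫ e₂) := by
      apply (bcPointEquiv g G z).injective
      rw [hxc, map_mul, bcPointEquiv_comp, bcPointEquiv_comp, hxa, hxb, reassoc_of% hm₁, reassoc_of% hm₂,
        MonObj.comp_mul]
    rw [p₁, p₂, ← map_mul, ← MonObj.mul_comp, ← he]
  obtain ⟨a, ha, -⟩ := hA.2 _ φ hφ
  beta_reduce at ha
  refine ⟨a, ?_⟩
  rw [← Category.id_comp (homOf υ g a), ← Category.id_comp j]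
  apply (bcPointEquiv g H _).injective
  rw [comp_homOf, ← lift_whiskerLeft_assoc, ha]
  obtain ⟨z, d, e, he, hd, h⟩ := key _ (bcPointEquiv g G _ (𝟙 (Red.bc g G))) (str g (Red.bc g G))
  have hdl : d.hom.left ≫ (Red.bc g G).hom = z.hom := congrArg CommaMorphism.left hd
  let l : z ⟶ Red.bc g G := Over.homMk d.hom.left hdl
  have hld : (Over.map g).map l = d.hom := Over.OverMorphism.ext rfl
  have hle : l = e := by
    apply (bcPointEquiv g G z).injective
    rw [he, ← hld]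
    exact (congrArg _ (Category.comp_id l).symm).trans (bcPointEquiv_comp g G l (𝟙 _))
  rw [← cancel_epi d.hom, h, ← hle, ← hld, ← bcPointEquiv_comp, Category.id_comp]

/-- Restriction of a point to a smaller chart. -/
theorem exists_res {T T' : Scheme.{u}} (g : T ⟶ S) (k : T' ⟶ T) {W : Over T} (w : W ⟶ Over.mk k) :
    ∃ (z : Over T') (d : (Over.map (k ≫ g)).obj z ≅ (Over.map g).obj W) (q : Over.mk (k ≫ g) ⟶ Over.mk g),
      q.left = k ∧ d.hom ≫ str g W = str (k ≫ g) z ≫ q := by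
  refine ⟨Over.mk w.left, Over.isoMk (Iso.refl _) ?_, Over.homMk k rfl, rfl, Over.OverMorphism.ext ?_⟩
  · show 𝟙 _ ≫ W.hom ≫ g = w.left ≫ k ≫ g
    rw [Category.id_comp, ← Over.w w, Category.assoc]
    rfl
  · show 𝟙 _ ≫ W.hom = w.left ≫ k
    rw [Category.id_comp]
    exact (Over.w w).symm

theorem res_homOf {T T' : Scheme.{u}} (g : T ⟶ S) (k : T' ⟶ T) (a : Over.mk g ⟶ A) {W : Over T}
    {z : Over T'} (d : (Over.map (k ≫ g)).obj z ≅ (Over.map g).obj W) (q : Over.mk (k ≫ g) ⟶ Over.mk g)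
    (hd : d.hom ≫ str g W = str (k ≫ g) z ≫ q) (x : W ⟶ Red.bc g G) :
    (bcPointEquiv (k ≫ g) H z).symm (d.hom ≫ bcPointEquiv g H W (x ≫ homOf υ g a)) =
      (bcPointEquiv (k ≫ g) G z).symm (d.hom ≫ bcPointEquiv g G W x) ≫ homOf υ (k ≫ g) (q ≫ a) := by
  apply (bcPointEquiv (k ≫ g) H z).injective
  rw [MulEquiv.apply_symm_apply, comp_homOf, comp_homOf, MulEquiv.apply_symm_apply, comp_lift_assoc,
    reassoc_of% hd]

variable {υ} (υ' : H ⊗ A ⟶ G)

/-- The defect of two families to be inverse to each other. -/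
def defect {T : Scheme.{u}} (g : T ⟶ S) (a : Over.mk g ⟶ A) : Red.bc g G ⟶ Red.bc g G :=
  (homOf υ g a ≫ homOf υ' g a) * (𝟙 _)⁻¹

variable (hυ : AutFam.IsHomFamily G H υ) (hυ' : AutFam.IsHomFamily H G υ')

theorem trivOn_defect_iff {T T' : Scheme.{u}} (g : T ⟶ S) (k : T' ⟶ T) (a : Over.mk g ⟶ A) :
    TrivOn (defect (υ := υ) υ' g a) (Over.mk k) ↔
      homOf υ (k ≫ g) ((Over.homMk k rfl : Over.mk (k ≫ g) ⟶ Over.mk g) ≫ a) ≫ homOf υ' (k ≫ g) ((Over.homMk k rfl : Over.mk (k ≫ g) ⟶ Over.mk g) ≫ a) = 𝟙 _ := by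
  have hiff : ∀ {W : Over T} (x : W ⟶ Red.bc g G), x ≫ defect (υ := υ) υ' g a = 1 ↔
      x ≫ homOf υ g a ≫ homOf υ' g a = x := fun {W} x => by
    rw [defect, MonObj.comp_mul, GrpObj.comp_inv, Category.comp_id, mul_inv_eq_one]
  constructor
  · intro h
    let Z' := Red.bc (k ≫ g) G
    let W : Over T := (Over.map k).obj Z'
    let x : W ⟶ Red.bc g G :=
      (bcPointEquiv g G W).symm ((Over.homMk (𝟙 _) (by simp [W]) : (Over.map g).obj W ⟶
        (Over.map (k ≫ g)).obj Z') ≫ bcPointEquiv (k ≫ g) G _ (𝟙 Z'))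
    let z₀ : Over T' := Z'
    let d₀ : (Over.map (k ≫ g)).obj z₀ ≅ (Over.map g).obj W := Over.isoMk (Iso.refl _) (by simp [W, z₀])
    have hd₀ : d₀.hom ≫ str g W = str (k ≫ g) z₀ ≫ (Over.homMk k rfl : Over.mk (k ≫ g) ⟶ Over.mk g) :=
      Over.OverMorphism.ext (by simp [d₀, str, W, z₀])
    have hx : (bcPointEquiv (k ≫ g) G z₀).symm (d₀.hom ≫ bcPointEquiv g G W x) = 𝟙 Z' := by
      rw [MulEquiv.symm_apply_eq, MulEquiv.apply_symm_apply, ← Category.assoc]
      convert Category.id_comp _ using 2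
      exact Over.OverMorphism.ext (Category.id_comp _)
    have h2 := (hiff x).mp (h W (Over.homMk Z'.hom rfl) x)
    have h3 := res_homOf υ' g k a d₀ _ hd₀ (x ≫ homOf υ g a)
    rw [res_homOf υ g k a d₀ _ hd₀ x, Category.assoc x, h2, hx, Category.id_comp] at h3
    exact h3.symm
  · intro h W w x
    rw [hiff]
    obtain ⟨z, d, q, hq, hd⟩ := exists_res g k w
    obtain rfl : q = Over.homMk k rfl := Over.OverMorphism.ext hq
    have h3 := res_homOf υ' g k a d _ hd (x ≫ homOf υ g a)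
    rw [res_homOf υ g k a d _ hd x, Category.assoc, Category.assoc, h, Category.comp_id] at h3
    have h4 := (bcPointEquiv (k ≫ g) G z).symm.injective h3
    exact (bcPointEquiv g G W).injective ((cancel_epi d.hom).mp h4)

include hυ hυ' in
theorem isMonHom_defect (hcomm : ∀ (Z : Over S) (x x' : Z ⟶ G), x * x' = x' * x) {T : Scheme.{u}} (g : T ⟶ S)
    (a : Over.mk g ⟶ A) : IsMonHom (defect (υ := υ) υ' g a) := by
  have := isMonHom_homOf υ hυ g a
  have := isMonHom_homOf υ' hυ' g a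
  have hc : ∀ {Z : Over T} (x x' : Z ⟶ Red.bc g G), x * x' = x' * x := fun x x' => by
    apply (bcPointEquiv g G _).injective
    rw [map_mul, map_mul, hcomm]
  refine Groth.AlgGrp1.isMonHom_of_points _ fun Z x x' => ?_
  simp only [defect, MonObj.comp_mul, GrpObj.comp_inv, Category.comp_id, ← Category.assoc, MonObj.mul_comp,
    _root_.mul_inv_rev]
  rw [hc x'⁻¹ x⁻¹, ← _root_.mul_assoc, ← _root_.mul_assoc, _root_.mul_assoc _ ((x' ≫ _) ≫ _) x⁻¹,
    hc ((x' ≫ _) ≫ _) x⁻¹, ← _root_.mul_assoc]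

end Groth.Reductive2.MTEtaleSplit

namespace Groth.Reductive2.MTEtaleSplit

open CentralTorsion

variable {S : Scheme.{u}}

theorem isFinite_DS (M : Type) [AddCommGroup M] [Finite M] : IsFinite (Red.DS S M).hom := by
  have : IsFinite (Red.diag (ULift.{u} ℤ) M).hom := by
    show IsFinite (Spec.map _)
    rw [IsFinite.SpecMap_iff]
    have : Module.Finite (ULift.{u} ℤ) (MonoidAlgebra (ULift.{u} ℤ) (Multiplicative M)) :=
      have : Finite (Multiplicative M) := Finite.of_equiv M Multiplicative.ofAdd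
      Module.Finite.of_basis (Module.Basis.ofRepr (MonoidAlgebra.coeffLinearEquiv (ULift.{u} ℤ)))
    exact RingHom.finite_algebraMap.mpr this
  exact MorphismProperty.pullback_snd _ _ this

/-- Finite étale groups of multiplicative type are étale-locally diagonalisable. -/
theorem exists_etale_split (H : Over S) [GrpObj H] [IsFinite H.hom] [Smooth H.hom]
    (hH : SGA3x.IsMultTypeFT H) (s : S) :
    ∃ (T : Scheme.{u}) (f : T ⟶ S) (M : Type) (_ : AddCommGroup M), Etale f ∧ s ∈ Set.range f.base ∧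
      AddGroup.FG M ∧ ∃ i : Red.DS T M ≅ Red.bc f H, IsMonHom i.hom := by
  have : Etale H.hom := (Groth.Agent.S4997.result H.hom).mpr ⟨inferInstance, inferInstance⟩
  obtain ⟨S', f, hflat, hsurj, hqc, hloc⟩ := id hH
  obtain ⟨t', rfl⟩ := f.surjective s
  obtain ⟨U, hU, M, hMg, hMfg, ⟨e⟩⟩ := hloc t'
  let t : (U : Scheme.{u}) := ⟨t', hU⟩
  let K := (U : Scheme.{u}).residueField t
  let p : Spec (CommRingCat.of K) ⟶ S := (U : Scheme.{u}).fromSpecResidueField t ≫ U.ι ≫ f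
  let i₁ : Red.DS (U : Scheme.{u}) M ≅ Red.bc (U.ι ≫ f) H := ((Grp.forget _).mapIso e).symm
  have : IsMonHom i₁.hom := inferInstanceAs (IsMonHom e.inv.hom.hom)
  obtain ⟨i, hi⟩ : ∃ i : Red.DS (Spec (CommRingCat.of K)) M ≅ Red.bc p H, IsMonHom i.hom :=
    exists_trivialisation_comp H ((U : Scheme.{u}).fromSpecResidueField t) (U.ι ≫ f) i₁
  have : Etale (Red.DS (Spec (CommRingCat.of K)) M).hom := by
    have : Etale (Red.bc p H).hom := inferInstanceAs (Etale (pullback.snd H.hom p))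
    have : IsIso i.hom.left := inferInstanceAs (IsIso ((Over.forget _).map i.hom))
    exact (congrArg (fun φ => Etale φ) (Over.w i.hom)).mp inferInstance
  obtain ⟨hfin, -⟩ := card_ne_zero (K := K) (M := M) hom_eq_zero_of_etale
  let G := Red.DS S M
  have : IsFinite G.hom := isFinite_DS M
  have hG : SGA3x.IsMultTypeFT G := Groth.Reductive.FreeDiag.isMultTypeFT_DS hMfg
  obtain ⟨A₁, υ₁, hA₁, -, hA₁e⟩ := Groth.Agent.S5263.result G H hG hH
  obtain ⟨A₂, υ₂, hA₂, -, hA₂e⟩ := Groth.Agent.S5263.result H G hH hG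
  let P := A₁ ⊗ A₂
  have : Etale P.hom := inferInstanceAs (Etale (pullback.fst A₁.hom A₂.hom ≫ A₁.hom))
  let ω : G ⊗ P ⟶ H := (G ◁ fst A₁ A₂) ≫ υ₁
  let ω' : H ⊗ P ⟶ G := (H ◁ snd A₁ A₂) ≫ υ₂
  have hω : AutFam.IsHomFamily G H ω := HomDesc.isHomFamily_comp hA₁.1 _
  have hω' : AutFam.IsHomFamily H G ω' := HomDesc.isHomFamily_comp hA₂.1 _
  -- the point of inverse isomorphisms over `K`
  obtain ⟨iK, hiK⟩ := HomDual.exists_bc_ds p M
  have := hi; have := hiK
  have : IsMonHom iK.inv := inferInstance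
  have : IsMonHom i.inv := inferInstance
  obtain ⟨a₁, ha₁⟩ := exists_point υ₁ hA₁ p (iK.inv ≫ i.hom)
  obtain ⟨a₂, ha₂⟩ := exists_point υ₂ hA₂ p (i.inv ≫ iK.hom)
  let q : Over.mk p ⟶ P := lift a₁ a₂
  have hω₁ : homOf ω p q = iK.inv ≫ i.hom := by
    rw [← ha₁]
    apply (bcPointEquiv p H _).symm.symm.injective
    simp only [homOf, MulEquiv.symm_symm, MulEquiv.apply_symm_apply, ω, q, lift_whiskerLeft_assoc,
      Category.assoc, lift_fst]
  have hω₂ : homOf ω' p q = i.inv ≫ iK.hom := by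
    rw [← ha₂]
    apply (bcPointEquiv p G _).symm.symm.injective
    simp only [homOf, MulEquiv.symm_symm, MulEquiv.apply_symm_apply, ω', q, lift_whiskerLeft_assoc,
      Category.assoc, lift_snd]
  -- the clopen loci
  let g := P.hom
  let a : Over.mk g ⟶ P := Over.homMk (𝟙 _) (Category.id_comp _)
  let d₁ := defect (υ := ω) ω' g a
  let d₂ := defect (υ := ω') ω g a
  have : IsMonHom d₁ := isMonHom_defect ω' hω hω' (fun Z x x' => HomDual.ds_mul_comm Z x x') g a
  have : IsMonHom d₂ := isMonHom_defect ω hω' hω (fun Z x x' => comm_of_multTypeFT hH Z x x') g a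
  have hmG : SGA3x.IsMultTypeFT (Red.bc g G) := isMultTypeFT_bc hG g
  have hmH : SGA3x.IsMultTypeFT (Red.bc g H) := isMultTypeFT_bc hH g
  obtain ⟨-, hlfpG⟩ := Groth.Reductive.flat_lfp_of_multTypeFT G hG Groth.AlgSp2.flat_descendsAlong inferInstance
  have : IsSeparated (Red.bc g G).hom := inferInstanceAs (IsSeparated (pullback.snd G.hom g))
  have : IsSeparated (Red.bc g H).hom := inferInstanceAs (IsSeparated (pullback.snd H.hom g))
  have : LocallyOfFinitePresentation (Red.bc g G).hom :=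
    inferInstanceAs (LocallyOfFinitePresentation (pullback.snd G.hom g))
  have : LocallyOfFinitePresentation (Red.bc g H).hom :=
    inferInstanceAs (LocallyOfFinitePresentation (pullback.snd H.hom g))
  obtain ⟨V₁, -, hV₁, hV₁t⟩ := exists_clopen_trivLocus' (H := Red.bc g G) (G := Red.bc g G) (u := d₁) hmG (Or.inr inferInstance)
  obtain ⟨V₂, -, hV₂, hV₂t⟩ := exists_clopen_trivLocus' (u := d₂) hmH (Or.inr inferInstance)
  let v : P.left := q.left.base (IsLocalRing.closedPoint K)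
  have hqk : ∀ hk, (Over.homMk q.left hk : Over.mk (q.left ≫ g) ⟶ Over.mk g) ≫ a =
      (Over.homMk (𝟙 _) (by simp [g, Over.w q]) : Over.mk (q.left ≫ g) ⟶ Over.mk p) ≫ q :=
    fun hk => Over.OverMorphism.ext (by simp [a])
  have hmem : v ∈ V₁ ∧ v ∈ V₂ := by
    have hp : q.left ≫ g = p := Over.w q
    have e₁ : ∀ (p' : Spec (CommRingCat.of K) ⟶ S) (hp' : p = p') (q' : Over.mk p' ⟶ P), q'.left = q.left →
        homOf ω p' q' ≫ homOf ω' p' q' = 𝟙 _ ∧ homOf ω' p' q' ≫ homOf ω p' q' = 𝟙 _ := by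
      rintro _ rfl q' hq'
      obtain rfl : q' = q := Over.OverMorphism.ext hq'
      rw [hω₁, hω₂]
      constructor <;> simp
    have e₂ := e₁ (q.left ≫ g) hp.symm ((Over.homMk q.left rfl : Over.mk (q.left ≫ g) ⟶ Over.mk g) ≫ a)
      (by simp [a])
    exact ⟨(hV₁ v).mpr ((pullback_map_eq_one_iff (H := Red.bc g G) (G := Red.bc g G) (u := d₁) _).mpr
        ((trivOn_fieldPoint_iff (u := d₁) K q.left).mp ((trivOn_defect_iff ω' g q.left a).mpr e₂.1))),
      (hV₂ v).mpr ((pullback_map_eq_one_iff (H := Red.bc g H) (G := Red.bc g H) (u := d₂) _).mpr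
        ((trivOn_fieldPoint_iff (u := d₂) K q.left).mp ((trivOn_defect_iff ω g q.left a).mpr e₂.2)))⟩
  let V : P.left.Opens := V₁ ⊓ V₂
  let a' : Over.mk (V.ι ≫ g) ⟶ P := (Over.homMk V.ι rfl : Over.mk (V.ι ≫ g) ⟶ Over.mk g) ≫ a
  have h1 : homOf ω (V.ι ≫ g) a' ≫ homOf ω' (V.ι ≫ g) a' = 𝟙 _ :=
    (trivOn_defect_iff ω' g V.ι a).mp
      (hV₁t.of_hom (Over.homMk (P.left.homOfLE inf_le_left) (P.left.homOfLE_ι _)))
  have h2 : homOf ω' (V.ι ≫ g) a' ≫ homOf ω (V.ι ≫ g) a' = 𝟙 _ :=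
    (trivOn_defect_iff ω g V.ι a).mp
      (hV₂t.of_hom (Over.homMk (P.left.homOfLE inf_le_right) (P.left.homOfLE_ι _)))
  let iV : Red.bc (V.ι ≫ g) G ≅ Red.bc (V.ι ≫ g) H :=
    ⟨homOf ω (V.ι ≫ g) a', homOf ω' (V.ι ≫ g) a', h1, h2⟩
  obtain ⟨iD, hiD⟩ := HomDual.exists_bc_ds (V.ι ≫ g) M
  have : IsMonHom iV.hom := isMonHom_homOf ω hω _ a'
  have := hiD
  refine ⟨V, V.ι ≫ g, M, hMg, inferInstance, ⟨⟨v, hmem⟩, ?_⟩, hMfg, iD ≪≫ iV,
    inferInstanceAs (IsMonHom (iD.hom ≫ iV.hom))⟩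
  show g (q.left _) = f t'
  rw [← Scheme.Hom.comp_apply, Over.w q]
  show f (U.ι ((U : Scheme.{u}).fromSpecResidueField t _)) = f t'
  rw [Scheme.fromSpecResidueField_apply]
  rfl

end Groth.Reductive2.MTEtaleSplit
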