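import Groth.Agent.Reductive2.MTEtaleSplit
import Groth.Agent.Reductive.BaseChangeMT
import Groth.Agent.EtaleBase.TopInvarianceClosed
import Groth.Agent.FlatMor2.NilBaseChange
import Groth.Agent.GrpschAbsch.EtaleFiber
import Groth.Agent.AlgSp2.SmoothDescent

/-!
Finite étale groups of multiplicative type lift uniquely along surjective closed immersions.
-/

set_option autoImplicit false
universe u

open CategoryTheory CategoryTheory.Limits MonoidalCategory CartesianMonoidalCategory MonObj AlgebraicGeometry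
open Groth.Reductive Groth.Reductive.FreeDiag

noncomputable section

namespace Groth.Reductive2.MTLift

open CentralTorsion

variable {S S₀ : Scheme.{u}} (i₀ : S₀ ⟶ S) [IsClosedImmersion i₀] [Surjective i₀]

theorem isFinite_of_bc (H : Over S) [LocallyOfFiniteType H.hom] [IsFinite (Red.bc i₀ H).hom] :
    IsFinite H.hom := by
  have hS : MoreMor.IsThickening i₀ := ⟨‹_›, ‹_›⟩
  have hc := IsPullback.of_hasPullback H.hom i₀
  have : IsIntegralHom (pullback.snd H.hom i₀) := inferInstanceAs (IsIntegralHom (Red.bc i₀ H).hom)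
  have := (Groth.FlatMor2.isIntegralHom_iff_of_thickening
    (Groth.FlatMor2.isThickening_of_isPullback hS hc) hS hc.w).mp this
  exact (IsFinite.iff_isIntegralHom_and_locallyOfFiniteType H.hom).mpr ⟨this, inferInstance⟩

theorem etale_of_bc (H : Over S) [Flat H.hom] [LocallyOfFinitePresentation H.hom] [Etale (Red.bc i₀ H).hom] :
    Etale H.hom := by
  refine Groth.GrpschAbsch.etale_of_etale_fiber H.hom fun s => ?_
  obtain ⟨s₀, rfl⟩ := i₀.surjective s
  let r := i₀.residueFieldMap s₀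
  have : IsIso r := by
    rw [ConcreteCategory.isIso_iff_bijective]
    refine ⟨r.hom.injective, fun z => ?_⟩
    obtain ⟨t, rfl⟩ := S₀.residue_surjective s₀ z
    obtain ⟨t', rfl⟩ := i₀.stalkMap_surjective s₀ t
    exact ⟨S.residue _ t', congr($(Scheme.residue_residueFieldMap i₀ s₀) t')⟩
  have h1 : Spec.map r ≫ S.fromSpecResidueField (i₀ s₀) = S₀.fromSpecResidueField s₀ ≫ i₀ :=
    i₀.SpecMap_residueFieldMap_fromSpecResidueField s₀
  let d : Spec (S.residueField (i₀ s₀)) ⟶ S₀ := inv (Spec.map r) ≫ S₀.fromSpecResidueField s₀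
  have hd : d ≫ i₀ = S.fromSpecResidueField (i₀ s₀) := by
    rw [Category.assoc, ← h1, IsIso.inv_hom_id_assoc]
  let k : pullback H.hom (S.fromSpecResidueField (i₀ s₀)) ⟶ (Red.bc i₀ H).left :=
    pullback.lift (pullback.fst _ _) (pullback.snd _ _ ≫ d)
      (by rw [Category.assoc, hd]; exact pullback.condition)
  have hsq : IsPullback k (pullback.snd H.hom (S.fromSpecResidueField (i₀ s₀))) (pullback.snd H.hom i₀) d := by
    refine IsPullback.of_right ?_ (pullback.lift_snd _ _ _) (IsPullback.of_hasPullback H.hom i₀)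
    rw [hd, show k ≫ pullback.fst H.hom i₀ = pullback.fst _ _ from pullback.lift_fst _ _ _]
    exact IsPullback.of_hasPullback _ _
  exact MorphismProperty.of_isPullback hsq (inferInstanceAs (Etale (Red.bc i₀ H).hom))

theorem mono_bc {A B : Over S} (f : A ⟶ B) [Mono f] : Mono ((Over.pullback i₀).map f) := inferInstance

/-- Étale schemes lift. -/
theorem exists_lift (X₀ : Over S₀) [Etale X₀.hom] :
    ∃ X : Over S, Etale X.hom ∧ Nonempty (Red.bc i₀ X ≅ X₀) := by
  have := Groth.EtaleBase.TopInv.isEquivalence_bc_closed i₀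
  let X := (EtCoh.bc i₀).objPreimage (Scheme.Etale.mk X₀.hom)
  let e := (EtCoh.bc i₀).objObjPreimageIso (Scheme.Etale.mk X₀.hom)
  exact ⟨Over.mk X.hom, X.prop, ⟨Over.isoMk ((Scheme.Etale.forget S₀ ⋙ Over.forget S₀).mapIso e)
    (MorphismProperty.Over.w e.hom)⟩⟩

theorem existsUnique_map (X Y : Over S) [Etale X.hom] (f₀ : Red.bc i₀ Y ⟶ Red.bc i₀ X) :
    ∃! f : Y ⟶ X, (Over.pullback i₀).map f = f₀ :=
  (Groth.EtaleBase.pullback_hom_bijective i₀ X Y).existsUnique f₀

theorem isMonHom_of_map {A B : Over S} [GrpObj A] [GrpObj B] [Etale B.hom] (f : A ⟶ B)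
    [IsMonHom ((Over.pullback i₀).map f)] : IsMonHom f := Groth.AlgGrp1.isMonHom_of_points _ fun Z a b =>
  (Groth.EtaleBase.pullback_hom_bijective i₀ B Z).1 (by
    show (Over.pullback i₀).map ((a * b) ≫ f) = (Over.pullback i₀).map ((a ≫ f) * (b ≫ f))
    rw [map_mul', Functor.map_comp, Functor.map_comp, Functor.map_comp, map_mul', MonObj.mul_comp])

/-- Étale group schemes lift. -/
theorem exists_grp_lift (H₀ : Over S₀) [GrpObj H₀] [Etale H₀.hom] :
    ∃ (H : Over S) (_ : GrpObj H), Etale H.hom ∧ ∃ e : Red.bc i₀ H ≅ H₀, IsMonHom e.hom := by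
  obtain ⟨H, hH, ⟨e⟩⟩ := exists_lift i₀ H₀
  let F : (Over S)ᵒᵖ ⥤ GrpCat.{u} := (Over.pullback i₀).op ⋙ yonedaGrpObj H₀
  let α : (F ⋙ CategoryTheory.forget GrpCat).RepresentableBy H :=
    { homEquiv := fun {Z} => (Equiv.ofBijective _ (Groth.EtaleBase.pullback_hom_bijective i₀ H Z)).trans
        e.homToEquiv
      homEquiv_comp := fun {Z Z'} g f => by
        show (Over.pullback i₀).map (g ≫ f) ≫ e.hom = (Over.pullback i₀).map g ≫ (Over.pullback i₀).map f ≫ e.hom
        rw [Functor.map_comp, Category.assoc] }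
  let gH := GrpObj.ofRepresentableBy H F α
  have hmul : ∀ {Z : Over S} (a b : Z ⟶ H), (Over.pullback i₀).map (a * b) ≫ e.hom =
      ((Over.pullback i₀).map a ≫ e.hom) * ((Over.pullback i₀).map b ≫ e.hom) := fun {Z} a b =>
    ((yonedaGrpObjIsoOfRepresentableBy H F α).hom.app (Opposite.op Z)).hom.map_mul a b
  refine ⟨H, gH, hH, e, Groth.AlgGrp1.isMonHom_of_points _ fun Z₀ x y => ?_⟩
  have hx : ∀ z : Z₀ ⟶ Red.bc i₀ H, z = (Over.mapPullbackAdj i₀).unit.app Z₀ ≫
      (Over.pullback i₀).map (qPt i₀ z) := fun z => by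
    exact (((Over.mapPullbackAdj i₀).homEquiv Z₀ H).apply_symm_apply z).symm
  have hq : qPt i₀ (x * y) = qPt i₀ x * qPt i₀ y := map_mul (bcPointEquiv i₀ H Z₀) x y
  conv_lhs => rw [hx (x * y), hq]
  rw [Category.assoc, hmul, MonObj.comp_mul, ← Category.assoc, ← hx x, ← Category.assoc, ← hx y]

/-- A lift of a finite étale group of multiplicative type is of multiplicative type. -/
theorem isMultTypeFT_lift (H : Over S) [GrpObj H] [Etale H.hom] (H₀ : Over S₀) [GrpObj H₀]
    [IsFinite H₀.hom] [Smooth H₀.hom] (h₀ : SGA3x.IsMultTypeFT H₀) (e : Red.bc i₀ H ≅ H₀) [IsMonHom e.hom] :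
    SGA3x.IsMultTypeFT H := by
  have key : ∀ s : S, ∃ (T : Scheme.{u}) (f : T ⟶ S) (M : Type) (_ : AddCommGroup M), Etale f ∧
      s ∈ Set.range f.base ∧ AddGroup.FG M ∧ ∃ i : Red.DS T M ≅ Red.bc f H, IsMonHom i.hom := by
    intro s
    obtain ⟨s₀, rfl⟩ := i₀.surjective s
    obtain ⟨T₀, f₀, M, hMg, hf₀, ⟨t₀, ht₀⟩, hMfg, i, hi⟩ := MTEtaleSplit.exists_etale_split H₀ h₀ s₀
    have : Etale (Over.mk f₀).hom := hf₀
    obtain ⟨T, hT, ⟨eT⟩⟩ := exists_lift i₀ (Over.mk f₀)
    let jT : T₀ ⟶ T.left := eT.inv.left ≫ pullback.fst T.hom i₀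
    have hjT : jT ≫ T.hom = f₀ ≫ i₀ := by
      rw [Category.assoc, pullback.condition, ← Category.assoc]
      exact congrArg (· ≫ i₀) (Over.w eT.inv)
    have : IsIso eT.inv.left := inferInstanceAs (IsIso ((Over.forget _).map eT.inv))
    have : IsClosedImmersion jT := inferInstance
    have : Surjective jT := inferInstance
    -- the trivialisation over `T₀`
    let HT := Red.bc T.hom H
    obtain ⟨c₁, hc₁⟩ := exists_bc_comp_iso H jT T.hom
    obtain ⟨c₂, hc₂⟩ := exists_bc_comp_iso H f₀ i₀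
    obtain ⟨iD, hiD⟩ := HomDual.exists_bc_ds (S := T.left) jT M
    have : IsMonHom ((Over.pullback f₀).mapIso e).hom := by
      show IsMonHom ((Over.pullback f₀).map e.hom)
      infer_instance
    obtain ⟨c, hc⟩ : ∃ c : Red.bc jT HT ≅ Red.bc (f₀ ≫ i₀) H, IsMonHom c.hom := hjT ▸ ⟨c₁, hc₁⟩
    let i' : Red.bc jT (Red.DS T.left M) ≅ Red.bc jT HT :=
      iD.symm ≪≫ i ≪≫ ((Over.pullback f₀).mapIso e).symm ≪≫ c₂ ≪≫ c.symm
    have : IsMonHom i'.hom := by
      simp only [i', Iso.trans_hom, Iso.symm_hom]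
      infer_instance
    have hDS : Etale (Red.DS T.left M).hom := by
      obtain ⟨h1, h2⟩ := Groth.Reductive.flat_lfp_of_multTypeFT (Red.DS T.left M)
        (isMultTypeFT_DS hMfg) Groth.AlgSp2.flat_descendsAlong inferInstance
      have : Etale (Red.bc jT (Red.DS T.left M)).hom := by
        have : IsIso i'.hom.left := inferInstanceAs (IsIso ((Over.forget _).map i'.hom))
        have : Etale HT.hom := inferInstanceAs (Etale (pullback.snd H.hom T.hom))
        have : Etale (Red.bc jT HT).hom := inferInstanceAs (Etale (pullback.snd HT.hom jT))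
        exact (congrArg (fun φ => Etale φ) (Over.w i'.hom)).mp inferInstance
      exact etale_of_bc jT _
    have : Etale HT.hom := inferInstanceAs (Etale (pullback.snd H.hom T.hom))
    obtain ⟨ψ, hψ, -⟩ := existsUnique_map jT HT (Red.DS T.left M) i'.hom
    obtain ⟨ψ', hψ', -⟩ := existsUnique_map jT (Red.DS T.left M) HT i'.inv
    beta_reduce at hψ hψ'
    have e₁ : ψ ≫ ψ' = 𝟙 _ := (Groth.EtaleBase.pullback_hom_bijective jT _ _).1 (by
      show (Over.pullback jT).map _ = (Over.pullback jT).map _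
      rw [Functor.map_comp, hψ, hψ', Iso.hom_inv_id, CategoryTheory.Functor.map_id])
    have e₂ : ψ' ≫ ψ = 𝟙 _ := (Groth.EtaleBase.pullback_hom_bijective jT _ _).1 (by
      show (Over.pullback jT).map _ = (Over.pullback jT).map _
      rw [Functor.map_comp, hψ, hψ', Iso.inv_hom_id, CategoryTheory.Functor.map_id])
    have : IsMonHom ((Over.pullback jT).map ψ) := by rw [hψ]; infer_instance
    refine ⟨T.left, T.hom, M, hMg, hT, ⟨jT t₀, ?_⟩, hMfg, ⟨ψ, ψ', e₁, e₂⟩, isMonHom_of_map jT ψ⟩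
    rw [← Scheme.Hom.comp_apply, hjT, Scheme.Hom.comp_apply]
    exact congrArg i₀ ht₀
  choose T f M hMg hf hmem hfg i hi using key
  let F : (∐ T) ⟶ S := Sigma.desc f
  have : Etale F := IsZariskiLocalAtSource.sigmaDesc hf
  have : Surjective F := ⟨fun s => by
    obtain ⟨t, ht⟩ := hmem s
    exact ⟨Sigma.ι T s t, by rw [← Scheme.Hom.comp_apply, Sigma.ι_desc]; exact ht⟩⟩
  refine ⟨∐ T, F, inferInstance, inferInstance,
    fun V hV => Groth.Pi1Desc.IsCover.exists_isCompact_image_eq F hV, fun x => ?_⟩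
  obtain ⟨⟨s, y⟩, rfl⟩ := (sigmaMk T).surjective x
  refine ⟨(Sigma.ι T s).opensRange, ⟨y, (sigmaMk_mk T s y).symm⟩, M s, hMg s, hfg s, ?_⟩
  let j : ((Sigma.ι T s).opensRange : Scheme.{u}) ⟶ T s := (Sigma.ι T s).isoOpensRange.inv
  have hj : j ≫ f s = (Sigma.ι T s).opensRange.ι ≫ F := by
    rw [← Iso.cancel_iso_hom_left (Sigma.ι T s).isoOpensRange]
    simp [j, F]
  letI := hMg s
  haveI := hi s
  obtain ⟨k, hk⟩ := exists_trivialisation_comp H j (f s) (i s)
  revert k hk
  rw [hj]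
  intro k hk
  haveI := hk
  exact ⟨(Grp.mkIso' k).symm⟩

end Groth.Reductive2.MTLift
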