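import Groth.Agent.Reductive2.RankOneCell
import Groth.Agent.Reductive2.TorusBasic

/-!
Bruhat decomposition on geometric points of a rank-one system, and the centraliser of the coroot.
-/

set_option autoImplicit false
universe u

open CategoryTheory AlgebraicGeometry

noncomputable section

namespace Groth.Reductive

namespace RankOne

variable {R Γ T : Type*} [CommRing R] [Group Γ] [Group T] (𝒮 : RankOne R Γ T)

/-- The torus part of the action of the Weyl element. -/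
abbrev σ (t : T) : T := (𝒮.h (𝒮.a t))⁻¹ * t

lemma τ_mul_w (t : T) (x : Rˣ) : 𝒮.τ t * 𝒮.w x = 𝒮.w x * 𝒮.τ (𝒮.σ t) := by
  have h := 𝒮.w_torus t (-x)
  rw [w_neg, inv_inv] at h
  rw [σ, map_mul, map_inv, ← h]
  simp [mul_assoc]

lemma P_mul_τ (q : R) (t : T) : 𝒮.P q * 𝒮.τ t = 𝒮.τ t * 𝒮.P (↑(𝒮.a t)⁻¹ * q) := by
  rw [conjP, Units.mul_inv_cancel_left]

lemma M_eq_PwP (x : Rˣ) : 𝒮.M (-↑x⁻¹) = 𝒮.P (-↑x) * 𝒮.w x * 𝒮.P (-↑x) := by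
  simp [w, ← P_inv, mul_assoc]

/-- The two Bruhat cells `T P` and `P w T P`. -/
def InBruhat (g : Γ) : Prop :=
  (∃ t r, g = 𝒮.τ t * 𝒮.P r) ∨ ∃ q t r, g = 𝒮.P q * 𝒮.w 1 * (𝒮.τ t * 𝒮.P r)

variable {𝒮}

lemma inBruhat_P_mul {g : Γ} (hg : 𝒮.InBruhat g) (q : R) : 𝒮.InBruhat (𝒮.P q * g) := by
  rcases hg with ⟨t, r, rfl⟩ | ⟨q', t, r, rfl⟩
  · exact .inl ⟨t, ↑(𝒮.a t)⁻¹ * q + r, by rw [P_add, ← mul_assoc, P_mul_τ, mul_assoc]⟩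
  · exact .inr ⟨q + q', t, r, by rw [P_add]; simp only [mul_assoc]⟩

lemma inBruhat_τ_mul {g : Γ} (hg : 𝒮.InBruhat g) (s : T) : 𝒮.InBruhat (𝒮.τ s * g) := by
  rcases hg with ⟨t, r, rfl⟩ | ⟨q, t, r, rfl⟩
  · exact .inl ⟨s * t, r, by rw [map_mul, mul_assoc]⟩
  · refine .inr ⟨𝒮.a s * q, 𝒮.σ s * t, r, ?_⟩
    calc 𝒮.τ s * (𝒮.P q * 𝒮.w 1 * (𝒮.τ t * 𝒮.P r))
        = (𝒮.τ s * 𝒮.P q) * 𝒮.w 1 * (𝒮.τ t * 𝒮.P r) := by simp only [mul_assoc]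
      _ = 𝒮.P (𝒮.a s * q) * (𝒮.τ s * 𝒮.w 1) * (𝒮.τ t * 𝒮.P r) := by
          rw [conjP]; simp only [mul_assoc]
      _ = _ := by rw [τ_mul_w]; simp only [map_mul, map_inv, mul_assoc]

variable (H : ∀ (x : Rˣ) (r : R), 𝒮.w x * 𝒮.P r * (𝒮.w x)⁻¹ = 𝒮.M (-(↑x⁻¹ * ↑x⁻¹ * r)))
  (hfield : ∀ r : R, r ≠ 0 → IsUnit r)

include H hfield

lemma inBruhat_w_mul {g : Γ} (hg : 𝒮.InBruhat g) : 𝒮.InBruhat (𝒮.w 1 * g) := by
  rcases hg with ⟨t, r, rfl⟩ | ⟨q, t, r, rfl⟩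
  · exact .inr ⟨0, t, r, by rw [P_zero, one_mul]⟩
  · by_cases hq : q = 0
    · subst hq
      refine .inl ⟨𝒮.h (-1) * t, r, ?_⟩
      rw [P_zero, one_mul, ← mul_assoc, 𝒮.w_mul_w 1 1 (-1) (by simp), map_mul, mul_assoc]
    obtain ⟨x, hx⟩ := hfield q hq
    have h1 : 𝒮.w 1 * 𝒮.P q * 𝒮.w 1 = 𝒮.P (-↑x⁻¹) * 𝒮.w x⁻¹ * (𝒮.P (-↑x⁻¹) * 𝒮.τ (𝒮.h (-1))) := by
      have h2 := H 1 q
      rw [inv_one, Units.val_one, one_mul, one_mul, ← hx] at h2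
      have h3 := 𝒮.M_eq_PwP x⁻¹
      rw [inv_inv] at h3
      calc 𝒮.w 1 * 𝒮.P q * 𝒮.w 1 = (𝒮.w 1 * 𝒮.P q * (𝒮.w 1)⁻¹) * (𝒮.w 1 * 𝒮.w 1) := by
            simp [mul_assoc]
        _ = _ := by
            rw [← hx, h2, h3, 𝒮.w_mul_w 1 1 (-1) (by simp)]
            simp only [mul_assoc]
    have hB : 𝒮.InBruhat (𝒮.P (-↑x⁻¹) * 𝒮.τ (𝒮.h (-1)) * (𝒮.τ t * 𝒮.P r)) := by
      rw [mul_assoc]
      exact inBruhat_P_mul (inBruhat_τ_mul (.inl ⟨t, r, rfl⟩) _) _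
    obtain ⟨t', r', e⟩ : ∃ t' r', 𝒮.P (-↑x⁻¹) * 𝒮.τ (𝒮.h (-1)) * (𝒮.τ t * 𝒮.P r) = 𝒮.τ t' * 𝒮.P r' :=
      ⟨𝒮.h (-1) * t, ↑(𝒮.a (𝒮.h (-1) * t))⁻¹ * -↑x⁻¹ + r, by
        rw [mul_assoc, ← mul_assoc (𝒮.τ _), ← map_mul, ← mul_assoc, P_mul_τ, P_add, mul_assoc]⟩
    refine .inr ⟨-↑x⁻¹, 𝒮.σ (𝒮.h (-1)) * 𝒮.σ (𝒮.h (-1)) * 𝒮.σ (𝒮.h x⁻¹) * t', r', ?_⟩
    have h4 : 𝒮.w x⁻¹ = 𝒮.w 1 * 𝒮.τ (𝒮.σ (𝒮.h x⁻¹)) := by
      rw [← τ_mul_w, ← w_mul, mul_one]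
    calc 𝒮.w 1 * (𝒮.P q * 𝒮.w 1 * (𝒮.τ t * 𝒮.P r))
        = (𝒮.w 1 * 𝒮.P q * 𝒮.w 1) * (𝒮.τ t * 𝒮.P r) := by simp only [mul_assoc]
      _ = 𝒮.P (-↑x⁻¹) * 𝒮.w x⁻¹ * (𝒮.τ t' * 𝒮.P r') := by rw [h1, ← e]; simp only [mul_assoc]
      _ = _ := by
        have hs : 𝒮.σ (𝒮.h (-1)) * 𝒮.σ (𝒮.h (-1)) = 1 := by
          simp only [σ, a_h, neg_mul_neg, one_mul, map_one, inv_one]
          rw [← map_mul, neg_mul_neg, one_mul, map_one]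
        rw [hs, one_mul, h4]
        simp only [map_mul, map_inv, mul_assoc]

lemma inBruhat_M_mul {g : Γ} (hg : 𝒮.InBruhat g) (s : R) : 𝒮.InBruhat (𝒮.M s * g) := by
  by_cases hs : s = 0
  · subst hs; rwa [M_zero, one_mul]
  obtain ⟨x, hx⟩ := hfield s hs
  have h3 := 𝒮.M_eq_PwP (-x⁻¹)
  rw [inv_neg, inv_inv, Units.val_neg, neg_neg, hx] at h3
  have hw : 𝒮.w (-x⁻¹) = 𝒮.τ (𝒮.h (-x⁻¹)) * 𝒮.w 1 := by rw [← w_mul, mul_one]
  rw [h3, hw]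
  simp only [mul_assoc]
  exact inBruhat_P_mul (inBruhat_τ_mul (inBruhat_w_mul H hfield (inBruhat_P_mul hg _)) _) _

lemma inBruhat_cell_mul {g : Γ} (hg : 𝒮.InBruhat g) (y x : R) (t : T) :
    𝒮.InBruhat (𝒮.M y * 𝒮.τ t * 𝒮.P x * g) := by
  simp only [mul_assoc]
  exact inBruhat_M_mul H hfield (inBruhat_τ_mul (inBruhat_P_mul hg _) _) _

end RankOne

open MonoidalCategory CartesianMonoidalCategory MonObj GrpObj Groth.Reductive2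

variable {S : Scheme.{u}}

/-- Functions on the spectrum of a field. -/
lemma isUnit_of_ne_zero_field (K : Type u) [Field K] (p : Spec (CommRingCat.of K) ⟶ S)
    {r : Γ((Over.mk p).left, ⊤)} (hr : r ≠ 0) : IsUnit r :=
  by
    let e := (Scheme.ΓSpecIso (CommRingCat.of K)).commRingCatIsoToRingEquiv
    have h : IsUnit (show K from e r) := IsUnit.mk0 _ fun h ↦ hr ((map_eq_zero_iff _ e.injective).mp h)
    simpa using h.map e.symm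

lemma exists_unit_pow_ne_one (K : Type u) [Field K] [IsAlgClosed K] (p : Spec (CommRingCat.of K) ⟶ S)
    {N : ℕ} (hN : N ≠ 0) : ∃ v : Γ((Over.mk p).left, ⊤)ˣ, v ^ N ≠ 1 := by
  classical
  let e : K ≃+* Γ((Over.mk p).left, ⊤) := (Scheme.ΓSpecIso (CommRingCat.of K)).symm.commRingCatIsoToRingEquiv
  obtain ⟨c, hc⟩ := Infinite.exists_notMem_finset
    (insert (0 : K) (Polynomial.nthRootsFinset N (1 : K)))
  rw [Finset.mem_insert, not_or, Polynomial.mem_nthRootsFinset (Nat.pos_of_ne_zero hN)] at hc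
  refine ⟨Units.map e.toMonoidHom (Units.mk0 c hc.1), fun h ↦ hc.2 ?_⟩
  have h' : e c ^ N = 1 := congrArg Units.val h
  rwa [← map_pow, map_eq_one_iff _ e.injective] at h'

section System

variable {G T : Over S} [GrpObj G] [GrpObj T] (i : T ⟶ G) [IsMonHom i]
  (α : T ⟶ Red.Gm S) [IsMonHom α] (pp pm : Red.Ga S ⟶ G) [IsMonHom pp] [IsMonHom pm]
  (hpp : ∀ (X : Over S) (t : X ⟶ T) (x : X ⟶ Red.Ga S), ∃ x' : X ⟶ Red.Ga S,
    x' ≫ pp = (t ≫ i) * (x ≫ pp) * (t ≫ i)⁻¹ ∧ Red.gaFn x' = Red.gmFn (t ≫ α) * Red.gaFn x)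
  (hpm : ∀ (X : Over S) (t : X ⟶ T) (y : X ⟶ Red.Ga S), ∃ y' : X ⟶ Red.Ga S,
    y' ≫ pm = (t ≫ i) * (y ≫ pm) * (t ≫ i)⁻¹ ∧ Red.gaFn y' * Red.gmFn (t ≫ α) = Red.gaFn y)
  (hΩ : IsOpenImmersion (((pm ⊗ₘ i) ⊗ₘ pp) ≫ (μ[G] ▷ G) ≫ μ[G]).left)
  (hG : Red.IsReductive G)
  (av : Red.Gm S ⟶ T) [IsMonHom av] (h2 : av ≫ α = (𝟙 (Red.Gm S)) ^ 2)
  (hF : ∀ (X : Over S) (x y : X ⟶ Red.Ga S), IsUnit (1 + Red.gaFn x * Red.gaFn y) →
    ∃ (x' y' : X ⟶ Red.Ga S) (z : X ⟶ Red.Gm S), Red.gmFn z = 1 + Red.gaFn x * Red.gaFn y ∧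
      Red.gaFn x' * Red.gmFn z = Red.gaFn x ∧ Red.gaFn y' * Red.gmFn z = Red.gaFn y ∧
      (x ≫ pp) * (y ≫ pm) = (y' ≫ pm) * (z ≫ av ≫ i) * (x' ≫ pp))

local notation "𝒮" => rankOneOfPoints i α pp pm hpp hpm av h2 hF

lemma comp_τ {X Y : Over S} (q : Y ⟶ X) (t : X ⟶ T) : q ≫ (𝒮 X).τ t = (𝒮 Y).τ (q ≫ t) :=
  (Category.assoc q t i).symm

lemma cell_eq_system {X : Over S} (y : X ⟶ Red.Ga S) (t : X ⟶ T) (x : X ⟶ Red.Ga S) :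
    (y ≫ pm) * (t ≫ i) * (x ≫ pp) = (𝒮 X).M (Red.gaFn y) * (𝒮 X).τ t * (𝒮 X).P (Red.gaFn x) := by
  rw [comp_eq_gaMk_comp y, comp_eq_gaMk_comp x]; rfl

include hΩ in
lemma system_cell_inj {X : Over S} {y y' x x' : Γ(X.left, ⊤)} {t t' : X ⟶ T}
    (h : (𝒮 X).M y * (𝒮 X).τ t * (𝒮 X).P x = (𝒮 X).M y' * (𝒮 X).τ t' * (𝒮 X).P x') :
    y = y' ∧ t = t' ∧ x = x' := by
  obtain ⟨e1, e2, e3⟩ := cell_inj hΩ (h : (gaMk X y ≫ pm) * (t ≫ i) * (gaMk X x ≫ pp) =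
    (gaMk X y' ≫ pm) * (t' ≫ i) * (gaMk X x' ≫ pp))
  exact ⟨by simpa using congrArg Red.gaFn e1, e2, by simpa using congrArg Red.gaFn e3⟩

include hΩ hG in
/-- Bruhat decomposition on geometric points. -/
theorem bruhat (K : Type u) [Field K] [IsAlgClosed K] {p : Spec (CommRingCat.of K) ⟶ S}
    (g : Over.mk p ⟶ G) : (𝒮 (Over.mk p)).InBruhat g := by
  have : IsAffineHom G.hom := hG.1
  obtain ⟨g₁, g₂, ⟨y, t, x, rfl⟩, ⟨y', t', x', rfl⟩, rfl⟩ := exists_eq_cell_mul_cell hΩ hG K g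
  rw [cell_eq_system i α pp pm hpp hpm av h2 hF, cell_eq_system i α pp pm hpp hpm av h2 hF]
  have H := conj_w_P i α pp pm hpp hpm av h2 hF (X := Over.mk p)
  have hf : ∀ r : Γ((Over.mk p).left, ⊤), r ≠ 0 → IsUnit r := fun r hr ↦ isUnit_of_ne_zero_field K p hr
  refine RankOne.inBruhat_cell_mul H hf ?_ _ _ _
  rw [← _root_.mul_one ((𝒮 (Over.mk p)).M _ * _ * _)]
  exact RankOne.inBruhat_cell_mul H hf (.inl ⟨1, 0, by rw [map_one, RankOne.P_zero, _root_.one_mul]⟩) _ _ _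

include hΩ hG in
/-- The centraliser of a non-zero multiple of the coroot is the torus. -/
theorem exists_eq_torus_of_commute (hT : Red.IsTorus T) (n : ℤ) (hn : n ≠ 0) {X : Over S} (g : X ⟶ G)
    (hg : ∀ (X' : Over S) (q : X' ⟶ X) (v : Γ(X'.left, ⊤)ˣ),
      (q ≫ g) * (𝒮 X').τ ((𝒮 X').h (v ^ n)) = (𝒮 X').τ ((𝒮 X').h (v ^ n)) * (q ≫ g)) :
    ∃ t : X ⟶ T, t ≫ i = g := by
  have : IsAffineHom G.hom := hG.1
  have hcell : InCell i pp pm g := by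
    refine inCell_of_geomPts hΩ g fun K _ _ p a ↦ ?_
    set 𝒦 := 𝒮 (Over.mk p) with h𝒦
    rcases bruhat i α pp pm hpp hpm hΩ hG av h2 hF K (a ≫ g) with ⟨t, r, e⟩ | ⟨q, t, r, e⟩
    · refine ⟨1, t, gaMk _ r, ?_⟩
      rw [MonObj.one_comp, _root_.one_mul, e]; rfl
    exfalso
    obtain ⟨v, hv⟩ := exists_unit_pow_ne_one K p (N := 4 * n.natAbs) (by omega)
    set u := v ^ n with hu
    have hu4 : (u * u) * (u * u) ≠ 1 := fun h ↦ hv (by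
      have h' : v ^ (4 * n) = 1 := by rw [← h, hu, ← zpow_add, ← zpow_add]; congr 1; ring
      rcases Int.natAbs_eq n with h1 | h1
      · rwa [h1, ← Nat.cast_ofNat, ← Nat.cast_mul, zpow_natCast] at h'
      · rw [h1, mul_neg, zpow_neg, inv_eq_one, ← Nat.cast_ofNat, ← Nat.cast_mul, zpow_natCast] at h'
        exact h')
    have hc := hg (Over.mk p) a v
    rw [← hu, e] at hc
    set c := 𝒦.τ (𝒦.h u) with hcdef
    have hcomm : ∀ s : Over.mk p ⟶ T, c * 𝒦.τ s = 𝒦.τ s * c := fun s ↦ by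
      rw [hcdef, ← map_mul, torus_mul_comm hT, map_mul]
    have hcP : ∀ r : Γ((Over.mk p).left, ⊤), c * 𝒦.P r = 𝒦.P (↑(u * u) * r) * c := fun r ↦ by
      rw [hcdef, RankOne.conjP, RankOne.a_h]
    have hcw : c * 𝒦.w 1 = 𝒦.w 1 * 𝒦.τ (𝒦.h (u * u))⁻¹ * c := by
      rw [map_inv, ← RankOne.w_mul_right, _root_.mul_one]
      have := 𝒦.conj_w (𝒦.h u) 1
      rw [RankOne.a_h, _root_.mul_one] at this
      exact mul_inv_eq_iff_eq_mul.mp this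
    have key : 𝒦.P q * 𝒦.w 1 * (𝒦.τ t * 𝒦.P r) =
        𝒦.P (↑(u * u) * q) * 𝒦.w 1 * (𝒦.τ ((𝒦.h (u * u))⁻¹ * t) * 𝒦.P (↑(u * u) * r)) := by
      apply mul_right_cancel (b := c)
      rw [hc, map_mul]
      simp only [_root_.mul_assoc]
      rw [← _root_.mul_assoc c, hcP, _root_.mul_assoc, ← _root_.mul_assoc c (𝒦.w 1), hcw]
      simp only [_root_.mul_assoc]
      rw [← _root_.mul_assoc c, hcomm, _root_.mul_assoc, hcP]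
    have hw1 : ∀ d, (𝒦.w 1)⁻¹ * 𝒦.P d * 𝒦.w 1 = 𝒦.M (-d) := fun d ↦ by
      have := conj_w_P i α pp pm hpp hpm av h2 hF (X := Over.mk p) (-1) d
      rw [RankOne.w_neg, _root_.inv_inv] at this
      simpa using this
    have key2 : 𝒦.M (-(q - ↑(u * u) * q)) * 𝒦.τ t * 𝒦.P r =
        𝒦.M 0 * 𝒦.τ ((𝒦.h (u * u))⁻¹ * t) * 𝒦.P (↑(u * u) * r) := by
      have e' := congrArg ((𝒦.w 1)⁻¹ * 𝒦.P (-(↑(u * u) * q)) * ·) key
      have hq : q - ↑(u * u) * q = -(↑(u * u) * q) + q := by ring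
      rw [RankOne.M_zero, _root_.one_mul, ← hw1, hq, RankOne.P_add]
      refine Eq.trans ?_ (e'.trans ?_)
      · simp only [_root_.mul_assoc]
      · rw [← RankOne.P_inv]
        simp only [_root_.mul_assoc, inv_mul_cancel_left]
    obtain ⟨-, et, -⟩ := system_cell_inj i α pp pm hpp hpm hΩ av h2 hF key2
    have : 𝒦.h (u * u) = 1 := inv_eq_one.mp (mul_eq_right.mp et.symm)
    exact hu4 (by rw [← RankOne.a_h 𝒦 (u * u), this, ← map_one 𝒦.h, RankOne.a_h, _root_.mul_one])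
  obtain ⟨y, t, x, rfl⟩ := hcell
  refine ⟨t, ?_⟩
  have h0 : y = 1 ∧ x = 1 := by
    suffices ∀ (U : Over S) (j : U ⟶ X), IsAffine U.left → Red.gaFn (j ≫ y) = 0 ∧ Red.gaFn (j ≫ x) = 0 by
      constructor <;> refine hom_ext_affine fun U j hU ↦ gaFn_injective ?_ <;>
        rw [MonObj.comp_one, gaFn_one]
      exacts [(this U j hU).1, (this U j hU).2]
    intro U j hU
    obtain ⟨X₁, X₂, q₁, k, z, _, _, -, hinj, hu, -⟩ := exists_generic (X := U)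
      (Polynomial.X * (Polynomial.X ^ (2 * n.natAbs) - 1))
      ⟨2 * n.natAbs + 1, by simp [Polynomial.coeff_X_mul, Polynomial.coeff_X_pow_self, Polynomial.coeff_one, hn]⟩
    simp only [Polynomial.eval₂_mul, Polynomial.eval₂_X, Polynomial.eval₂_sub, Polynomial.eval₂_pow,
      Polynomial.eval₂_one, IsUnit.mul_iff] at hu
    obtain ⟨⟨v, hv⟩, hu⟩ := hu
    set ρ := k ≫ q₁
    set 𝒳 := 𝒮 X₂
    set u := v ^ n with hu'
    have hone : IsUnit ((↑(u * u) : Γ(X₂.left, ⊤)) - 1) := by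
      rw [← hv, ← Units.val_pow_eq_pow_val] at hu
      rcases Int.natAbs_eq n with h1 | h1
      · rwa [hu', ← zpow_add, h1, ← Nat.cast_add, zpow_natCast, ← two_mul]
      · have h3 : (↑(u * u) : Γ(X₂.left, ⊤)) - 1 =
            -(↑(v ^ (2 * n.natAbs))⁻¹ * (↑(v ^ (2 * n.natAbs)) - 1)) := by
          rw [mul_sub, Units.inv_mul, _root_.mul_one, neg_sub, hu', ← zpow_add, h1, ← neg_add, zpow_neg,
            ← Nat.cast_add, zpow_natCast, ← two_mul, Int.natAbs_neg, Int.natAbs_natCast]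
        rw [h3]
        exact ((Units.isUnit _).mul hu).neg
    have hc := hg X₂ (ρ ≫ j) v
    rw [MonObj.comp_mul, MonObj.comp_mul, ← Category.assoc, ← Category.assoc, ← Category.assoc] at hc
    rw [cell_eq_system i α pp pm hpp hpm av h2 hF] at hc
    set c := 𝒳.τ (𝒳.h u) with hcdef
    set s := (ρ ≫ j) ≫ t
    set a := Red.gaFn ((ρ ≫ j) ≫ y)
    set b := Red.gaFn ((ρ ≫ j) ≫ x)
    have e : 𝒳.M a * 𝒳.τ s * 𝒳.P b = 𝒳.M (↑(u * u)⁻¹ * a) * 𝒳.τ s * 𝒳.P (↑(u * u) * b) := by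
      apply mul_right_cancel (b := c)
      rw [hc, ← _root_.mul_assoc, ← _root_.mul_assoc, hcdef, RankOne.conjM, RankOne.a_h,
        _root_.mul_assoc (𝒳.M _) (𝒳.τ _) (𝒳.τ s), ← map_mul, torus_mul_comm hT, map_mul]
      simp only [_root_.mul_assoc]
      rw [RankOne.conjP, RankOne.a_h]
    obtain ⟨ea, -, eb⟩ := system_cell_inj i α pp pm hpp hpm hΩ av h2 hF e
    refine ⟨hinj ?_, hinj ?_⟩ <;> rw [map_zero, ← gaFn_comp, ← Category.assoc]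
    · refine hone.mul_right_eq_zero.mp ?_
      rw [sub_mul, _root_.one_mul]
      show (↑(u * u) : Γ(X₂.left, ⊤)) * a - a = 0
      nth_rewrite 1 [ea]
      rw [Units.mul_inv_cancel_left, sub_self]
    · refine hone.mul_right_eq_zero.mp ?_
      rw [sub_mul, _root_.one_mul, ← eb, sub_self]
  rw [h0.1, h0.2, MonObj.one_comp, MonObj.one_comp, _root_.one_mul, _root_.mul_one]

end System

end Groth.Reductive
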