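import Groth.Agent.Reductive2.RankOneConj
import Groth.Agent.GrpschAbsch.Basic
import Groth.Agent.GrpschAbsch.IdComp
import Groth.Agent.Reductive.MultGa

/-!
The cell `M T P` of a rank-one system: uniqueness of coordinates, detection on geometric points,
generation of the group, and extensionality of homomorphisms.
-/

set_option autoImplicit false
universe u

open CategoryTheory CategoryTheory.Limits MonoidalCategory CartesianMonoidalCategory MonObj GrpObj
  AlgebraicGeometry

noncomputable section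

namespace Groth.Reductive2

variable {S : Scheme.{u}} {G T : Over S} [GrpObj G] [GrpObj T] (i : T ⟶ G) (pp pm : Red.Ga S ⟶ G)

/-- The cell map `(y, t, x) ↦ pm y * i t * pp x`. -/
abbrev cell : (Red.Ga S ⊗ T) ⊗ Red.Ga S ⟶ G := ((pm ⊗ₘ i) ⊗ₘ pp) ≫ (μ[G] ▷ G) ≫ μ[G]

/-- A point of `G` lies in the cell. -/
def InCell {X : Over S} (g : X ⟶ G) : Prop :=
  ∃ (y : X ⟶ Red.Ga S) (t : X ⟶ T) (x : X ⟶ Red.Ga S), (y ≫ pm) * (t ≫ i) * (x ≫ pp) = g

lemma comp_cell {X : Over S} (y : X ⟶ Red.Ga S) (t : X ⟶ T) (x : X ⟶ Red.Ga S) :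
    lift (lift y t) x ≫ cell i pp pm = (y ≫ pm) * (t ≫ i) * (x ≫ pp) := by
  rw [Hom.mul_def, Hom.mul_def]
  simp only [cell, lift_map_assoc, lift_map, lift_whiskerRight_assoc]

lemma comp_cell' {X : Over S} (a : X ⟶ (Red.Ga S ⊗ T) ⊗ Red.Ga S) : InCell i pp pm (a ≫ cell i pp pm) := by
  refine ⟨a ≫ fst _ _ ≫ fst _ _, a ≫ fst _ _ ≫ snd _ _, a ≫ snd _ _, ?_⟩
  rw [← comp_cell]
  congr 1
  apply CartesianMonoidalCategory.hom_ext
  · apply CartesianMonoidalCategory.hom_ext <;> simp
  · simp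

variable {i pp pm} (hΩ : IsOpenImmersion (cell i pp pm).left)

include hΩ in
lemma cell_inj {X : Over S} {y y' : X ⟶ Red.Ga S} {t t' : X ⟶ T} {x x' : X ⟶ Red.Ga S}
    (h : (y ≫ pm) * (t ≫ i) * (x ≫ pp) = (y' ≫ pm) * (t' ≫ i) * (x' ≫ pp)) : y = y' ∧ t = t' ∧ x = x' := by
  rw [← comp_cell, ← comp_cell] at h
  have := hΩ
  have e : lift (lift y t) x = lift (lift y' t') x' :=
    Over.OverMorphism.ext ((cancel_mono (cell i pp pm).left).mp (congrArg CommaMorphism.left h))
  exact ⟨by simpa using congrArg (· ≫ fst _ _ ≫ fst _ _) e, by simpa using congrArg (· ≫ fst _ _ ≫ snd _ _) e,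
    by simpa using congrArg (· ≫ snd _ _) e⟩

include hΩ in
lemma inCell_of_range {X : Over S} {g : X ⟶ G}
    (h : Set.range g.left ⊆ Set.range (cell i pp pm).left) : InCell i pp pm g := by
  have := hΩ
  let l : X.left ⟶ ((Red.Ga S ⊗ T) ⊗ Red.Ga S).left := IsOpenImmersion.lift (cell i pp pm).left g.left h
  have hl : l ≫ (cell i pp pm).left = g.left := IsOpenImmersion.lift_fac _ _ _
  have hw : l ≫ ((Red.Ga S ⊗ T) ⊗ Red.Ga S).hom = X.hom := by
    rw [← Over.w (cell i pp pm), reassoc_of% hl, Over.w]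
  convert comp_cell' i pp pm (Over.homMk l hw : X ⟶ _)
  exact (Over.OverMorphism.ext hl).symm

lemma range_subset_of_inCell {X : Over S} {g : X ⟶ G} (h : InCell i pp pm g) :
    Set.range g.left ⊆ Set.range (cell i pp pm).left := by
  obtain ⟨y, t, x, rfl⟩ := h
  rw [← comp_cell]
  rintro _ ⟨a, rfl⟩
  exact ⟨_, rfl⟩

include hΩ in
/-- Membership in the cell may be checked on geometric points. -/
theorem inCell_of_geomPts {X : Over S} (g : X ⟶ G)
    (h : ∀ (K : Type u) [Field K] [IsAlgClosed K] (p : Spec (CommRingCat.of K) ⟶ S) (a : Over.mk p ⟶ X),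
      InCell i pp pm (a ≫ g)) : InCell i pp pm g := by
  refine inCell_of_range hΩ ?_
  rintro _ ⟨x, rfl⟩
  let K := AlgebraicClosure (X.left.residueField x)
  let a : Over.mk (Red.geomPt x ≫ X.hom) ⟶ X := Over.homMk (Red.geomPt x) rfl
  have hx : (Red.geomPt x).base (IsLocalRing.closedPoint K) = x := by
    simp only [Red.geomPt]
    exact Scheme.fromSpecResidueField_apply x _
  obtain ⟨z, hz⟩ := range_subset_of_inCell (h K _ a) ⟨IsLocalRing.closedPoint K, rfl⟩
  refine ⟨z, hz.trans ?_⟩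
  show g.left.base ((Red.geomPt x).base _) = _
  rw [hx]

section Generation

/-- The product of two points of the cell. -/
abbrev cell₂ : ((Red.Ga S ⊗ T) ⊗ Red.Ga S) ⊗ ((Red.Ga S ⊗ T) ⊗ Red.Ga S) ⟶ G :=
  (cell i pp pm ⊗ₘ cell i pp pm) ≫ μ[G]

variable (hG : Red.IsReductive G)

include hΩ hG in
lemma flat_lft_cell₂ :
    Flat (cell₂ (i := i) (pp := pp) (pm := pm)).left ∧ LocallyOfFiniteType (cell₂ (i := i) (pp := pp) (pm := pm)).left := by
  have := hΩ
  have := hG.2.1
  have : Flat (μ[G]).left := Groth.GrpschAbsch.mul_left_mem @Flat G inferInstance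
  have : LocallyOfFiniteType (μ[G]).left := Groth.GrpschAbsch.mul_left_mem @LocallyOfFiniteType G inferInstance
  have e : (cell i pp pm ⊗ₘ cell i pp pm) = cell i pp pm ▷ _ ≫ G ◁ cell i pp pm := tensorHom_def _ _
  have h1 := Groth.GrpschAbsch.whiskerRight_left_mem @IsOpenImmersion (cell i pp pm) ((Red.Ga S ⊗ T) ⊗ Red.Ga S) hΩ
  have h2 := Groth.GrpschAbsch.whiskerLeft_left_mem @IsOpenImmersion G (cell i pp pm) hΩ
  rw [cell₂, e]
  simp only [Over.comp_left, Category.assoc]
  exact ⟨inferInstance, inferInstance⟩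

include hΩ hG in
lemma surjective_cell₂ [IsMonHom i] [IsMonHom pp] [IsMonHom pm] :
    Surjective (cell₂ (i := i) (pp := pp) (pm := pm)).left := by
  have := hΩ
  have := hG.2.1
  have := (flat_lft_cell₂ hΩ hG).1
  refine ⟨fun g ↦ ?_⟩
  set s : S := G.hom.base g
  let K := AlgebraicClosure (S.residueField s)
  let p : Spec (CommRingCat.of K) ⟶ S := Red.geomPt s
  let GK : Over (Spec (CommRingCat.of K)) := Red.bc p G
  have hconn : ConnectedSpace GK.left := (hG.2.2 s).2.2.1
  have : Smooth GK.hom := (hG.2.2 s).2.1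
  have : IrreducibleSpace GK.left := Groth.GrpschAbsch.irreducibleSpace_of_connected_lft GK
  have := LocallyOfFiniteType.jacobsonSpace GK.hom
  let Z : Over S := (Over.map p).obj (𝟙_ (Over (Spec (CommRingCat.of K))))
  let E := Groth.Reductive.bcPointEquiv p G (𝟙_ (Over (Spec (CommRingCat.of K))))
  let π : GK.left ⟶ G.left := pullback.fst G.hom p
  have hE : ∀ u : 𝟙_ _ ⟶ GK, (E u).left = u.left ≫ π := fun u ↦ by
    simp [E, Groth.Reductive.bcPointEquiv, Adjunction.homEquiv_counit]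
    rfl
  have hEb : ∀ (u : 𝟙_ _ ⟶ GK) (c : ↑(𝟙_ (Over (Spec (CommRingCat.of K)))).left),
      (E u).left.base c = π.base (u.left.base c) := fun u c ↦ by rw [hE]; rfl
  -- rational points of the open cell
  let U : Set GK.left := π.base ⁻¹' Set.range (cell i pp pm).left
  have hU : IsOpen U := (IsOpenImmersion.isOpen_range _).preimage π.continuous
  have hUpt : ∀ u : 𝟙_ _ ⟶ GK, u.left.base (IsLocalRing.closedPoint K) ∈ U → InCell i pp pm (E u) := fun u hu ↦
    inCell_of_range hΩ (by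
      rintro _ ⟨c, rfl⟩
      rw [Subsingleton.elim (α := Spec (CommRingCat.of K)) c (IsLocalRing.closedPoint K), hEb]
      exact hu)
  have hone : (1 : 𝟙_ _ ⟶ GK).left.base (IsLocalRing.closedPoint K) ∈ U := by
    show π.base ((1 : 𝟙_ _ ⟶ GK).left.base (IsLocalRing.closedPoint K)) ∈ Set.range (cell i pp pm).left
    rw [← hEb, map_one]
    refine range_subset_of_inCell ⟨1, 1, 1, ?_⟩ ⟨_, rfl⟩
    simp [MonObj.one_comp]
  -- every closed point is a product
  have hclosed : ∀ z : GK.left, IsClosed ({z} : Set GK.left) →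
      π.base z ∈ Set.range (cell₂ (i := i) (pp := pp) (pm := pm)).left := by
    intro z hz
    let γ : 𝟙_ _ ⟶ GK := Over.homMk _ ((pointEquivClosedPoint GK.hom).symm ⟨z, hz⟩).2
    let φ : GK ⟶ GK := (toUnit GK ≫ γ) * (𝟙 GK)⁻¹
    have hφ : ∀ u : 𝟙_ _ ⟶ GK, u ≫ φ = γ * u⁻¹ := fun u ↦ by
      simp [φ, MonObj.comp_mul, GrpObj.comp_inv]
    have hne : (φ.left.base ⁻¹' U).Nonempty := by
      refine ⟨γ.left.base (IsLocalRing.closedPoint K), ?_⟩
      show (γ ≫ φ).left.base _ ∈ U
      rw [hφ, mul_inv_cancel]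
      exact hone
    obtain ⟨w, ⟨hwU, hwφ⟩, hwc⟩ := nonempty_inter_closedPoints
      (IrreducibleSpace.isIrreducible_univ (X := GK.left) |>.2 U (φ.left.base ⁻¹' U) hU
        (hU.preimage φ.left.continuous) ⟨_, trivial, hone⟩ ⟨_, trivial, hne.some_mem⟩ |>.mono fun a ha ↦ ha.2)
      (hU.isLocallyClosed.inter (hU.preimage φ.left.continuous).isLocallyClosed)
    let u : 𝟙_ _ ⟶ GK := Over.homMk _ ((pointEquivClosedPoint GK.hom).symm ⟨w, hwc⟩).2
    have hu : u.left.base (IsLocalRing.closedPoint K) = w := pointOfClosedPoint_apply GK.hom w hwc _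
    obtain ⟨y, t, x, hb⟩ := hUpt u (hu ▸ hwU)
    obtain ⟨y', t', x', hγb⟩ := hUpt (u ≫ φ) (by
      show φ.left.base (u.left.base _) ∈ U
      rw [hu]; exact hwφ)
    have hEγ : E γ = lift (lift (lift y' t') x') (lift (lift y t) x) ≫ cell₂ (i := i) (pp := pp) (pm := pm) := by
      rw [cell₂, lift_map_assoc, comp_cell, comp_cell, hb, hγb, hφ, ← Hom.mul_def, ← map_mul, inv_mul_cancel_right]
    have hzγ : γ.left.base (IsLocalRing.closedPoint K) = z := pointOfClosedPoint_apply GK.hom z hz _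
    rw [← hzγ, ← hEb, hEγ]
    exact ⟨_, rfl⟩
  obtain ⟨z, hz, -⟩ := Scheme.Pullback.exists_preimage_pullback (f := G.hom) (g := p) g
    (IsLocalRing.closedPoint K) (by simp only [p, Red.geomPt, s]; exact (Scheme.fromSpecResidueField_apply _ _).symm)
  by_contra hg
  let V : Set GK.left := π.base ⁻¹' Set.range (cell₂ (i := i) (pp := pp) (pm := pm)).left
  have hV : IsOpen V := by
    have := (flat_lft_cell₂ hΩ hG).2
    refine IsOpen.preimage π.continuous ?_
    have hlfp : LocallyOfFinitePresentation (cell₂ (i := i) (pp := pp) (pm := pm)).left := by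
      have : LocallyOfFinitePresentation (μ[G]).left :=
        Groth.GrpschAbsch.mul_left_mem @LocallyOfFinitePresentation G inferInstance
      have e : (cell i pp pm ⊗ₘ cell i pp pm) = cell i pp pm ▷ _ ≫ G ◁ cell i pp pm := tensorHom_def _ _
      have h1 := Groth.GrpschAbsch.whiskerRight_left_mem @IsOpenImmersion (cell i pp pm) ((Red.Ga S ⊗ T) ⊗ Red.Ga S) hΩ
      have h2 := Groth.GrpschAbsch.whiskerLeft_left_mem @IsOpenImmersion G (cell i pp pm) hΩ
      rw [cell₂, e]
      simp only [Over.comp_left, Category.assoc]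
      infer_instance
    exact (Scheme.Hom.isOpenMap _).isOpen_range
  obtain ⟨w, hw, hwc⟩ := nonempty_inter_closedPoints (Z := Vᶜ) ⟨z, fun h ↦ hg (by
    obtain ⟨a, ha⟩ := h; exact ⟨a, ha.trans hz⟩)⟩ hV.isClosed_compl.isLocallyClosed
  exact hw (hclosed w hwc)

include hΩ hG in
/-- Geometric points of `G` are products of two points of the cell. -/
theorem exists_eq_cell_mul_cell [IsMonHom i] [IsMonHom pp] [IsMonHom pm] (K : Type u) [Field K] [IsAlgClosed K]
    {p : Spec (CommRingCat.of K) ⟶ S} (a : Over.mk p ⟶ G) :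
    ∃ g₁ g₂ : Over.mk p ⟶ G, InCell i pp pm g₁ ∧ InCell i pp pm g₂ ∧ a = g₁ * g₂ := by
  set m := cell₂ (i := i) (pp := pp) (pm := pm) with hm
  have := surjective_cell₂ hΩ hG
  have := (flat_lft_cell₂ hΩ hG).2
  let q : pullback m.left a.left ⟶ Spec (CommRingCat.of K) := pullback.snd m.left a.left
  have : LocallyOfFiniteType q := MorphismProperty.pullback_snd _ _ inferInstance
  have : Surjective q := MorphismProperty.pullback_snd _ _ inferInstance
  have := LocallyOfFiniteType.jacobsonSpace q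
  obtain ⟨w₀, -⟩ := q.surjective (IsLocalRing.closedPoint K)
  obtain ⟨w, -, hw⟩ := nonempty_inter_closedPoints (Z := (Set.univ : Set ↑(pullback m.left a.left)))
    ⟨w₀, trivial⟩ isOpen_univ.isLocallyClosed
  set σ := ((pointEquivClosedPoint q).symm ⟨w, hw⟩).1 with hσ
  have hσq : σ ≫ q = 𝟙 _ := ((pointEquivClosedPoint q).symm ⟨w, hw⟩).2
  let b : Over.mk p ⟶ _ := Over.homMk (σ ≫ pullback.fst m.left a.left) (by
    rw [Category.assoc, ← Over.w m, pullback.condition_assoc, Over.w a]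
    exact (reassoc_of% hσq) p)
  have hb : b ≫ m = a := Over.OverMorphism.ext (by
    show (σ ≫ pullback.fst _ _) ≫ m.left = a.left
    rw [Category.assoc, pullback.condition, reassoc_of% hσq])
  refine ⟨b ≫ fst _ _ ≫ cell i pp pm, b ≫ snd _ _ ≫ cell i pp pm, ?_, ?_, ?_⟩
  · rw [← Category.assoc]; exact comp_cell' i pp pm _
  · rw [← Category.assoc]; exact comp_cell' i pp pm _
  · have e : b ≫ (cell i pp pm ⊗ₘ cell i pp pm) =
        lift (b ≫ fst _ _ ≫ cell i pp pm) (b ≫ snd _ _ ≫ cell i pp pm) := by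
      apply CartesianMonoidalCategory.hom_ext <;> simp
    rw [← hb, hm, cell₂, Hom.mul_def, ← Category.assoc, e]

include hΩ hG in
/-- Homomorphisms agreeing on the torus and both root groups are equal. -/
theorem hom_ext_cell [IsMonHom i] [IsMonHom pp] [IsMonHom pm] {H : Over S} [GrpObj H] (f g : G ⟶ H)
    [IsMonHom f] [IsMonHom g] (h1 : i ≫ f = i ≫ g) (h2 : pp ≫ f = pp ≫ g) (h3 : pm ≫ f = pm ≫ g) : f = g := by
  set m := cell₂ (i := i) (pp := pp) (pm := pm) with hm
  have := surjective_cell₂ hΩ hG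
  have := (flat_lft_cell₂ hΩ hG).1
  have := Flat.epi_of_flat_of_surjective m.left
  have hc : cell i pp pm ≫ f = cell i pp pm ≫ g := by
    rw [← Category.id_comp (cell i pp pm)]
    obtain ⟨y, t, x, e⟩ := comp_cell' i pp pm (𝟙 ((Red.Ga S ⊗ T) ⊗ Red.Ga S))
    rw [← e]
    simp only [MonObj.mul_comp, Category.assoc, h1, h2, h3]
  have hm' : m ≫ f = m ≫ g := by
    simp only [hm, cell₂, Category.assoc, IsMonHom.mul_hom, tensorHom_comp_tensorHom_assoc, hc]
  apply Over.OverMorphism.ext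
  rw [← cancel_epi m.left]
  exact congrArg CommaMorphism.left hm'

end Generation

end Groth.Reductive2
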