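import Groth.Agent.Reductive2.RankOneCell

/-!
Every geometric point of a rank-one group is a quotient of two points of the cell.
-/

set_option autoImplicit false
universe u

open CategoryTheory CategoryTheory.Limits MonoidalCategory CartesianMonoidalCategory MonObj GrpObj
  AlgebraicGeometry

noncomputable section

namespace Groth.Reductive2

variable {S : Scheme.{u}} {G T : Over S} [GrpObj G] [GrpObj T] {i : T ⟶ G} {pp pm : Red.Ga S ⟶ G}
  (hΩ : IsOpenImmersion (cell i pp pm).left) (hG : Red.IsReductive G)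

omit [GrpObj T] in
include hΩ in
lemma isOpenImmersion_comp_inv : IsOpenImmersion (cell i pp pm ≫ ι[G]).left := by
  have := hΩ
  have : IsIso ι[G] := inferInstance
  have : IsIso (ι[G]).left := inferInstanceAs (IsIso ((Over.forget S).map ι[G]))
  rw [Over.comp_left]
  infer_instance

/-- The quotient of two points of the cell. -/
abbrev cellDiv : ((Red.Ga S ⊗ T) ⊗ Red.Ga S) ⊗ ((Red.Ga S ⊗ T) ⊗ Red.Ga S) ⟶ G :=
  (cell i pp pm ⊗ₘ (cell i pp pm ≫ ι[G])) ≫ μ[G]


include hΩ hG in
lemma flat_lft_cellDiv :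
    Flat (cellDiv (i := i) (pp := pp) (pm := pm)).left ∧ LocallyOfFiniteType (cellDiv (i := i) (pp := pp) (pm := pm)).left := by
  have := hΩ
  have := hG.2.1
  have : Flat (μ[G]).left := Groth.GrpschAbsch.mul_left_mem @Flat G inferInstance
  have : LocallyOfFiniteType (μ[G]).left := Groth.GrpschAbsch.mul_left_mem @LocallyOfFiniteType G inferInstance
  have e : (cell i pp pm ⊗ₘ (cell i pp pm ≫ ι[G])) = cell i pp pm ▷ _ ≫ G ◁ (cell i pp pm ≫ ι[G]) :=
        MonoidalCategory.tensorHom_def _ _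
  have h1 := Groth.GrpschAbsch.whiskerRight_left_mem @IsOpenImmersion (cell i pp pm) ((Red.Ga S ⊗ T) ⊗ Red.Ga S) hΩ
  have h2 := Groth.GrpschAbsch.whiskerLeft_left_mem @IsOpenImmersion G (cell i pp pm ≫ ι[G]) (isOpenImmersion_comp_inv hΩ)
  rw [cellDiv, e, Over.comp_left, Over.comp_left, Category.assoc]
  exact ⟨inferInstance, inferInstance⟩

include hΩ hG in
lemma surjective_cellDiv [IsMonHom i] [IsMonHom pp] [IsMonHom pm] :
    Surjective (cellDiv (i := i) (pp := pp) (pm := pm)).left := by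
  have := hΩ
  have := hG.2.1
  have := (flat_lft_cellDiv hΩ hG).1
  refine ⟨fun g ↦ ?_⟩
  set s : S := G.hom.base g
  let K := AlgebraicClosure (S.residueField s)
  let p : Spec (CommRingCat.of K) ⟶ S := Red.geomPt s
  let GK : Over (Spec (CommRingCat.of K)) := Red.bc p G
  have hconn : ConnectedSpace GK.left := (hG.2.2 s).2.2.1
  have : Smooth GK.hom := (hG.2.2 s).2.1
  have : IrreducibleSpace GK.left := Groth.GrpschAbsch.irreducibleSpace_of_connected_lft GK
  have := LocallyOfFiniteType.jacobsonSpace GK.hom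
  let Z : Over S := (Over.map p).obj (𝟙_ (Over (Spec (CommRingCat.of K))))
  let E := Groth.Reductive.bcPointEquiv p G (𝟙_ (Over (Spec (CommRingCat.of K))))
  let π : GK.left ⟶ G.left := pullback.fst G.hom p
  have hE : ∀ u : 𝟙_ _ ⟶ GK, (E u).left = u.left ≫ π := fun u ↦ by
    simp [E, Groth.Reductive.bcPointEquiv, Adjunction.homEquiv_counit]
    rfl
  have hEb : ∀ (u : 𝟙_ _ ⟶ GK) (c : ↑(𝟙_ (Over (Spec (CommRingCat.of K)))).left),
      (E u).left.base c = π.base (u.left.base c) := fun u c ↦ by rw [hE]; rfl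
  -- rational points of the open cell
  let U : Set GK.left := π.base ⁻¹' Set.range (cell i pp pm).left
  have hU : IsOpen U := (IsOpenImmersion.isOpen_range _).preimage π.continuous
  have hUpt : ∀ u : 𝟙_ _ ⟶ GK, u.left.base (IsLocalRing.closedPoint K) ∈ U → InCell i pp pm (E u) := fun u hu ↦
    inCell_of_range hΩ (by
      rintro _ ⟨c, rfl⟩
      rw [Subsingleton.elim (α := Spec (CommRingCat.of K)) c (IsLocalRing.closedPoint K)]
      exact Set.mem_of_eq_of_mem (hEb u _) hu)
  have hone : (1 : 𝟙_ _ ⟶ GK).left.base (IsLocalRing.closedPoint K) ∈ U := by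
    show π.base ((1 : 𝟙_ _ ⟶ GK).left.base (IsLocalRing.closedPoint K)) ∈ Set.range (cell i pp pm).left
    refine Set.mem_of_eq_of_mem (hEb 1 _).symm ?_
    rw [map_one]
    refine range_subset_of_inCell ⟨1, 1, 1, ?_⟩ ⟨_, rfl⟩
    simp [MonObj.one_comp]
  -- every closed point is a product
  have hclosed : ∀ z : GK.left, IsClosed ({z} : Set GK.left) →
      π.base z ∈ Set.range (cellDiv (i := i) (pp := pp) (pm := pm)).left := by
    intro z hz
    let γ : 𝟙_ _ ⟶ GK := Over.homMk _ ((pointEquivClosedPoint GK.hom).symm ⟨z, hz⟩).2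
    let φ : GK ⟶ GK := (toUnit GK ≫ γ) * 𝟙 GK
    have hφ : ∀ u : 𝟙_ _ ⟶ GK, u ≫ φ = γ * u := fun u ↦ by
      simp [φ, MonObj.comp_mul]
    have hne : (φ.left.base ⁻¹' U).Nonempty := by
      refine ⟨(γ⁻¹ : 𝟙_ _ ⟶ GK).left.base (IsLocalRing.closedPoint K), ?_⟩
      show (γ⁻¹ ≫ φ).left.base _ ∈ U
      rw [hφ, mul_inv_cancel]
      exact hone
    obtain ⟨w, ⟨hwU, hwφ⟩, hwc⟩ := nonempty_inter_closedPoints
      (IrreducibleSpace.isIrreducible_univ (X := GK.left) |>.2 U (φ.left.base ⁻¹' U) hU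
        (hU.preimage φ.left.continuous) ⟨_, trivial, hone⟩ ⟨_, trivial, hne.some_mem⟩ |>.mono fun a ha ↦ ha.2)
      (hU.isLocallyClosed.inter (hU.preimage φ.left.continuous).isLocallyClosed)
    let u : 𝟙_ _ ⟶ GK := Over.homMk _ ((pointEquivClosedPoint GK.hom).symm ⟨w, hwc⟩).2
    have hu : u.left.base (IsLocalRing.closedPoint K) = w := pointOfClosedPoint_apply GK.hom w hwc _
    obtain ⟨y, t, x, hb⟩ := hUpt u (hu ▸ hwU)
    obtain ⟨y', t', x', hγb⟩ := hUpt (u ≫ φ) (by
      show φ.left.base (u.left.base _) ∈ U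
      rw [hu]; exact hwφ)
    have hEγ : E γ = lift (lift (lift y' t') x') (lift (lift y t) x) ≫ cellDiv (i := i) (pp := pp) (pm := pm) := by
      rw [cellDiv, lift_map_assoc, comp_cell, ← Category.assoc, comp_cell, ← Hom.inv_def, hb, hγb, hφ, ← Hom.mul_def, ← map_inv, ← map_mul, mul_inv_cancel_right]
    have hzγ : γ.left.base (IsLocalRing.closedPoint K) = z := pointOfClosedPoint_apply GK.hom z hz _
    rw [← hzγ]
    refine Set.mem_of_eq_of_mem (hEb γ _).symm ?_
    rw [hEγ]
    exact ⟨_, rfl⟩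
  obtain ⟨z, hz, -⟩ := Scheme.Pullback.exists_preimage_pullback (f := G.hom) (g := p) g
    (IsLocalRing.closedPoint K) (by simp only [p, Red.geomPt, s]; exact (Scheme.fromSpecResidueField_apply _ _).symm)
  by_contra hg
  let V : Set GK.left := π.base ⁻¹' Set.range (cellDiv (i := i) (pp := pp) (pm := pm)).left
  have hV : IsOpen V := by
    have := (flat_lft_cellDiv hΩ hG).2
    refine IsOpen.preimage π.continuous ?_
    have hlfp : LocallyOfFinitePresentation (cellDiv (i := i) (pp := pp) (pm := pm)).left := by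
      have : LocallyOfFinitePresentation (μ[G]).left :=
        Groth.GrpschAbsch.mul_left_mem @LocallyOfFinitePresentation G inferInstance
      have e : (cell i pp pm ⊗ₘ (cell i pp pm ≫ ι[G])) = cell i pp pm ▷ _ ≫ G ◁ (cell i pp pm ≫ ι[G]) :=
        MonoidalCategory.tensorHom_def _ _
      have h1 := Groth.GrpschAbsch.whiskerRight_left_mem @IsOpenImmersion (cell i pp pm) ((Red.Ga S ⊗ T) ⊗ Red.Ga S) hΩ
      have h2 := Groth.GrpschAbsch.whiskerLeft_left_mem @IsOpenImmersion G (cell i pp pm ≫ ι[G]) (isOpenImmersion_comp_inv hΩ)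
      rw [cellDiv, e, Over.comp_left, Over.comp_left, Category.assoc]
      infer_instance
    exact (Scheme.Hom.isOpenMap _).isOpen_range
  obtain ⟨w, hw, hwc⟩ := nonempty_inter_closedPoints (Z := Vᶜ) ⟨z, fun h ↦ hg (by
    obtain ⟨a, ha⟩ := h; exact ⟨a, ha.trans hz⟩)⟩ hV.isClosed_compl.isLocallyClosed
  exact hw (hclosed w hwc)

include hΩ hG in
/-- Geometric points of `G` are products of two points of the cell. -/
theorem exists_eq_cell_div_cell [IsMonHom i] [IsMonHom pp] [IsMonHom pm] (K : Type u) [Field K] [IsAlgClosed K]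
    {p : Spec (CommRingCat.of K) ⟶ S} (a : Over.mk p ⟶ G) :
    ∃ g₁ g₂ : Over.mk p ⟶ G, InCell i pp pm g₁ ∧ InCell i pp pm g₂ ∧ a = g₁ * g₂⁻¹ := by
  set m := cellDiv (i := i) (pp := pp) (pm := pm) with hm
  have := surjective_cellDiv hΩ hG
  have := (flat_lft_cellDiv hΩ hG).2
  let q : pullback m.left a.left ⟶ Spec (CommRingCat.of K) := pullback.snd m.left a.left
  have : LocallyOfFiniteType q := inferInstanceAs (LocallyOfFiniteType (pullback.snd m.left a.left))
  have : Surjective q := inferInstanceAs (Surjective (pullback.snd m.left a.left))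
  have := LocallyOfFiniteType.jacobsonSpace q
  obtain ⟨w₀, -⟩ := q.surjective (IsLocalRing.closedPoint K)
  obtain ⟨w, -, hw⟩ := nonempty_inter_closedPoints (Z := (Set.univ : Set ↑(pullback m.left a.left)))
    ⟨w₀, trivial⟩ isOpen_univ.isLocallyClosed
  set σ := ((pointEquivClosedPoint q).symm ⟨w, hw⟩).1 with hσ
  have hσq : σ ≫ q = 𝟙 _ := ((pointEquivClosedPoint q).symm ⟨w, hw⟩).2
  let b : Over.mk p ⟶ _ := Over.homMk (σ ≫ pullback.fst m.left a.left) (by
    rw [Category.assoc, ← Over.w m, pullback.condition_assoc, Over.w a]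
    exact (reassoc_of% hσq) p)
  have hb : b ≫ m = a := Over.OverMorphism.ext (by
    show (σ ≫ pullback.fst _ _) ≫ m.left = a.left
    rw [Category.assoc, pullback.condition, reassoc_of% hσq])
  refine ⟨b ≫ fst _ _ ≫ cell i pp pm, b ≫ snd _ _ ≫ cell i pp pm, ?_, ?_, ?_⟩
  · rw [← Category.assoc]; exact comp_cell' i pp pm _
  · rw [← Category.assoc]; exact comp_cell' i pp pm _
  · have e : b ≫ (cell i pp pm ⊗ₘ (cell i pp pm ≫ ι[G])) =
        lift (b ≫ fst _ _ ≫ cell i pp pm) ((b ≫ snd _ _ ≫ cell i pp pm) ≫ ι[G]) := by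
      apply CartesianMonoidalCategory.hom_ext <;> simp
    rw [← hb, hm, cellDiv, Hom.inv_def, Hom.mul_def, ← Category.assoc, e]

end Groth.Reductive2
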