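import Groth.Agent.Reductive2.RankOneWeight
import Groth.Agent.Reductive2.RankOneDiv

/-!
The centre of a rank-one group is the kernel of the root.
-/

set_option autoImplicit false
set_option linter.unusedSectionVars false
universe u

open CategoryTheory CategoryTheory.Limits MonoidalCategory CartesianMonoidalCategory MonObj GrpObj
  AlgebraicGeometry
open Groth.Reductive

noncomputable section

namespace Groth.Reductive2

variable {S : Scheme.{u}} {G T : Over S} [GrpObj G] [GrpObj T] {i : T ⟶ G} [IsMonHom i]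
  {α : T ⟶ Red.Gm S} [IsMonHom α] {pp pm : Red.Ga S ⟶ G} [IsMonHom pp] [IsMonHom pm]
  (hpp : ∀ (X : Over S) (t : X ⟶ T) (x : X ⟶ Red.Ga S), ∃ x' : X ⟶ Red.Ga S,
    x' ≫ pp = (t ≫ i) * (x ≫ pp) * (t ≫ i)⁻¹ ∧ Red.gaFn x' = Red.gmFn (t ≫ α) * Red.gaFn x)
  (hpm : ∀ (X : Over S) (t : X ⟶ T) (y : X ⟶ Red.Ga S), ∃ y' : X ⟶ Red.Ga S,
    y' ≫ pm = (t ≫ i) * (y ≫ pm) * (t ≫ i)⁻¹ ∧ Red.gaFn y' * Red.gmFn (t ≫ α) = Red.gaFn y)
  (hΩ : IsOpenImmersion (cell i pp pm).left) (hT : Red.IsTorus T) (hG : Red.IsReductive G)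

include hpp hpm hΩ hT hG in
/-- Points commuting with all points lie in the kernel of the root. -/
theorem exists_torus_of_central [Flat α.left] [Surjective α.left] {X : Over S} (g : X ⟶ G)
    (hg : ∀ (X' : Over S) (x : X' ⟶ X) (k : X' ⟶ G), (x ≫ g) * k = k * (x ≫ g)) :
    ∃ t : X ⟶ T, t ≫ i = g ∧ t ≫ α = 1 := by
  have hcell : InCell i pp pm g := by
    refine inCell_of_geomPts hΩ g fun K _ _ p a ↦ ?_
    obtain ⟨_, _, ⟨y, t, x, rfl⟩, ⟨y', t', x', rfl⟩, e⟩ := exists_eq_cell_div_cell hΩ hG K (a ≫ g)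
    have hc := fun k ↦ hg (Over.mk p) a k
    rw [eq_mul_inv_iff_mul_eq, ← _root_.mul_assoc, ← _root_.mul_assoc, hc] at e
    have e2 : a ≫ g = (y' ≫ pm)⁻¹ * ((y ≫ pm) * (t ≫ i) * (x ≫ pp)) * (x' ≫ pp)⁻¹ * (t' ≫ i)⁻¹ := by
      rw [← e]; simp [_root_.mul_assoc]
    obtain ⟨z, hz, -⟩ := hpp (Over.mk p) t' (x * x'⁻¹)
    refine ⟨y'⁻¹ * y, t * t'⁻¹, z, ?_⟩
    rw [e2, hz]
    simp only [MonObj.mul_comp, GrpObj.inv_comp]
    simp [_root_.mul_assoc]
  obtain ⟨y, t, x, rfl⟩ := hcell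
  have h0 : y = 1 ∧ x = 1 := by
    suffices ∀ (U : Over S) (j : U ⟶ X), IsAffine U.left → Red.gaFn (j ≫ y) = 0 ∧ Red.gaFn (j ≫ x) = 0 by
      constructor <;> refine hom_ext_affine fun U j hU ↦ gaFn_injective ?_ <;>
        rw [MonObj.comp_one, gaFn_one]
      exacts [(this U j hU).1, (this U j hU).2]
    intro U j hU
    obtain ⟨X₁, X₂, q₁, k, z, _, _, -, hinj, hu, -⟩ := exists_generic (X := U)
      (Polynomial.X * (Polynomial.X - 1)) ⟨2, by simp [Polynomial.coeff_X_mul, Polynomial.coeff_one]⟩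
    simp only [Polynomial.eval₂_mul, Polynomial.eval₂_X, Polynomial.eval₂_sub, Polynomial.eval₂_one,
      IsUnit.mul_iff] at hu
    obtain ⟨⟨v, hv⟩, hu⟩ := hu
    obtain ⟨X₃, q₂, s, _, _, hinj2, hs⟩ := exists_torusPt α v
    set ρ := (q₂ ≫ k ≫ q₁) ≫ j
    have hρ : Function.Injective (pull (q₂ ≫ k ≫ q₁)) := by
      rw [pull_comp]; exact hinj2.comp hinj
    set u := Units.map (pull q₂).toMonoidHom v
    have hu1 : IsUnit ((↑u : Γ(X₃.left, ⊤)) - 1) := by
      have := hu.map (pull q₂)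
      rwa [← hv, map_sub, map_one] at this
    have hc := hg X₃ ρ (s ≫ i)
    rw [MonObj.comp_mul, MonObj.comp_mul, ← Category.assoc, ← Category.assoc, ← Category.assoc,
      comp_eq_gaMk_comp (ρ ≫ y), comp_eq_gaMk_comp (ρ ≫ x)] at hc
    have e := (conj_cell hpp hpm hT s (ρ ≫ t) (Red.gaFn (ρ ≫ y)) (Red.gaFn (ρ ≫ x)) u hs).symm
    rw [← hc, mul_inv_cancel_right] at e
    obtain ⟨ey, -, ex⟩ := cell_inj hΩ e
    replace ey := congrArg Red.gaFn ey
    replace ex := congrArg Red.gaFn ex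
    simp only [gaFn_gaMk] at ey ex
    constructor <;> refine hρ ?_ <;> rw [map_zero, ← gaFn_comp, ← Category.assoc]
    · refine hu1.mul_right_eq_zero.mp ?_
      rw [Units.inv_mul_eq_iff_eq_mul] at ey
      rw [sub_mul, _root_.one_mul, ← ey, sub_self]
    · refine hu1.mul_right_eq_zero.mp ?_
      rw [sub_mul, _root_.one_mul, ex, sub_self]
  obtain ⟨rfl, rfl⟩ := h0
  have ht : ((1 : X ⟶ Red.Ga S) ≫ pm) * (t ≫ i) * ((1 : X ⟶ Red.Ga S) ≫ pp) = t ≫ i := by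
    simp [MonObj.one_comp]
  refine ⟨t, ht.symm, gmFn_injective ?_⟩
  obtain ⟨x', h1, h2⟩ := hpp X t (gaMk X 1)
  have hc := hg X (𝟙 X) (gaMk X 1 ≫ pp)
  rw [Category.id_comp, ht] at hc
  rw [hc, mul_inv_cancel_right] at h1
  have e : ((1 : X ⟶ Red.Ga S) ≫ pm) * ((1 : X ⟶ T) ≫ i) * (x' ≫ pp) =
      ((1 : X ⟶ Red.Ga S) ≫ pm) * ((1 : X ⟶ T) ≫ i) * (gaMk X 1 ≫ pp) := by rw [h1]
  obtain ⟨-, -, rfl⟩ := cell_inj hΩ e
  rw [gaFn_gaMk, _root_.mul_one] at h2
  rw [← h2, gmFn_one]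

include hpp hpm hΩ hT hG in
/-- The kernel of the root is central. -/
theorem central_of_torus {X : Over S} (t : X ⟶ T) (ht : t ≫ α = 1) (k : X ⟶ G) : (t ≫ i) * k = k * (t ≫ i) := by
  have := surjective_cell₂ hΩ hG
  have := (flat_lft_cell₂ hΩ hG).1
  set m := cell₂ (i := i) (pp := pp) (pm := pm) with hm
  let Z : Over S := Over.mk (pullback.fst k.left m.left ≫ X.hom)
  let q : Z ⟶ X := Over.homMk (pullback.fst k.left m.left) rfl
  let b : Z ⟶ _ := Over.homMk (pullback.snd k.left m.left) (by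
    show _ = pullback.fst _ _ ≫ X.hom
    rw [← Over.w k, pullback.condition_assoc, Over.w m])
  have hf : Flat q.left := inferInstanceAs (Flat (pullback.fst _ _))
  have hs : Surjective q.left := inferInstanceAs (Surjective (pullback.fst _ _))
  have := Flat.epi_of_flat_of_surjective q.left
  refine Over.OverMorphism.ext ((cancel_epi q.left).mp (congrArg CommaMorphism.left (?_ : q ≫ _ = q ≫ _)))
  have hk : q ≫ k = b ≫ m := Over.OverMorphism.ext pullback.condition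
  simp only [MonObj.comp_mul, hk, ← Category.assoc]
  have e : b ≫ m = (b ≫ fst _ _ ≫ cell i pp pm) * (b ≫ snd _ _ ≫ cell i pp pm) := by
    rw [hm, cell₂, Hom.mul_def, ← Category.assoc]
    congr 1
    apply CartesianMonoidalCategory.hom_ext <;> simp
  rw [e, ← Category.assoc b (fst _ _), ← Category.assoc b (snd _ _)]
  have htα : Red.gmFn ((q ≫ t) ≫ α) = ((1 : Γ(Z.left, ⊤)ˣ) : Γ(Z.left, ⊤)) := by
    rw [Category.assoc, ht, MonObj.comp_one, gmFn_one, Units.val_one]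
  have key : ∀ w : Z ⟶ G, InCell i pp pm w → ((q ≫ t) ≫ i) * w = w * ((q ≫ t) ≫ i) := by
    rintro w ⟨y, s, x, rfl⟩
    rw [comp_eq_gaMk_comp y, comp_eq_gaMk_comp x]
    have := conj_cell hpp hpm hT (q ≫ t) s (Red.gaFn y) (Red.gaFn x) 1 htα
    rw [inv_one, Units.val_one, _root_.one_mul, _root_.one_mul] at this
    exact mul_inv_eq_iff_eq_mul.mp this
  rw [← _root_.mul_assoc, key _ (comp_cell' i pp pm _), _root_.mul_assoc, key _ (comp_cell' i pp pm _), _root_.mul_assoc]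

end Groth.Reductive2
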