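import Groth.Agent.Reductive.RankOne
import Groth.Agent.Reductive2.AffPts

/-!
In a rank-one system the Weyl element exchanges the two one-parameter subgroups, on all points.
-/

set_option autoImplicit false
universe u

open CategoryTheory AlgebraicGeometry

noncomputable section

namespace Groth.Reductive

namespace RankOne

variable {R Γ T : Type*} [CommRing R] [Group Γ] [Group T] (𝒮 : RankOne R Γ T)

/-- Conjugation by the Weyl element, when the sum of the parameters is invertible. -/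
lemma conj_w_P_of (x v : Rˣ) (r : R) (hv : (v : R) = x + r) :
    𝒮.w x * 𝒮.P r * (𝒮.w x)⁻¹ = 𝒮.M (-(↑x⁻¹ * ↑x⁻¹ * r)) := by
  set v0 : Rˣ := v * x⁻¹ with hv0
  have e0 : (v0 : R) = 1 + r * ↑x⁻¹ := by
    rw [hv0]; push_cast; rw [hv, add_mul, Units.mul_inv]
  have h1 := 𝒮.rule r (↑x⁻¹) v0 e0
  set m : R := -↑x⁻¹ + ↑v0⁻¹ * ↑x⁻¹ with hm
  have e1 : ((v0⁻¹ : Rˣ) : R) = 1 + x * m := by
    rw [hm]
    linear_combination (1 - (↑v0⁻¹ : R)) * x.mul_inv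
  have h2 := 𝒮.rule x m v0⁻¹ e1
  rw [inv_inv] at h2
  have e2 : (v0 : R) * m = -(↑x⁻¹ * ↑x⁻¹ * r) := by
    rw [hm]
    linear_combination (↑x⁻¹ : R) * v0.mul_inv - (↑x⁻¹ : R) * e0
  have h3 : 𝒮.τ (𝒮.h v0⁻¹) * 𝒮.P ((v0 : R) * x) * 𝒮.τ (𝒮.h v0) = 𝒮.P (↑v0⁻¹ * (x : R)) := by
    rw [conjP, a_h, mul_assoc, ← map_mul, ← map_mul, inv_mul_cancel, map_one, map_one, mul_one]
    congr 1
    push_cast
    linear_combination ((↑v0⁻¹ : R) * x) * v0.inv_mul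
  have e3 : (↑v0⁻¹ : R) * x + (↑v0⁻¹ * r + -↑x) = 0 := by
    linear_combination (x : R) * v0.inv_mul - (↑v0⁻¹ * (x : R)) * e0 - (↑v0⁻¹ * r) * x.mul_inv
  calc 𝒮.w x * 𝒮.P r * (𝒮.w x)⁻¹
      = 𝒮.P x * (𝒮.M (-↑x⁻¹) * (𝒮.P x * 𝒮.P r * (𝒮.P x)⁻¹) * (𝒮.M (-↑x⁻¹))⁻¹) * (𝒮.P x)⁻¹ := by
        simp only [w, mul_inv_rev, mul_assoc]
    _ = 𝒮.P x * 𝒮.M (-↑x⁻¹) * (𝒮.P r * 𝒮.M ↑x⁻¹) * 𝒮.P (-↑x) := by
        rw [M_inv, neg_neg, P_inv, ← P_add, ← P_add, add_neg_cancel_comm]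
        simp only [mul_assoc]
    _ = 𝒮.P x * 𝒮.M m * 𝒮.τ (𝒮.h v0) * 𝒮.P (↑v0⁻¹ * r + -↑x) := by
        rw [h1, hm, M_add, P_add]; simp only [mul_assoc]
    _ = 𝒮.M (↑v0 * m) * (𝒮.τ (𝒮.h v0⁻¹) * 𝒮.P (↑v0 * x) * 𝒮.τ (𝒮.h v0)) *
          𝒮.P (↑v0⁻¹ * r + -↑x) := by
        rw [h2]; simp only [mul_assoc]
    _ = _ := by rw [h3, mul_assoc, ← P_add, e3, P_zero, mul_one, e2]

section Exchange

variable (H : ∀ (x : Rˣ) (r : R), 𝒮.w x * 𝒮.P r * (𝒮.w x)⁻¹ = 𝒮.M (-(↑x⁻¹ * ↑x⁻¹ * r)))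

include H

lemma conj_w_M (x : Rˣ) (s : R) : 𝒮.w x * 𝒮.M s * (𝒮.w x)⁻¹ = 𝒮.P (-(x * x * s)) := by
  have h := H (-x) (-(x * x * s))
  rw [w_neg, inv_inv] at h
  have e : -((↑(-x)⁻¹ : R) * ↑(-x)⁻¹ * -(x * x * s)) = s := by
    rw [inv_neg, Units.val_neg]
    linear_combination ((↑x⁻¹ : R) * x + 1) * s * x.inv_mul
  rw [e] at h
  rw [← h]
  simp [mul_assoc]

lemma w_mul_P (x : Rˣ) : 𝒮.w x * 𝒮.P x = 𝒮.M (-↑x⁻¹) * 𝒮.w x := by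
  have h := mul_inv_eq_iff_eq_mul.mp (H x x)
  rwa [mul_assoc (↑x⁻¹ : R), Units.inv_mul, mul_one] at h

lemma w_eq_MPM (x : Rˣ) : 𝒮.w x = 𝒮.M (-↑x⁻¹) * 𝒮.P x * 𝒮.M (-↑x⁻¹) := by
  have h := 𝒮.w_mul_P H x
  simp only [w, ← mul_assoc, mul_left_inj] at h
  exact h

lemma w_mul_P_cube (x : Rˣ) : (𝒮.w x * 𝒮.P x) ^ 3 = 1 := by
  have h2 : (𝒮.w x * 𝒮.P x) ^ 2 = 𝒮.M (-↑x⁻¹) * (𝒮.w x * 𝒮.w x) * 𝒮.P x := by
    rw [sq]; nth_rewrite 1 [𝒮.w_mul_P H x]; simp only [mul_assoc]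
  have hm1 : 𝒮.a (𝒮.h (-1)) = 1 := by rw [a_h, neg_mul_neg, one_mul]
  have hc : 𝒮.M (-↑x⁻¹) * 𝒮.τ (𝒮.h (-1)) = 𝒮.τ (𝒮.h (-1)) * 𝒮.M (-↑x⁻¹) := by
    rw [conjM, hm1]; simp
  have hww : 𝒮.w x * 𝒮.w x = 𝒮.τ (𝒮.h (-1)) := 𝒮.w_mul_w x x (-1) (neg_one_mul x)
  calc (𝒮.w x * 𝒮.P x) ^ 3
      = 𝒮.τ (𝒮.h (-1)) * ((𝒮.M (-↑x⁻¹) * 𝒮.P x * 𝒮.M (-↑x⁻¹)) * (𝒮.P x * 𝒮.M (-↑x⁻¹) * 𝒮.P x)) := by
        rw [pow_succ, h2, hww, hc]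
        conv_lhs => rw [show 𝒮.w x = 𝒮.M (-↑x⁻¹) * 𝒮.P x * 𝒮.M (-↑x⁻¹) from 𝒮.w_eq_MPM H x]
        simp only [mul_assoc]
    _ = 1 := by
        rw [← 𝒮.w_eq_MPM H x]
        show _ * (𝒮.w x * 𝒮.w x) = 1
        rw [hww, ← map_mul, ← map_mul, neg_mul_neg, one_mul, map_one, map_one]

end Exchange

end RankOne

open MonoidalCategory CartesianMonoidalCategory MonObj GrpObj Groth.Reductive2

variable {S : Scheme.{u}}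

@[simp] lemma comp_gaMk {X Y : Over S} (q : Y ⟶ X) (r : Γ(X.left, ⊤)) :
    q ≫ gaMk X r = gaMk Y (pull q r) := gaFn_injective (by simp [gaFn_comp])

@[simp] lemma comp_gmMk {X Y : Over S} (q : Y ⟶ X) (v : Γ(X.left, ⊤)ˣ) :
    q ≫ gmMk X v = gmMk Y (Units.map (pull q).toMonoidHom v) := gmFn_injective (by simp [gmFn_comp])

section System

variable {G T : Over S} [GrpObj G] [GrpObj T] (i : T ⟶ G) [IsMonHom i]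
  (α : T ⟶ Red.Gm S) [IsMonHom α] (pp pm : Red.Ga S ⟶ G) [IsMonHom pp] [IsMonHom pm]
  (hpp : ∀ (X : Over S) (t : X ⟶ T) (x : X ⟶ Red.Ga S), ∃ x' : X ⟶ Red.Ga S,
    x' ≫ pp = (t ≫ i) * (x ≫ pp) * (t ≫ i)⁻¹ ∧ Red.gaFn x' = Red.gmFn (t ≫ α) * Red.gaFn x)
  (hpm : ∀ (X : Over S) (t : X ⟶ T) (y : X ⟶ Red.Ga S), ∃ y' : X ⟶ Red.Ga S,
    y' ≫ pm = (t ≫ i) * (y ≫ pm) * (t ≫ i)⁻¹ ∧ Red.gaFn y' * Red.gmFn (t ≫ α) = Red.gaFn y)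
  (av : Red.Gm S ⟶ T) [IsMonHom av] (h2 : av ≫ α = (𝟙 (Red.Gm S)) ^ 2)
  (hF : ∀ (X : Over S) (x y : X ⟶ Red.Ga S), IsUnit (1 + Red.gaFn x * Red.gaFn y) →
    ∃ (x' y' : X ⟶ Red.Ga S) (z : X ⟶ Red.Gm S), Red.gmFn z = 1 + Red.gaFn x * Red.gaFn y ∧
      Red.gaFn x' * Red.gmFn z = Red.gaFn x ∧ Red.gaFn y' * Red.gmFn z = Red.gaFn y ∧
      (x ≫ pp) * (y ≫ pm) = (y' ≫ pm) * (z ≫ av ≫ i) * (x' ≫ pp))

local notation "𝒮" => rankOneOfPoints i α pp pm hpp hpm av h2 hF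

variable {X Y : Over S} (q : Y ⟶ X)

lemma comp_P (r : Γ(X.left, ⊤)) : q ≫ (𝒮 X).P r = (𝒮 Y).P (pull q r) := by
  show q ≫ gaMk X r ≫ pp = gaMk Y (pull q r) ≫ pp
  rw [← Category.assoc, comp_gaMk]

lemma comp_M (r : Γ(X.left, ⊤)) : q ≫ (𝒮 X).M r = (𝒮 Y).M (pull q r) := by
  show q ≫ gaMk X r ≫ pm = gaMk Y (pull q r) ≫ pm
  rw [← Category.assoc, comp_gaMk]

lemma comp_τh (v : Γ(X.left, ⊤)ˣ) :
    q ≫ (𝒮 X).τ ((𝒮 X).h v) = (𝒮 Y).τ ((𝒮 Y).h (Units.map (pull q).toMonoidHom v)) := by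
  show q ≫ (gmMk X v ≫ av) ≫ i = (gmMk Y _ ≫ av) ≫ i
  rw [← Category.assoc, ← Category.assoc, comp_gmMk]

lemma comp_w (x : Γ(X.left, ⊤)ˣ) :
    q ≫ (𝒮 X).w x = (𝒮 Y).w (Units.map (pull q).toMonoidHom x) := by
  simp only [RankOne.w, MonObj.comp_mul, comp_P, comp_M, map_neg]
  rfl

/-- The Weyl element exchanges the two root groups, for all parameters. -/
theorem conj_w_P [IsAffineHom G.hom] (x : Γ(X.left, ⊤)ˣ) (r : Γ(X.left, ⊤)) :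
    (𝒮 X).w x * (𝒮 X).P r * ((𝒮 X).w x)⁻¹ = (𝒮 X).M (-(↑x⁻¹ * ↑x⁻¹ * r)) := by
  refine hom_ext_affine fun U j hU ↦ ?_
  simp only [MonObj.comp_mul, GrpObj.comp_inv, comp_w, comp_P, comp_M, map_neg, map_mul]
  set xU := Units.map (pull j).toMonoidHom x
  obtain ⟨X₁, X₂, q₁, k, t, _, _, hk, -, hu, hσ⟩ := exists_generic (X := U)
    (Polynomial.X + Polynomial.C (xU : Γ(U.left, ⊤))) ⟨1, by simp⟩
  obtain ⟨σ, hσq, hσt⟩ := hσ (pull j r)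
  set x₁ := Units.map (pull q₁).toMonoidHom xU with hx₁
  obtain ⟨v, hv⟩ := hu
  have key : (𝒮 X₁).w x₁ * (𝒮 X₁).P t * ((𝒮 X₁).w x₁)⁻¹ = (𝒮 X₁).M (-(↑x₁⁻¹ * ↑x₁⁻¹ * t)) := by
    refine ext_of_injective k hk ?_
    simp only [MonObj.comp_mul, GrpObj.comp_inv, comp_w, comp_P, comp_M, map_neg, map_mul]
    refine ((𝒮 X₂).conj_w_P_of _ v _ ?_).trans ?_
    · rw [hv, Polynomial.eval₂_add, Polynomial.eval₂_X, Polynomial.eval₂_C, pull_comp_apply, add_comm]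
      rfl
    · rfl
  have h := congrArg (σ ≫ ·) key
  simp only [MonObj.comp_mul, GrpObj.comp_inv, comp_w, comp_P, comp_M, map_neg, map_mul] at h
  have ex : Units.map (pull σ).toMonoidHom x₁ = xU := Units.ext (by
    simp only [hx₁, Units.coe_map, RingHom.toMonoidHom_eq_coe, MonoidHom.coe_coe, ← pull_comp_apply, hσq, pull_id,
      RingHom.id_apply])
  have ex' : pull σ ↑x₁⁻¹ = ↑xU⁻¹ := by rw [← ex]; rfl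
  rw [ex, ex', hσt] at h
  exact h

end System

end Groth.Reductive
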