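import Groth.Agent.Reductive2.DiagFlat
import Groth.Agent.Reductive2.AffPts
import Groth.Agent.Reductive.TrivialLocus
import Groth.Agent.FlatMor2.FlatComp
import Groth.Agent.S11937

/-!
Characters of tori: local constancy on split tori, faithful flatness of fibrewise non-trivial characters.
-/

set_option autoImplicit false
universe u

open CategoryTheory CategoryTheory.Limits MonoidalCategory CartesianMonoidalCategory MonObj GrpObj
  AlgebraicGeometry
open Groth.Reductive Groth.Reductive.FreeDiag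

noncomputable section

namespace Groth.Reductive2

section Split

variable {B : Scheme.{u}} [IsAffine B] {M : Type} [AddCommGroup M]

/-- A natural multiplicative function on a split torus over an affine base is a character near each point. -/
theorem exists_chi_nhd (F : ∀ X : Over B, (X ⟶ Red.DS B M) → Γ(X.left, ⊤))
    (hnat : ∀ {X Y : Over B} (q : Y ⟶ X) (x : X ⟶ Red.DS B M), F Y (q ≫ x) = pull q (F X x))
    (hmul : ∀ (X : Over B) (x y : X ⟶ Red.DS B M), F X (x * y) = F X x * F X y)
    (hF1 : ∀ X : Over B, F X 1 = 1) (b : B) :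
    ∃ (V : B.Opens) (m : M), b ∈ V ∧ ∀ (X : Over B) (x : X ⟶ Red.DS B M), Set.range X.hom ⊆ (V : Set B) →
      F X x = dsVal x (Multiplicative.ofAdd m) := by
  classical
  have : IsAffine (𝟙_ (Over B)).left := inferInstanceAs (IsAffine B)
  let R : Type u := ↑Γ((𝟙_ (Over B)).left, ⊤)
  let ι₁ : R →+* MonoidAlgebra R (Multiplicative M) := MonoidAlgebra.singleOneRingHom
  let E := ext ι₁
  let u₀ : E ⟶ Red.DS B M := dsMk E (((Scheme.ΓSpecIso (CommRingCat.of _)).inv.hom.toMonoidHom).comp
    (MonoidAlgebra.of R (Multiplicative M)))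
  let e := (Scheme.ΓSpecIso (CommRingCat.of (MonoidAlgebra R (Multiplicative M)))).commRingCatIsoToRingEquiv
  set h : MonoidAlgebra R (Multiplicative M) := e (F E u₀)
  -- evaluation at a point
  have hev : ∀ (X : Over B) (x : X ⟶ Red.DS B M), F X x =
      h.coeff.sum fun m c ↦ pull (toUnit X) c * dsVal x m := by
    intro X x
    let ψ : MonoidAlgebra R (Multiplicative M) →+* Γ(X.left, ⊤) :=
      MonoidAlgebra.liftNCRingHom (pull (toUnit X)) (dsValHom x) (fun a b ↦ Commute.all _ _)
    have hψ : ∀ m c, ψ (MonoidAlgebra.single m c) = pull (toUnit X) c * dsVal x m := fun m c ↦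
      MonoidAlgebra.liftNC_single _ _ _ _
    obtain ⟨σ, -, hσ⟩ := exists_extLift ι₁ (toUnit X) ψ (RingHom.ext fun c ↦ by
      refine (hψ 1 c).trans ?_
      show _ * dsValHom x 1 = _
      rw [map_one, _root_.mul_one])
    have hx : σ ≫ u₀ = x := dsVal_ext fun m ↦ by
      rw [dsVal_comp, dsVal_dsMk]
      refine (hσ _).trans ?_
      rw [MonoidAlgebra.of_apply, hψ, map_one, _root_.one_mul]
    have h1 : F X x = ψ h := by
      rw [← hx, hnat, ← hσ h]
      refine congrArg (pull σ) ?_
      exact (e.symm_apply_apply _).symm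
    rw [h1]
    conv_lhs => rw [← MonoidAlgebra.sum_coeff_single h]
    simp only [Finsupp.sum, map_sum, hψ]
  -- the coefficients are orthogonal idempotents
  let E' := ext (MonoidAlgebra.singleOneRingHom : R →+* MonoidAlgebra R (Multiplicative (M × M)))
  let pr (φ : M →+ M × M) : E' ⟶ Red.DS B M := dsMk E' (((Scheme.ΓSpecIso (CommRingCat.of _)).inv.hom.toMonoidHom).comp
    ((MonoidAlgebra.of R (Multiplicative (M × M))).comp (AddMonoidHom.toMultiplicative φ)))
  let e' : Γ(E'.left, ⊤) ≃+* MonoidAlgebra R (Multiplicative (M × M)) :=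
    (Scheme.ΓSpecIso (CommRingCat.of (MonoidAlgebra R (Multiplicative (M × M))))).commRingCatIsoToRingEquiv
  have hval : ∀ (φ : M →+ M × M) m,
      e' (dsVal (pr φ) m) = MonoidAlgebra.single (AddMonoidHom.toMultiplicative φ m) (1 : R) := fun φ m ↦ by
    rw [dsVal_dsMk]
    exact e'.apply_symm_apply _
  have hsc : ∀ c : R, e' (pull (toUnit E') c) = MonoidAlgebra.single 1 c := fun c ↦ by
    rw [toUnit_unique (toUnit E') (extProj _), pull_extProj]
    exact e'.apply_symm_apply _
  have hgm : e' (F _ (pr (AddMonoidHom.inl M M) * pr (AddMonoidHom.inr M M))) =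
      e' (F _ (pr (AddMonoidHom.inl M M)) * F _ (pr (AddMonoidHom.inr M M))) := by
    rw [hmul]
  rw [hev, hev, hev] at hgm
  simp only [Finsupp.sum, map_sum, map_mul, dsVal_mul, hval, hsc, MonoidAlgebra.single_mul_single,
    _root_.one_mul, _root_.mul_one, Finset.sum_mul_sum] at hgm
  have key : ∀ m n : Multiplicative M, m ≠ n → h.coeff m * h.coeff n = 0 := by
    intro m n hmn
    have := congrArg (fun z : MonoidAlgebra R (Multiplicative (M × M)) ↦ z.coeff (Multiplicative.ofAdd (Multiplicative.toAdd m, Multiplicative.toAdd n))) hgm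
    simp only [MonoidAlgebra.coeff_sum, MonoidAlgebra.coeff_single, Finsupp.coe_finset_sum, Finset.sum_apply,
      Finsupp.single_apply] at this
    have hprod : ∀ a c : Multiplicative M, (AddMonoidHom.toMultiplicative (AddMonoidHom.inl M M) a *
        AddMonoidHom.toMultiplicative (AddMonoidHom.inr M M) c =
          Multiplicative.ofAdd (Multiplicative.toAdd m, Multiplicative.toAdd n)) ↔ a = m ∧ c = n := fun a c ↦ by
      have e : AddMonoidHom.toMultiplicative (AddMonoidHom.inl M M) a *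
          AddMonoidHom.toMultiplicative (AddMonoidHom.inr M M) c =
            Multiplicative.ofAdd (Multiplicative.toAdd a, Multiplicative.toAdd c) := by
        apply Multiplicative.toAdd.injective; simp
      rw [e]
      simp only [EmbeddingLike.apply_eq_iff_eq, Prod.mk.injEq]
    simp only [hprod] at this
    rw [Finset.sum_eq_zero (fun a _ ↦ if_neg fun h' : a = m ∧ a = n ↦ hmn (h'.1.symm.trans h'.2))] at this
    rw [Finset.sum_eq_single m (fun a _ ha ↦ Finset.sum_eq_zero fun c _ ↦ if_neg fun h' ↦ ha h'.1)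
      (fun hm ↦ Finset.sum_eq_zero fun c _ ↦ by rw [Finsupp.notMem_support_iff.mp hm, zero_mul, ite_self]),
      Finset.sum_eq_single n (fun c _ hc ↦ if_neg fun h' ↦ hc h'.2)
      (fun hn ↦ by rw [Finsupp.notMem_support_iff.mp hn, mul_zero, ite_self]), if_pos ⟨rfl, rfl⟩] at this
    exact this.symm
  have hone : (∑ m ∈ h.coeff.support, h.coeff m) = 1 := by
    have := hev (𝟙_ (Over B)) 1
    rw [hF1] at this
    refine (this.trans ?_).symm
    refine Finset.sum_congr rfl fun m _ ↦ ?_
    dsimp only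
    rw [toUnit_unique (toUnit (𝟙_ (Over B))) (𝟙 _), pull_id, RingHom.id_apply]
    simp only [Groth.Agent.S11937.dsVal_one, _root_.mul_one]
  -- choose the coefficient
  obtain ⟨m, hm⟩ : ∃ m : Multiplicative M, b ∈ B.basicOpen (show Γ(B, ⊤) from h.coeff m) := by
    by_contra hne
    push Not at hne
    have hb : IsUnit (B.presheaf.germ ⊤ b trivial (show Γ(B, ⊤) from (∑ m ∈ h.coeff.support, h.coeff m))) := by
      rw [hone]; exact (map_one (B.presheaf.germ ⊤ b trivial).hom).symm ▸ isUnit_one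
    simp only [map_sum] at hb
    obtain ⟨m, -, hm⟩ := IsLocalRing.exists_of_isUnit_sum hb
    exact hne m ((Scheme.mem_basicOpen_top B _ _).mpr hm)
  refine ⟨_, Multiplicative.toAdd m, hm, fun X x hX ↦ ?_⟩
  have hu : IsUnit (pull (toUnit X) (h.coeff m)) := by
    have e0 : (toUnit X).left ⁻¹ᵁ B.basicOpen (show Γ(B, ⊤) from h.coeff m) = ⊤ :=
      top_le_iff.mp fun a _ ↦ hX ⟨a, rfl⟩
    have e1 : X.left.basicOpen (pull (toUnit X) (h.coeff m)) = ⊤ :=
      ((toUnit X).left.preimage_basicOpen_top (h.coeff m)).symm.trans e0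
    exact X.left.toLocallyRingedSpace.toRingedSpace.isUnit_of_isUnit_germ ⊤ _ fun a ha ↦
      (Scheme.mem_basicOpen_top X.left _ a).mp (e1.ge ha)
  have hidem : pull (toUnit X) (h.coeff m) = 1 := by
    have e2 : h.coeff m * h.coeff m = h.coeff m := by
      nth_rewrite 3 [← _root_.mul_one (h.coeff m)]
      rw [← hone, Finset.mul_sum, Finset.sum_eq_single m (fun c _ hc ↦ key m c hc.symm)
        (fun hms ↦ by rw [Finsupp.notMem_support_iff.mp hms, mul_zero])]
    exact hu.mul_eq_left.mp (by rw [← map_mul, e2])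
  have hz : ∀ c, c ≠ m → pull (toUnit X) (h.coeff c) = 0 := fun c hc ↦ by
    rw [← _root_.mul_one (pull (toUnit X) (h.coeff c)), ← hidem, ← map_mul, key c m hc, map_zero]
  rw [hev, Finsupp.sum, Finset.sum_eq_single m (fun c _ hc ↦ by rw [hz c hc, zero_mul])
    (fun hms ↦ by rw [Finsupp.notMem_support_iff.mp hms, map_zero, zero_mul]), hidem, _root_.one_mul]
  rfl

end Split

/-- The base change of a morphism of schemes over `S`. -/
lemma isPullback_pullback_map {S T : Scheme.{u}} (f : T ⟶ S) {A C : Over S} (g : A ⟶ C) :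
    IsPullback ((Over.pullback f).map g).left (pullback.fst A.hom f) (pullback.fst C.hom f) g.left := by
  refine (IsPullback.of_bot ?_ ?_ (IsPullback.of_hasPullback C.hom f)).flip
  · have h1 : ((Over.pullback f).map g).left ≫ pullback.snd C.hom f = pullback.snd A.hom f := pullback.lift_snd _ _ _
    rw [h1, Over.w g]
    exact IsPullback.of_hasPullback A.hom f
  · exact (pullback.lift_fst _ _ _).symm

lemma flat_surjective_pullback_map {S T : Scheme.{u}} (f : T ⟶ S) {A C : Over S} (g : A ⟶ C)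
    (hg : Flat g.left ∧ Surjective g.left) :
    Flat ((Over.pullback f).map g).left ∧ Surjective ((Over.pullback f).map g).left :=
  ⟨MorphismProperty.of_isPullback (P := @Flat) (isPullback_pullback_map f g).flip hg.1,
    MorphismProperty.of_isPullback (P := @Surjective) (isPullback_pullback_map f g).flip hg.2⟩

section Torus

variable {S : Scheme.{u}} {T : Over S} [GrpObj T] (α : T ⟶ Red.Gm S) [IsMonHom α]

/-- Non-triviality on geometric fibres passes to every field-valued point. -/
lemma not_trivOn_fieldPoint (hα : ∀ s : S, (Over.pullback (Red.geomPt s)).map α ≠ 1) (K : Type u) [Field K]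
    (p : Spec (CommRingCat.of K) ⟶ S) : ¬ TrivOn α (Over.mk p) := fun h ↦ by
  set s := p.base (IsLocalRing.closedPoint K)
  refine hα s ((pullback_map_eq_one_iff _).mpr ((trivOn_fieldPoint_iff α _ _).mpr ?_))
  have e : (Red.geomPt s).base (IsLocalRing.closedPoint (AlgebraicClosure (S.residueField s))) = s := by
    simp only [Red.geomPt]
    exact Scheme.fromSpecResidueField_apply s _
  rw [e]
  exact (trivOn_fieldPoint_iff α _ _).mp h

/-- The function of a point of the multiplicative group with values in a scheme over `W`. -/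
def mapFn {W : Scheme.{u}} (g : W ⟶ S) {X : Over W} (z : (Over.map g).obj X ⟶ Red.Gm S) : Γ(X.left, ⊤) :=
  (Red.gmFn (S := S) (X := (Over.map g).obj X) z :)

lemma mapFn_mul {W : Scheme.{u}} (g : W ⟶ S) {X : Over W} (a b : (Over.map g).obj X ⟶ Red.Gm S) :
    mapFn g (a * b) = mapFn g a * mapFn g b :=
  gmFn_mul a b

lemma mapFn_one {W : Scheme.{u}} (g : W ⟶ S) (X : Over W) :
    mapFn g (1 : (Over.map g).obj X ⟶ Red.Gm S) = 1 :=
  gmFn_one

lemma mapFn_comp {W : Scheme.{u}} (g : W ⟶ S) {X Y : Over W} (q : Y ⟶ X)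
    (z : (Over.map g).obj X ⟶ Red.Gm S) : mapFn g ((Over.map g).map q ≫ z) = pull q (mapFn g z) :=
  gmFn_comp ((Over.map g).map q) z

/-- A flat map through which flatness at a point is detected. -/
lemma flat_stalkMap_of_comp {X Y Z : Scheme.{u}} (a : X ⟶ Y) (g : Y ⟶ Z) [Flat a] [Flat (a ≫ g)] (x : X) :
    (g.stalkMap (a x)).hom.Flat := by
  have h1 := Flat.stalkMap a x
  have h2 := Flat.stalkMap (a ≫ g) x
  rw [Scheme.Hom.stalkMap_comp] at h2
  letI := (g.stalkMap (a x)).hom.toAlgebra
  letI := (a.stalkMap x).hom.toAlgebra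
  letI : Algebra (Z.presheaf.stalk (g (a x))) (X.presheaf.stalk x) :=
    ((a.stalkMap x).hom.comp (g.stalkMap (a x)).hom).toAlgebra
  haveI : IsScalarTower (Z.presheaf.stalk (g (a x))) (Y.presheaf.stalk (a x)) (X.presheaf.stalk x) :=
    .of_algebraMap_eq' rfl
  haveI : Module.Flat (Y.presheaf.stalk (a x)) (X.presheaf.stalk x) := h1
  haveI : Module.Flat (Z.presheaf.stalk (g (a x))) (X.presheaf.stalk x) := h2
  haveI : IsLocalHom (algebraMap (Y.presheaf.stalk (a x)) (X.presheaf.stalk x)) :=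
    inferInstanceAs (IsLocalHom (a.stalkMap x).hom)
  haveI : Module.FaithfullyFlat (Y.presheaf.stalk (a x)) (X.presheaf.stalk x) :=
    Module.FaithfullyFlat.of_flat_of_isLocalHom
  exact Groth.FlatMor2.flat_of_tower (Q := Z.presheaf.stalk (g (a x))) (S := X.presheaf.stalk x)

/-- The comparison of base changes along a composition. -/
abbrev bcComp {R W V : Scheme.{u}} (A : Over R) (b : W ⟶ R) (c : V ⟶ W) (b' : V ⟶ R) (h : c ≫ b = b') :
    pullback A.hom b' ⟶ pullback A.hom b :=
  pullback.lift (pullback.fst A.hom b') (pullback.snd A.hom b' ≫ c) (by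
    rw [Category.assoc, h, pullback.condition])

lemma isPullback_bcComp {R W V : Scheme.{u}} (A : Over R) (b : W ⟶ R) (c : V ⟶ W) (b' : V ⟶ R) (h : c ≫ b = b') :
    IsPullback (bcComp A b c b' h) (pullback.snd A.hom b') (pullback.snd A.hom b) c := by
  refine IsPullback.of_right ?_ (pullback.lift_snd _ _ _) (IsPullback.of_hasPullback A.hom b).flip.flip
  rw [pullback.lift_fst, h]
  exact IsPullback.of_hasPullback A.hom b'

/-- A fibrewise non-trivial character of a torus is faithfully flat. -/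
theorem flat_surjective_char (hT : Red.IsTorus T) (hα : ∀ s : S, (Over.pullback (Red.geomPt s)).map α ≠ 1) :
    Flat α.left ∧ Surjective α.left := by
  obtain ⟨S', f, hflat, hsurj, -, hloc⟩ := hT
  have key : ∀ s' : S', ∃ (P Q : Scheme.{u}) (a : P ⟶ T.left) (c : P ⟶ Q) (q : Q ⟶ (Red.Gm S).left),
      Flat a ∧ Flat c ∧ Surjective c ∧ Flat q ∧ a ≫ α.left = c ≫ q ∧
      (∀ t : T.left, T.hom.base t = f.base s' → t ∈ Set.range a.base) ∧
      (∀ z : (Red.Gm S).left, (Red.Gm S).hom.base z = f.base s' → z ∈ Set.range q.base) := by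
    intro s'
    obtain ⟨U, hU, r, ⟨e⟩⟩ := hloc s'
    obtain ⟨W₀, hW, hsW, hWU⟩ := exists_isAffineOpen_mem_and_subset hU
    let W : Scheme.{u} := W₀
    have : IsAffine W := hW
    let eU : Red.DS (U : Scheme.{u}) (Fin r → ℤ) ≅ Red.bc (U.ι ≫ f) T :=
      ⟨e.inv.hom.hom, e.hom.hom.hom, congrArg (fun z ↦ z.hom.hom) e.inv_hom_id,
        congrArg (fun z ↦ z.hom.hom) e.hom_inv_id⟩
    have : IsMonHom eU.hom := inferInstanceAs (IsMonHom e.inv.hom.hom)
    obtain ⟨i, hi⟩ := exists_trivialisation_comp T (S'.homOfLE hWU) (U.ι ≫ f) eU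
    revert i hi
    rw [Scheme.homOfLE_ι_assoc]
    intro i hi
    let g : W ⟶ S := W₀.ι ≫ f
    have : Flat g := inferInstanceAs (Flat (W₀.ι ≫ f))
    let pt : ∀ X : Over W, (X ⟶ Red.DS W (Fin r → ℤ)) → ((Over.map g).obj X ⟶ T) :=
      fun X x ↦ bcPointEquiv g T X (x ≫ i.hom)
    have hpt : ∀ (X : Over W) (x y : X ⟶ Red.DS W (Fin r → ℤ)), pt X (x * y) = pt X x * pt X y := fun X x y ↦ by
      simp only [pt]
      rw [MonObj.mul_comp x y i.hom]
      exact map_mul _ _ _
    have hnat : ∀ {X Y : Over W} (q : Y ⟶ X) (x : X ⟶ Red.DS W (Fin r → ℤ)),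
        pt Y (q ≫ x) = (Over.map g).map q ≫ pt X x := fun {X Y} q x ↦ by
      show bcPointEquiv g T Y ((q ≫ x) ≫ i.hom) = _
      rw [Category.assoc]
      exact bcPointEquiv_comp g T q _
    have hone : ∀ X : Over W, pt X 1 = 1 := fun X ↦ by
      show bcPointEquiv g T X ((1 : X ⟶ Red.DS W (Fin r → ℤ)) ≫ i.hom) = 1
      rw [MonObj.one_comp i.hom]
      exact map_one (bcPointEquiv g T X)
    have hF1 : ∀ {X Y : Over W} (q : Y ⟶ X) (x : X ⟶ Red.DS W (Fin r → ℤ)),
        mapFn g (pt Y (q ≫ x) ≫ α) = pull q (mapFn g (pt X x ≫ α)) := fun {X Y} q x ↦ by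
      rw [hnat, Category.assoc, mapFn_comp]
    have hF2 : ∀ (X : Over W) (x y : X ⟶ Red.DS W (Fin r → ℤ)),
        mapFn g (pt X (x * y) ≫ α) = mapFn g (pt X x ≫ α) * mapFn g (pt X y ≫ α) := fun X x y ↦ by
      rw [hpt]
      exact (congrArg (mapFn g) (MonObj.mul_comp (pt X x) (pt X y) α)).trans (mapFn_mul g _ _)
    have hF3 : ∀ X : Over W, mapFn g (pt X 1 ≫ α) = 1 := fun X ↦ by
      rw [hone]
      exact (congrArg (mapFn g) (MonObj.one_comp α)).trans (mapFn_one g X)
    obtain ⟨V, m, hsV, hV⟩ := exists_chi_nhd (B := W)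
      (fun X x ↦ mapFn g (pt X x ≫ α)) (fun q x ↦ hF1 q x) (fun X x y ↦ hF2 X x y)
      (fun X ↦ hF3 X)
      (⟨s', hsW⟩ : W)
    let v : W := ⟨s', hsW⟩
    have hm : m ≠ 0 := by
      intro h0
      subst h0
      refine not_trivOn_fieldPoint α hα (W.residueField v) (W.fromSpecResidueField v ≫ g) fun Z z x ↦ ?_
      refine gmFn_injective ?_
      let Z' : Over W := Over.mk (z.left ≫ W.fromSpecResidueField v)
      let zi : (Over.map g).obj Z' ⟶ Z := Over.homMk (𝟙 _) (by
        show 𝟙 _ ≫ Z.hom = (z.left ≫ _) ≫ g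
        rw [Category.id_comp, ← Over.w z, Category.assoc]; rfl)
      let x' : Z' ⟶ Red.DS W (Fin r → ℤ) := (bcPointEquiv g T Z').symm (zi ≫ x) ≫ i.inv
      have hx := hV Z' x' (by
        rintro _ ⟨a, rfl⟩
        show W.fromSpecResidueField v (z.left a) ∈ V
        rw [Scheme.fromSpecResidueField_apply]; exact hsV)
      have h0 : dsVal x' (Multiplicative.ofAdd (0 : Fin r → ℤ)) = 1 := map_one (dsValHom x')
      rw [h0] at hx
      have h2 : pt Z' x' = zi ≫ x := by
        show bcPointEquiv g T Z' (((bcPointEquiv g T Z').symm (zi ≫ x) ≫ i.inv) ≫ i.hom) = _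
        rw [Category.assoc, i.inv_hom_id, Category.comp_id, MulEquiv.apply_symm_apply]
      change mapFn g (pt Z' x' ≫ α) = _ at hx
      rw [h2, Category.assoc] at hx
      replace hx : Red.gmFn (S := S) (X := (Over.map g).obj Z') (zi ≫ x ≫ α) = 1 := hx
      rw [gmFn_comp] at hx
      rw [gmFn_one]
      have h4 : zi.left.appTop.hom (Red.gmFn (x ≫ α)) = Red.gmFn (x ≫ α) := by
        show (Scheme.Hom.appTop (𝟙 Z.left)).hom _ = _
        simp
      exact h4.symm.trans hx
    -- the point of the smaller chart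
    let V' : Scheme.{u} := V
    let P := Red.DS V' (Fin r → ℤ)
    let xl : P.left ⟶ (Red.DS W (Fin r → ℤ)).left := bcComp _ (toZ W) V.ι (toZ V') (specULiftZIsTerminal.hom_ext _ _)
    let X : Over W := Over.mk (P.hom ≫ V.ι)
    let x : X ⟶ Red.DS W (Fin r → ℤ) := Over.homMk xl (pullback.lift_snd _ _ _)
    let q : (Red.Gm V').left ⟶ (Red.Gm S).left :=
      bcComp _ (toZ S) (V.ι ≫ g) (toZ V') (specULiftZIsTerminal.hom_ext _ _)
    let c : P ⟶ Red.Gm V' := Red.chi V' m
    let ρ : (Over.map g).obj X ⟶ Red.Gm S := Over.homMk (c.left ≫ q) (by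
      show (c.left ≫ q) ≫ pullback.snd _ _ = (P.hom ≫ V.ι) ≫ g
      rw [Category.assoc, pullback.lift_snd, ← Category.assoc c.left,
        show c.left ≫ pullback.snd _ _ = P.hom from Over.w c, Category.assoc])
    have hρ : pt X x ≫ α = ρ := by
      refine gmFn_injective ((hV X x ?_).trans ?_)
      · rintro _ ⟨a, rfl⟩
        show (V.ι.base (P.hom.base a) : W) ∈ V
        exact (P.hom.base a).2
      · have h1 : dsVal x (Multiplicative.ofAdd m) = dsVal (𝟙 P) (Multiplicative.ofAdd m) := by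
          have e1 : x.left ≫ pullback.fst _ (toZ W) = (𝟙 P : P ⟶ P).left ≫ pullback.fst _ (toZ V') :=
            (pullback.lift_fst _ _ _).trans (Category.id_comp _).symm
          exact congrArg (fun k ↦ Scheme.Hom.appTop k ((Scheme.ΓSpecIso (CommRingCat.of
            (MonoidAlgebra (ULift.{u} ℤ) (Multiplicative (Fin r → ℤ))))).inv
              (MonoidAlgebra.single (Multiplicative.ofAdd m) 1))) e1
        have h2 := Groth.Agent.S11937.dsVal_DSmap (zmultiplesHom (Fin r → ℤ) m) (𝟙 P) 1
        rw [zmultiplesHom_apply, one_zsmul] at h2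
        rw [h1, ← h2]
        have e2 : c.left ≫ pullback.fst _ (toZ V') = ρ.left ≫ pullback.fst _ (toZ S) := by
          show _ = (c.left ≫ q) ≫ _
          rw [Category.assoc, pullback.lift_fst]
        exact congrArg (fun k ↦ Scheme.Hom.appTop k ((Scheme.ΓSpecIso (CommRingCat.of
            (MonoidAlgebra (ULift.{u} ℤ) (Multiplicative ℤ)))).inv
              (MonoidAlgebra.single (Multiplicative.ofAdd (1 : ℤ)) 1))) ((congrArg (fun k : P ⟶ Red.Gm V' ↦ k.left ≫ pullback.fst _ (toZ V')) (Category.id_comp c)).trans e2)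
    have hinj : Function.Injective (zmultiplesHom (Fin r → ℤ) m) := fun a b h ↦
      smul_left_injective ℤ hm (by simpa using h)
    obtain ⟨hc1, hc2⟩ : Flat c.left ∧ Surjective c.left :=
      flat_surjective_pullback_map _ _ (flat_surjective_diagMap (ULift.{u} ℤ) _ hinj)
    have hxl : IsOpenImmersion xl :=
      MorphismProperty.of_isPullback (P := @IsOpenImmersion) (isPullback_bcComp _ _ _ _ _).flip inferInstance
    have hlT : Flat (pullback.fst T.hom g) := MorphismProperty.pullback_fst _ _ inferInstance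
    have hgV : Flat (V.ι ≫ g) := inferInstance
    have hq : Flat q := MorphismProperty.of_isPullback (P := @Flat) (isPullback_bcComp _ _ _ _ _).flip hgV
    have ha : (pt X x).left = xl ≫ i.hom.left ≫ pullback.fst T.hom g := by
      simp [pt, bcPointEquiv, Adjunction.homEquiv_counit, x]
    refine ⟨P.left, (Red.Gm V').left, xl ≫ i.hom.left ≫ pullback.fst T.hom g, c.left, q, inferInstance, hc1, hc2,
      hq, by rw [← ha]; exact congrArg CommaMorphism.left hρ, fun t ht ↦ ?_, fun z hz ↦ ?_⟩
    · obtain ⟨w, hw1, hw2⟩ := Scheme.Pullback.exists_preimage_pullback (f := T.hom) (g := g) t v ht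
      have hd : (i.inv.left ≫ pullback.snd _ (toZ W)).base w = v := by
        rw [show i.inv.left ≫ pullback.snd _ (toZ W) = pullback.snd T.hom g from Over.w i.inv]
        exact hw2
      obtain ⟨p, hp1, hp2⟩ : ∃ p : P.left, xl.base p = i.inv.left.base w ∧ P.hom.base p = ⟨v, hsV⟩ := by
        exact Scheme.exists_preimage_of_isPullback (isPullback_bcComp _ _ _ _ _) _ _ hd
      refine ⟨p, ?_⟩
      show (pullback.fst T.hom g).base (i.hom.left.base (xl.base p)) = t
      rw [hp1, ← Scheme.Hom.comp_apply i.inv.left, show i.inv.left ≫ i.hom.left = 𝟙 _ from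
        congrArg CommaMorphism.left i.inv_hom_id]
      exact hw1
    · obtain ⟨p, hp, -⟩ := Scheme.exists_preimage_of_isPullback
        (isPullback_bcComp (Red.diag (ULift.{u} ℤ) ℤ) (toZ S) (V.ι ≫ g) (toZ V') (specULiftZIsTerminal.hom_ext _ _))
        z ⟨v, hsV⟩ hz
      exact ⟨p, hp⟩
  refine ⟨(Flat.iff_flat_stalkMap _).mpr fun t ↦ ?_, ⟨fun z ↦ ?_⟩⟩
  · obtain ⟨s', hs'⟩ := hsurj.surj (T.hom.base t)
    obtain ⟨P, Q, a, c, q, ha, hc, -, hq, he, hta, -⟩ := key s'
    obtain ⟨p, rfl⟩ := hta t hs'.symm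
    have : Flat (a ≫ α.left) := by rw [he]; infer_instance
    exact flat_stalkMap_of_comp a α.left p
  · obtain ⟨s', hs'⟩ := hsurj.surj ((Red.Gm S).hom.base z)
    obtain ⟨P, Q, a, c, q, -, -, hc, -, he, -, hz⟩ := key s'
    obtain ⟨w, rfl⟩ := hz z hs'.symm
    obtain ⟨p, rfl⟩ := hc.surj w
    exact ⟨a.base p, by rw [← Scheme.Hom.comp_apply, he]; rfl⟩

end Torus

end Groth.Reductive2
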