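import Groth.Agent.Reductive2.RankOneValPts
import Groth.Agent.Reductive2.RankOneCell
import Groth.Agent.Reductive2.RankOneConj
import Groth.Agent.Reductive2.TorusAffine
import Groth.Agent.Reductive2.TorusBasic
import Groth.Agent.Reductive2.TorusChar
import Groth.Agent.Reductive.MTImm
import Groth.Agent.Reductive.MTLocTriv
import Groth.Agent.Reductive.TorusMT

/-!
The Borel subgroup `T U` of a rank-one system is closed: a valuative argument.
-/

set_option autoImplicit false
universe u

open CategoryTheory CategoryTheory.Limits MonoidalCategory CartesianMonoidalCategory MonObj GrpObj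
  AlgebraicGeometry IsLocalRing
open Polynomial (C X)
open Groth.Reductive

noncomputable section

namespace Groth.Reductive2.RankOneClosed

open ValPts

variable {S : Scheme.{u}} {G T : Over S} [GrpObj G] [GrpObj T]

section Extension

variable {α : T ⟶ Red.Gm S} {K : Type u} [Field K] {V : ValuationSubring K}
  (ψ : Spec (CommRingCat.of V) ⟶ S)

/-- A point of `T` over an extension of valuation rings at which a given polynomial in the multiplier is
a unit. -/
theorem exists_torus_pt [IsAffineHom T.hom] [Flat T.hom] (hα : Surjective α.left) (f : Polynomial V)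
    (u : ResidueField V) (hu : u ≠ 0) (hf : (f.map (residue V)).eval (1 - u) ≠ 0) :
    ∃ (L : Type u) (_ : Field L) (V' : ValuationSubring L) (ιV : V →+* V') (j : K →+* L)
      (c : pt ψ ιV ⟶ T), V'.subtype.comp ιV = j.comp V.subtype ∧ IsLocalHom ιV ∧
      IsUnit (f.eval₂ ιV (1 - (fn ψ ιV).symm (Red.gmFn (c ≫ α)))) := by
  let A := Γ(fibre (G := T) ψ, ⊤)
  let XT : Over S := Over.mk (pullback.snd T.hom ψ ≫ ψ)
  let cT : XT ⟶ T := Over.homMk (pullback.fst T.hom ψ) pullback.condition
  let wT : A := Red.gmFn (cT ≫ α)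
  let φ : A := f.eval₂ (const ψ) (1 - wT)
  -- evaluation of the function at a point of `T`
  have hval : ∀ {B : Type u} [CommRing B] {f' : V →+* B} (c : pt ψ f' ⟶ T),
      val ψ c φ = f.eval₂ f' (1 - (fn ψ f').symm (Red.gmFn (c ≫ α))) := by
    intro B _ f' c
    have e : val ψ c wT = (fn ψ f').symm (Red.gmFn (c ≫ α)) := by
      let d : pt ψ f' ⟶ XT := Over.homMk (pullback.lift c.left (Spec.map (CommRingCat.ofHom f')) (Over.w c))
        (by
          show pullback.lift _ _ _ ≫ pullback.snd T.hom ψ ≫ ψ = _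
          rw [pullback.lift_snd_assoc]
          rfl)
      have hd : d ≫ cT = c := Over.OverMorphism.ext (pullback.lift_fst _ _ _)
      conv_rhs => rw [← hd, Category.assoc, gmFn_comp]
      rfl
    simp only [φ]
    rw [Polynomial.hom_eval₂, val_const, map_sub, map_one, e]
  have hbo : ∀ {B : Type u} [CommRing B] [IsLocalRing B] {f' : V →+* B} (c : pt ψ f' ⟶ T),
      (pullback.lift c.left (Spec.map (CommRingCat.ofHom f')) (Over.w c)).base (closedPoint B) ∈
        (fibre (G := T) ψ).basicOpen φ ↔ IsUnit (f.eval₂ f' (1 - (fn ψ f').symm (Red.gmFn (c ≫ α)))) := by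
    intro B _ _ f' c
    rw [← hval]
    let m := pullback.lift c.left (Spec.map (CommRingCat.ofHom f')) (Over.w c)
    show closedPoint B ∈ m ⁻¹ᵁ (fibre (G := T) ψ).basicOpen φ ↔ _
    rw [Scheme.preimage_basicOpen_top]
    have e : m.appTop.hom φ = (Scheme.ΓSpecIso (CommRingCat.of B)).inv (val ψ c φ) :=
      ((fn ψ f').apply_symm_apply _).symm
    rw [show m.appTop φ = m.appTop.hom φ from rfl, e]
    show (closedPoint B : PrimeSpectrum B) ∈ ((Spec (CommRingCat.of B)).basicOpen
      ((Scheme.ΓSpecIso (CommRingCat.of B)).inv (val ψ c φ)) : TopologicalSpace.Opens (PrimeSpectrum B)) ↔ _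
    rw [basicOpen_eq_of_affine]
    show val ψ c φ ∉ maximalIdeal B ↔ _
    rw [mem_maximalIdeal, mem_nonunits_iff, not_not]
  -- a point of the closed fibre of `T` with multiplier `u`
  let Xk : Over S := pt ψ (residue V)
  let gz : Xk ⟶ Red.Gm S := gmMk Xk (Units.map (fn ψ (residue V)).toMonoidHom (Units.mk0 u hu))
  let Fib := pullback α.left gz.left
  obtain ⟨w, -⟩ := (pullback.snd α.left gz.left).surjective (closedPoint (ResidueField V))
  let r₂ : ResidueField V →+* Fib.residueField w :=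
    (Spec.preimage (Fib.fromSpecResidueField w ≫ pullback.snd α.left gz.left)).hom
  have hr₂ : Spec.map (CommRingCat.ofHom r₂) = Fib.fromSpecResidueField w ≫ pullback.snd α.left gz.left :=
    Spec.map_preimage _
  let c₀ : pt ψ (r₂.comp (residue V)) ⟶ T :=
    Over.homMk (Fib.fromSpecResidueField w ≫ pullback.fst α.left gz.left) (by
      show (_ ≫ pullback.fst α.left gz.left) ≫ T.hom = _
      rw [← Over.w α, Category.assoc, pullback.condition_assoc, Over.w gz, ← reassoc_of% hr₂]
      show _ = Spec.map (CommRingCat.ofHom (r₂.comp (residue V))) ≫ ψ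
      rw [CommRingCat.ofHom_comp, Spec.map_comp, Category.assoc]
      rfl)
  have hc₀ : c₀ ≫ α = ptMap ψ r₂ rfl ≫ gz := by
    apply Over.OverMorphism.ext
    show (_ ≫ pullback.fst α.left gz.left) ≫ α.left = Spec.map (CommRingCat.ofHom r₂) ≫ gz.left
    rw [Category.assoc, pullback.condition, hr₂, Category.assoc]
  let z : fibre (G := T) ψ :=
    (pullback.lift c₀.left (Spec.map (CommRingCat.ofHom (r₂.comp (residue V)))) (Over.w c₀)).base
      (closedPoint (Fib.residueField w))
  have hz : z ∈ (fibre (G := T) ψ).basicOpen φ := by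
    refine (hbo c₀).mpr (isUnit_iff_ne_zero.mpr ?_)
    have e : (fn ψ (r₂.comp (residue V))).symm (Red.gmFn (c₀ ≫ α)) = r₂ u := by
      rw [RingEquiv.symm_apply_eq, hc₀, gmFn_comp]
      show pull (ptMap ψ r₂ rfl) _ = _
      rw [gmFn_gmMk]
      exact pull_fn ψ r₂ rfl u
    rw [e, ← Polynomial.eval₂_map, ← map_one r₂, ← map_sub, Polynomial.eval₂_hom]
    exact fun h ↦ hf (r₂.injective (h.trans (map_zero r₂).symm))
  have hzsnd : (pullback.snd T.hom ψ).base z = closedPoint V := by
    have e := congrArg (fun m : Spec (CommRingCat.of (Fib.residueField w)) ⟶ Spec (CommRingCat.of V) ↦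
        m.base (closedPoint (Fib.residueField w)))
      (pullback.lift_snd c₀.left (Spec.map (CommRingCat.ofHom (r₂.comp (residue V)))) (Over.w c₀))
    refine (show (pullback.snd T.hom ψ).base z = _ from e).trans ?_
    have : IsLocalHom (residue V) := inferInstance
    have : IsLocalHom (r₂.comp (residue V)) := RingHom.isLocalHom_comp _ _
    exact comap_closedPoint (r₂.comp (residue V))
  -- generalise it to the generic fibre
  let η₀ : Spec (CommRingCat.of V) := (⟨⊥, Ideal.isPrime_bot⟩ : PrimeSpectrum V)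
  have hη : η₀ ⤳ (pullback.snd T.hom ψ).base z :=
    (PrimeSpectrum.le_iff_specializes _ _).mp (bot_le : (⊥ : Ideal V) ≤ _)
  obtain ⟨η₁, hη₁, hη₁'⟩ := Flat.generalizingMap (pullback.snd T.hom ψ) hη
  let L : Type u := (fibre (G := T) ψ).residueField η₁
  obtain ⟨V', m, hm, hmL⟩ := exists_valuation_pt hη₁ (RingHom.id L)
  let ιV : V →+* V' := (Spec.preimage (m ≫ pullback.snd T.hom ψ)).hom
  have hιV : Spec.map (CommRingCat.ofHom ιV) = m ≫ pullback.snd T.hom ψ := Spec.map_preimage _
  let c : pt ψ ιV ⟶ T := Over.homMk (m ≫ pullback.fst T.hom ψ) (by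
    show (m ≫ pullback.fst T.hom ψ) ≫ T.hom = Spec.map (CommRingCat.ofHom ιV) ≫ ψ
    rw [hιV, Category.assoc, Category.assoc, pullback.condition])
  have hclift : pullback.lift c.left (Spec.map (CommRingCat.ofHom ιV)) (Over.w c) = m := by
    apply pullback.hom_ext
    · rw [pullback.lift_fst]; rfl
    · rw [pullback.lift_snd, hιV]
  have hker : RingHom.ker (V'.subtype.comp ιV) = ⊥ := by
    have e : (Spec.map (CommRingCat.ofHom (V'.subtype.comp ιV))).base (closedPoint L) = η₀ := by
      rw [CommRingCat.ofHom_comp, Spec.map_comp, hιV]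
      show ((Spec.map (CommRingCat.ofHom V'.subtype)) ≫ m ≫ pullback.snd T.hom ψ).base (closedPoint L) = _
      rw [reassoc_of% hmL]
      show (pullback.snd T.hom ψ).base
        (((fibre (G := T) ψ).fromSpecResidueField η₁).base
          ((Spec.map (CommRingCat.ofHom (RingHom.id L))).base (closedPoint L))) = _
      rw [Scheme.fromSpecResidueField_apply, hη₁']
    have := congrArg PrimeSpectrum.asIdeal e
    change Ideal.comap (V'.subtype.comp ιV) (maximalIdeal L) = ⊥ at this
    rwa [IsLocalRing.maximalIdeal_eq_bot] at this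
  have hinj : Function.Injective (V'.subtype.comp ιV) := (RingHom.injective_iff_ker_eq_bot _).mpr hker
  let jL : K →+* L := IsFractionRing.lift hinj
  have hj : ∀ a : V, jL (algebraMap V K a) = (V'.subtype.comp ιV) a := fun a ↦
    IsFractionRing.lift_algebraMap hinj a
  refine ⟨L, inferInstance, V', ιV, jL, c, ?_, ?_, ?_⟩
  · exact RingHom.ext fun a ↦ (hj a).symm
  · constructor
    intro a ha
    by_contra hna
    have h1 : (Spec.map (CommRingCat.ofHom ιV)).base (closedPoint V') = closedPoint V := by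
      rw [hιV]
      show (pullback.snd T.hom ψ).base (m.base (closedPoint V')) = _
      rw [hm, hzsnd]
    have h2 : a ∈ Ideal.comap ιV (maximalIdeal V') := by
      have h3 := congrArg PrimeSpectrum.asIdeal h1
      change Ideal.comap ιV (maximalIdeal V') = maximalIdeal V at h3
      rw [h3]
      exact hna
    exact (mem_maximalIdeal _).mp h2 ha
  · refine (hbo c).mp ?_
    rw [hclift, hm]
    exact hz

end Extension

section Key

variable {i : T ⟶ G} {α : T ⟶ Red.Gm S} {q pm : Red.Ga S ⟶ G} [IsMonHom i] [IsMonHom q] [IsMonHom pm]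
  (hq : ∀ (X : Over S) (t : X ⟶ T) (x : X ⟶ Red.Ga S), ∃ x' : X ⟶ Red.Ga S,
    x' ≫ q = (t ≫ i) * (x ≫ q) * (t ≫ i)⁻¹ ∧ Red.gaFn x' = Red.gmFn (t ≫ α) * Red.gaFn x)

/-- A point of the root group. -/
abbrev Q (q : Red.Ga S ⟶ G) (Z : Over S) (r : Γ(Z.left, ⊤)) : Z ⟶ G := gaMk Z r ≫ q

lemma Q_add (Z : Over S) (r s : Γ(Z.left, ⊤)) : Q q Z (r + s) = Q q Z r * Q q Z s := by
  show gaMk Z (r + s) ≫ q = (gaMk Z r ≫ q) * (gaMk Z s ≫ q)
  rw [← MonObj.mul_comp (gaMk Z r) (gaMk Z s) q,
    show gaMk Z (r + s) = gaMk Z r * gaMk Z s from gaFn_injective (by simp [gaFn_mul])]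

lemma Q_zero (Z : Over S) : Q q Z 0 = 1 := by
  show gaMk Z 0 ≫ q = 1
  rw [show gaMk Z 0 = 1 from gaFn_injective (by simp [gaFn_one])]
  exact MonObj.one_comp q

lemma Q_neg (Z : Over S) (r : Γ(Z.left, ⊤)) : (Q q Z r)⁻¹ = Q q Z (-r) := by
  rw [inv_eq_iff_mul_eq_one, ← Q_add, add_neg_cancel, Q_zero]

lemma comp_Q {Z Z' : Over S} (k : Z' ⟶ Z) (r : Γ(Z.left, ⊤)) : k ≫ Q q Z r = Q q Z' (pull k r) := by
  simp only [Q, ← Category.assoc, comp_gaMk]

include hq in
lemma conj_Q {Z : Over S} (t : Z ⟶ T) (r : Γ(Z.left, ⊤)) :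
    (t ≫ i) * Q q Z r = Q q Z (Red.gmFn (t ≫ α) * r) * (t ≫ i) := by
  obtain ⟨x', h1, h2⟩ := hq Z t (gaMk Z r)
  have : x' = gaMk Z (Red.gmFn (t ≫ α) * r) := gaFn_injective (by simpa using h2)
  subst this
  exact (eq_mul_inv_iff_mul_eq.mp h1).symm

variable (hΩ : IsOpenImmersion (cell i q pm).left) [IsAffineHom G.hom] {K : Type u} [Field K]
  [IsAlgClosed K] {V : ValuationSubring K} (ψ : Spec (CommRingCat.of V) ⟶ S)
  (hT : Red.IsTorus T) [Flat T.hom] (hα : Surjective α.left)

include hq hΩ hT hα in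
/-- The parameter of an integral point of `T U` is integral. -/
theorem mult_mem (g : pt ψ (RingHom.id V) ⟶ G) (t : pt ψ V.subtype ⟶ T) (x : K)
    (hg : ptMap ψ V.subtype (RingHom.comp_id _) ≫ g = (t ≫ i) * Q q _ (fn ψ _ x)) :
    (fn ψ V.subtype).symm (Red.gmFn (t ≫ α)) * x ∈ V := by
  have : IsAffineHom T.hom := isAffineHom_of_isTorus hT
  have : IsAlgClosed (ResidueField V) := isAlgClosed_residueField V
  set z : K := (fn ψ V.subtype).symm (Red.gmFn (t ≫ α)) * x with hzdef
  let f₂ : V →+* Polynomial K := (C : K →+* Polynomial K).comp V.subtype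
  let Qz : pt ψ f₂ ⟶ G := Q q _ (fn ψ f₂ (C z * X))
  let θ := val ψ Qz
  have hKX : ∀ {L : Type u} [CommRing L] (f' : V →+* L) (j : K →+* L) (hj : j.comp V.subtype = f') (w : L),
      (Polynomial.eval₂RingHom j w).comp f₂ = f' := by
    intro L _ f' j hj w
    rw [← hj]; ext a; simp [f₂]
  -- integrality of the polynomial family
  have key : ∀ a n, (θ a).coeff n ∈ V := by
    intro a
    by_contra hne
    push Not at hne
    obtain ⟨F₀, c₁, hc₁, hF, hF₀⟩ := exists_primitive V _ hne
    obtain ⟨w₀, hw₀⟩ : ∃ w₀, (F₀.map (residue V) * (X - C (1 : ResidueField V))).eval w₀ ≠ 0 := by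
      by_contra hall
      push Not at hall
      exact mul_ne_zero hF₀ (Polynomial.X_sub_C_ne_zero 1)
        (Polynomial.funext fun r ↦ by rw [hall r, Polynomial.eval_zero])
    rw [Polynomial.eval_mul] at hw₀
    have hu : 1 - w₀ ≠ 0 := fun h ↦ right_ne_zero_of_mul hw₀ (by
      rw [Polynomial.eval_sub, Polynomial.eval_X, Polynomial.eval_C, ← neg_sub, h, neg_zero])
    obtain ⟨L, _, V', ιV, j, c, hcomm, hloc, hunit⟩ :=
      exists_torus_pt ψ hα F₀ (1 - w₀) hu (by rw [sub_sub_cancel]; exact left_ne_zero_of_mul hw₀)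
    set e := (fn ψ ιV).symm (Red.gmFn (c ≫ α)) with hedef
    let g' : pt ψ ιV ⟶ G := ptMap ψ ιV (RingHom.comp_id _) ≫ g
    let h : pt ψ ιV ⟶ G := g' * (c ≫ i) * g'⁻¹ * (c ≫ i)⁻¹
    let f₃ : V →+* L := j.comp V.subtype
    let toL : pt ψ f₃ ⟶ pt ψ ιV := ptMap ψ V'.subtype hcomm
    let toK : pt ψ f₃ ⟶ pt ψ V.subtype := ptMap ψ j rfl
    let ev := Polynomial.eval₂RingHom j (1 - V'.subtype e)
    have hg' : toL ≫ g' = toK ≫ ptMap ψ V.subtype (RingHom.comp_id _) ≫ g := by
      simp only [toL, toK, g', ← Category.assoc, ptMap_comp]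
      simp only [hcomm]
    have hL : toL ≫ h = ptMap ψ ev (hKX f₃ j rfl _) ≫ Qz := by
      have hα' : Red.gmFn ((toL ≫ c) ≫ α) = fn ψ f₃ (V'.subtype e) := by
        rw [Category.assoc, gmFn_comp, ← pull_fn ψ V'.subtype hcomm e, hedef, RingEquiv.apply_symm_apply]
      have ht' : Red.gmFn ((toK ≫ t) ≫ α) * pull toK (fn ψ _ x) = fn ψ f₃ (j z) := by
        rw [Category.assoc, gmFn_comp]
        show pull toK _ * pull toK _ = _
        rw [← pull_fn ψ j rfl z]
        show _ = pull toK (fn ψ V.subtype z)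
        rw [← map_mul]
        congr 1
        rw [hzdef, map_mul, RingEquiv.apply_symm_apply]
      rw [comp_Q, pull_fn]
      simp only [h, MonObj.comp_mul, GrpObj.comp_inv]
      rw [hg', hg, MonObj.comp_mul, comp_Q, ← Category.assoc toK, ← Category.assoc toL]
      set tL := toK ≫ t
      set cL := toL ≫ c
      set r := pull toK (fn ψ V.subtype x)
      have h1 : (cL ≫ i) * Q q _ (-r) = Q q _ (Red.gmFn (cL ≫ α) * -r) * (cL ≫ i) := conj_Q hq cL _
      have h2 : (cL ≫ i) * (tL ≫ i)⁻¹ = (tL ≫ i)⁻¹ * (cL ≫ i) := by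
        rw [← GrpObj.inv_comp, ← MonObj.mul_comp, ← MonObj.mul_comp, torus_mul_comm hT]
      have h3 : (tL ≫ i) * Q q _ (r + Red.gmFn (cL ≫ α) * -r) =
          Q q _ (Red.gmFn (tL ≫ α) * (r + Red.gmFn (cL ≫ α) * -r)) * (tL ≫ i) := conj_Q hq tL _
      calc (tL ≫ i) * Q q _ r * (cL ≫ i) * ((tL ≫ i) * Q q _ r)⁻¹ * (cL ≫ i)⁻¹
          = (tL ≫ i) * Q q _ r * ((cL ≫ i) * Q q _ (-r)) * (tL ≫ i)⁻¹ * (cL ≫ i)⁻¹ := by
            rw [_root_.mul_inv_rev, Q_neg]; simp only [_root_.mul_assoc]
        _ = (tL ≫ i) * (Q q _ r * Q q _ (Red.gmFn (cL ≫ α) * -r)) * ((cL ≫ i) * (tL ≫ i)⁻¹) *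
              (cL ≫ i)⁻¹ := by rw [h1]; simp only [_root_.mul_assoc]
        _ = Q q _ (Red.gmFn (tL ≫ α) * (r + Red.gmFn (cL ≫ α) * -r)) := by
            rw [h2, ← Q_add, h3, ← _root_.mul_assoc, mul_inv_cancel_right, mul_inv_cancel_right]
        _ = _ := by
            congr 1
            rw [show Red.gmFn (tL ≫ α) * (r + Red.gmFn (cL ≫ α) * -r) =
              Red.gmFn (tL ≫ α) * r * (1 - Red.gmFn (cL ≫ α)) by ring, ht', hα', ← map_one (fn ψ f₃),
              ← map_sub, ← map_mul]
            congr 1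
            simp [ev]
    have hvals := congrArg (fun k ↦ val ψ k a) hL
    simp only [toL, val_comp, RingHom.comp_apply] at hvals
    change (val ψ h a : L) = ev (θ a) at hvals
    have h5 : j (c₁ : K) * ev (θ a) = V'.subtype (F₀.eval₂ ιV (1 - e)) := by
      have h4 := congrArg ev hF
      rw [map_mul, show ev (C (c₁ : K)) = j (c₁ : K) from Polynomial.eval₂_C _ _] at h4
      rw [h4]
      show Polynomial.eval₂ j (1 - V'.subtype e) (F₀.map V.subtype) = _
      rw [Polynomial.eval₂_map, Polynomial.hom_eval₂, hcomm, map_sub, map_one]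
    have h6 : ιV c₁ * val ψ h a = F₀.eval₂ ιV (1 - e) := by
      have h7 : V'.subtype (ιV c₁ * val ψ h a) = V'.subtype (F₀.eval₂ ιV (1 - e)) := by
        rw [← h5, map_mul, ← hvals, ← RingHom.comp_apply, hcomm]
        rfl
      exact Subtype.ext h7
    have : IsUnit (ιV c₁) := isUnit_of_mul_isUnit_left (h6 ▸ hunit)
    exact (mem_maximalIdeal _).mp hc₁ (isUnit_of_map_unit ιV c₁ this)
  -- the integral family
  let mp : Polynomial V →+* Polynomial K := Polynomial.mapRingHom V.subtype
  have hmp : Function.Injective mp := Polynomial.map_injective _ Subtype.val_injective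
  have hr : ∀ a, θ a ∈ mp.range := fun a ↦ by
    have : θ a ∈ Polynomial.lifts V.subtype :=
      (Polynomial.lifts_iff_coeff_lifts _).mpr fun n ↦ ⟨⟨_, key a n⟩, rfl⟩
    exact (Polynomial.mem_lifts _).mp this
  let eq : Polynomial V ≃+* mp.range := RingEquiv.ofBijective mp.rangeRestrict
    ⟨fun a b h ↦ hmp (congrArg Subtype.val h), mp.rangeRestrict_surjective⟩
  let θ₀ : Γ(fibre (G := G) ψ, ⊤) →+* Polynomial V := eq.symm.toRingHom.comp (θ.codRestrict mp.range hr)
  have hθ₀ : mp.comp θ₀ = θ := RingHom.ext fun a ↦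
    congrArg Subtype.val (eq.apply_symm_apply ⟨θ a, hr a⟩)
  have hf₂ : mp.comp (C : V →+* Polynomial V) = f₂ := by
    apply RingHom.ext; intro a; simp [mp, f₂]
  obtain ⟨p, hp⟩ := exists_of_val ψ (C : V →+* Polynomial V) θ₀ (by
    apply RingHom.ext; intro a
    apply hmp
    have := RingHom.congr_fun (val_const ψ Qz) a
    rw [RingHom.comp_apply, ← RingHom.congr_fun hθ₀, ] at this
    exact this.trans (RingHom.congr_fun hf₂ a).symm)
  have hpQ : ptMap ψ mp hf₂ ≫ p = Qz := val_injective ψ (by rw [val_comp, hp, hθ₀])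
  let ev₀ (w : V) : pt ψ (RingHom.id V) ⟶ pt ψ (C : V →+* Polynomial V) :=
    ptMap ψ (Polynomial.evalRingHom w) (by apply RingHom.ext; intro a; simp)
  have hev : ∀ w : V, ptMap ψ V.subtype (RingHom.comp_id _) ≫ ev₀ w ≫ p =
      Q q _ (fn ψ V.subtype (z * w)) := by
    intro w
    have e : ptMap ψ V.subtype (RingHom.comp_id _) ≫ ev₀ w =
        ptMap ψ (Polynomial.evalRingHom (w : K)) (hKX V.subtype (RingHom.id K) rfl _) ≫ ptMap ψ mp hf₂ := by
      simp only [ev₀, ptMap_comp]
      congr 1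
      apply Polynomial.ringHom_ext <;> simp [mp]
    rw [reassoc_of% e, hpQ, comp_Q, pull_fn]
    simp
  -- the section at zero lies in the cell
  have : IsAffine (pt ψ (RingHom.id V)).left := inferInstanceAs (IsAffine (Spec (CommRingCat.of V)))
  have h0 : ev₀ 0 ≫ p = 1 :=
    ext_of_injective (ptMap ψ V.subtype (RingHom.comp_id _)) (injective_pull_ptMap ψ _ Subtype.val_injective)
      (by rw [hev, MonObj.comp_one]; simp [Q_zero])
  have hmem : ((ev₀ 0).left).base (closedPoint V) ∈ p.left.base ⁻¹' Set.range (cell i q pm).left.base := by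
    have hin : InCell i q pm (1 : pt ψ (RingHom.id V) ⟶ G) := ⟨1, 1, 1, by simp [MonObj.one_comp]⟩
    rw [Set.mem_preimage]
    refine range_subset_of_inCell hin ⟨closedPoint V, ?_⟩
    rw [← h0]
    rfl
  obtain ⟨_, ⟨f, rfl⟩, hfmem, hfsub⟩ :=
    PrimeSpectrum.isTopologicalBasis_basic_opens.exists_subset_of_mem_open hmem
      (hΩ.base_open.isOpen_range.preimage p.left.continuous)
  have hf0 : (f.map (residue V)).eval 0 ≠ 0 := by
    rw [← map_zero (residue V), Polynomial.eval_map, Polynomial.eval₂_hom]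
    intro h
    exact hfmem ((residue_eq_zero_iff _).mp h)
  obtain ⟨w₀, hw₀⟩ : ∃ w₀, (f.map (residue V) * X).eval w₀ ≠ 0 := by
    by_contra hall
    push Not at hall
    refine mul_ne_zero (fun h ↦ hf0 ((congrArg (Polynomial.eval 0) h).trans Polynomial.eval_zero)) Polynomial.X_ne_zero
      (Polynomial.funext fun r ↦ by rw [hall r, Polynomial.eval_zero])
  rw [Polynomial.eval_mul, Polynomial.eval_X] at hw₀
  obtain ⟨x₀, rfl⟩ := residue_surjective w₀
  have hx₀ : IsUnit x₀ := by
    by_contra h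
    exact right_ne_zero_of_mul hw₀ ((residue_eq_zero_iff _).mpr ((mem_maximalIdeal _).mpr h))
  have hmem₁ : (ev₀ x₀).left.base (closedPoint V) ∈ p.left.base ⁻¹' Set.range (cell i q pm).left.base := by
    refine hfsub ?_
    show f.eval x₀ ∉ maximalIdeal V
    intro h
    apply left_ne_zero_of_mul hw₀
    rw [Polynomial.eval_map, Polynomial.eval₂_hom]
    exact (residue_eq_zero_iff _).mpr h
  obtain ⟨y, t', w, hcell⟩ := inCell_of_range hΩ (g := ev₀ x₀ ≫ p)
    (range_subset_of_closedPoint _ hΩ.base_open.isOpen_range hmem₁)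
  have hK := hev x₀
  rw [← hcell] at hK
  simp only [MonObj.comp_mul, ← Category.assoc] at hK
  have hinj := (cell_inj hΩ (y' := 1) (t' := 1) (x' := gaMk _ (fn ψ V.subtype (z * x₀)))
    (hK.trans (by simp [MonObj.one_comp]))).2.2
  have hzx : z * x₀ = V.subtype ((fn ψ (RingHom.id V)).symm (Red.gaFn w)) := by
    apply (fn ψ V.subtype).injective
    rw [← pull_fn ψ V.subtype (RingHom.comp_id _), RingEquiv.apply_symm_apply]
    have := congrArg Red.gaFn hinj
    rw [gaFn_comp, gaFn_gaMk] at this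
    exact this.symm
  obtain ⟨v, rfl⟩ := hx₀
  have : z = V.subtype ((fn ψ (RingHom.id V)).symm (Red.gaFn w) * ↑v⁻¹) := by
    rw [map_mul, ← hzx, _root_.mul_assoc]
    show z = z * (((↑v : V) : K) * ((↑v⁻¹ : V) : K))
    rw [← MulMemClass.coe_mul, Units.mul_inv, OneMemClass.coe_one, _root_.mul_one]
  rw [this]
  exact ((fn ψ (RingHom.id V)).symm (Red.gaFn w) * ↑v⁻¹ : V).2

include hq hΩ hT hα in
/-- An integral point of `G` which lies generically in `T U` lies in `T U`. -/
theorem exists_eq_borel [IsClosedImmersion i.left] (g : pt ψ (RingHom.id V) ⟶ G) (t : pt ψ V.subtype ⟶ T)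
    (x : K) (hg : ptMap ψ V.subtype (RingHom.comp_id _) ≫ g = (t ≫ i) * Q q _ (fn ψ _ x)) :
    ∃ (t' : pt ψ (RingHom.id V) ⟶ T) (x' : pt ψ (RingHom.id V) ⟶ Red.Ga S), (t' ≫ i) * (x' ≫ q) = g := by
  let kK := ptMap ψ V.subtype (RingHom.comp_id V.subtype)
  let XV := pt ψ (RingHom.id V)
  have : IsAffine XV.left := inferInstanceAs (IsAffine (Spec (CommRingCat.of V)))
  have hinj : Function.Injective (pull kK) := injective_pull_ptMap ψ _ Subtype.val_injective
  have hz := mult_mem hq hΩ ψ hT hα g t x hg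
  let z : V := ⟨_, hz⟩
  have hpz : pull kK (fn ψ (RingHom.id V) z) = Red.gmFn (t ≫ α) * fn ψ V.subtype x := by
    refine (pull_fn ψ V.subtype _ z).trans ?_
    show fn ψ V.subtype ((fn ψ V.subtype).symm (Red.gmFn (t ≫ α)) * x) = _
    rw [map_mul, RingEquiv.apply_symm_apply]
  -- the torus part is integral
  let gT : XV ⟶ G := Q q XV (- fn ψ _ z) * g
  have hgT : kK ≫ gT = t ≫ i := by
    rw [MonObj.comp_mul, comp_Q, hg, map_neg, hpz, conj_Q hq, ← _root_.mul_assoc, ← Q_add,
      neg_add_cancel, Q_zero, _root_.one_mul]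
  obtain ⟨t', ht'⟩ : ∃ t' : XV ⟶ T, t' ≫ i = gT := by
    let Z := pullback i.left gT.left
    have : IsClosedImmersion (pullback.snd i.left gT.left) := MorphismProperty.pullback_snd _ _ ‹_›
    have hη : ((⟨⊥, Ideal.isPrime_bot⟩ : PrimeSpectrum V) : XV.left) ∈
        Set.range (pullback.snd i.left gT.left).base := by
      let l : (pt ψ V.subtype).left ⟶ pullback i.left gT.left :=
        pullback.lift t.left kK.left (congrArg CommaMorphism.left hgT.symm)
      let ξ : (pt ψ V.subtype).left := (closedPoint K : PrimeSpectrum K)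
      refine ⟨l.base ξ, ?_⟩
      show (l ≫ pullback.snd i.left gT.left).base ξ = _
      rw [pullback.lift_snd]
      apply PrimeSpectrum.ext
      show Ideal.comap V.subtype (maximalIdeal K) = ⊥
      rw [IsLocalRing.maximalIdeal_eq_bot]
      exact Ideal.comap_bot_of_injective _ Subtype.val_injective
    have : Surjective (pullback.snd i.left gT.left) := ⟨fun y ↦ by
      have hy : ((⟨⊥, Ideal.isPrime_bot⟩ : PrimeSpectrum V) : XV.left) ⤳ y :=
        (PrimeSpectrum.le_iff_specializes _ y).mp (bot_le : (⊥ : Ideal V) ≤ _)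
      exact hy.mem_closed (pullback.snd i.left gT.left).isClosedEmbedding.isClosed_range hη⟩
    have : IsReduced XV.left := inferInstanceAs (IsReduced (Spec (CommRingCat.of V)))
    have := isIso_of_isClosedImmersion_of_surjective (pullback.snd i.left gT.left)
    have hw : (inv (pullback.snd i.left gT.left) ≫ pullback.fst i.left gT.left) ≫ i.left = gT.left := by
      rw [Category.assoc, pullback.condition, IsIso.inv_hom_id_assoc]
    refine ⟨Over.homMk (inv (pullback.snd i.left gT.left) ≫ pullback.fst i.left gT.left) ?_, ?_⟩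
    · have h' := hw =≫ G.hom
      rw [Category.assoc _ i.left, Over.w] at h'
      exact h'.trans (Over.w gT)
    · exact Over.OverMorphism.ext hw
  -- reassemble
  obtain ⟨a, ha⟩ := isUnit_gmFn (t' ≫ α)
  refine ⟨t', gaMk XV (((a⁻¹ : Γ(XV.left, ⊤)ˣ) : Γ(XV.left, ⊤)) * fn ψ (RingHom.id V) z), ?_⟩
  show (t' ≫ i) * Q q XV _ = g
  rw [conj_Q hq, ← ha, ← _root_.mul_assoc, Units.mul_inv, _root_.one_mul, ht', ← _root_.mul_assoc,
    ← Q_add, add_neg_cancel, Q_zero, _root_.one_mul]

end Key

section Closed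

variable {i : T ⟶ G} {α : T ⟶ Red.Gm S} {q pm : Red.Ga S ⟶ G} [IsMonHom i] [IsMonHom q] [IsMonHom pm]

omit [GrpObj T] in
lemma inv_inv_hom {A B : Over S} [GrpObj B] (a : A ⟶ B) : a⁻¹⁻¹ = a := _root_.inv_inv a

/-- The map `(t, x) ↦ i t * q x`. -/
abbrev borel (i : T ⟶ G) (q : Red.Ga S ⟶ G) : T ⊗ Red.Ga S ⟶ G := (i ⊗ₘ q) ≫ μ[G]

lemma comp_borel {Z : Over S} (b : Z ⟶ T ⊗ Red.Ga S) :
    b ≫ borel i q = ((b ≫ fst _ _) ≫ i) * ((b ≫ snd _ _) ≫ q) := by
  have e : b = lift (b ≫ fst _ _) (b ≫ snd _ _) := by apply CartesianMonoidalCategory.hom_ext <;> simp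
  conv_lhs => rw [e]
  rw [borel, lift_map_assoc, Hom.mul_def]

lemma isAffineHom_Ga : IsAffineHom (Red.Ga S).hom := by
  have h0 : IsAffineHom (Red.GaZ : Over (Spec (CommRingCat.of (ULift.{u} ℤ)))).hom :=
    inferInstanceAs (IsAffineHom (Spec.map _))
  exact MorphismProperty.of_isPullback (P := @IsAffineHom)
    (IsPullback.of_hasPullback Red.GaZ.hom (specULiftZIsTerminal.from S)) h0

lemma isAffineHom_prod (hT : Red.IsTorus T) : IsAffineHom (T ⊗ Red.Ga S).hom := by
  have := isAffineHom_of_isTorus hT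
  have := isAffineHom_Ga (S := S)
  have : IsAffineHom (pullback.fst T.hom (Red.Ga S).hom) := MorphismProperty.pullback_fst _ _ inferInstance
  exact inferInstanceAs (IsAffineHom (pullback.fst T.hom (Red.Ga S).hom ≫ T.hom))

/-- The map `x ↦ (1, x)` is a closed immersion. -/
lemma isClosedImmersion_sect (hT : Red.IsTorus T) : IsClosedImmersion (lift (1 : Red.Ga S ⟶ T) (𝟙 (Red.Ga S))).left := by
  have := isAffineHom_prod hT
  let r := snd T (Red.Ga S)
  have : IsSeparated r.left := by
    have : IsSeparated (r.left ≫ (Red.Ga S).hom) := by rw [Over.w r]; infer_instance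
    exact IsSeparated.of_comp r.left (Red.Ga S).hom
  have h : (lift (1 : Red.Ga S ⟶ T) (𝟙 (Red.Ga S))).left ≫ r.left = 𝟙 _ :=
    congrArg CommaMorphism.left (lift_snd (1 : Red.Ga S ⟶ T) (𝟙 (Red.Ga S)))
  have : IsClosedImmersion ((lift (1 : Red.Ga S ⟶ T) (𝟙 (Red.Ga S))).left ≫ r.left) := by rw [h]; infer_instance
  exact IsClosedImmersion.of_comp _ r.left

variable (hq : ∀ (X : Over S) (t : X ⟶ T) (x : X ⟶ Red.Ga S), ∃ x' : X ⟶ Red.Ga S,
    x' ≫ q = (t ≫ i) * (x ≫ q) * (t ≫ i)⁻¹ ∧ Red.gaFn x' = Red.gmFn (t ≫ α) * Red.gaFn x)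
  (hΩ : IsOpenImmersion (cell i q pm).left) [IsAffineHom G.hom] (hT : Red.IsTorus T)
  [Mono i] (hα : Surjective α.left) (hαf : Flat α.left)

include hΩ hT in
lemma isPreimmersion_borel : IsPreimmersion (borel i q).left := by
  have := hΩ
  have := isAffineHom_prod hT
  have := isAffineHom_Ga (S := S)
  let s : T ⊗ Red.Ga S ⟶ (Red.Ga S ⊗ T) ⊗ Red.Ga S := lift (lift 1 (fst _ _)) (snd _ _)
  let r : (Red.Ga S ⊗ T) ⊗ Red.Ga S ⟶ T ⊗ Red.Ga S := lift (fst _ _ ≫ snd _ _) (snd _ _)
  have hB : s ≫ cell i q pm = borel i q := by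
    rw [comp_cell, MonObj.one_comp, _root_.one_mul, ← Category.id_comp (borel i q), comp_borel]
    simp
  have hr : s ≫ r = 𝟙 _ := by
    apply CartesianMonoidalCategory.hom_ext <;> simp [s, r]
  have : IsSeparated r.left := by
    have hA : IsAffineHom (Red.Ga S ⊗ T).hom := by
      have := isAffineHom_of_isTorus hT
      have : IsAffineHom (pullback.fst (Red.Ga S).hom T.hom) := MorphismProperty.pullback_fst _ _ inferInstance
      exact inferInstanceAs (IsAffineHom (pullback.fst (Red.Ga S).hom T.hom ≫ (Red.Ga S).hom))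
    have : IsAffineHom (pullback.fst (Red.Ga S ⊗ T).hom (Red.Ga S).hom) := MorphismProperty.pullback_fst _ _ inferInstance
    have : IsAffineHom ((Red.Ga S ⊗ T) ⊗ Red.Ga S).hom :=
      inferInstanceAs (IsAffineHom (pullback.fst (Red.Ga S ⊗ T).hom (Red.Ga S).hom ≫ (Red.Ga S ⊗ T).hom))
    have : IsSeparated (r.left ≫ (T ⊗ Red.Ga S).hom) := by rw [Over.w r]; infer_instance
    exact IsSeparated.of_comp r.left (T ⊗ Red.Ga S).hom
  have : IsClosedImmersion (s.left ≫ r.left) := by
    rw [← Over.comp_left, hr]; exact inferInstanceAs (IsClosedImmersion (𝟙 _))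
  have : IsClosedImmersion s.left := IsClosedImmersion.of_comp s.left r.left
  rw [← hB, Over.comp_left]
  infer_instance

include hq hΩ hT hα hαf in
/-- The subgroup `T U` is closed. -/
theorem isClosedImmersion_borel : IsClosedImmersion (borel i q).left := by
  have := isPreimmersion_borel (pm := pm) hΩ hT
  have := isAffineHom_prod hT
  have : IsAffineHom T.hom := isAffineHom_of_isTorus hT
  have : Flat T.hom := by
    have := (ds_flat_lfp S ℤ ⟨⟨{1}, by simpa [AddSubgroup.zmultiples_eq_closure] using Int.zmultiples_one⟩⟩).1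
    rw [← Over.w α]
    infer_instance
  have : IsClosedImmersion i.left := MTInt.isClosedImmersion_of_mono
    (MTInt.locTriv_of_multTypeFT (FreeDiag.isMultTypeFT_of_isTorus hT)) inferInstance i
  have : IsAffineHom (borel i q).left := by
    have : IsAffineHom ((borel i q).left ≫ G.hom) := by rw [Over.w]; infer_instance
    exact IsAffineHom.of_comp (borel i q).left G.hom
  refine IsClosedImmersion.of_isPreimmersion _ (IsClosedMap.isClosed_range ?_)
  refine (isClosedMap_iff_specializingMap _).mpr fun b ξ h ↦ ?_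
  suffices hξ : ξ ∈ Set.range (borel i q).left.base by
    obtain ⟨b', rfl⟩ := hξ
    exact ⟨b', (borel i q).left.isEmbedding.toIsInducing.specializes_iff.mp h, rfl⟩
  -- realise the specialisation
  let a₀ : (T ⊗ Red.Ga S).left.residueField b →+* AlgebraicClosure ((T ⊗ Red.Ga S).left.residueField b) :=
    algebraMap _ _
  let r : G.left.residueField ((borel i q).left.base b) →+* AlgebraicClosure ((T ⊗ Red.Ga S).left.residueField b) :=
    a₀.comp ((borel i q).left.residueFieldMap b).hom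
  obtain ⟨V, m, hm, hmK⟩ := exists_valuation_pt (Y := G.left) h r
  let ψ := m ≫ G.hom
  let g : pt ψ (RingHom.id V) ⟶ G := Over.homMk m (by
    show m ≫ G.hom = Spec.map (CommRingCat.ofHom (RingHom.id V)) ≫ ψ
    rw [CommRingCat.ofHom_id, Spec.map_id, Category.id_comp])
  have hb : (Spec.map (CommRingCat.ofHom a₀) ≫ (T ⊗ Red.Ga S).left.fromSpecResidueField b) ≫
      (borel i q).left = Spec.map (CommRingCat.ofHom V.subtype) ≫ m := by
    rw [hmK, Category.assoc, ← Scheme.Hom.SpecMap_residueFieldMap_fromSpecResidueField, ← Spec.map_comp_assoc]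
    rfl
  let bK : pt ψ V.subtype ⟶ T ⊗ Red.Ga S :=
    Over.homMk (Spec.map (CommRingCat.ofHom a₀) ≫ (T ⊗ Red.Ga S).left.fromSpecResidueField b) (by
      show (_ ≫ _) ≫ (T ⊗ Red.Ga S).hom = Spec.map (CommRingCat.ofHom V.subtype) ≫ m ≫ G.hom
      rw [← Over.w (borel i q)]
      simpa only [Category.assoc] using hb =≫ G.hom)
  have hbK : bK ≫ borel i q = ptMap ψ V.subtype (RingHom.comp_id _) ≫ g := Over.OverMorphism.ext hb
  rw [comp_borel, comp_eq_gaMk_comp (bK ≫ snd _ _)] at hbK
  obtain ⟨t', x', hg⟩ := exists_eq_borel hq hΩ ψ hT hα g (bK ≫ fst _ _)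
    ((fn ψ V.subtype).symm (Red.gaFn (bK ≫ snd _ _))) (by rw [RingEquiv.apply_symm_apply]; exact hbK.symm)
  refine ⟨(lift t' x').left.base (closedPoint V), ?_⟩
  have e : lift t' x' ≫ borel i q = g := by rw [borel, lift_map_assoc, ← Hom.mul_def, hg]
  show ((lift t' x').left ≫ (borel i q).left).base (closedPoint V) = _
  rw [← Over.comp_left, e]
  exact hm

include hq hΩ hT hα hαf in
/-- The root group is closed. -/
theorem isClosedImmersion_root : IsClosedImmersion q.left := by
  have := isClosedImmersion_borel hq hΩ hT hα hαf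
  have := isClosedImmersion_sect (T := T) hT
  have e : lift (1 : Red.Ga S ⟶ T) (𝟙 (Red.Ga S)) ≫ borel i q = q := by
    rw [comp_borel, lift_fst, lift_snd, MonObj.one_comp, _root_.one_mul, Category.id_comp]
  rw [← e, Over.comp_left]
  infer_instance

omit hq in
include hΩ in
/-- The cell with the two root groups exchanged. -/
lemma isOpenImmersion_cell_swap : IsOpenImmersion (cell i pm q).left := by
  have := hΩ
  let e : (Red.Ga S ⊗ T) ⊗ Red.Ga S ⟶ (Red.Ga S ⊗ T) ⊗ Red.Ga S :=
    lift (lift (snd _ _)⁻¹ (fst _ _ ≫ snd _ _)⁻¹) (fst _ _ ≫ fst _ _)⁻¹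
  have he : e ≫ e = 𝟙 _ := by
    apply CartesianMonoidalCategory.hom_ext
    · apply CartesianMonoidalCategory.hom_ext <;>
        simp [e, GrpObj.comp_inv, GrpObj.inv_comp, MonObj.comp_mul] <;> exact inv_inv_hom _
    · simp [e, GrpObj.comp_inv]
      exact inv_inv_hom _
  have hc : cell i pm q = e ≫ cell i q pm ≫ ι[G] := by
    rw [← Category.assoc, show e ≫ cell i q pm = _ from comp_cell i q pm _ _ _,
      ← Category.id_comp (cell i pm q)]
    have h1 : (𝟙 ((Red.Ga S ⊗ T) ⊗ Red.Ga S)) =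
        lift (lift (fst _ _ ≫ fst _ _) (fst _ _ ≫ snd _ _)) (snd _ _) := by
      apply CartesianMonoidalCategory.hom_ext
      · apply CartesianMonoidalCategory.hom_ext <;> simp
      · simp
    rw [h1, comp_cell, ← Hom.inv_def]
    simp [GrpObj.inv_comp, _root_.mul_assoc]
  have : IsIso e := ⟨⟨e, he, he⟩⟩
  have : IsIso e.left := inferInstanceAs (IsIso ((Over.forget S).map e))
  have : IsIso (ι[G]).left := inferInstanceAs (IsIso ((Over.forget S).map ι[G]))
  rw [hc, Over.comp_left, Over.comp_left]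
  infer_instance

end Closed

end Groth.Reductive2.RankOneClosed
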