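import Groth.Agent.Reductive2.RankOneGlue

/-!
Gluing along the two cells of a rank-one group: homomorphisms exist as soon as the relations hold.
-/

set_option autoImplicit false
set_option linter.unusedSectionVars false
universe u

open CategoryTheory CategoryTheory.Limits MonoidalCategory CartesianMonoidalCategory MonObj GrpObj
  AlgebraicGeometry
open Groth.Reductive

noncomputable section

namespace Groth.Reductive2

variable {S : Scheme.{u}} {G T H : Over S} [GrpObj G] [GrpObj T] [GrpObj H]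

namespace Sys

variable (D : Sys G T)

/-- The source of the cell. -/
abbrev C (_D : Sys G T) : Over S := (Red.Ga S ⊗ T) ⊗ Red.Ga S

/-- Lower coordinate. -/
abbrev yC : Γ(D.C.left, ⊤) := Red.gaFn (fst _ _ ≫ fst _ _ : D.C ⟶ Red.Ga S)
/-- Torus coordinate. -/
abbrev tC : D.C ⟶ T := fst _ _ ≫ snd _ _
/-- Upper coordinate. -/
abbrev xC : Γ(D.C.left, ⊤) := Red.gaFn (snd _ _ : D.C ⟶ Red.Ga S)

/-- The two charts of the group. -/
def chart : Bool → (D.C ⟶ G)
  | false => (D.pts D.C).M D.yC * (D.pts D.C).τ D.tC * (D.pts D.C).P D.xC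
  | true => (D.pts D.C).w 1 * ((D.pts D.C).M D.yC * (D.pts D.C).τ D.tC * (D.pts D.C).P D.xC)

lemma chart_false : D.chart false = cell D.i D.pp D.pm := by
  rw [chart, ← D.comp_pm, ← D.comp_pp, D.τ_def, ← comp_cell]
  conv_rhs => rw [← Category.id_comp (cell D.i D.pp D.pm)]
  congr 1
  apply CartesianMonoidalCategory.hom_ext
  · apply CartesianMonoidalCategory.hom_ext <;> simp
  · simp

lemma exists_comp_chart {X : Over S} (y : Γ(X.left, ⊤)) (t : X ⟶ T) (x : Γ(X.left, ⊤)) :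
    ∃ a : X ⟶ D.C, pull a D.yC = y ∧ a ≫ D.tC = t ∧ pull a D.xC = x ∧
      a ≫ D.chart false = (D.pts X).M y * (D.pts X).τ t * (D.pts X).P x := by
  let a : X ⟶ D.C := lift (lift (gaMk X y) t) (gaMk X x)
  have h1 : pull a D.yC = y := by
    show a.left.appTop _ = y
    rw [← gaFn_comp]
    simp [a]
  have h2 : a ≫ D.tC = t := by simp [a, tC]
  have h3 : pull a D.xC = x := by
    show a.left.appTop _ = x
    rw [← gaFn_comp]
    simp [a]
  exact ⟨a, h1, h2, h3, by simp [chart, MonObj.comp_mul, h1, h2, h3]⟩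

lemma comp_chart_true {X : Over S} (a : X ⟶ D.C) :
    a ≫ D.chart true = (D.pts X).w 1 * (a ≫ D.chart false) := by
  simp [chart, MonObj.comp_mul, D.pull_w_one]

instance (b : Bool) : IsOpenImmersion (D.chart b).left := by
  cases b
  · rw [chart_false]; exact D.hΩ
  · let L : G ≅ G :=
      { hom := (toUnit G ≫ (D.pts _).w 1) * 𝟙 G
        inv := (toUnit G ≫ (D.pts _).w 1)⁻¹ * 𝟙 G
        hom_inv_id := by
          simp only [MonObj.comp_mul, GrpObj.comp_inv, Category.comp_id, ← Category.assoc,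
            toUnit_unique (_ ≫ toUnit G) (toUnit G)]
          exact inv_mul_cancel_left _ _
        inv_hom_id := by
          simp only [MonObj.comp_mul, Category.comp_id, ← Category.assoc,
            toUnit_unique (_ ≫ toUnit G) (toUnit G)]
          exact mul_inv_cancel_left _ _ }
    have e : D.chart true = D.chart false ≫ L.hom := by
      simp only [L, MonObj.comp_mul, Category.comp_id, D.pull_w_one]
      rfl
    have : IsOpenImmersion (D.chart false).left := by rw [chart_false]; exact D.hΩ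
    have : IsIso L.hom := Iso.isIso_hom L
    have : IsIso L.hom.left := inferInstanceAs (IsIso ((Over.forget S).map L.hom))
    rw [e, Over.comp_left]
    infer_instance

lemma exists_lift_chart {X : Over S} (g : X ⟶ G) (b : Bool)
    (h : Set.range g.left ⊆ Set.range (D.chart b).left) : ∃ a : X ⟶ D.C, a ≫ D.chart b = g := by
  let l : X.left ⟶ D.C.left := IsOpenImmersion.lift (D.chart b).left g.left h
  have hl : l ≫ (D.chart b).left = g.left := IsOpenImmersion.lift_fac _ _ _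
  exact ⟨Over.homMk l (by rw [← Over.w (D.chart b), reassoc_of% hl, Over.w]), Over.OverMorphism.ext hl⟩

lemma inΩ_comp_chart {X : Over S} (a : X ⟶ D.C) : D.InΩ (a ≫ D.chart false) :=
  ⟨pull a D.yC, a ≫ D.tC, pull a D.xC, by simp [chart, MonObj.comp_mul]⟩

lemma jointly_surjective (g : G.left) : ∃ b, g ∈ Set.range (D.chart b).left := by
  let K := AlgebraicClosure (G.left.residueField g)
  let a : Over.mk (Red.geomPt g ≫ G.hom) ⟶ G := Over.homMk (Red.geomPt g) rfl
  have hx : (Red.geomPt g).base (IsLocalRing.closedPoint K) = g := by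
    simp only [Red.geomPt]
    exact Scheme.fromSpecResidueField_apply g _
  have key : ∀ b (c : Over.mk (Red.geomPt g ≫ G.hom) ⟶ D.C), c ≫ D.chart b = a →
      g ∈ Set.range (D.chart b).left := fun b c e ↦ by
    refine ⟨c.left.base (IsLocalRing.closedPoint K), ?_⟩
    show (c ≫ D.chart b).left.base _ = g
    rw [e]
    exact hx
  rcases Groth.Reductive.bruhat D.i D.α D.pp D.pm D.hpp D.hpm D.hΩ D.hG D.av D.h2 D.hF K a with
    ⟨t, r, e⟩ | ⟨q, t, r, e⟩
  · obtain ⟨c, -, -, -, hc⟩ := D.exists_comp_chart 0 t r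
    exact ⟨false, key _ c (by rw [hc, RankOne.M_zero, _root_.one_mul]; exact e.symm)⟩
  · obtain ⟨c, -, -, -, hc⟩ := D.exists_comp_chart (-q) t r
    refine ⟨true, key _ c ?_⟩
    rw [D.comp_chart_true, hc, ← _root_.mul_assoc, ← _root_.mul_assoc,
      ← RankOne.P_mul_w_one _ D.conj_w_P, _root_.mul_assoc _ ((D.pts _).τ t)]
    exact e.symm

/-- The covering by the two cells. -/
def cover : G.left.OpenCover where
  I₀ := Bool
  X _ := D.C.left
  f b := (D.chart b).left
  mem₀ := by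
    rw [Scheme.presieve₀_mem_precoverage_iff]
    exact ⟨D.jointly_surjective, fun b ↦ inferInstance⟩

include D in
/-- Identities may be checked where a given point lies in one of the cells. -/
theorem hom_ext_local {X : Over S} (g : X ⟶ G) {A B : X ⟶ H}
    (h : ∀ (U : Over S) (j : U ⟶ X),
      (D.InΩ (j ≫ g) ∨ ∃ g', D.InΩ g' ∧ j ≫ g = (D.pts U).w 1 * g') → j ≫ A = j ≫ B) : A = B := by
  refine hom_ext_opens fun x ↦ ?_
  obtain ⟨b, hb⟩ := D.jointly_surjective (g.left.base x)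
  refine ⟨g.left ⁻¹ᵁ (D.chart b).left.opensRange, hb, h _ _ ?_⟩
  obtain ⟨a, ha⟩ := D.exists_lift_chart (opnι (g.left ⁻¹ᵁ (D.chart b).left.opensRange) ≫ g) b (by
    rintro _ ⟨z, rfl⟩
    exact z.2)
  rw [← ha]
  cases b
  · exact .inl (D.inΩ_comp_chart a)
  · exact .inr ⟨_, D.inΩ_comp_chart a, D.comp_chart_true a⟩

end Sys

namespace Rels

variable {D : Sys G T} {fT : T ⟶ H} [IsMonHom fT] {fα : Red.Ga S ⟶ H} [IsMonHom fα] {h : 𝟙_ (Over S) ⟶ H}
  (hR : Rels D fT fα h) {X : Over S}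

variable (D fT fα h) in
/-- The morphism on the charts. -/
def pieces : Bool → (D.C ⟶ H)
  | false => φ fT fα h D.yC D.tC D.xC
  | true => hX h D.C * φ fT fα h D.yC D.tC D.xC

include hR

lemma compat (a b : Bool) :
    pullback.fst (D.cover.f a) (D.cover.f b) ≫ (pieces D fT fα h a).left =
      pullback.snd (D.cover.f a) (D.cover.f b) ≫ (pieces D fT fα h b).left := by
  let Z : Over S := Over.mk (pullback.fst (D.cover.f a) (D.cover.f b) ≫ D.C.hom)
  let u : Z ⟶ D.C := Over.homMk (pullback.fst (D.cover.f a) (D.cover.f b)) rfl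
  let v : Z ⟶ D.C := Over.homMk (pullback.snd (D.cover.f a) (D.cover.f b)) (by
    show _ = pullback.fst _ _ ≫ D.C.hom
    exact ((congrArg (_ ≫ ·) (Over.w (D.chart b))).symm.trans (pullback.condition_assoc G.hom).symm).trans
      (congrArg (_ ≫ ·) (Over.w (D.chart a))))
  suffices u ≫ pieces D fT fα h a = v ≫ pieces D fT fα h b from congrArg CommaMorphism.left this
  have e : u ≫ D.chart a = v ≫ D.chart b := Over.OverMorphism.ext pullback.condition
  cases a <;> cases b <;> simp [Sys.chart, pieces, MonObj.comp_mul, D.pull_w_one] at e ⊢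
  · obtain ⟨h1, h2, h3⟩ := D.cell_inj e
    rw [h1, h2, h3]
  · exact hR.overlap e
  · exact (hR.overlap e.symm).symm
  · obtain ⟨h1, h2, h3⟩ := D.cell_inj e
    rw [h1, h2, h3]

/-- The extension to the group. -/
def extend : G ⟶ H :=
  Over.homMk (D.cover.glueMorphisms (fun b ↦ (pieces D fT fα h b).left) hR.compat) (by
    refine Scheme.Cover.hom_ext D.cover _ _ fun b ↦ ?_
    exact (Category.assoc _ _ _).symm.trans ((congrArg (· ≫ H.hom) (D.cover.ι_glueMorphisms _ hR.compat b)).trans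
      ((Over.w _).trans (Over.w (D.chart b)).symm)))

lemma chart_extend (b : Bool) : D.chart b ≫ hR.extend = pieces D fT fα h b :=
  Over.OverMorphism.ext (D.cover.ι_glueMorphisms _ hR.compat b)

lemma extend_cell (y : Γ(X.left, ⊤)) (t : X ⟶ T) (x : Γ(X.left, ⊤)) :
    ((D.pts X).M y * (D.pts X).τ t * (D.pts X).P x) ≫ hR.extend = φ fT fα h y t x := by
  obtain ⟨a, h1, h2, h3, e⟩ := D.exists_comp_chart y t x
  rw [← e, Category.assoc, hR.chart_extend, pieces, pull_φ, h1, h2, h3]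

lemma extend_w_cell (y : Γ(X.left, ⊤)) (t : X ⟶ T) (x : Γ(X.left, ⊤)) :
    ((D.pts X).w 1 * ((D.pts X).M y * (D.pts X).τ t * (D.pts X).P x)) ≫ hR.extend =
      hX h X * φ fT fα h y t x := by
  obtain ⟨a, h1, h2, h3, e⟩ := D.exists_comp_chart y t x
  rw [← e, ← D.comp_chart_true, Category.assoc, hR.chart_extend, pieces, MonObj.comp_mul, pull_φ, pull_hX,
    h1, h2, h3]

lemma w_mul (g : X ⟶ G) : ((D.pts X).w 1 * g) ≫ hR.extend = hX h X * (g ≫ hR.extend) := by
  refine D.hom_ext_local g fun U j hj ↦ ?_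
  simp only [← Category.assoc, MonObj.comp_mul, pull_hX, D.pull_w_one]
  rcases hj with ⟨y, t, x, e⟩ | ⟨g', ⟨y, t, x, rfl⟩, e⟩
  · rw [← e, hR.extend_w_cell, hR.extend_cell]
  · rw [e, hR.extend_w_cell, ← _root_.mul_assoc, RankOne.w_sq, ← _root_.mul_assoc,
      ← _root_.mul_assoc, RankOne.τ_h_neg_one_M, _root_.mul_assoc ((D.pts U).M y), ← map_mul, hR.extend_cell,
      ← _root_.mul_assoc, hR.h_sq, φ, φ, τH_mul, ← _root_.mul_assoc (τH fT _) (Φ fα h y * _),
      ← _root_.mul_assoc (τH fT _) (Φ fα h y), hR.τ_Φ, RankOne.a_h_neg_one, inv_one, Units.val_one,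
      _root_.one_mul]
    simp only [_root_.mul_assoc]

lemma τ_mul (s : X ⟶ T) (g : X ⟶ G) :
    ((D.pts X).τ s * g) ≫ hR.extend = τH fT s * (g ≫ hR.extend) := by
  refine D.hom_ext_local g fun U j hj ↦ ?_
  simp only [← Category.assoc, MonObj.comp_mul, pull_τH, D.pull_τ]
  generalize j ≫ s = s'
  have key : ∀ (s' : U ⟶ T) y t x, ((D.pts U).τ s' * ((D.pts U).M y * (D.pts U).τ t * (D.pts U).P x)) ≫ hR.extend =
      τH fT s' * φ fT fα h y t x := fun s' y t x ↦ by
    rw [← _root_.mul_assoc, ← _root_.mul_assoc, RankOne.conjM, _root_.mul_assoc ((D.pts U).M _), ← map_mul,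
      hR.extend_cell, φ, φ, τH_mul, ← _root_.mul_assoc, ← _root_.mul_assoc, ← _root_.mul_assoc, hR.τ_Φ]
  rcases hj with ⟨y, t, x, e⟩ | ⟨g', ⟨y, t, x, rfl⟩, e⟩
  · rw [← e, key, hR.extend_cell]
  · rw [e, hR.extend_w_cell, ← _root_.mul_assoc, RankOne.τ_mul_w, _root_.mul_assoc, hR.w_mul, key,
      ← _root_.mul_assoc, ← hR.τ_h, _root_.mul_assoc]

lemma M_mul_of_inΩ (a : Γ(X.left, ⊤)) {g : X ⟶ G} (hg : D.InΩ g) :
    ((D.pts X).M a * g) ≫ hR.extend = Φ fα h a * (g ≫ hR.extend) := by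
  obtain ⟨y, t, x, rfl⟩ := hg
  rw [← _root_.mul_assoc, ← _root_.mul_assoc, ← RankOne.M_add, hR.extend_cell, hR.extend_cell, φ, φ, Φ_add]
  simp only [_root_.mul_assoc]

lemma P_mul_of_w (a : Γ(X.left, ⊤)) {g : X ⟶ G} (hg : D.InΩ g) :
    ((D.pts X).P a * ((D.pts X).w 1 * g)) ≫ hR.extend = F fα a * (((D.pts X).w 1 * g) ≫ hR.extend) := by
  rw [← _root_.mul_assoc, RankOne.P_mul_w_one _ D.conj_w_P, _root_.mul_assoc, hR.w_mul, hR.M_mul_of_inΩ _ hg,
    hR.w_mul, ← _root_.mul_assoc, hR.h_Φ, neg_neg, _root_.mul_assoc]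

lemma P_mul_of_isUnit (a : Γ(X.left, ⊤)) {y : Γ(X.left, ⊤)} (hy : IsUnit y) (t : X ⟶ T) (x : Γ(X.left, ⊤)) :
    ((D.pts X).P a * ((D.pts X).M y * (D.pts X).τ t * (D.pts X).P x)) ≫ hR.extend =
      F fα a * φ fT fα h y t x := by
  obtain ⟨u, rfl⟩ := hy
  rw [← hR.extend_cell]
  simp only [RankOne.M_eq_P_w_P _ D.conj_w_P u, _root_.mul_assoc]
  refine hR.P_mul_of_w a ⟨-↑u⁻¹, (D.pts X).h (-u) * t, ↑((D.pts X).a t)⁻¹ * ↑u⁻¹ + x, ?_⟩
  rw [RankOne.P_add, map_mul]
  simp only [_root_.mul_assoc]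
  rw [← _root_.mul_assoc ((D.pts X).P ↑u⁻¹), RankOne.P_mul_τ, _root_.mul_assoc]

lemma P_mul_of_adjacent (a y : Γ(X.left, ⊤)) (t : X ⟶ T) (x b : Γ(X.left, ⊤)) (hb : IsUnit b)
    (hyb : IsUnit (y - b)) (hab : IsUnit (1 + a * b)) (hay : IsUnit (1 + a * y)) :
    ((D.pts X).P a * ((D.pts X).M y * (D.pts X).τ t * (D.pts X).P x)) ≫ hR.extend =
      F fα a * φ fT fα h y t x := by
  obtain ⟨v₁, hv₁⟩ := hab
  set a' := (↑v₁⁻¹ : Γ(X.left, ⊤)) * a
  have hrule := (D.pts X).rule a b v₁ hv₁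
  have hF : F fα a * Φ fα h b = Φ fα h ((↑v₁⁻¹ : Γ(X.left, ⊤)) * b) * τH fT ((D.pts X).h v₁) * F fα a' := by
    have e := hR.P_mul_of_isUnit a hb 1 0
    rw [map_one, RankOne.P_zero, _root_.mul_one, _root_.mul_one, φ, τH_one, F_zero, _root_.mul_one,
      _root_.mul_one, hrule, hR.extend_cell] at e
    exact e.symm
  have hz : IsUnit (1 + a' * (y - b)) := by
    have e : 1 + a' * (y - b) = ↑v₁⁻¹ * (1 + a * y) := by
      linear_combination (exp := 1) (↑v₁⁻¹ : Γ(X.left, ⊤)) * hv₁ - v₁.inv_mul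
    rw [e]
    exact (Units.isUnit _).mul hay
  obtain ⟨v₂, hv₂⟩ := hz
  set ω := (D.pts X).M (y - b) * (D.pts X).τ t * (D.pts X).P x with hω
  have hPω : D.InΩ ((D.pts X).τ ((D.pts X).h v₁) * ((D.pts X).P a' * ω)) := by
    rw [hω, ← _root_.mul_assoc ((D.pts X).P a'), ← _root_.mul_assoc ((D.pts X).P a'),
      (D.pts X).rule a' (y - b) v₂ hv₂]
    refine ⟨↑((D.pts X).a ((D.pts X).h v₁))⁻¹ * (↑v₂⁻¹ * (y - b)), (D.pts X).h v₁ * ((D.pts X).h v₂ * t),
      ↑((D.pts X).a t)⁻¹ * (↑v₂⁻¹ * a') + x, ?_⟩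
    rw [map_mul, map_mul, RankOne.P_add, ← _root_.mul_assoc ((D.pts X).M _), ← RankOne.conjM]
    simp only [_root_.mul_assoc (G := X ⟶ G)]
    rw [← _root_.mul_assoc ((D.pts X).P _) ((D.pts X).τ t), RankOne.P_mul_τ]
    simp only [_root_.mul_assoc (G := X ⟶ G)]
  have e : (D.pts X).P a * ((D.pts X).M y * (D.pts X).τ t * (D.pts X).P x) =
      (D.pts X).M (↑v₁⁻¹ * b) * ((D.pts X).τ ((D.pts X).h v₁) * ((D.pts X).P a' * ω)) := by
    conv_lhs => rw [show y = b + (y - b) by ring, RankOne.M_add]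
    simp only [hω, ← _root_.mul_assoc (G := X ⟶ G), hrule]
    rfl
  rw [e, hR.M_mul_of_inΩ _ hPω, hR.τ_mul, hR.P_mul_of_isUnit _ hyb, ← _root_.mul_assoc, ← _root_.mul_assoc,
    ← hF, φ, φ]
  conv_rhs => rw [show y = b + (y - b) by ring, Φ_add]
  simp only [_root_.mul_assoc]

set_option maxHeartbeats 1000000 in
lemma P_mul (a : Γ(X.left, ⊤)) (g : X ⟶ G) :
    ((D.pts X).P a * g) ≫ hR.extend = F fα a * (g ≫ hR.extend) := by
  refine D.hom_ext_local g fun U j hj ↦ ?_
  simp only [← Category.assoc, MonObj.comp_mul, pull_F, D.pull_P]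
  generalize pull j a = a
  rcases hj with ⟨y, t, x, e⟩ | ⟨g', hg', e⟩
  swap
  · rw [e]; exact hR.P_mul_of_w a hg'
  rw [← e, hR.extend_cell]
  refine hom_ext_opens fun z ↦ ?_
  have push : ∀ {V : Over S} (k : V ⟶ U),
      ((D.pts V).P (pull k a) * ((D.pts V).M (pull k y) * (D.pts V).τ (k ≫ t) * (D.pts V).P (pull k x))) ≫ hR.extend =
        F fα (pull k a) * φ fT fα h (pull k y) (k ≫ t) (pull k x) →
      k ≫ ((D.pts U).P a * ((D.pts U).M y * (D.pts U).τ t * (D.pts U).P x)) ≫ hR.extend =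
        k ≫ (F fα a * φ fT fα h y t x) := by
    intro V k hk
    rw [← Category.assoc]
    simpa only [MonObj.comp_mul, pull_F, pull_φ, D.pull_P, D.pull_M, D.pull_τ] using hk
  by_cases hzy : z ∈ U.left.basicOpen y
  · exact ⟨_, hzy, push _ (hR.P_mul_of_isUnit _ (isUnit_pull_opnι le_rfl) _ _)⟩
  have hneg : ∀ r : Γ(U.left, ⊤), U.left.basicOpen (-r) = U.left.basicOpen r := fun r ↦ by
    ext w
    simp [Scheme.mem_basicOpen_top, IsUnit.neg_iff]
  have hzv : z ∈ U.left.basicOpen (1 + a * y) := by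
    rcases mem_basicOpen_or (x := z) (r := 1 + a * y) (s := -(a * y)) (t := 1) (add_neg_cancel_right _ _)
      (mem_basicOpen_of_isUnit isUnit_one) with h' | h'
    · exact h'
    · rw [hneg, Scheme.basicOpen_mul] at h'
      exact absurd h'.2 hzy
  have hzy1 : z ∈ U.left.basicOpen (y - 1) := by
    rcases mem_basicOpen_or (x := z) (r := y - 1) (s := -y) (t := -1) (by ring)
      (mem_basicOpen_of_isUnit isUnit_one.neg) with h' | h'
    · exact h'
    · rw [hneg] at h'; exact absurd h' hzy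
  rcases mem_basicOpen_or (x := z) (r := 1 + a) (s := -a) (t := 1) (add_neg_cancel_right _ _)
    (mem_basicOpen_of_isUnit isUnit_one) with hza | hza
  · set O := U.left.basicOpen (1 + a * y) ⊓ U.left.basicOpen (y - 1) ⊓ U.left.basicOpen (1 + a) with hO
    have e1 : IsUnit (pull (opnι O) (y - 1)) := isUnit_pull_opnι (inf_le_left.trans inf_le_right)
    have e2 : IsUnit (pull (opnι O) (1 + a)) := isUnit_pull_opnι inf_le_right
    have e3 : IsUnit (pull (opnι O) (1 + a * y)) := isUnit_pull_opnι (inf_le_left.trans inf_le_left)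
    rw [map_sub, map_one] at e1
    rw [map_add, map_one] at e2
    rw [map_add, map_one, map_mul] at e3
    exact ⟨O, ⟨⟨hzv, hzy1⟩, hza⟩, push (opnι O) (hR.P_mul_of_adjacent _ _ _ _ 1 isUnit_one e1
      (by rwa [_root_.mul_one]) e3)⟩
  rw [hneg] at hza
  obtain ⟨W, hW, hzW, hWle⟩ := exists_isAffineOpen_mem_and_subset
    (x := z) (U := U.left.basicOpen (1 + a * y) ⊓ U.left.basicOpen a) ⟨hzv, hza⟩
  have : IsAffine (opn W).left := hW
  refine ⟨W, hzW, ?_⟩
  obtain ⟨V, k, b₀, _, _, hb₀, hb₁⟩ := exists_adjacent_units (X := opn W)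
  have := Flat.epi_of_flat_of_surjective k.left
  refine Over.OverMorphism.ext ((cancel_epi k.left).mp (congrArg CommaMorphism.left (?_ : k ≫ _ = k ≫ _)))
  obtain ⟨ua, hua⟩ := (isUnit_pull_opnι (show W ≤ U.left.basicOpen a from fun w hw ↦ (hWle hw).2)).map (pull k)
  rw [← pull_comp_apply] at hua
  have hv := (isUnit_pull_opnι (show W ≤ U.left.basicOpen (1 + a * y) from fun w hw ↦ (hWle hw).1)).map (pull k)
  rw [← pull_comp_apply, map_add, map_one, map_mul, ← hua] at hv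
  set κ := k ≫ opnι W
  set b := ↑ua⁻¹ * b₀ with hb
  have hbu : IsUnit b := (Units.isUnit _).mul hb₀
  have g2 : IsUnit (1 + pull κ a * b) := by
    rw [← hua, hb, Units.mul_inv_cancel_left]; exact hb₁
  have g3 : IsUnit (1 + pull κ a * pull κ y) := by
    rw [← hua]; exact hv
  rw [← Category.assoc, ← Category.assoc k (opnι W)]
  refine hom_ext_opens fun w ↦ ?_
  by_cases hwy : w ∈ V.left.basicOpen (pull κ y)
  · refine ⟨_, hwy, ?_⟩
    rw [← Category.assoc, ← Category.assoc]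
    refine push _ (hR.P_mul_of_isUnit _ ?_ _ _)
    rw [pull_comp_apply]
    exact isUnit_pull_opnι le_rfl
  have hwyb : w ∈ V.left.basicOpen (pull κ y - b) := by
    rcases mem_basicOpen_or (x := w) (r := pull κ y - b) (s := -pull κ y) (t := -b) (by ring)
      (mem_basicOpen_of_isUnit hbu.neg) with h' | h'
    · exact h'
    · refine absurd ?_ hwy
      simpa [Scheme.mem_basicOpen_top, IsUnit.neg_iff] using h'
  refine ⟨_, hwyb, ?_⟩
  rw [← Category.assoc, ← Category.assoc]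
  set θ := opnι (V.left.basicOpen (pull κ y - b))
  have f1 : IsUnit (pull θ (pull κ y - b)) := isUnit_pull_opnι le_rfl
  have f2 : IsUnit (pull θ (1 + pull κ a * b)) := g2.map _
  have f3 : IsUnit (pull θ (1 + pull κ a * pull κ y)) := g3.map _
  rw [map_sub] at f1
  rw [map_add, map_one, map_mul] at f2 f3
  refine push _ (hR.P_mul_of_adjacent _ _ _ _ (pull θ b) (hbu.map _) ?_ ?_ ?_)
  · exact (congrArg (· - pull θ b) (pull_comp_apply θ κ y)).symm ▸ f1
  · exact (congrArg (fun c ↦ 1 + c * pull θ b) (pull_comp_apply θ κ a)).symm ▸ f2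
  · exact (congrArg₂ (fun c d ↦ 1 + c * d) (pull_comp_apply θ κ a) (pull_comp_apply θ κ y)).symm ▸ f3

lemma M_mul (a : Γ(X.left, ⊤)) (g : X ⟶ G) :
    ((D.pts X).M a * g) ≫ hR.extend = Φ fα h a * (g ≫ hR.extend) := by
  refine D.hom_ext_local g fun U j hj ↦ ?_
  simp only [← Category.assoc, MonObj.comp_mul, pull_Φ, D.pull_M]
  rcases hj with hg | ⟨g', -, e⟩
  · exact hR.M_mul_of_inΩ _ hg
  · rw [e, ← _root_.mul_assoc, RankOne.M_mul_w_one _ D.conj_w_P, _root_.mul_assoc, hR.w_mul, hR.P_mul,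
      hR.w_mul, ← _root_.mul_assoc, ← _root_.mul_assoc, hR.Φ_h]

lemma mul (g g' : X ⟶ G) : (g * g') ≫ hR.extend = (g ≫ hR.extend) * (g' ≫ hR.extend) := by
  refine D.hom_ext_local g fun U j hj ↦ ?_
  simp only [← Category.assoc, MonObj.comp_mul]
  generalize j ≫ g' = g'
  rcases hj with ⟨y, t, x, e⟩ | ⟨g'', ⟨y, t, x, rfl⟩, e⟩
  · rw [← e, hR.extend_cell, _root_.mul_assoc, _root_.mul_assoc, hR.M_mul, hR.τ_mul, hR.P_mul, φ]
    simp only [_root_.mul_assoc]
  · rw [e, hR.extend_w_cell, _root_.mul_assoc, hR.w_mul, _root_.mul_assoc, _root_.mul_assoc, hR.M_mul, hR.τ_mul,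
      hR.P_mul, φ]
    simp only [_root_.mul_assoc]

lemma τ_extend (t : X ⟶ T) : (D.pts X).τ t ≫ hR.extend = t ≫ fT := by
  have := hR.extend_cell 0 t 0
  rw [RankOne.M_zero, RankOne.P_zero, _root_.one_mul, _root_.mul_one, φ, Φ_zero, F_zero, _root_.one_mul,
    _root_.mul_one] at this
  exact this

lemma P_extend (x : Γ(X.left, ⊤)) : (D.pts X).P x ≫ hR.extend = F fα x := by
  have := hR.extend_cell 0 1 x
  rw [RankOne.M_zero, map_one, _root_.one_mul, _root_.one_mul, φ, Φ_zero, τH_one, _root_.one_mul,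
    _root_.one_mul] at this
  exact this

lemma one_extend : (1 : X ⟶ G) ≫ hR.extend = 1 := by
  have := hR.τ_extend (1 : X ⟶ T)
  rwa [map_one, MonObj.one_comp (f := fT)] at this

lemma w_extend : (D.pts X).w 1 ≫ hR.extend = hX h X := by
  have := hR.w_mul (1 : X ⟶ G)
  rwa [_root_.mul_one, hR.one_extend, _root_.mul_one] at this

lemma isMonHom_extend : IsMonHom hR.extend where
  one_hom := by
    have := hR.one_extend (X := 𝟙_ (Over S))
    simpa [Hom.one_def, toUnit_unique (toUnit (𝟙_ (Over S))) (𝟙 _)] using this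
  mul_hom := by
    have := hR.mul (fst G G) (snd G G)
    simpa [Hom.mul_def, lift_fst_snd, ← lift_map] using this

omit hR

/-- Homomorphisms are determined by the torus, one root group and the Weyl element. -/
theorem unique (f f' : G ⟶ H) [IsMonHom f] [IsMonHom f'] (h1 : D.i ≫ f = D.i ≫ f') (h2 : D.pp ≫ f = D.pp ≫ f')
    (h3 : (D.pts (𝟙_ (Over S))).w 1 ≫ f = (D.pts _).w 1 ≫ f') : f = f' := by
  refine hom_ext_cell D.hΩ D.hG f f' h1 h2 ?_
  let X := Red.Ga S
  let y : Γ(X.left, ⊤) := Red.gaFn (𝟙 X)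
  have e : D.pm = (D.pts X).w 1 * (D.pts X).P (-y) * ((D.pts X).w 1)⁻¹ := by
    rw [← RankOne.M_mul_w_one _ D.conj_w_P, mul_inv_cancel_right]
    exact (Category.id_comp D.pm).symm.trans (D.comp_pm (𝟙 X))
  have hw : (D.pts X).w 1 ≫ f = (D.pts X).w 1 ≫ f' := by
    rw [← D.pull_w_one (toUnit X), Category.assoc, Category.assoc, h3]
  have hP : (D.pts X).P (-y) ≫ f = (D.pts X).P (-y) ≫ f' := by
    rw [D.P_def, Category.assoc, Category.assoc, h2]
  rw [e, MonObj.mul_comp, MonObj.mul_comp, GrpObj.inv_comp, MonObj.mul_comp, MonObj.mul_comp, GrpObj.inv_comp,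
    hw, hP]

/-- The relations hold for the images under a homomorphism. -/
theorem of_hom (f : G ⟶ H) [IsMonHom f] :
    Rels D (D.i ≫ f) (D.pp ≫ f) ((D.pts (𝟙_ (Over S))).w 1 ≫ f) where
  conj Y t r := by
    rw [← Category.assoc, ← Category.assoc, ← Category.assoc, ← D.P_def, ← D.P_def, ← D.τ_def,
      ← MonObj.mul_comp, ← MonObj.mul_comp, RankOne.conjP]
  torus Y t := by
    rw [← Category.assoc t, ← Category.assoc ((D.pts Y).σ t), ← D.τ_def, ← D.τ_def, ← Category.assoc, D.pull_w_one,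
      ← MonObj.mul_comp, ← MonObj.mul_comp, RankOne.τ_mul_w, D.σ_σ]
  sq := by rw [← MonObj.mul_comp, RankOne.w_sq, ← Category.assoc]; rfl
  cube := by
    rw [← Category.assoc, ← D.P_def, ← MonObj.mul_comp, ← MonObj.pow_comp,
      show (1 : Γ((𝟙_ (Over S)).left, ⊤)) = ((1 : Γ((𝟙_ (Over S)).left, ⊤)ˣ) : Γ((𝟙_ (Over S)).left, ⊤)) from rfl,
      RankOne.w_mul_P_cube _ D.conj_w_P, MonObj.one_comp]

end Rels

end Groth.Reductive2
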