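import Groth.Agent.Reductive2.RankOneLocal

/-!
A homomorphism out of a rank-one group is given by the torus, one root group and a Weyl element,
subject to the standard relations.
-/

set_option autoImplicit false
set_option linter.unusedSectionVars false
universe u

open CategoryTheory CategoryTheory.Limits MonoidalCategory CartesianMonoidalCategory MonObj GrpObj
  AlgebraicGeometry
open Groth.Reductive

noncomputable section

namespace Groth.Reductive2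

variable {S : Scheme.{u}} {G T H : Over S} [GrpObj G] [GrpObj T] [GrpObj H]

/-- The defining relations of a rank-one group. -/
structure Rels (D : Sys G T) (fT : T ⟶ H) (fα : Red.Ga S ⟶ H) (h : 𝟙_ (Over S) ⟶ H) : Prop where
  conj : ∀ (X : Over S) (t : X ⟶ T) (r : Γ(X.left, ⊤)),
    (t ≫ fT) * (gaMk X r ≫ fα) = (gaMk X (↑((D.pts X).a t) * r) ≫ fα) * (t ≫ fT)
  torus : ∀ (X : Over S) (t : X ⟶ T),
    (toUnit X ≫ h) * (t ≫ fT) = ((D.pts X).σ t ≫ fT) * (toUnit X ≫ h)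
  sq : h * h = (D.pts _).h (-1) ≫ fT
  cube : (h * (gaMk _ 1 ≫ fα)) ^ 3 = 1

namespace Rels

variable {D : Sys G T} {fT : T ⟶ H} [IsMonHom fT] {fα : Red.Ga S ⟶ H} [IsMonHom fα] {h : 𝟙_ (Over S) ⟶ H}
  (hR : Rels D fT fα h) {X Y : Over S}

variable (h) in
/-- The Weyl element at `X`. -/
def hX (X : Over S) : X ⟶ H := toUnit X ≫ h

variable (fα) in
/-- The image of the upper root group. -/
def F (r : Γ(X.left, ⊤)) : X ⟶ H := gaMk X r ≫ fα

variable (fT) in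
/-- The image of the torus. -/
def τH (t : X ⟶ T) : X ⟶ H := t ≫ fT

variable (fα h) in
/-- The image of the lower root group. -/
def Φ (y : Γ(X.left, ⊤)) : X ⟶ H := hX h X * F fα (-y) * (hX h X)⁻¹

variable (fT fα h) in
/-- The image of a point of the cell. -/
def φ (y : Γ(X.left, ⊤)) (t : X ⟶ T) (x : Γ(X.left, ⊤)) : X ⟶ H := Φ fα h y * τH fT t * F fα x

@[simp] lemma pull_hX (q : Y ⟶ X) : q ≫ hX h X = hX h Y := by
  rw [hX, hX, ← Category.assoc, toUnit_unique (q ≫ toUnit X) (toUnit Y)]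

@[simp] lemma pull_F (q : Y ⟶ X) (r : Γ(X.left, ⊤)) : q ≫ F fα r = F fα (pull q r) := by
  rw [F, F, ← Category.assoc, comp_gaMk]

@[simp] lemma pull_τH (q : Y ⟶ X) (t : X ⟶ T) : q ≫ τH fT t = τH fT (q ≫ t) := (Category.assoc _ _ _).symm

@[simp] lemma pull_Φ (q : Y ⟶ X) (r : Γ(X.left, ⊤)) : q ≫ Φ fα h r = Φ fα h (pull q r) := by
  simp [Φ, MonObj.comp_mul, GrpObj.comp_inv]

@[simp] lemma pull_φ (q : Y ⟶ X) (y : Γ(X.left, ⊤)) (t : X ⟶ T) (x : Γ(X.left, ⊤)) :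
    q ≫ φ fT fα h y t x = φ fT fα h (pull q y) (q ≫ t) (pull q x) := by
  simp [φ, MonObj.comp_mul]

lemma F_add (r s : Γ(X.left, ⊤)) : F fα (r + s) = F fα r * F fα s := by
  rw [F, F, F, ← MonObj.mul_comp _ _ fα]
  congr 1
  exact gaFn_injective (by simp [gaFn_mul])

lemma F_zero : F fα (0 : Γ(X.left, ⊤)) = 1 := by
  have e := F_add (fα := fα) (0 : Γ(X.left, ⊤)) 0
  rw [add_zero] at e
  exact left_eq_mul.mp e

lemma F_neg (r : Γ(X.left, ⊤)) : F fα (-r) = (F fα r)⁻¹ :=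
  eq_inv_of_mul_eq_one_left (by rw [← F_add, neg_add_cancel, F_zero])

lemma τH_mul (s t : X ⟶ T) : τH fT (s * t) = τH fT s * τH fT t := MonObj.mul_comp _ _ _

lemma τH_one : τH fT (1 : X ⟶ T) = 1 := MonObj.one_comp _

lemma Φ_add (r s : Γ(X.left, ⊤)) : Φ fα h (r + s) = Φ fα h r * Φ fα h s := by
  simp only [Φ, neg_add, F_add, _root_.mul_assoc, inv_mul_cancel_left]

lemma Φ_zero : Φ fα h (0 : Γ(X.left, ⊤)) = 1 := by
  simp [Φ, F_zero]

include hR

lemma τ_F (t : X ⟶ T) (r : Γ(X.left, ⊤)) :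
    τH fT t * F fα r = F fα ((↑((D.pts X).a t) : Γ(X.left, ⊤)) * r) * τH fT t := hR.conj X t r

lemma F_τ (t : X ⟶ T) (r : Γ(X.left, ⊤)) :
    F fα r * τH fT t = τH fT t * F fα ((↑((D.pts X).a t)⁻¹ : Γ(X.left, ⊤)) * r) := by
  rw [hR.τ_F, Units.mul_inv_cancel_left]

lemma h_τ (t : X ⟶ T) : hX h X * τH fT t = τH fT ((D.pts X).σ t) * hX h X := hR.torus X t

lemma τ_h (t : X ⟶ T) : τH fT t * hX h X = hX h X * τH fT ((D.pts X).σ t) := by
  rw [hR.h_τ, D.σ_σ]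

lemma h_sq : hX h X * hX h X = τH fT ((D.pts X).h (-1)) := by
  rw [hX, ← MonObj.comp_mul, hR.sq, ← Category.assoc, D.pull_h]
  congr 2
  exact Units.ext (by simp)

lemma z_F (r : Γ(X.left, ⊤)) :
    τH fT ((D.pts X).h (-1)) * F fα r = F fα r * τH fT ((D.pts X).h (-1)) := by
  rw [hR.τ_F, RankOne.a_h_neg_one, Units.val_one, _root_.one_mul]

lemma h_Φ (r : Γ(X.left, ⊤)) : hX h X * Φ fα h r = F fα (-r) * hX h X := by
  rw [Φ, ← _root_.mul_assoc, ← _root_.mul_assoc, hR.h_sq, hR.z_F, ← hR.h_sq, ← _root_.mul_assoc,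
    mul_inv_cancel_right]

lemma Φ_h (r : Γ(X.left, ⊤)) : Φ fα h r * hX h X = hX h X * F fα (-r) := by
  rw [Φ, inv_mul_cancel_right]

lemma τ_Φ (t : X ⟶ T) (r : Γ(X.left, ⊤)) :
    τH fT t * Φ fα h r = Φ fα h ((↑((D.pts X).a t)⁻¹ : Γ(X.left, ⊤)) * r) * τH fT t := by
  refine mul_right_cancel (b := hX h X) ?_
  rw [_root_.mul_assoc, hR.Φ_h, ← _root_.mul_assoc, hR.τ_h, _root_.mul_assoc, hR.τ_F, D.a_σ,
    ← _root_.mul_assoc, mul_neg, ← hR.Φ_h, _root_.mul_assoc, ← hR.τ_h, ← _root_.mul_assoc]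

/-- The cube relation, conjugated by the torus. -/
lemma conj_unit (u : Γ(X.left, ⊤)ˣ) :
    hX h X * F fα ↑u * (hX h X)⁻¹ = F fα (-↑u⁻¹) * hX h X * τH fT ((D.pts X).h u) * F fα (-↑u⁻¹) := by
  obtain ⟨hfl, hsu⟩ := flat_surjective_char D.α D.hT D.hα
  obtain ⟨X', q, t, _, _, -, ht⟩ := exists_torusPt D.α u
  have := Flat.epi_of_flat_of_surjective q.left
  refine Over.OverMorphism.ext ((cancel_epi q.left).mp (congrArg CommaMorphism.left
    (?_ : q ≫ _ = q ≫ _)))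
  simp only [MonObj.comp_mul, GrpObj.comp_inv, pull_hX, pull_F, pull_τH, map_neg, D.pull_h]
  set u' := Units.map (pull q).toMonoidHom u with hu'
  have ha : (D.pts X').a t = u' := Units.ext (by rw [D.a_def, ht]; rfl)
  rw [show pull q (↑u : Γ(X.left, ⊤)) = ↑u' from rfl, show pull q (↑u⁻¹ : Γ(X.left, ⊤)) = ↑u'⁻¹ from rfl]
  set e := F fα (1 : Γ(X'.left, ⊤)) with he
  set z := τH fT ((D.pts X').h (-1))
  have hcube : (hX h X' * e) ^ 3 = 1 := by
    have := congrArg (toUnit X' ≫ ·) hR.cube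
    simp only [pow_succ, pow_zero, _root_.one_mul, MonObj.comp_mul, MonObj.comp_one] at this ⊢
    rwa [← Category.assoc, comp_gaMk, map_one] at this
  have hzinv : (hX h X')⁻¹ * z = hX h X' := by
    rw [show z = hX h X' * hX h X' from hR.h_sq.symm, inv_mul_cancel_left]
  have h1 : hX h X' * e * (hX h X')⁻¹ = e⁻¹ * hX h X' * e⁻¹ := by
    have hh : hX h X' * e * hX h X' = e⁻¹ * (hX h X')⁻¹ * e⁻¹ := by
      simp only [pow_succ, pow_zero, _root_.one_mul, _root_.mul_assoc] at hcube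
      apply mul_right_cancel (b := e * (hX h X' * e))
      simp only [_root_.mul_assoc, inv_mul_cancel_left, inv_mul_cancel, hcube]
    have hh' := congrArg (· * z) hh
    have hzF : e⁻¹ * z = z * e⁻¹ := by rw [he, ← F_neg, hR.z_F]
    simp only [_root_.mul_assoc, hzF] at hh'
    rw [← _root_.mul_assoc ((hX h X')⁻¹) z, hzinv] at hh'
    have hhz : hX h X' * z = (hX h X')⁻¹ := by
      apply mul_left_cancel (a := hX h X')
      rw [← _root_.mul_assoc, hR.h_sq, mul_inv_cancel, ← τH_mul, ← map_mul, neg_mul_neg, _root_.one_mul,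
        map_one, τH_one]
    rw [hhz] at hh'
    simpa only [_root_.mul_assoc] using hh'
  set σt := τH fT ((D.pts X').σ t) with hσt
  have h2 : F fα (↑u' : Γ(X'.left, ⊤)) = τH fT t * e * (τH fT t)⁻¹ := by
    rw [he, hR.τ_F, ha, _root_.mul_one, mul_inv_cancel_right]
  have h3 : σt * e⁻¹ = F fα (-↑u'⁻¹) * σt := by
    rw [he, ← F_neg, hσt, hR.τ_F, D.a_σ, ha, mul_neg, _root_.mul_one]
  have h4 : σt * hX h X' * σt⁻¹ = hX h X' * τH fT ((D.pts X').h u') := by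
    rw [hσt, hR.τ_h, D.σ_σ, _root_.mul_assoc, mul_right_inj, mul_inv_eq_iff_eq_mul, ← τH_mul]
    congr 1
    rw [RankOne.σ, ha, mul_inv_cancel_left]
  calc hX h X' * F fα ↑u' * (hX h X')⁻¹
      = σt * (hX h X' * e * (hX h X')⁻¹) * σt⁻¹ := by
        rw [h2, ← _root_.mul_assoc, ← _root_.mul_assoc, hR.h_τ]
        have : (τH fT t)⁻¹ * (hX h X')⁻¹ = (hX h X')⁻¹ * σt⁻¹ := by
          rw [← _root_.mul_inv_rev, ← _root_.mul_inv_rev, hR.h_τ]
        simp only [_root_.mul_assoc, this]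
        rfl
    _ = F fα (-↑u'⁻¹) * (σt * hX h X' * σt⁻¹) * F fα (-↑u'⁻¹) := by
        have h5 : e⁻¹ * σt⁻¹ = σt⁻¹ * F fα (-↑u'⁻¹) := by
          apply mul_left_cancel (a := σt)
          rw [← _root_.mul_assoc, h3, mul_inv_cancel_right, mul_inv_cancel_left]
        rw [h1]
        simp only [_root_.mul_assoc, h5]
        simp only [← _root_.mul_assoc, h3]
    _ = _ := by rw [h4]; simp only [_root_.mul_assoc]

lemma Φ_unit (y : Γ(X.left, ⊤)ˣ) :
    Φ fα h (↑y : Γ(X.left, ⊤)) = F fα ↑y⁻¹ * hX h X * τH fT ((D.pts X).h (-y)) * F fα ↑y⁻¹ := by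
  have := hR.conj_unit (-y)
  simp only [Units.val_neg, inv_neg, neg_neg] at this
  exact this

/-- The two definitions agree on both cells. -/
lemma overlap {y : Γ(X.left, ⊤)} {t : X ⟶ T} {x y' : Γ(X.left, ⊤)} {t' : X ⟶ T} {x' : Γ(X.left, ⊤)}
    (e : (D.pts X).M y * (D.pts X).τ t * (D.pts X).P x =
      (D.pts X).w 1 * ((D.pts X).M y' * (D.pts X).τ t' * (D.pts X).P x')) :
    φ fT fα h y t x = hX h X * φ fT fα h y' t' x' := by
  obtain ⟨u, rfl⟩ := D.isUnit_of_mem_both e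
  have e1 := e
  rw [RankOne.M_eq_P_w_P _ D.conj_w_P u] at e1
  simp only [_root_.mul_assoc, mul_right_inj] at e1
  rw [← _root_.mul_assoc ((D.pts X).P _) ((D.pts X).τ t), RankOne.P_mul_τ, _root_.mul_assoc,
    ← RankOne.P_add, ← _root_.mul_assoc ((D.pts X).τ _) ((D.pts X).τ t), ← map_mul,
    ← _root_.mul_assoc, ← _root_.mul_assoc] at e1
  obtain ⟨rfl, rfl, rfl⟩ := D.cell_inj e1
  rw [φ, φ, hR.Φ_unit, ← _root_.mul_assoc (hX h X), ← _root_.mul_assoc (hX h X), hR.h_Φ, neg_neg, τH_mul, F_add]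
  simp only [_root_.mul_assoc]
  rw [← _root_.mul_assoc (F fα ↑u⁻¹) (τH fT t), hR.F_τ, _root_.mul_assoc]

end Rels

end Groth.Reductive2
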