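import Groth.Agent.Reductive2.RankOneBruhat

/-!
Points inverting a non-zero multiple of the coroot.
-/

set_option autoImplicit false
universe u

open CategoryTheory MonoidalCategory CartesianMonoidalCategory MonObj GrpObj AlgebraicGeometry
open Groth.Reductive2

noncomputable section

namespace Groth.Reductive

variable {S : Scheme.{u}} {G T : Over S} [GrpObj G] [GrpObj T] (i : T ⟶ G) [IsMonHom i]
  (α : T ⟶ Red.Gm S) [IsMonHom α] (pp pm : Red.Ga S ⟶ G) [IsMonHom pp] [IsMonHom pm]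
  (hpp : ∀ (X : Over S) (t : X ⟶ T) (x : X ⟶ Red.Ga S), ∃ x' : X ⟶ Red.Ga S,
    x' ≫ pp = (t ≫ i) * (x ≫ pp) * (t ≫ i)⁻¹ ∧ Red.gaFn x' = Red.gmFn (t ≫ α) * Red.gaFn x)
  (hpm : ∀ (X : Over S) (t : X ⟶ T) (y : X ⟶ Red.Ga S), ∃ y' : X ⟶ Red.Ga S,
    y' ≫ pm = (t ≫ i) * (y ≫ pm) * (t ≫ i)⁻¹ ∧ Red.gaFn y' * Red.gmFn (t ≫ α) = Red.gaFn y)
  (hΩ : IsOpenImmersion (((pm ⊗ₘ i) ⊗ₘ pp) ≫ (μ[G] ▷ G) ≫ μ[G]).left)
  (hG : Red.IsReductive G)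
  (av : Red.Gm S ⟶ T) [IsMonHom av] (h2 : av ≫ α = (𝟙 (Red.Gm S)) ^ 2)
  (hF : ∀ (X : Over S) (x y : X ⟶ Red.Ga S), IsUnit (1 + Red.gaFn x * Red.gaFn y) →
    ∃ (x' y' : X ⟶ Red.Ga S) (z : X ⟶ Red.Gm S), Red.gmFn z = 1 + Red.gaFn x * Red.gaFn y ∧
      Red.gaFn x' * Red.gmFn z = Red.gaFn x ∧ Red.gaFn y' * Red.gmFn z = Red.gaFn y ∧
      (x ≫ pp) * (y ≫ pm) = (y' ≫ pm) * (z ≫ av ≫ i) * (x' ≫ pp))

local notation "𝒮" => rankOneOfPoints i α pp pm hpp hpm av h2 hF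

lemma τh_zpow {X : Over S} (v : Γ(X.left, ⊤)ˣ) (n : ℤ) :
    (𝒮 X).τ ((𝒮 X).h (v ^ n)) = ((gmMk X v ≫ av) ^ n) ≫ i := by
  rw [map_zpow]; rfl

include hΩ hG in
/-- A point inverting a non-zero multiple of the coroot is a torus point times the Weyl element. -/
theorem exists_eq_torus_mul_w_inv (hT : Red.IsTorus T) (n : ℤ) (hn : n ≠ 0) (w : 𝟙_ (Over S) ⟶ G)
    (hw : ∀ (X : Over S) (z : X ⟶ Red.Gm S),
      (toUnit X ≫ w) * (((z ≫ av) ^ n) ≫ i) * (toUnit X ≫ w)⁻¹ = ((((z ≫ av) ^ n) ≫ i))⁻¹) :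
    ∃ t : 𝟙_ (Over S) ⟶ T, w = (𝒮 (𝟙_ (Over S))).τ t * ((𝒮 (𝟙_ (Over S))).w 1)⁻¹ := by
  obtain ⟨t, ht⟩ := exists_eq_torus_of_commute i α pp pm hpp hpm hΩ hG av h2 hF hT n hn
    (w * (𝒮 (𝟙_ (Over S))).w 1) fun X' q v ↦ by
    rw [MonObj.comp_mul, comp_w i α pp pm hpp hpm av h2 hF, map_one, toUnit_unique q (toUnit X')]
    set 𝒳 := 𝒮 X'
    set W := toUnit X' ≫ w
    set c := 𝒳.τ (𝒳.h (v ^ n)) with hc
    have h1 : W * c * W⁻¹ = c⁻¹ := by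
      rw [hc, τh_zpow]; exact hw X' _
    have h3 : 𝒳.w 1 * c * (𝒳.w 1)⁻¹ = c⁻¹ := by
      rw [hc, 𝒳.w_torus, RankOne.a_h, map_mul, map_mul]; simp [_root_.mul_assoc]
    calc W * 𝒳.w 1 * c = W * (𝒳.w 1 * c * (𝒳.w 1)⁻¹) * 𝒳.w 1 := by simp [_root_.mul_assoc]
      _ = W * c⁻¹ * W⁻¹ * (W * 𝒳.w 1) := by rw [h3]; simp [_root_.mul_assoc]
      _ = _ := by
        rw [show W * c⁻¹ * W⁻¹ = c by
          simpa [_root_.mul_assoc] using congrArg (·⁻¹) h1]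
  exact ⟨t, eq_mul_inv_of_mul_eq ht.symm⟩

end Groth.Reductive
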