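import Groth.Agent.Reductive2.RankOneMap

/-!
The isomorphism theorem in semisimple rank one.
-/

set_option autoImplicit false
set_option linter.unusedSectionVars false
universe u

open CategoryTheory CategoryTheory.Limits MonoidalCategory CartesianMonoidalCategory MonObj GrpObj
  AlgebraicGeometry
open Groth.Reductive

noncomputable section

namespace Groth.Reductive2.Sys

variable {S : Scheme.{u}} {G T G' T' : Over S} [GrpObj G] [GrpObj T] [GrpObj G'] [GrpObj T']
  {D : Sys G T} {D' : Sys G' T'} {q : ℕ} (hq0 : 0 < q)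
  (hq : ∀ (X : Over S) (a b : Γ(X.left, ⊤)), (a + b) ^ q = a ^ q + b ^ q)
  {c : Γ((𝟙_ (Over S)).left, ⊤)ˣ}

/-- Compatibility with the coroots from the map of tori. -/
theorem corootCompat_of_torusMap {f : G ⟶ G'} [IsMonHom f] (fT : T ⟶ T') (h1 : D.i ≫ f = fT ≫ D'.i)
    (h2 : D.av ≫ fT = D'.av ^ q) : CorootCompat D D' f q := fun X v ↦ by
  rw [D.τ_def, D'.τ_def, D.h_def, Category.assoc, Category.assoc, h1, ← Category.assoc D.av, h2,
    ← Category.assoc, MonObj.comp_pow, ← D'.h_def, map_pow]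

include hq0 hq in
/-- Homomorphisms with the same map of tori and the same upper root group map are equal. -/
theorem eq_of_mapP {f f' : G ⟶ G'} [IsMonHom f] [IsMonHom f'] (h : D.i ≫ f = D.i ≫ f')
    (hh : CorootCompat D D' f q) (hP : MapP D D' f q ↑c) (hP' : MapP D D' f' q ↑c) : f = f' := by
  have hh' : CorootCompat D D' f' q := fun X v ↦ by
    rw [← hh X v, D.τ_def, Category.assoc, Category.assoc, h]
  have hM := mapM_of_compat hq0 hq hh hP
  have hM' := mapM_of_compat hq0 hq hh' hP'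
  refine hom_ext_cell D.hΩ D.hG f f' h ?_ ?_
  · rw [← Category.id_comp D.pp, D.comp_pp (𝟙 _), hP, hP']
  · rw [← Category.id_comp D.pm, D.comp_pm (𝟙 _), hM, hM']

variable (c q) in
/-- The endomorphism `x ↦ c x ^ q` of the additive group. -/
def powScale : Red.Ga S ⟶ Red.Ga S :=
  gaMk _ (pull (toUnit _) (↑c : Γ((𝟙_ (Over S)).left, ⊤)) * Red.gaFn (𝟙 (Red.Ga S)) ^ q)

lemma comp_powScale {X : Over S} (x : X ⟶ Red.Ga S) :
    x ≫ powScale q c = gaMk X (pull (toUnit X) (↑c : Γ((𝟙_ (Over S)).left, ⊤)) * Red.gaFn x ^ q) := by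
  rw [powScale, comp_gaMk, map_mul, map_pow, ← pull_comp_apply, toUnit_unique (x ≫ toUnit _) (toUnit X),
    show pull x (Red.gaFn (𝟙 (Red.Ga S))) = Red.gaFn (x ≫ 𝟙 _) from (gaFn_comp x _).symm, Category.comp_id]

include hq0 hq in
lemma isMonHom_powScale : IsMonHom (powScale (S := S) q c) where
  one_hom := gaFn_injective (by
    rw [comp_powScale, gaFn_gaMk, show (η : 𝟙_ (Over S) ⟶ Red.Ga S) = 1 by
      simp [Hom.one_def, toUnit_unique (toUnit (𝟙_ (Over S))) (𝟙 _)], gaFn_one, zero_pow hq0.ne', mul_zero])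
  mul_hom := by
    have e : (μ : Red.Ga S ⊗ Red.Ga S ⟶ Red.Ga S) = fst _ _ * snd _ _ := by
      simp [Hom.mul_def]
    have e2 : (powScale (S := S) q c ⊗ₘ powScale q c) = lift (fst _ _ ≫ powScale q c) (snd _ _ ≫ powScale q c) := by
      apply CartesianMonoidalCategory.hom_ext <;> simp
    rw [e2, ← Hom.mul_def, e]
    refine gaFn_injective ?_
    rw [comp_powScale, gaFn_gaMk, comp_powScale, comp_powScale, gaFn_mul, gaFn_mul, gaFn_gaMk, gaFn_gaMk, hq, mul_add]

include hq0 hq in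
/-- The isomorphism theorem: existence. -/
theorem exists_extension (D : Sys G T) (D' : Sys G' T') (c : Γ((𝟙_ (Over S)).left, ⊤)ˣ) (fT : T ⟶ T')
    [IsMonHom fT] (hα : fT ≫ D'.α = D.α ^ q) (hav : D.av ≫ fT = D'.av ^ q) :
    ∃ f : G ⟶ G', IsMonHom f ∧ D.i ≫ f = fT ≫ D'.i ∧ MapP D D' f q ↑c := by
  have := isMonHom_powScale (c := c) hq0 hq
  set cX : ∀ X : Over S, Γ(X.left, ⊤)ˣ := fun X ↦ Units.map (pull (toUnit X)).toMonoidHom c with hc
  have hfα : ∀ {X : Over S} (r : Γ(X.left, ⊤)),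
      gaMk X r ≫ powScale q c ≫ D'.pp = (D'.pts X).P (↑(cX X) * r ^ q) := fun r ↦ by
    rw [← Category.assoc, comp_powScale, gaFn_gaMk]; rfl
  have ha : ∀ {X : Over S} (t : X ⟶ T), (D'.pts X).a (t ≫ fT) = (D.pts X).a t ^ q := fun t ↦ Units.ext (by
    rw [D'.a_def, Units.val_pow_eq_pow_val, D.a_def, Category.assoc, hα, MonObj.comp_pow, gmFn_pow])
  have hhv : ∀ {X : Over S} (v : Γ(X.left, ⊤)ˣ), (D.pts X).h v ≫ fT = (D'.pts X).h (v ^ q) := fun v ↦ by
    rw [D.h_def, Category.assoc, hav, MonObj.comp_pow, ← D'.h_def, map_pow]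
  have hR : Rels D (fT ≫ D'.i) (powScale q c ≫ D'.pp) ((D'.pts (𝟙_ (Over S))).w c) :=
    { conj := fun X t r ↦ by
        rw [hfα, hfα, ← Category.assoc, ← D'.τ_def, RankOne.conjP, ha, mul_pow, Units.val_pow_eq_pow_val,
          mul_left_comm]
      torus := fun X t ↦ by
        have e : (D.pts X).σ t ≫ fT = (D'.pts X).σ (t ≫ fT) := by
          rw [RankOne.σ, RankOne.σ, MonObj.mul_comp, GrpObj.inv_comp, hhv, ha]
        rw [D'.pull_w, ← Category.assoc, ← Category.assoc ((D.pts X).σ t), ← D'.τ_def, ← D'.τ_def, e,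
          RankOne.τ_mul_w, D'.σ_σ]
      sq := by
        rw [RankOne.w_sq, ← Category.assoc, hhv, ← D'.τ_def,
          show ((-1 : Γ((𝟙_ (Over S)).left, ⊤)ˣ)) ^ q = -1 from Units.ext (by
            rw [Units.val_pow_eq_pow_val, Units.val_neg, Units.val_one, neg_pow_q hq0 hq, one_pow])]
      cube := by
        have ec : cX (𝟙_ (Over S)) = c := Units.ext (by
          show pull (toUnit (𝟙_ (Over S))) _ = _
          rw [toUnit_unique (toUnit (𝟙_ (Over S))) (𝟙 _), pull_id, RingHom.id_apply])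
        rw [hfα, one_pow, _root_.mul_one, ec, RankOne.w_mul_P_cube _ D'.conj_w_P] }
  refine ⟨hR.extend, hR.isMonHom_extend, ?_, fun X r ↦ ?_⟩
  · have := hR.τ_extend (𝟙 T)
    rwa [D.τ_def, Category.id_comp, Category.id_comp] at this
  · rw [hR.P_extend]
    exact hfα r

end Groth.Reductive2.Sys
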