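import Groth.Agent.Reductive2.RankOneSys

/-!
Equalities of points checked locally, and a quadratic faithfully flat extension.
-/

set_option autoImplicit false
universe u

open CategoryTheory MonoidalCategory CartesianMonoidalCategory AlgebraicGeometry

noncomputable section

namespace Groth.Reductive2

variable {S : Scheme.{u}}

/-- An open subscheme over the base. -/
abbrev opn {X : Over S} (U : X.left.Opens) : Over S := Over.mk (U.ι ≫ X.hom)

/-- The inclusion of an open subscheme. -/
abbrev opnι {X : Over S} (U : X.left.Opens) : opn U ⟶ X := Over.homMk U.ι rfl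

theorem hom_ext_opens {X H : Over S} {A B : X ⟶ H}
    (h : ∀ x : X.left, ∃ U : X.left.Opens, x ∈ U ∧ opnι U ≫ A = opnι U ≫ B) : A = B :=
  Over.OverMorphism.ext (Scheme.hom_ext_of_forall _ _ fun x ↦ by
    obtain ⟨U, hx, e⟩ := h x
    exact ⟨U, hx, congrArg CommaMorphism.left e⟩)

lemma isUnit_pull_opnι {X : Over S} {U : X.left.Opens} {r : Γ(X.left, ⊤)} (h : U ≤ X.left.basicOpen r) :
    IsUnit (pull (opnι U) r) := by
  refine (U : Scheme).toLocallyRingedSpace.toRingedSpace.isUnit_of_isUnit_germ ⊤ _ fun z _ ↦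
    (Scheme.mem_basicOpen_top _ _ z).mp ?_
  show z ∈ (U : Scheme).basicOpen (U.ι.appTop r)
  rw [← Scheme.preimage_basicOpen_top]
  exact h z.2

lemma mem_basicOpen_or {X : Scheme.{u}} {x : X} {r s t : Γ(X, ⊤)} (h : r + s = t) (ht : x ∈ X.basicOpen t) :
    x ∈ X.basicOpen r ∨ x ∈ X.basicOpen s := by
  simp only [Scheme.mem_basicOpen_top] at ht ⊢
  rw [← h, map_add] at ht
  exact IsLocalRing.isUnit_or_isUnit_of_isUnit_add ht

lemma mem_basicOpen_of_isUnit {X : Scheme.{u}} {x : X} {r : Γ(X, ⊤)} (h : IsUnit r) : x ∈ X.basicOpen r := by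
  rw [Scheme.basicOpen_of_isUnit _ h]; trivial

lemma isUnit_of_mul_one_add {A : Type*} [CommRing A] {b : A} (h : b * (1 + b) = -1) :
    IsUnit b ∧ IsUnit (1 + b) :=
  ⟨.of_mul_eq_one (-(1 + b)) (by linear_combination -h), .of_mul_eq_one (-b) (by linear_combination -h)⟩

/-- A faithfully flat extension with two adjacent units `b`, `1 + b`. -/
theorem exists_adjacent_units {X : Over S} [IsAffine X.left] :
    ∃ (X' : Over S) (q : X' ⟶ X) (b : Γ(X'.left, ⊤)), Flat q.left ∧ Surjective q.left ∧
      IsUnit b ∧ IsUnit (1 + b) := by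
  set g : Polynomial Γ(X.left, ⊤) := Polynomial.X ^ 2 + Polynomial.X + 1 with hg
  have hm : g.Monic := by
    rcases subsingleton_or_nontrivial Γ(X.left, ⊤) with h | h
    · exact Subsingleton.elim _ _
    · rw [hg]; monicity!
  have hd : 0 < g.natDegree ∨ Subsingleton Γ(X.left, ⊤) := by
    rcases subsingleton_or_nontrivial Γ(X.left, ⊤) with h | h
    · exact .inr h
    · have : g.natDegree = 2 := by rw [hg]; compute_degree!
      exact .inl (by omega)
  have hff : (AdjoinRoot.of g).FaithfullyFlat := by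
    rw [← AdjoinRoot.algebraMap_eq, RingHom.faithfullyFlat_algebraMap_iff]
    rcases hd with hd | hd
    · have : Nonempty (Fin (AdjoinRoot.powerBasis' hm).dim) := ⟨⟨0, by simpa using hd⟩⟩
      exact Module.FaithfullyFlat.of_linearEquiv _ _ (AdjoinRoot.powerBasis' hm).basis.repr
    · have : Subsingleton (AdjoinRoot g) := Module.subsingleton Γ(X.left, ⊤) _
      exact ⟨fun m hm' ↦ absurd (Subsingleton.elim _ _) hm'.ne_top⟩
  obtain ⟨h1, h2⟩ := (flat_and_surjective_SpecMap_iff (CommRingCat.ofHom (AdjoinRoot.of g))).mpr hff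
  let e : AdjoinRoot g ≃+* Γ((ext (AdjoinRoot.of g)).left, ⊤) :=
    (Scheme.ΓSpecIso (CommRingCat.of (AdjoinRoot g))).symm.commRingCatIsoToRingEquiv
  have hr : AdjoinRoot.root g * (1 + AdjoinRoot.root g) = -1 := by
    have h := AdjoinRoot.mk_self (f := g)
    conv at h => lhs; arg 2; rw [hg]
    rw [map_add, map_add, map_pow, AdjoinRoot.mk_X, map_one] at h
    linear_combination h
  set b := e (AdjoinRoot.root g) with hb
  have hb' : b * (1 + b) = -1 := by
    rw [hb, ← map_one e, ← map_add, ← map_mul, hr, map_neg]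
  refine ⟨ext (AdjoinRoot.of g), extProj _, b, ?_, ?_, (isUnit_of_mul_one_add hb').1, (isUnit_of_mul_one_add hb').2⟩
  · show Flat (Spec.map _ ≫ X.left.isoSpec.inv)
    infer_instance
  · show Surjective (Spec.map _ ≫ X.left.isoSpec.inv)
    infer_instance

end Groth.Reductive2
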