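import Groth.Agent.Reductive2.RankOneExt

/-!
Homomorphisms between rank-one systems compatible with the coroots.
-/

set_option autoImplicit false
set_option linter.unusedSectionVars false
universe u

open CategoryTheory CategoryTheory.Limits MonoidalCategory CartesianMonoidalCategory MonObj GrpObj
  AlgebraicGeometry
open Groth.Reductive

noncomputable section

namespace Groth.Reductive2.Sys

variable {S : Scheme.{u}} {G T G' T' : Over S} [GrpObj G] [GrpObj T] [GrpObj G'] [GrpObj T']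
  (D : Sys G T) (D' : Sys G' T') (f : G ⟶ G') [IsMonHom f] (q : ℕ)

lemma τ_inj {X : Over S} {s t : X ⟶ T} (h : (D.pts X).τ s = (D.pts X).τ t) : s = t :=
  (D.cell_inj (y := 0) (y' := 0) (x := 0) (x' := 0) (by rw [h])).2.1

lemma P_inj {X : Over S} {r s : Γ(X.left, ⊤)} (h : (D.pts X).P r = (D.pts X).P s) : r = s :=
  (D.cell_inj (y := 0) (y' := 0) (t := 1) (t' := 1) (by rw [h])).2.2

/-- Compatibility with the coroots. -/
def CorootCompat : Prop :=
  ∀ (X : Over S) (v : Γ(X.left, ⊤)ˣ), (D.pts X).τ ((D.pts X).h v) ≫ f = (D'.pts X).τ ((D'.pts X).h (v ^ q))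

/-- The upper root group maps by `r ↦ ν r ^ q`. -/
def MapP (ν : Γ((𝟙_ (Over S)).left, ⊤)) : Prop :=
  ∀ (X : Over S) (r : Γ(X.left, ⊤)), (D.pts X).P r ≫ f = (D'.pts X).P (pull (toUnit X) ν * r ^ q)

/-- The lower root group maps by `r ↦ ω r ^ q`. -/
def MapM (ω : Γ((𝟙_ (Over S)).left, ⊤)) : Prop :=
  ∀ (X : Over S) (r : Γ(X.left, ⊤)), (D.pts X).M r ≫ f = (D'.pts X).M (pull (toUnit X) ω * r ^ q)

variable {D D' f q}

theorem exists_mapM (hh : CorootCompat D D' f q) : ∃ ω, MapM D D' f q ω := by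
  obtain ⟨ω, hω⟩ := exists_eq_pm_pow D'.hpp D'.hpm D'.hΩ D'.hT (D.pm ≫ f) 2 two_ne_zero q fun X v ↦ by
    refine ⟨X, 𝟙 X, (D'.pts X).h (v⁻¹ ^ q), inferInstanceAs (Flat (𝟙 X.left)),
      inferInstanceAs (Surjective (𝟙 X.left)), ?_, fun x ↦ ?_⟩
    · rw [← D'.a_def, RankOne.a_h, pull_id, RingHom.id_apply]
      congr 1
      rw [inv_pow, ← _root_.mul_inv, ← pow_add, ← two_mul]
    · rw [← Category.assoc, ← D.M_def, pull_id, RingHom.id_apply, ← Category.assoc x, D.comp_pm,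
        ← D'.τ_def, ← hh X v⁻¹, ← GrpObj.inv_comp, ← MonObj.mul_comp, ← MonObj.mul_comp]
      congr 1
      rw [RankOne.conjM, RankOne.a_h, mul_inv_cancel_right, _root_.mul_inv, _root_.inv_inv, sq]
  exact ⟨ω, fun X r ↦ by
    have := hω X (gaMk X r)
    rw [gaFn_gaMk, ← Category.assoc, ← D.M_def] at this
    exact this⟩

theorem exists_mapP (hh : CorootCompat D D' f q) : ∃ ν, MapP D D' f q ν := by
  obtain ⟨ν, hν⟩ := exists_eq_pp_pow D'.hpp D'.hpm D'.hΩ D'.hT (D.pp ≫ f) 2 two_ne_zero q fun X v ↦ by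
    refine ⟨X, 𝟙 X, (D'.pts X).h (v ^ q), inferInstanceAs (Flat (𝟙 X.left)),
      inferInstanceAs (Surjective (𝟙 X.left)), ?_, fun x ↦ ?_⟩
    · rw [← D'.a_def, RankOne.a_h, pull_id, RingHom.id_apply]
      congr 1
      rw [← pow_add, ← two_mul]
    · rw [← Category.assoc, ← D.P_def, pull_id, RingHom.id_apply, ← Category.assoc x, D.comp_pp,
        ← D'.τ_def, ← hh X v, ← GrpObj.inv_comp, ← MonObj.mul_comp, ← MonObj.mul_comp]
      congr 1
      rw [RankOne.conjP, RankOne.a_h, mul_inv_cancel_right, sq]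
  exact ⟨ν, fun X r ↦ by
    have := hν X (gaMk X r)
    rw [gaFn_gaMk, ← Category.assoc, ← D.P_def] at this
    exact this⟩

variable (hq0 : 0 < q) (hq : ∀ (X : Over S) (a b : Γ(X.left, ⊤)), (a + b) ^ q = a ^ q + b ^ q)

include hq0 hq in
lemma neg_pow_q {X : Over S} (a : Γ(X.left, ⊤)) : (-a) ^ q = -(a ^ q) := by
  rw [eq_neg_iff_add_eq_zero, ← hq, neg_add_cancel, zero_pow hq0.ne']

include hq0 hq in
/-- The two scalars are inverse to each other. -/
theorem mul_eq_one {ν ω : Γ((𝟙_ (Over S)).left, ⊤)} (hh : CorootCompat D D' f q) (hν : MapP D D' f q ν)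
    (hω : MapM D D' f q ω) : ν * ω = 1 := by
  have key : ν * (ν * ω) = ν ∧ ω * (ν * ω) = ω := by
    suffices ∀ (U : Over S) (j : U ⟶ 𝟙_ (Over S)), IsAffine U.left →
        pull j (ν * (ν * ω)) = pull j ν ∧ pull j (ω * (ν * ω)) = pull j ω from
      ⟨fn_ext_affine fun U j hU ↦ (this U j hU).1, fn_ext_affine fun U j hU ↦ (this U j hU).2⟩
    intro U j hU
    obtain ⟨X₁, X₂, q₁, k, z, _, _, -, hinj, hu, -⟩ := exists_generic (X := U)
      (Polynomial.X * (1 + Polynomial.X) * (1 + Polynomial.C (pull j (ν * ω)) * Polynomial.X ^ q))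
      ⟨1, by
        rw [_root_.mul_assoc, Polynomial.coeff_X_mul, Polynomial.mul_coeff_zero]
        simp [Polynomial.coeff_X_pow, hq0.ne]⟩
    simp only [Polynomial.eval₂_mul, Polynomial.eval₂_X, Polynomial.eval₂_add, Polynomial.eval₂_pow,
      Polynomial.eval₂_one, Polynomial.eval₂_C, IsUnit.mul_iff] at hu
    obtain ⟨⟨⟨s, hs⟩, ⟨v, hv⟩⟩, ⟨w, hw⟩⟩ := hu
    set ρ := k ≫ q₁
    set nu := pull (toUnit X₂) ν
    set mu := pull (toUnit X₂) ω
    have eν : ∀ r, pull ρ (pull j r) = pull (toUnit X₂) r := fun r ↦ by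
      rw [← pull_comp_apply, toUnit_unique (ρ ≫ j) (toUnit X₂)]
    rw [eν, map_mul, ← hs] at hw
    rw [← hs] at hv
    have h1 : (D.pts X₂).P 1 * (D.pts X₂).M s =
        (D.pts X₂).M (↑v⁻¹ * s) * (D.pts X₂).τ ((D.pts X₂).h v) * (D.pts X₂).P (↑v⁻¹ * 1) :=
      (D.pts X₂).rule 1 s v (by rw [hv, _root_.one_mul])
    have h2 := congrArg (· ≫ f) h1
    simp only [MonObj.mul_comp, hν X₂, hω X₂, hh X₂, one_pow, _root_.mul_one] at h2
    rw [(D'.pts X₂).rule nu (mu * ↑s ^ q) w (by rw [hw]; ring)] at h2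
    obtain ⟨e1, -, e3⟩ := D'.cell_inj h2
    have hvq : (↑v : Γ(X₂.left, ⊤)) ^ q = 1 + ↑s ^ q := by rw [hv, hq, one_pow]
    have hvi : (↑v⁻¹ : Γ(X₂.left, ⊤)) ^ q * ↑v ^ q = 1 := by rw [← mul_pow, Units.inv_mul, one_pow]
    constructor <;> refine hinj ?_ <;> rw [eν, eν, map_mul, map_mul] <;>
      refine (s ^ q).isUnit.mul_right_cancel ?_ <;> rw [Units.val_pow_eq_pow_val]
    · linear_combination -(↑w : Γ(X₂.left, ⊤)) * ↑v ^ q * e3 + nu * ↑v ^ q * w.mul_inv
        - ↑w * nu * hvi - nu * hw + nu * hvq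
    · refine (s ^ q).isUnit.mul_right_cancel ?_
      rw [Units.val_pow_eq_pow_val]
      rw [mul_pow] at e1
      linear_combination -(↑w : Γ(X₂.left, ⊤)) * ↑v ^ q * e1 + mu * ↑s ^ q * ↑v ^ q * w.mul_inv
        - ↑w * mu * ↑s ^ q * hvi - mu * ↑s ^ q * hw + mu * ↑s ^ q * hvq
  have hu : IsUnit (ν * ω) := Sys.isUnit_of_mem_both.isUnit_of_geomPts fun K _ _ p a h0 ↦ by
    have hν0 : pull a ν = 0 := by rw [← key.1, map_mul, h0, mul_zero]
    have hω0 : pull a ω = 0 := by rw [← key.2, map_mul, h0, mul_zero]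
    rw [toUnit_unique a (toUnit _)] at hν0 hω0
    have hw0 : ∀ z, (D.pts (Over.mk p)).w z ≫ f = 1 := fun z ↦ by
      simp only [RankOne.w, MonObj.mul_comp, hν _, hω _, hν0, hω0, zero_mul, RankOne.P_zero,
        RankOne.M_zero, _root_.mul_one]
    obtain ⟨z, hz⟩ := exists_unit_pow_ne_one K p (N := q + q) (by omega)
    have e : (D.pts (Over.mk p)).τ ((D.pts (Over.mk p)).h z) =
        (D.pts (Over.mk p)).w (z * 1) * ((D.pts (Over.mk p)).w 1)⁻¹ := by
      rw [RankOne.w_mul, mul_inv_cancel_right]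
    have e2 := hh (Over.mk p) z
    rw [e, MonObj.mul_comp, GrpObj.inv_comp, hw0, hw0, inv_one, _root_.mul_one,
      ← map_one (D'.pts (Over.mk p)).τ] at e2
    have e3 := congrArg (D'.pts (Over.mk p)).a (D'.τ_inj e2)
    rw [RankOne.a_h, ← pow_add, show (1 : Over.mk p ⟶ T') = (D'.pts (Over.mk p)).h 1 from (map_one _).symm,
      RankOne.a_h, _root_.one_mul] at e3
    exact hz e3.symm
  refine hu.mul_right_cancel ?_
  linear_combination ω * key.1

variable {c : Γ((𝟙_ (Over S)).left, ⊤)ˣ}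

include hq0 hq in
/-- The images of the Weyl elements, given the images of both root groups. -/
theorem w_map (hν : MapP D D' f q ↑c) (hω : MapM D D' f q ↑c⁻¹) {X : Over S} (x : Γ(X.left, ⊤)ˣ) :
    (D.pts X).w x ≫ f = (D'.pts X).w (Units.map (pull (toUnit X)).toMonoidHom c * x ^ q) := by
  have e : pull (toUnit X) ↑c⁻¹ * (-↑x⁻¹ : Γ(X.left, ⊤)) ^ q =
      -↑(Units.map (pull (toUnit X)).toMonoidHom c * x ^ q)⁻¹ := by
    rw [neg_pow_q hq0 hq, mul_neg, _root_.mul_inv, Units.val_mul, ← inv_pow, Units.val_pow_eq_pow_val]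
    rfl
  simp only [RankOne.w, MonObj.mul_comp, hν _, hω _, e, Units.val_mul, Units.val_pow_eq_pow_val]
  rfl

/-- Compatibility with the coroots from the images of the Weyl elements. -/
theorem corootCompat_of_w (hw : ∀ (X : Over S) (x : Γ(X.left, ⊤)ˣ),
    (D.pts X).w x ≫ f = (D'.pts X).w (Units.map (pull (toUnit X)).toMonoidHom c * x ^ q)) :
    CorootCompat D D' f q := fun X v ↦ by
  have e : (D.pts X).τ ((D.pts X).h v) = (D.pts X).w (v * 1) * ((D.pts X).w 1)⁻¹ := by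
    rw [RankOne.w_mul, mul_inv_cancel_right]
  rw [e, MonObj.mul_comp, GrpObj.inv_comp, hw, hw, one_pow, _root_.mul_one, _root_.mul_one,
    _root_.mul_comm _ (v ^ q), RankOne.w_mul, mul_inv_cancel_right]

include hq0 hq in
theorem mapM_of_compat (hh : CorootCompat D D' f q) (hν : MapP D D' f q ↑c) : MapM D D' f q ↑c⁻¹ := by
  obtain ⟨ω, hω⟩ := exists_mapM hh
  have := mul_eq_one hq0 hq hh hν hω
  rwa [Units.inv_eq_of_mul_eq_one_right this]

include hq0 hq in
theorem compat_of_mapM (hν : MapP D D' f q ↑c) (hω : MapM D D' f q ↑c⁻¹) : CorootCompat D D' f q :=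
  corootCompat_of_w fun _ x ↦ w_map hq0 hq hν hω x

include hq0 hq in
/-- A homomorphism compatible with the root groups maps the torus to the torus. -/
theorem exists_torusMap (hν : MapP D D' f q ↑c) (hω : MapM D D' f q ↑c⁻¹) :
    ∃ fT : T ⟶ T', IsMonHom fT ∧ D.i ≫ f = fT ≫ D'.i ∧ fT ≫ D'.α = D.α ^ q ∧ D.av ≫ fT = D'.av ^ q := by
  have hh := compat_of_mapM hq0 hq hν hω
  obtain ⟨fT, hfT⟩ := Groth.Reductive.exists_eq_torus_of_commute D'.i D'.α D'.pp D'.pm D'.hpp D'.hpm D'.hΩ D'.hG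
    D'.av D'.h2 D'.hF D'.hT (q : ℤ) (by omega) (D.i ≫ f) fun X' k v ↦ by
    show (k ≫ D.i ≫ f) * (D'.pts X').τ ((D'.pts X').h (v ^ (q : ℤ))) =
      (D'.pts X').τ ((D'.pts X').h (v ^ (q : ℤ))) * (k ≫ D.i ≫ f)
    rw [zpow_natCast, ← hh X' v, ← Category.assoc, ← D.τ_def, ← MonObj.mul_comp, ← MonObj.mul_comp,
      ← map_mul, D.torus_comm, map_mul]
  have hτ : ∀ {X : Over S} (t : X ⟶ T), (D.pts X).τ t ≫ f = (D'.pts X).τ (t ≫ fT) := fun t ↦ by
    rw [D.τ_def, D'.τ_def, Category.assoc, Category.assoc, hfT]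
  have hhom : IsMonHom fT := {
    one_hom := by
      have h1 := hτ (1 : 𝟙_ (Over S) ⟶ T)
      rw [map_one, MonObj.one_comp, ← map_one (D'.pts (𝟙_ (Over S))).τ] at h1
      have h2 := (D'.τ_inj h1).symm
      simpa [Hom.one_def, toUnit_unique (toUnit (𝟙_ (Over S))) (𝟙 _)] using h2
    mul_hom := by
      have h1 := hτ (fst T T * snd T T)
      rw [map_mul, MonObj.mul_comp, hτ, hτ, ← map_mul] at h1
      have h2 := (D'.τ_inj h1).symm
      simpa [Hom.mul_def, lift_fst_snd, ← lift_map] using h2 }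
  refine ⟨fT, hhom, hfT.symm, ?_, ?_⟩
  · refine gmFn_injective ?_
    set a := (D.pts T).a (𝟙 T)
    set s := 𝟙 T ≫ fT
    have h1 := congrArg (· ≫ f) ((D.pts T).conjP (𝟙 T) 1)
    simp only [MonObj.mul_comp, hν _, hτ, one_pow, _root_.mul_one] at h1
    rw [RankOne.conjP, mul_left_inj] at h1
    have h2 := D'.P_inj h1
    have hc : IsUnit (pull (toUnit T) (↑c : Γ((𝟙_ (Over S)).left, ⊤))) := c.isUnit.map _
    rw [_root_.mul_comm (pull (toUnit T) _)] at h2
    have h3 := hc.mul_right_cancel h2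
    rw [D'.a_def, D.a_def] at h3
    simpa [gmFn_pow] using h3
  · refine D'.τ_inj ?_
    have h1 := hh (Red.Gm S) (isUnit_gmFn (𝟙 (Red.Gm S))).unit
    rw [hτ, map_pow, ← D.comp_av, ← D'.comp_av] at h1
    simpa using h1

end Groth.Reductive2.Sys
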