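import Groth.Agent.Reductive2.TorusBasic
import Groth.Agent.GrpschAbsch.NoTorus

/-!
The additive group contains no torus.
-/

set_option autoImplicit false
universe u

open CategoryTheory CategoryTheory.Limits MonoidalCategory CartesianMonoidalCategory MonObj GrpObj AlgebraicGeometry

namespace Groth.Reductive2

variable {S : Scheme.{u}}

/-- A torus has no non-trivial homomorphism to the additive group. -/
theorem torus_hom_Ga_eq_one {T : Over S} [GrpObj T] (hT : Red.IsTorus T) (j : T ⟶ Red.Ga S) [IsMonHom j] :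
    j = 1 := by
  obtain ⟨S', f, _, _, -, hloc⟩ := hT
  choose U hU r hr using hloc
  have : Flat (pullback.fst T.hom f) := inferInstance
  have : Surjective (pullback.fst T.hom f) := inferInstance
  have := Flat.epi_of_flat_of_surjective (pullback.fst T.hom f)
  apply Over.OverMorphism.ext
  rw [← cancel_epi (pullback.fst T.hom f)]
  let 𝒰 : S'.OpenCover := S'.openCoverOfIsOpenCover U (TopologicalSpace.IsOpenCover.mk
    (top_le_iff.mp fun s _ ↦ TopologicalSpace.Opens.mem_iSup.mpr ⟨s, hU s⟩))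
  refine Scheme.Cover.hom_ext (𝒰.pullback₁ (pullback.snd T.hom f)) _ _ fun (s : S') ↦ ?_
  let Y : Over (U s : Scheme.{u}) := Over.mk (pullback.snd (pullback.snd T.hom f) (U s).ι)
  let π : (Over.map ((U s).ι ≫ f)).obj Y ⟶ T :=
    Over.homMk (pullback.fst (pullback.snd T.hom f) (U s).ι ≫ pullback.fst T.hom f) (by
      show (_ ≫ _) ≫ T.hom = pullback.snd _ _ ≫ (U s).ι ≫ f
      rw [Category.assoc, pullback.condition, ← Category.assoc, pullback.condition, Category.assoc])
  obtain ⟨e⟩ := hr s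
  let b' : Red.bc ((U s).ι ≫ f) T ⟶ Red.DS (U s : Scheme.{u}) (Fin (r s) → ℤ) := e.hom.hom.hom
  let b'' : Red.DS (U s : Scheme.{u}) (Fin (r s) → ℤ) ⟶ Red.bc ((U s).ι ≫ f) T := e.inv.hom.hom
  have : IsMonHom b'' := inferInstanceAs (IsMonHom e.inv.hom.hom)
  have hi : b' ≫ b'' = 𝟙 _ := congrArg (fun z ↦ z.hom.hom) e.hom_inv_id
  let F : ∀ Y' : Over (U s : Scheme.{u}), (Y' ⟶ Red.DS (U s : Scheme.{u}) (Fin (r s) → ℤ)) → Γ(Y'.left, ⊤) :=
    fun Y' z ↦ Red.gaFn (S := S) (X := (Over.map ((U s).ι ≫ f)).obj Y')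
      (Groth.Reductive.bcPointEquiv ((U s).ι ≫ f) T Y' (z ≫ b'') ≫ j)
  have hF := Groth.Reductive.eq_zero_of_additive F
    (fun g z ↦ by
      show Red.gaFn _ = _
      rw [Category.assoc, Groth.Reductive.bcPointEquiv_comp, Category.assoc, Groth.Reductive.gaFn_comp]
      rfl)
    (fun Y' z w ↦ by
      show Red.gaFn _ = _
      rw [MonObj.mul_comp, map_mul, MonObj.mul_comp _ _ j, Groth.Reductive.gaFn_mul])
    Y ((Groth.Reductive.bcPointEquiv ((U s).ι ≫ f) T Y).symm π ≫ b')
  have h : π ≫ j = π ≫ (1 : T ⟶ Red.Ga S) := by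
    refine Groth.Reductive.gaFn_injective ?_
    rw [MonObj.comp_one, Groth.Reductive.gaFn_one, ← hF]
    show _ = Red.gaFn _
    rw [Category.assoc, hi, Category.comp_id, MulEquiv.apply_symm_apply]
  exact congrArg CommaMorphism.left h

/-- The additive group over a field contains no torus. -/
theorem hasNoSubtorus_Ga {K : Type u} [Field K] (U : Over (Spec (CommRingCat.of K))) [GrpObj U]
    (b : U ⟶ Red.Ga (Spec (CommRingCat.of K))) [IsMonHom b] [Mono b] : Red.HasNoSubtorus K U := by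
  intro T _ j _ _ hT
  have h : 𝟙 T = 1 := by
    have e := torus_hom_Ga_eq_one hT (j ≫ b)
    rw [← cancel_mono (j ≫ b), e, MonObj.comp_one, MonObj.comp_one]
  exact Groth.GrpschAbsch.hasNoSubtorus_of_pow_eq_one T one_pos
    (fun X x ↦ by rw [pow_one, ← Category.comp_id x, h, MonObj.comp_one]) T (𝟙 T) hT

end Groth.Reductive2
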