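import Groth.Agent.Reductive2.RankOneCentre
import Groth.Agent.Reductive2.TorusNoGa
import Groth.Agent.Reductive2.GaSmooth

/-!
The two root groups of a rank-one group do not commute on any geometric fibre.
-/

set_option autoImplicit false
set_option linter.unusedSectionVars false
universe u

open CategoryTheory CategoryTheory.Limits MonoidalCategory CartesianMonoidalCategory MonObj GrpObj
  AlgebraicGeometry
open Groth.Reductive

noncomputable section

namespace Groth.Reductive2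

variable {S : Scheme.{u}} {G T : Over S} [GrpObj G] [GrpObj T] {i : T ⟶ G} [IsMonHom i]
  {α : T ⟶ Red.Gm S} [IsMonHom α] {pp pm : Red.Ga S ⟶ G} [IsMonHom pp] [IsMonHom pm]
  (hpp : ∀ (X : Over S) (t : X ⟶ T) (x : X ⟶ Red.Ga S), ∃ x' : X ⟶ Red.Ga S,
    x' ≫ pp = (t ≫ i) * (x ≫ pp) * (t ≫ i)⁻¹ ∧ Red.gaFn x' = Red.gmFn (t ≫ α) * Red.gaFn x)
  (hpm : ∀ (X : Over S) (t : X ⟶ T) (y : X ⟶ Red.Ga S), ∃ y' : X ⟶ Red.Ga S,
    y' ≫ pm = (t ≫ i) * (y ≫ pm) * (t ≫ i)⁻¹ ∧ Red.gaFn y' * Red.gmFn (t ≫ α) = Red.gaFn y)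
  (hΩ : IsOpenImmersion (cell i pp pm).left) (hT : Red.IsTorus T) (hG : Red.IsReductive G)

lemma bcPointEquiv_map {S' : Scheme.{u}} (f : S' ⟶ S) {A B : Over S} [GrpObj A] [GrpObj B] (g : A ⟶ B)
    {X : Over S'} (x : X ⟶ Red.bc f A) :
    bcPointEquiv f B X (x ≫ (Over.pullback f).map g) = bcPointEquiv f A X x ≫ g :=
  Adjunction.homEquiv_naturality_right_symm _ _ _

/-- The base change of the additive group maps into the additive group of the new base. -/
lemma exists_mono_bc_Ga {S' : Scheme.{u}} (p : S' ⟶ S) :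
    ∃ b : Red.bc p (Red.Ga S) ⟶ Red.Ga S', IsMonHom b ∧ Mono b := by
  let U := Red.bc p (Red.Ga S)
  let e := bcPointEquiv p (Red.Ga S) U (𝟙 U)
  let b : U ⟶ Red.Ga S' := gaMk U (Red.gaFn (S := S) e)
  have hb : ∀ {Z : Over S'} (z : Z ⟶ U),
      Red.gaFn (z ≫ b) = Red.gaFn (S := S) (bcPointEquiv p (Red.Ga S) Z z) := by
    intro Z z
    have h : bcPointEquiv p (Red.Ga S) Z z = (Over.map p).map z ≫ e := by
      simpa [e] using bcPointEquiv_comp p (Red.Ga S) z (𝟙 U)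
    rw [h, gaFn_comp, gaFn_comp, gaFn_gaMk]
    rfl
  have : Mono b := ⟨fun z z' h ↦ by
    refine (bcPointEquiv p (Red.Ga S) _).injective (gaFn_injective (S := S) ?_)
    exact (hb z).symm.trans ((congrArg Red.gaFn h).trans (hb z'))⟩
  have : IsMonHom b := by
    refine { one_hom := gaFn_injective ?_, mul_hom := gaFn_injective ?_ }
    · rw [hb, show (η : 𝟙_ _ ⟶ U) = 1 by simp [Hom.one_def, toUnit_unique (toUnit (𝟙_ _)) (𝟙 _)], map_one,
        show (η : 𝟙_ _ ⟶ Red.Ga S') = 1 by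
          simp [Hom.one_def, toUnit_unique (toUnit (𝟙_ _)) (𝟙 _)], gaFn_one, gaFn_one]
    · rw [hb, show (μ : U ⊗ U ⟶ U) = fst _ _ * snd _ _ by simp [Hom.mul_def],
        show (b ⊗ₘ b) ≫ μ = (fst _ _ ≫ b) * (snd _ _ ≫ b) by
          rw [Hom.mul_def]; congr 1,
        map_mul, gaFn_mul, gaFn_mul, hb, hb]
  exact ⟨b, ‹_›, ‹_›⟩

include hpp hpm hΩ hT hG in
/-- The root groups do not commute on a geometric fibre. -/
theorem exists_not_commute (s : S) :
    ∃ (X : Over (Spec (CommRingCat.of (AlgebraicClosure (S.residueField s)))))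
      (x y : X ⟶ Red.bc (Red.geomPt s) (Red.Ga S)),
      (x ≫ (Over.pullback (Red.geomPt s)).map pp) * (y ≫ (Over.pullback (Red.geomPt s)).map pm) ≠
        (y ≫ (Over.pullback (Red.geomPt s)).map pm) * (x ≫ (Over.pullback (Red.geomPt s)).map pp) := by
  by_contra hne
  push Not at hne
  let K := AlgebraicClosure (S.residueField s)
  let p := Red.geomPt s
  have hcomm : ∀ {Z : Over S} (_ : Z ⟶ Over.mk p) (a b : Z ⟶ Red.Ga S),
      (a ≫ pp) * (b ≫ pm) = (b ≫ pm) * (a ≫ pp) := by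
    intro Z k a b
    let Z' : Over (Spec (CommRingCat.of K)) := Over.mk k.left
    let o : Z ⟶ (Over.map p).obj Z' := Over.homMk (𝟙 _) (by simpa [Z'] using Over.w k)
    let o' : (Over.map p).obj Z' ⟶ Z := Over.homMk (𝟙 _) (by simpa [Z'] using (Over.w k).symm)
    have hoo : o ≫ o' = 𝟙 Z := Over.OverMorphism.ext (Category.id_comp _)
    have h := congrArg (bcPointEquiv p G Z')
      (hne Z' ((bcPointEquiv p _ Z').symm (o' ≫ a)) ((bcPointEquiv p _ Z').symm (o' ≫ b)))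
    rw [map_mul, map_mul, bcPointEquiv_map, bcPointEquiv_map, MulEquiv.apply_symm_apply,
      MulEquiv.apply_symm_apply] at h
    have := congrArg (o ≫ ·) h
    simpa [MonObj.comp_mul, reassoc_of% hoo] using this
  let GK := Red.bc p G
  let U := Red.bc p (Red.Ga S)
  let P : U ⟶ GK := (Over.pullback p).map pp
  let X₀ := (Over.map p).obj GK
  let gU : X₀ ⟶ G := bcPointEquiv p G GK (𝟙 GK)
  let π₀ : X₀ ⟶ Over.mk p := Over.homMk GK.hom
  -- every point is in the cell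
  have hcell : InCell i pp pm gU := by
    refine inCell_of_geomPts hΩ gU fun L _ _ p' a ↦ ?_
    obtain ⟨_, _, ⟨y, t, x, rfl⟩, ⟨y', t', x', rfl⟩, e⟩ := exists_eq_cell_div_cell hΩ hG L (a ≫ gU)
    obtain ⟨z, hz, -⟩ := hpp (Over.mk p') t' (x * x'⁻¹)
    obtain ⟨w, hw, -⟩ := hpm (Over.mk p') t'⁻¹ y'⁻¹
    obtain ⟨v, hv, -⟩ := hpm (Over.mk p') t w
    refine ⟨y * v, t * t'⁻¹, z, ?_⟩
    have hc := hcomm (a ≫ π₀) (x * x'⁻¹) w
    rw [MonObj.mul_comp _ _ pp, GrpObj.inv_comp] at hc hz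
    rw [GrpObj.inv_comp y', GrpObj.inv_comp t', _root_.inv_inv] at hw
    have h1 : (t' ≫ i)⁻¹ * (y' ≫ pm)⁻¹ = (w ≫ pm) * (t' ≫ i)⁻¹ := by
      rw [hw, mul_inv_cancel_right]
    have h2 : (t ≫ i) * (w ≫ pm) = (v ≫ pm) * (t ≫ i) := by
      rw [hv, inv_mul_cancel_right]
    rw [e, hz, MonObj.mul_comp _ _ pm, MonObj.mul_comp _ _ i, GrpObj.inv_comp]
    calc (y ≫ pm) * (v ≫ pm) * ((t ≫ i) * (t' ≫ i)⁻¹) *
          ((t' ≫ i) * ((x ≫ pp) * (x' ≫ pp)⁻¹) * (t' ≫ i)⁻¹)
        = (y ≫ pm) * ((v ≫ pm) * (t ≫ i)) * ((x ≫ pp) * (x' ≫ pp)⁻¹) * (t' ≫ i)⁻¹ := by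
          simp [_root_.mul_assoc]
      _ = (y ≫ pm) * (t ≫ i) * ((w ≫ pm) * ((x ≫ pp) * (x' ≫ pp)⁻¹)) * (t' ≫ i)⁻¹ := by
          rw [← h2]; simp [_root_.mul_assoc]
      _ = (y ≫ pm) * (t ≫ i) * (x ≫ pp) * (x' ≫ pp)⁻¹ * ((w ≫ pm) * (t' ≫ i)⁻¹) := by
          rw [← hc]; simp [_root_.mul_assoc]
      _ = _ := by rw [← h1]; simp [_root_.mul_assoc, _root_.mul_inv_rev]
  obtain ⟨y₀, t₀, x₀, hgU⟩ := hcell
  -- points of the fibre
  have hpt : ∀ {Z : Over (Spec (CommRingCat.of K))} (g : Z ⟶ GK),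
      InCell i pp pm (bcPointEquiv p G Z g) := by
    intro Z g
    refine ⟨(Over.map p).map g ≫ y₀, (Over.map p).map g ≫ t₀, (Over.map p).map g ≫ x₀, ?_⟩
    have h : bcPointEquiv p G Z g = (Over.map p).map g ≫ gU := by
      simpa [gU] using bcPointEquiv_comp p G g (𝟙 GK)
    rw [h, ← hgU]
    simp only [MonObj.comp_mul, Category.assoc]
  let r : GK ⟶ U := (bcPointEquiv p (Red.Ga S) GK).symm x₀
  have hPr : P ≫ r = 𝟙 U := by
    apply (bcPointEquiv p (Red.Ga S) U).injective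
    set e := bcPointEquiv p (Red.Ga S) U (𝟙 U)
    have h1 : bcPointEquiv p G U (𝟙 U ≫ P) = e ≫ pp := bcPointEquiv_map p pp (𝟙 U)
    rw [Category.id_comp] at h1
    have h2 : (Over.map p).map P ≫ gU = e ≫ pp := by
      rw [← h1]; simpa [gU] using (bcPointEquiv_comp p G P (𝟙 GK)).symm
    rw [← hgU] at h2
    simp only [MonObj.comp_mul, ← Category.assoc] at h2
    have h3 := cell_inj hΩ (y' := 1) (t' := 1) (x' := e) (h2.trans (by simp [MonObj.one_comp]))
    rw [bcPointEquiv_comp, MulEquiv.apply_symm_apply]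
    exact h3.2.2
  have : Mono P := mono_of_mono_fac hPr
  have hPl : P.left ≫ r.left = 𝟙 _ := congrArg CommaMorphism.left hPr
  have hGaff : IsAffine GK.left := (hG.2.2 s).1
  have hUaff : IsAffineHom U.hom := by
    have h0 : IsAffineHom (Red.GaZ : Over (Spec (CommRingCat.of (ULift.{u} ℤ)))).hom :=
      inferInstanceAs (IsAffineHom (Spec.map _))
    have : IsAffineHom (Red.Ga S).hom :=
      MorphismProperty.of_isPullback (P := @IsAffineHom)
        (IsPullback.of_hasPullback Red.GaZ.hom (specULiftZIsTerminal.from S)) h0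
    exact MorphismProperty.of_isPullback (P := @IsAffineHom) (IsPullback.of_hasPullback (Red.Ga S).hom p) this
  have : IsAffine U.left := isAffine_of_isAffineHom U.hom
  have hci : IsClosedImmersion P.left := by
    have : IsClosedImmersion (P.left ≫ r.left) := by rw [hPl]; infer_instance
    exact IsClosedImmersion.of_comp P.left r.left
  have hsm : Smooth U.hom :=
    have := smooth_Ga S
    inferInstanceAs (Smooth (pullback.snd (Red.Ga S).hom p))
  have hconn : ConnectedSpace U.left := by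
    have : ConnectedSpace GK.left := (hG.2.2 s).2.2.1
    refine Function.Surjective.connectedSpace (f := r.left.base) (fun z ↦ ⟨P.left.base z, ?_⟩) r.left.continuous
    show (P.left ≫ r.left).base z = z
    rw [hPl]; rfl
  have hnorm : AlgGrp.IsNormalHom P := by
    intro Z g n
    obtain ⟨y, t, x, hg⟩ := hpt g
    set b := bcPointEquiv p (Red.Ga S) Z n
    obtain ⟨x', hx', -⟩ := hpp _ t (x * b * x⁻¹)
    refine ⟨(bcPointEquiv p (Red.Ga S) Z).symm x', ?_⟩
    apply (bcPointEquiv p G Z).injective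
    rw [bcPointEquiv_map, MulEquiv.apply_symm_apply, map_mul, map_mul, map_inv, bcPointEquiv_map, ← hg]
    have hk : (Over.map p).obj Z ⟶ Over.mk p := Over.homMk Z.hom
    have hc := hcomm hk x' y
    rw [hx', MonObj.mul_comp _ _ pp, MonObj.mul_comp _ _ pp, GrpObj.inv_comp] at hc
    rw [hx', MonObj.mul_comp _ _ pp, MonObj.mul_comp _ _ pp, GrpObj.inv_comp]
    calc _ = (y ≫ pm) * ((t ≫ i) * ((x ≫ pp) * (b ≫ pp) * (x ≫ pp)⁻¹) * (t ≫ i)⁻¹) * (y ≫ pm)⁻¹ := by
          simp [_root_.mul_assoc, _root_.mul_inv_rev]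
          rfl
      _ = _ := by rw [← hc, mul_inv_cancel_right]
  have hnt : Red.HasNoSubtorus K U := by
    obtain ⟨b, _, _⟩ := exists_mono_bc_Ga (S := S) p
    exact hasNoSubtorus_Ga U b
  have htriv : IsIso U.hom := (hG.2.2 s).2.2.2 U P hci hsm hconn hnorm hnt
  let W : Over (Spec (CommRingCat.of K)) := 𝟙_ _
  have hW : ∀ u v : W ⟶ U, u = v := fun u v ↦ Over.OverMorphism.ext
    ((cancel_mono U.hom).mp ((Over.w u).trans (Over.w v).symm))
  have h01 := congrArg (fun z ↦ Red.gaFn (S := S) (bcPointEquiv p (Red.Ga S) W z))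
    (hW ((bcPointEquiv p (Red.Ga S) W).symm (gaMk _ 0)) ((bcPointEquiv p (Red.Ga S) W).symm (gaMk _ 1)))
  simp only [MulEquiv.apply_symm_apply, gaFn_gaMk] at h01
  have : Nontrivial Γ(((Over.map p).obj W).left, ⊤) :=
    (Scheme.ΓSpecIso (CommRingCat.of K)).commRingCatIsoToRingEquiv.toEquiv.nontrivial
  exact zero_ne_one h01

end Groth.Reductive2
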