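import Groth.Agent.Reductive2.RankOneIso
import Groth.Prelude.Def_AlgGrp

/-!
A homomorphism of rank-one groups over a faithfully flat map of tori is faithfully flat.
-/

set_option autoImplicit false
set_option linter.unusedSectionVars false
universe u

open CategoryTheory CategoryTheory.Limits MonoidalCategory CartesianMonoidalCategory MonObj GrpObj
  AlgebraicGeometry
open Groth.Reductive

noncomputable section

namespace Groth.Reductive2.Sys

variable {S : Scheme.{u}} {G T G' T' : Over S} [GrpObj G] [GrpObj T] [GrpObj G'] [GrpObj T']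

/-- Left translation by a point over the base. -/
def lmul (g : 𝟙_ (Over S) ⟶ G) : G ≅ G where
  hom := (toUnit G ≫ g) * 𝟙 G
  inv := (toUnit G ≫ g)⁻¹ * 𝟙 G
  hom_inv_id := by
    simp only [MonObj.comp_mul, GrpObj.comp_inv, Category.comp_id, ← Category.assoc,
      toUnit_unique (_ ≫ toUnit G) (toUnit G)]
    exact inv_mul_cancel_left _ _
  inv_hom_id := by
    simp only [MonObj.comp_mul, Category.comp_id, ← Category.assoc, toUnit_unique (_ ≫ toUnit G) (toUnit G)]
    exact mul_inv_cancel_left _ _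

lemma comp_lmul {X : Over S} (x : X ⟶ G) (g : 𝟙_ (Over S) ⟶ G) : x ≫ (lmul g).hom = (toUnit X ≫ g) * x := by
  simp only [lmul, MonObj.comp_mul, Category.comp_id, ← Category.assoc, toUnit_unique (x ≫ toUnit G) (toUnit X)]

lemma lmul_comp (f : G ⟶ G') [IsMonHom f] (g : 𝟙_ (Over S) ⟶ G) : (lmul g).hom ≫ f = f ≫ (lmul (g ≫ f)).hom := by
  rw [comp_lmul, lmul, MonObj.mul_comp, Category.id_comp, Category.assoc]

variable {D : Sys G T} {D' : Sys G' T'} {f : G ⟶ G'} [IsMonHom f] {c : Γ((𝟙_ (Over S)).left, ⊤)ˣ}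
  {fT : T ⟶ T'} [IsMonHom fT] (hT : D.i ≫ f = fT ≫ D'.i) (hP : MapP D D' f 1 ↑c) (hM : MapM D D' f 1 ↑c⁻¹)

variable (D D' c fT) in
/-- The map of cells. -/
def cellMap : D.C ⟶ D'.C := (powScale 1 c⁻¹ ⊗ₘ fT) ⊗ₘ powScale 1 c

include hT hP hM in
lemma chart_comp : D.chart false ≫ f = cellMap D D' c fT ≫ D'.chart false := by
  have e1 : pull (cellMap D D' c fT) D'.yC = pull (toUnit _) (↑c⁻¹ : Γ((𝟙_ (Over S)).left, ⊤)) * D.yC := by
    show (cellMap D D' c fT).left.appTop _ = _
    rw [← gaFn_comp, cellMap, tensorHom_fst_assoc, tensorHom_fst, ← Category.assoc, comp_powScale, gaFn_gaMk,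
      pow_one]
  have e2 : cellMap D D' c fT ≫ D'.tC = D.tC ≫ fT := by
    simp [cellMap, tC]
  have e3 : pull (cellMap D D' c fT) D'.xC = pull (toUnit _) (↑c : Γ((𝟙_ (Over S)).left, ⊤)) * D.xC := by
    show (cellMap D D' c fT).left.appTop _ = _
    rw [← gaFn_comp, cellMap, tensorHom_snd, comp_powScale, gaFn_gaMk, pow_one]
  simp only [chart, MonObj.comp_mul, MonObj.mul_comp, pull_M, pull_P, pull_τ, hP D.C, hM D.C, pow_one, e1, e2, e3]
  rw [D.τ_def, Category.assoc, hT, ← Category.assoc]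
  rfl

lemma powScale_comp (u v : Γ((𝟙_ (Over S)).left, ⊤)ˣ) (h : u * v = 1) :
    powScale (S := S) 1 u ≫ powScale 1 v = 𝟙 _ := gaFn_injective (by
  rw [comp_powScale, gaFn_gaMk, pow_one, powScale, gaFn_gaMk, pow_one, ← _root_.mul_assoc, ← map_mul,
    ← Units.val_mul, _root_.mul_comm v, h, Units.val_one, map_one, _root_.one_mul])

instance (u : Γ((𝟙_ (Over S)).left, ⊤)ˣ) : IsIso (powScale (S := S) 1 u) :=
  ⟨powScale 1 u⁻¹, powScale_comp _ _ (mul_inv_cancel u), powScale_comp _ _ (inv_mul_cancel u)⟩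

lemma cellMap_mem (P : MorphismProperty Scheme.{u}) [P.IsStableUnderBaseChange] [P.IsMultiplicative]
    (h : P fT.left) : P (cellMap D D' c fT).left := by
  have hi : ∀ {X Y : Over S} (g : X ⟶ Y) [IsIso g], P g.left := fun {X Y} g _ ↦ by
    have : IsIso g.left := inferInstanceAs (IsIso ((Over.forget S).map g))
    exact P.of_isIso _
  rw [cellMap, MonoidalCategory.tensorHom_def, MonoidalCategory.tensorHom_def]
  simp only [Over.comp_left]
  refine P.comp_mem _ _ (Groth.GrpschAbsch.whiskerRight_left_mem P _ _ ?_)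
    (Groth.GrpschAbsch.whiskerLeft_left_mem P _ _ (hi _))
  exact P.comp_mem _ _ (Groth.GrpschAbsch.whiskerRight_left_mem P _ _ (hi _))
    (Groth.GrpschAbsch.whiskerLeft_left_mem P _ _ h)

lemma w_mul_M_of_isUnit {X : Over S} {y : Γ(X.left, ⊤)} (hy : IsUnit y) (t : X ⟶ T) (x : Γ(X.left, ⊤)) :
    D.InΩ ((D.pts X).w 1 * ((D.pts X).M y * (D.pts X).τ t * (D.pts X).P x)) := by
  obtain ⟨u, rfl⟩ := hy
  have h := RankOne.M_eq_P_w_P _ D.conj_w_P (-u⁻¹)
  rw [inv_neg, _root_.inv_inv, neg_neg, Units.val_neg, Units.val_neg, neg_neg] at h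
  refine ⟨-↑u⁻¹, ((D.pts X).h u⁻¹)⁻¹ * t,
    ↑((D.pts X).a (((D.pts X).h u⁻¹)⁻¹ * t))⁻¹ * ↑u + x, ?_⟩
  have e : (D.pts X).w 1 * (D.pts X).M ↑u =
      (D.pts X).M (-↑u⁻¹) * ((D.pts X).P ↑u * ((D.pts X).τ ((D.pts X).h u⁻¹))⁻¹) := by
    rw [h, _root_.mul_assoc _ ((D.pts X).τ _ * _) _]
    simp [_root_.mul_assoc, ← RankOne.P_inv]
  rw [← _root_.mul_assoc, ← _root_.mul_assoc, e, _root_.mul_assoc ((D.pts X).M _) ((D.pts X).P ↑u * _),
    _root_.mul_assoc ((D.pts X).P ↑u), ← map_inv (D.pts X).τ, ← map_mul, RankOne.P_mul_τ, RankOne.P_add]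
  simp only [_root_.mul_assoc]

include hT hP hM in
/-- Only the cell maps to the cell. -/
lemma preimage_cell : f.left ⁻¹ᵁ (D'.chart false).left.opensRange = (D.chart false).left.opensRange := by
  ext g
  constructor
  · intro hg
    let K := AlgebraicClosure (G.left.residueField g)
    let a : Over.mk (Red.geomPt g ≫ G.hom) ⟶ G := Over.homMk (Red.geomPt g) rfl
    have hx : (Red.geomPt g).base (IsLocalRing.closedPoint K) = g := by
      simp only [Red.geomPt]
      exact Scheme.fromSpecResidueField_apply g _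
    suffices D.InΩ a by
      obtain ⟨y, t, x, e⟩ := this
      obtain ⟨b, -, -, -, hb⟩ := D.exists_comp_chart y t x
      refine ⟨b.left.base (IsLocalRing.closedPoint K), ?_⟩
      show (b ≫ D.chart false).left.base _ = g
      rw [hb, e]
      exact hx
    obtain ⟨b, hb⟩ := D'.exists_lift_chart (a ≫ f) false (by
      rintro _ ⟨z, rfl⟩
      rw [Subsingleton.elim (α := Spec (CommRingCat.of K)) z (IsLocalRing.closedPoint K)]
      show f.left.base ((Red.geomPt g).base (IsLocalRing.closedPoint K)) ∈ _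
      rw [hx]
      exact hg)
    rcases Groth.Reductive.bruhat D.i D.α D.pp D.pm D.hpp D.hpm D.hΩ D.hG D.av D.h2 D.hF K a with
      ⟨t, r, e⟩ | ⟨q, t, r, e⟩
    · exact ⟨0, t, r, by rw [RankOne.M_zero, _root_.one_mul]; exact e.symm⟩
    have e' : a = (D.pts _).w 1 * ((D.pts _).M (-q) * (D.pts _).τ t * (D.pts _).P r) := by
      rw [← _root_.mul_assoc, ← _root_.mul_assoc, ← RankOne.P_mul_w_one _ D.conj_w_P,
        _root_.mul_assoc _ ((D.pts _).τ t)]
      exact e
    rw [e']
    refine D.w_mul_M_of_isUnit ?_ t r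
    by_contra hq0
    have hq : -q = 0 := by
      by_contra hne
      exact hq0 (isUnit_of_ne_zero_field K _ hne)
    obtain ⟨y', t', x', hd⟩ := D'.inΩ_comp_chart b
    rw [hb, e', hq, MonObj.mul_comp, MonObj.mul_comp, MonObj.mul_comp, hM _, hP _,
      w_map one_pos (fun _ _ _ ↦ by simp) hP hM, pow_one, pow_one, mul_zero, RankOne.M_zero, _root_.one_mul,
      _root_.mul_one] at hd
    set cu := Units.map (pull (toUnit (Over.mk (Red.geomPt g ≫ G.hom)))).toMonoidHom c
    have hwc : (D'.pts (Over.mk (Red.geomPt g ≫ G.hom))).w cu = (D'.pts _).w 1 * (D'.pts _).τ ((D'.pts _).h cu)⁻¹ := by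
      rw [map_inv, ← RankOne.w_mul_right, _root_.mul_one]
    have hτ : (D.pts (Over.mk (Red.geomPt g ≫ G.hom))).τ t ≫ f = (D'.pts _).τ (t ≫ fT) :=
      (Category.assoc t D.i f).trans ((congrArg (t ≫ ·) hT).trans (Category.assoc t fT D'.i).symm)
    rw [hwc, hτ] at hd
    have hd' := congrArg ((D'.pts _).w 1 * ·) hd
    simp only [← _root_.mul_assoc] at hd'
    rw [RankOne.w_sq, ← map_mul, ← map_mul] at hd'
    have : Nontrivial Γ((Over.mk (Red.geomPt g ≫ G.hom)).left, ⊤) :=
      (Scheme.ΓSpecIso (CommRingCat.of K)).commRingCatIsoToRingEquiv.toEquiv.nontrivial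
    refine not_isUnit_zero (M₀ := Γ((Over.mk (Red.geomPt g ≫ G.hom)).left, ⊤)) (D'.isUnit_of_mem_both
      (t := (D'.pts _).h (-1) * ((D'.pts _).h cu)⁻¹ * (t ≫ fT)) (y' := y') (t' := t') (x' := x')
      (x := pull (toUnit _) ↑c * r ^ 1) ?_)
    rw [RankOne.M_zero, _root_.one_mul, ← hd']
    try simp only [_root_.mul_assoc]
  · rintro ⟨z, rfl⟩
    refine ⟨(cellMap D D' c fT).left.base z, ?_⟩
    exact congrArg (fun m : D.C ⟶ G' ↦ m.left.base z) (chart_comp hT hP hM).symm

variable (D' c) in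
/-- Translations covering the target. -/
def shift : Bool → (𝟙_ (Over S) ⟶ G')
  | false => 1
  | true => (D'.pts _).w c

include hT hP hM in
/-- Properties local on the target pass from the tori to the groups. -/
theorem mem_of_torus (P : MorphismProperty Scheme.{u}) [IsZariskiLocalAtTarget P] [P.IsStableUnderBaseChange]
    [P.IsMultiplicative] (h : P fT.left) : P f.left := by
  let iV : Bool → (D'.C ⟶ G') := fun b ↦ D'.chart false ≫ (lmul (shift D' c b)).hom
  let d : Bool → (𝟙_ (Over S) ⟶ G) := fun b ↦ match b with | false => 1 | true => (D.pts _).w 1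
  have hd : ∀ b, d b ≫ f = shift D' c b := by
    rintro (_ | _)
    · exact MonObj.one_comp f
    · show (D.pts _).w 1 ≫ f = _
      rw [w_map one_pos (fun _ _ _ ↦ by simp) hP hM, pow_one, _root_.mul_one]
      rfl
  have sq : ∀ b, IsPullback (cellMap D D' c fT).left (D.chart false ≫ (lmul (d b)).hom).left (iV b).left f.left := by
    intro b
    have s0 : IsPullback (cellMap D D' c fT).left (D.chart false).left (D'.chart false).left f.left :=
      IsOpenImmersion.isPullback _ _ _ _ (congrArg CommaMorphism.left (chart_comp hT hP hM)) (preimage_cell hT hP hM)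
    have : IsIso (lmul (d b)).hom.left := inferInstanceAs (IsIso ((Over.forget S).map (lmul (d b)).hom))
    have : IsIso (lmul (shift D' c b)).hom.left := inferInstanceAs (IsIso ((Over.forget S).map (lmul (shift D' c b)).hom))
    exact s0.paste_vert (IsPullback.of_vert_isIso ⟨by
      rw [← hd]
      exact congrArg CommaMorphism.left (lmul_comp f (d b)).symm⟩)
  have : ∀ b, IsOpenImmersion (iV b).left := fun b ↦ by
    have : IsIso (lmul (shift D' c b)).hom.left := inferInstanceAs (IsIso ((Over.forget S).map (lmul (shift D' c b)).hom))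
    simp only [iV, Over.comp_left]
    infer_instance
  let 𝒰 : G'.left.OpenCover :=
    { I₀ := Bool, X := fun _ ↦ D'.C.left, f := fun b ↦ (iV b).left,
      mem₀ := by
        rw [Scheme.presieve₀_mem_precoverage_iff]
        refine ⟨fun g ↦ ?_, this⟩
        obtain ⟨b, z, rfl⟩ := D'.jointly_surjective g
        cases b
        · exact ⟨false, z, congrArg (fun m : D'.C ⟶ G' ↦ m.left.base z)
            (show iV false = D'.chart false by simp [iV, comp_lmul, shift, MonObj.comp_one])⟩
        · set cu := Units.map (pull (toUnit D'.C)).toMonoidHom c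
          obtain ⟨a, -, -, -, ha⟩ := D'.exists_comp_chart ((↑((D'.pts D'.C).a ((D'.pts _).h cu))⁻¹ : Γ(D'.C.left, ⊤)) * D'.yC)
            ((D'.pts D'.C).h cu * D'.tC) D'.xC
          refine ⟨true, a.left.base z, congrArg (fun m : D'.C ⟶ G' ↦ m.left.base z)
            (show a ≫ iV true = D'.chart true from ?_)⟩
          have hcu : Units.map (pull a).toMonoidHom cu = cu := Units.ext (by
            show pull a (pull (toUnit D'.C) _) = pull (toUnit D'.C) _
            rw [← pull_comp_apply, toUnit_unique (a ≫ toUnit _) (toUnit _)])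
          simp only [iV, comp_lmul, shift, D'.pull_w, MonObj.comp_mul, ha]
          rw [hcu]
          rw [map_mul, ← _root_.mul_assoc ((D'.pts _).M _), ← RankOne.conjM, chart,
            show (D'.pts D'.C).w cu = (D'.pts _).w 1 * ((D'.pts _).τ ((D'.pts _).h cu))⁻¹ by
              rw [← RankOne.w_mul_right, _root_.mul_one]]
          simp only [_root_.mul_assoc, inv_mul_cancel_left] }
  refine IsZariskiLocalAtTarget.of_openCover 𝒰 fun b ↦ ?_
  have e := (sq b).flip.isoPullback_hom_snd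
  have : IsIso (sq b).flip.isoPullback.hom := Iso.isIso_hom _
  refine (P.cancel_left_of_respectsIso (sq b).flip.isoPullback.hom _).mp ?_
  exact e.symm ▸ cellMap_mem P h

include hT hP hM in
/-- Points of the kernel come from the torus. -/
theorem exists_of_map_one {X : Over S} (g : X ⟶ G) (hg : g ≫ f = 1) :
    ∃ t : X ⟶ T, t ≫ fT = 1 ∧ t ≫ D.i = g := by
  obtain ⟨b, hb⟩ := D.exists_lift_chart g false (by
    rintro _ ⟨z, rfl⟩
    show g.left.base z ∈ (D.chart false).left.opensRange
    rw [← preimage_cell hT hP hM]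
    show (g ≫ f).left.base z ∈ Set.range (D'.chart false).left
    rw [hg]
    obtain ⟨a, -, -, -, ha⟩ := D'.exists_comp_chart (X := X) 0 1 0
    refine ⟨a.left.base z, congrArg (fun m : X ⟶ G' ↦ m.left.base z) (ha.trans ?_)⟩
    simp [RankOne.M_zero, RankOne.P_zero])
  obtain ⟨y, t, x, rfl⟩ : D.InΩ g := hb ▸ D.inΩ_comp_chart b
  simp only [MonObj.mul_comp, hP X, hM X, pow_one] at hg
  rw [show (D.pts X).τ t ≫ f = (D'.pts X).τ (t ≫ fT) by
    rw [D.τ_def, D'.τ_def, Category.assoc, Category.assoc, hT]] at hg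
  obtain ⟨e1, e2, e3⟩ := D'.cell_inj (y' := 0) (t' := 1) (x' := 0)
    (hg.trans (by simp [RankOne.M_zero, RankOne.P_zero]))
  have hy : y = 0 := (c⁻¹.isUnit.map (pull (toUnit X))).mul_right_eq_zero.mp e1
  have hx : x = 0 := (c.isUnit.map (pull (toUnit X))).mul_right_eq_zero.mp e3
  exact ⟨t, e2, by rw [hy, hx, RankOne.M_zero, RankOne.P_zero, _root_.one_mul, _root_.mul_one]; rfl⟩

end Groth.Reductive2.Sys
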