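import Groth.Agent.Reductive2.RankOneWeight
import Groth.Agent.Reductive2.RankOneBruhat

/-!
A bundled rank-one system, with the Weyl element relations on all points and the covering by two cells.
-/

set_option autoImplicit false
universe u

open CategoryTheory AlgebraicGeometry

noncomputable section

namespace Groth.Reductive

namespace RankOne

variable {R Γ T : Type*} [CommRing R] [Group Γ] [Group T] (𝒮 : RankOne R Γ T)
  (H : ∀ (x : Rˣ) (r : R), 𝒮.w x * 𝒮.P r * (𝒮.w x)⁻¹ = 𝒮.M (-(↑x⁻¹ * ↑x⁻¹ * r)))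

lemma w_sq (x : Rˣ) : 𝒮.w x * 𝒮.w x = 𝒮.τ (𝒮.h (-1)) := 𝒮.w_mul_w x x (-1) (neg_one_mul x)

lemma a_h_neg_one : 𝒮.a (𝒮.h (-1)) = 1 := by rw [a_h, neg_mul_neg, one_mul]

lemma τ_h_neg_one_P (r : R) : 𝒮.τ (𝒮.h (-1)) * 𝒮.P r = 𝒮.P r * 𝒮.τ (𝒮.h (-1)) := by
  rw [conjP, a_h_neg_one, Units.val_one, one_mul]

lemma τ_h_neg_one_M (r : R) : 𝒮.τ (𝒮.h (-1)) * 𝒮.M r = 𝒮.M r * 𝒮.τ (𝒮.h (-1)) := by
  rw [conjM, a_h_neg_one, inv_one, Units.val_one, one_mul]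

include H in
lemma P_mul_w_one (r : R) : 𝒮.P r * 𝒮.w 1 = 𝒮.w 1 * 𝒮.M (-r) := by
  have h := mul_inv_eq_iff_eq_mul.mp (H (-1) r)
  simp only [w_neg, inv_neg, inv_one, Units.val_neg, Units.val_one, neg_mul_neg, one_mul] at h
  rw [inv_mul_eq_iff_eq_mul, ← mul_assoc, eq_mul_inv_iff_mul_eq] at h
  exact h

include H in
lemma M_mul_w_one (r : R) : 𝒮.M r * 𝒮.w 1 = 𝒮.w 1 * 𝒮.P (-r) := by
  have h := H 1 (-r)
  rw [inv_one, Units.val_one, one_mul, one_mul, neg_neg, mul_inv_eq_iff_eq_mul] at h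
  exact h.symm

include H in
/-- A unit lower parameter is in the opposite cell. -/
lemma M_eq_P_w_P (y : Rˣ) : 𝒮.M y = 𝒮.w 1 * 𝒮.M (-↑y⁻¹) * (𝒮.τ (𝒮.h (-y)) * 𝒮.P ↑y⁻¹) := by
  have h1 := 𝒮.M_eq_PwP (-y⁻¹)
  rw [inv_neg, inv_inv, Units.val_neg, neg_neg, Units.val_neg, neg_neg] at h1
  have h2 : 𝒮.w (-y⁻¹) = 𝒮.w 1 * 𝒮.τ (𝒮.h (-y)) := by
    conv_lhs => rw [← mul_one (-y⁻¹), w_mul_right, ← map_inv, ← map_inv, inv_neg, inv_inv]
  rw [h1, h2, ← mul_assoc (𝒮.P _), 𝒮.P_mul_w_one H]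
  simp only [mul_assoc]

end RankOne

end Groth.Reductive

namespace Groth.Reductive2

open MonoidalCategory CartesianMonoidalCategory MonObj GrpObj Groth.Reductive

variable {S : Scheme.{u}}

/-- A rank-one system. -/
structure Sys (G T : Over S) [GrpObj G] [GrpObj T] where
  i : T ⟶ G
  [hi : IsMonHom i]
  α : T ⟶ Red.Gm S
  [hαh : IsMonHom α]
  pp : Red.Ga S ⟶ G
  [hpph : IsMonHom pp]
  pm : Red.Ga S ⟶ G
  [hpmh : IsMonHom pm]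
  hpp : ∀ (X : Over S) (t : X ⟶ T) (x : X ⟶ Red.Ga S), ∃ x' : X ⟶ Red.Ga S,
    x' ≫ pp = (t ≫ i) * (x ≫ pp) * (t ≫ i)⁻¹ ∧ Red.gaFn x' = Red.gmFn (t ≫ α) * Red.gaFn x
  hpm : ∀ (X : Over S) (t : X ⟶ T) (y : X ⟶ Red.Ga S), ∃ y' : X ⟶ Red.Ga S,
    y' ≫ pm = (t ≫ i) * (y ≫ pm) * (t ≫ i)⁻¹ ∧ Red.gaFn y' * Red.gmFn (t ≫ α) = Red.gaFn y
  hΩ : IsOpenImmersion (((pm ⊗ₘ i) ⊗ₘ pp) ≫ (μ[G] ▷ G) ≫ μ[G]).left
  hG : Red.IsReductive G
  hT : Red.IsTorus T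
  hα : ∀ s : S, (Over.pullback (Red.geomPt s)).map α ≠ 1
  av : Red.Gm S ⟶ T
  [havh : IsMonHom av]
  h2 : av ≫ α = (𝟙 (Red.Gm S)) ^ 2
  hF : ∀ (X : Over S) (x y : X ⟶ Red.Ga S), IsUnit (1 + Red.gaFn x * Red.gaFn y) →
    ∃ (x' y' : X ⟶ Red.Ga S) (z : X ⟶ Red.Gm S), Red.gmFn z = 1 + Red.gaFn x * Red.gaFn y ∧
      Red.gaFn x' * Red.gmFn z = Red.gaFn x ∧ Red.gaFn y' * Red.gmFn z = Red.gaFn y ∧
      (x ≫ pp) * (y ≫ pm) = (y' ≫ pm) * (z ≫ av ≫ i) * (x' ≫ pp)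

namespace Sys

variable {G T : Over S} [GrpObj G] [GrpObj T] (D : Sys G T)

instance : IsMonHom D.i := D.hi
instance : IsMonHom D.α := D.hαh
instance : IsMonHom D.pp := D.hpph
instance : IsMonHom D.pm := D.hpmh
instance : IsMonHom D.av := D.havh

/-- The system on points. -/
def pts (X : Over S) : RankOne Γ(X.left, ⊤) (X ⟶ G) (X ⟶ T) :=
  rankOneOfPoints D.i D.α D.pp D.pm D.hpp D.hpm D.av D.h2 D.hF X

variable {X Y : Over S}

lemma P_def (r : Γ(X.left, ⊤)) : (D.pts X).P r = gaMk X r ≫ D.pp := rfl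
lemma M_def (r : Γ(X.left, ⊤)) : (D.pts X).M r = gaMk X r ≫ D.pm := rfl
lemma τ_def (t : X ⟶ T) : (D.pts X).τ t = t ≫ D.i := rfl
lemma h_def (v : Γ(X.left, ⊤)ˣ) : (D.pts X).h v = gmMk X v ≫ D.av := rfl

lemma a_def (t : X ⟶ T) : (↑((D.pts X).a t) : Γ(X.left, ⊤)) = Red.gmFn (t ≫ D.α) := rfl

lemma comp_pp (x : X ⟶ Red.Ga S) : x ≫ D.pp = (D.pts X).P (Red.gaFn x) := comp_eq_gaMk_comp x _
lemma comp_pm (x : X ⟶ Red.Ga S) : x ≫ D.pm = (D.pts X).M (Red.gaFn x) := comp_eq_gaMk_comp x _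

lemma comp_av (z : X ⟶ Red.Gm S) : z ≫ D.av = (D.pts X).h (isUnit_gmFn z).unit := by
  rw [h_def, ← eq_gmMk]

variable (q : Y ⟶ X)

@[simp] lemma pull_P (r : Γ(X.left, ⊤)) : q ≫ (D.pts X).P r = (D.pts Y).P (pull q r) := by
  rw [P_def, P_def, ← Category.assoc, comp_gaMk]

@[simp] lemma pull_M (r : Γ(X.left, ⊤)) : q ≫ (D.pts X).M r = (D.pts Y).M (pull q r) := by
  rw [M_def, M_def, ← Category.assoc, comp_gaMk]

@[simp] lemma pull_τ (t : X ⟶ T) : q ≫ (D.pts X).τ t = (D.pts Y).τ (q ≫ t) := (Category.assoc q t D.i).symm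

@[simp] lemma pull_h (v : Γ(X.left, ⊤)ˣ) :
    q ≫ (D.pts X).h v = (D.pts Y).h (Units.map (pull q).toMonoidHom v) := by
  rw [h_def, h_def, ← Category.assoc, comp_gmMk]

lemma pull_a (t : X ⟶ T) : Units.map (pull q).toMonoidHom ((D.pts X).a t) = (D.pts Y).a (q ≫ t) :=
  Units.ext (by
    show pull q ↑((D.pts X).a t) = _
    rw [a_def, a_def, Category.assoc]
    exact (gmFn_comp q _).symm)

@[simp] lemma pull_w (x : Γ(X.left, ⊤)ˣ) :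
    q ≫ (D.pts X).w x = (D.pts Y).w (Units.map (pull q).toMonoidHom x) := by
  simp only [RankOne.w, MonObj.comp_mul, pull_P, pull_M, map_neg]
  rfl

lemma pull_w_one : q ≫ (D.pts X).w 1 = (D.pts Y).w 1 := by simp

lemma conj_w_P (x : Γ(X.left, ⊤)ˣ) (r : Γ(X.left, ⊤)) :
    (D.pts X).w x * (D.pts X).P r * ((D.pts X).w x)⁻¹ = (D.pts X).M (-(↑x⁻¹ * ↑x⁻¹ * r)) :=
  have : IsAffineHom G.hom := D.hG.1
  Groth.Reductive.conj_w_P D.i D.α D.pp D.pm D.hpp D.hpm D.av D.h2 D.hF x r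

lemma cell_inj {y y' x x' : Γ(X.left, ⊤)} {t t' : X ⟶ T}
    (h : (D.pts X).M y * (D.pts X).τ t * (D.pts X).P x = (D.pts X).M y' * (D.pts X).τ t' * (D.pts X).P x') :
    y = y' ∧ t = t' ∧ x = x' :=
  system_cell_inj D.i D.α D.pp D.pm D.hpp D.hpm D.hΩ D.av D.h2 D.hF h

include D in
lemma torus_comm (s t : X ⟶ T) : s * t = t * s := torus_mul_comm D.hT s t

lemma σ_σ (t : X ⟶ T) : (D.pts X).σ ((D.pts X).σ t) = t := by
  have e : (D.pts X).τ ((D.pts X).σ ((D.pts X).σ t)) = (D.pts X).τ t := by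
    have h1 := (D.pts X).τ_mul_w t 1
    have h2 := (D.pts X).τ_mul_w ((D.pts X).σ t) 1
    have h3 : (D.pts X).τ t * ((D.pts X).w 1 * (D.pts X).w 1) =
        ((D.pts X).w 1 * (D.pts X).w 1) * (D.pts X).τ ((D.pts X).σ ((D.pts X).σ t)) := by
      rw [← _root_.mul_assoc, h1, _root_.mul_assoc, h2, _root_.mul_assoc]
    rw [RankOne.w_sq, ← map_mul, ← map_mul, D.torus_comm t, map_mul, map_mul] at h3
    exact (mul_left_cancel h3).symm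
  have : (D.pts X).M 0 * (D.pts X).τ ((D.pts X).σ ((D.pts X).σ t)) * (D.pts X).P 0 =
      (D.pts X).M 0 * (D.pts X).τ t * (D.pts X).P 0 := by rw [e]
  exact (D.cell_inj this).2.1

lemma a_mul (s t : X ⟶ T) : (D.pts X).a (s * t) = (D.pts X).a s * (D.pts X).a t :=
  Units.ext (by rw [Units.val_mul, a_def, a_def, a_def, MonObj.mul_comp _ _ D.α, gmFn_mul])

lemma a_inv (s : X ⟶ T) : (D.pts X).a s⁻¹ = ((D.pts X).a s)⁻¹ :=
  eq_inv_of_mul_eq_one_left (by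
    rw [← D.a_mul, _root_.inv_mul_cancel]
    exact Units.ext (by rw [a_def, MonObj.one_comp (f := D.α), gmFn_one, Units.val_one]))

lemma a_σ (t : X ⟶ T) : (D.pts X).a ((D.pts X).σ t) = ((D.pts X).a t)⁻¹ := by
  rw [RankOne.σ, D.a_mul, D.a_inv, RankOne.a_h, _root_.mul_inv_rev, inv_mul_cancel_right]

/-- Membership in the cell on points. -/
def InΩ (g : X ⟶ G) : Prop :=
  ∃ (y : Γ(X.left, ⊤)) (t : X ⟶ T) (x : Γ(X.left, ⊤)),
    (D.pts X).M y * (D.pts X).τ t * (D.pts X).P x = g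

lemma inΩ_iff (g : X ⟶ G) : D.InΩ g ↔ InCell D.i D.pp D.pm g :=
  ⟨fun ⟨y, t, x, e⟩ ↦ ⟨gaMk X y, t, gaMk X x, e⟩, fun ⟨y, t, x, e⟩ ↦
    ⟨Red.gaFn y, t, Red.gaFn x, by rw [← comp_pm, ← comp_pp]; exact e⟩⟩

/-- The Weyl element is not in `T P`. -/
lemma w_ne_τ_mul_P (K : Type u) [Field K] [IsAlgClosed K] (p : Spec (CommRingCat.of K) ⟶ S)
    (s : Over.mk p ⟶ T) (r : Γ((Over.mk p).left, ⊤)) :
    (D.pts (Over.mk p)).w 1 ≠ (D.pts (Over.mk p)).τ s * (D.pts (Over.mk p)).P r := by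
  intro e
  set 𝒳 := D.pts (Over.mk p)
  obtain ⟨u, hu⟩ := exists_unit_pow_ne_one K p (N := 4) (by omega)
  have h1 : 𝒳.τ (𝒳.h u) * 𝒳.w 1 = 𝒳.w 1 * 𝒳.τ (𝒳.h u)⁻¹ := by
    rw [← RankOne.w_mul, RankOne.w_mul_right, map_inv]
  have h2 : 𝒳.M 0 * 𝒳.τ (𝒳.h u * s) * 𝒳.P r =
      𝒳.M 0 * 𝒳.τ (s * (𝒳.h u)⁻¹) * 𝒳.P (↑(𝒳.a (𝒳.h u)⁻¹)⁻¹ * r) := by
    rw [e, ← _root_.mul_assoc, ← map_mul, _root_.mul_assoc, RankOne.P_mul_τ, ← _root_.mul_assoc, ← map_mul] at h1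
    rw [RankOne.M_zero, _root_.one_mul, _root_.one_mul, h1]
  have h3 := congrArg 𝒳.a (D.cell_inj h2).2.1
  rw [D.a_mul, D.a_mul, D.a_inv, RankOne.a_h, _root_.mul_comm (𝒳.a s), mul_left_inj,
    eq_inv_iff_mul_eq_one] at h3
  exact hu (by rw [← h3]; simp [pow_succ, _root_.mul_assoc])

/-- An element of both cells has invertible lower parameter. -/
lemma isUnit_of_mem_both {y : Γ(X.left, ⊤)} {t : X ⟶ T} {x y' : Γ(X.left, ⊤)} {t' : X ⟶ T}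
    {x' : Γ(X.left, ⊤)} (e : (D.pts X).M y * (D.pts X).τ t * (D.pts X).P x =
      (D.pts X).w 1 * ((D.pts X).M y' * (D.pts X).τ t' * (D.pts X).P x')) : IsUnit y := by
  refine isUnit_of_geomPts fun K _ _ p a h0 ↦ ?_
  have e' := congrArg (a ≫ ·) e
  simp only [MonObj.comp_mul, pull_M, pull_τ, pull_P, pull_w_one, h0, RankOne.M_zero, _root_.one_mul] at e'
  set 𝒳 := D.pts (Over.mk p) with h𝒳
  set r := pull a x
  set r' := pull a x'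
  set u := a ≫ t
  set u' := a ≫ t'
  have hM : 𝒳.w 1 * 𝒳.M (pull a y') = 𝒳.P (-pull a y') * 𝒳.w 1 := by
    rw [RankOne.P_mul_w_one 𝒳 D.conj_w_P, neg_neg]
  rw [← _root_.mul_assoc, ← _root_.mul_assoc, hM] at e'
  have e2 : 𝒳.w 1 = 𝒳.τ (u * u'⁻¹) * 𝒳.P (↑(𝒳.a (u * u'⁻¹))⁻¹ * pull a y' + ↑(𝒳.a u'⁻¹)⁻¹ * (r - r')) := by
    have e3 : 𝒳.w 1 = 𝒳.P (pull a y') * (𝒳.τ u * 𝒳.P r * (𝒳.P r')⁻¹ * (𝒳.τ u')⁻¹) := by
      rw [e', ← RankOne.P_inv]; simp [_root_.mul_assoc]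
    rw [e3, RankOne.P_inv, _root_.mul_assoc (𝒳.τ u), ← RankOne.P_add, ← sub_eq_add_neg, ← map_inv,
      _root_.mul_assoc (𝒳.τ u), RankOne.P_mul_τ, ← _root_.mul_assoc (𝒳.τ u), ← map_mul, ← _root_.mul_assoc, RankOne.P_mul_τ,
      _root_.mul_assoc, ← RankOne.P_add]
  exact D.w_ne_τ_mul_P K p _ _ e2
where
  isUnit_of_geomPts {X : Over S} {y : Γ(X.left, ⊤)}
      (h : ∀ (K : Type u) [Field K] [IsAlgClosed K] (p : Spec (CommRingCat.of K) ⟶ S) (a : Over.mk p ⟶ X),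
        pull a y ≠ 0) : IsUnit y := by
    refine X.left.toLocallyRingedSpace.toRingedSpace.isUnit_of_isUnit_germ ⊤ y fun s _ ↦
      (Scheme.mem_basicOpen_top _ y s).mp ?_
    by_contra hs
    let K := AlgebraicClosure (X.left.residueField s)
    let z : Over.mk (Red.geomPt (S := X.left) s ≫ X.hom) ⟶ X := Over.homMk (Red.geomPt (S := X.left) s) rfl
    have h1 := isUnit_of_ne_zero_field K _ (h K _ z)
    have h2 := Scheme.preimage_basicOpen_top z.left y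
    rw [Scheme.basicOpen_of_isUnit _ h1] at h2
    have h3 : z.left.base (IsLocalRing.closedPoint K) ∈ X.left.basicOpen y :=
      h2.ge (x := IsLocalRing.closedPoint K) trivial
    refine hs ?_
    have h4 : z.left.base (IsLocalRing.closedPoint K) = s := by
      simp only [z, Red.geomPt, Over.homMk_left]
      exact Scheme.fromSpecResidueField_apply s _
    rwa [h4] at h3

end Sys

end Groth.Reductive2
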