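import Groth.Agent.Reductive2.AffPts
import Mathlib.AlgebraicGeometry.ValuativeCriterion
import Mathlib.AlgebraicGeometry.Morphisms.UniversallyOpen
import Mathlib.AlgebraicGeometry.Morphisms.ClosedImmersion
import Mathlib.FieldTheory.IsAlgClosed.Basic

/-!
Points with values in valuation rings: specializations, polynomials with integral coefficients, and
points of relatively affine schemes over the spectrum of a ring.
-/

set_option autoImplicit false
universe u

open CategoryTheory CategoryTheory.Limits AlgebraicGeometry Polynomial IsLocalRing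

noncomputable section

namespace Groth.Reductive2.ValPts

/-- A specialization is realised by a valuation ring in a given field. -/
theorem exists_valuation_pt {Y : Scheme.{u}} {x y : Y} (h : x ⤳ y) {L : Type u} [Field L]
    (q : Y.residueField x →+* L) :
    ∃ (V : ValuationSubring L) (m : Spec (CommRingCat.of V) ⟶ Y),
      m.base (closedPoint V) = y ∧
      Spec.map (CommRingCat.ofHom V.subtype) ≫ m =
        Spec.map (CommRingCat.ofHom q) ≫ Y.fromSpecResidueField x := by
  let e : Y.presheaf.stalk y ⟶ CommRingCat.of L :=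
    Y.presheaf.stalkSpecializes h ≫ Y.residue x ≫ CommRingCat.ofHom q
  obtain ⟨A, hA, hAl⟩ := exists_factor_valuationRing e.hom
  let e' : Y.presheaf.stalk y ⟶ CommRingCat.of A := CommRingCat.ofHom (e.hom.codRestrict A.toSubring hA)
  refine ⟨A, Spec.map e' ≫ Y.fromSpecStalk y, ?_, ?_⟩
  · have : Spec.map e' (closedPoint A) = closedPoint (Y.presheaf.stalk y) :=
      comap_closedPoint (S := A) (e.hom.codRestrict A.toSubring hA)
    simp only [Scheme.Hom.comp_base, TopCat.coe_comp, Function.comp_apply]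
    rw [this, Y.fromSpecStalk_closedPoint]
  · rw [Scheme.fromSpecResidueField, ← Scheme.SpecMap_stalkSpecializes_fromSpecStalk h,
      ← Spec.map_comp_assoc, ← Spec.map_comp_assoc, ← Spec.map_comp_assoc]
    rfl

/-- An open set containing the closed point of a local spectrum is everything. -/
theorem range_subset_of_closedPoint {R : Type u} [CommRing R] [IsLocalRing R] {Y : Scheme.{u}}
    (g : Spec (CommRingCat.of R) ⟶ Y) {U : Set Y} (hU : IsOpen U) (h : g.base (closedPoint R) ∈ U) :
    Set.range g.base ⊆ U := by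
  rintro _ ⟨z, rfl⟩
  exact ((IsLocalRing.specializes_closedPoint z).map g.continuous).mem_open hU h

section Poly

variable {K : Type u} [Field K] (V : ValuationSubring K)

/-- A polynomial which is not integral becomes primitive after scaling by a non-unit. -/
theorem exists_primitive (F : K[X]) (hF : ∃ n, F.coeff n ∉ V) :
    ∃ (F₀ : V[X]) (c : V), c ∈ maximalIdeal V ∧ C (c : K) * F = F₀.map V.subtype ∧
      F₀.map (residue V) ≠ 0 := by
  obtain ⟨n₁, hn₁⟩ := hF
  have hne : F.support.Nonempty := by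
    refine ⟨n₁, Polynomial.mem_support_iff.mpr fun h0 ↦ hn₁ ?_⟩
    rw [h0]
    exact V.zero_mem
  obtain ⟨n₀, -, hmax⟩ := F.support.exists_max_image (fun n ↦ V.valuation (F.coeff n)) hne
  have hle : ∀ n, V.valuation (F.coeff n) ≤ V.valuation (F.coeff n₀) := fun n ↦ by
    by_cases hn : n ∈ F.support
    · exact hmax n hn
    · rw [Polynomial.notMem_support_iff.mp hn, map_zero]
      exact zero_le
  have hnot : F.coeff n₀ ∉ V := fun hm ↦ hn₁ <| by
    rw [← V.valuation_le_one_iff] at hm ⊢
    exact (hle n₁).trans hm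
  have hd : F.coeff n₀ ≠ 0 := fun h0 ↦ hnot (h0 ▸ V.zero_mem)
  have hinv : (F.coeff n₀)⁻¹ ∈ V := (V.mem_or_inv_mem _).resolve_left hnot
  let c : V := ⟨(F.coeff n₀)⁻¹, hinv⟩
  have hc : c ∈ maximalIdeal V := by
    rw [mem_maximalIdeal, mem_nonunits_iff]
    rintro ⟨u, hu⟩
    refine hnot ?_
    have h1 : ((↑u⁻¹ : V) : K) * (c : K) = 1 := by
      rw [← hu, ← MulMemClass.coe_mul, Units.inv_mul, OneMemClass.coe_one]
    have h2 : ((↑u⁻¹ : V) : K) = F.coeff n₀ := by
      simpa [c, mul_inv_eq_one₀ hd] using h1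
    exact h2 ▸ (↑u⁻¹ : V).2
  have hlift : C (c : K) * F ∈ Polynomial.lifts V.subtype := by
    rw [Polynomial.lifts_iff_coeff_lifts]
    intro n
    refine ⟨⟨(c : K) * F.coeff n, (V.valuation_le_one_iff _).mp ?_⟩, by simp⟩
    rw [map_mul]
    calc V.valuation (c : K) * V.valuation (F.coeff n)
        ≤ V.valuation (c : K) * V.valuation (F.coeff n₀) := mul_le_mul_right (hle n) _
      _ = 1 := by rw [← map_mul, show (c : K) = (F.coeff n₀)⁻¹ from rfl, inv_mul_cancel₀ hd, map_one]
  obtain ⟨F₀, hF₀⟩ := (Polynomial.mem_lifts _).mp hlift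
  refine ⟨F₀, c, hc, hF₀.symm, fun h0 ↦ ?_⟩
  have h1 : (F₀.coeff n₀ : K) = 1 := by
    have := congrArg (fun p : K[X] ↦ p.coeff n₀) hF₀
    simp only [Polynomial.coeff_map, Polynomial.coeff_C_mul] at this
    rw [show (c : K) = (F.coeff n₀)⁻¹ from rfl, inv_mul_cancel₀ hd] at this
    exact this
  have h2 := congrArg (fun p : (ResidueField V)[X] ↦ p.coeff n₀) h0
  simp only [Polynomial.coeff_map, Polynomial.coeff_zero] at h2
  rw [show F₀.coeff n₀ = 1 from Subtype.ext h1, map_one] at h2
  exact one_ne_zero h2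

/-- The residue field of a valuation ring of an algebraically closed field is algebraically closed. -/
theorem isAlgClosed_residueField [IsAlgClosed K] : IsAlgClosed (ResidueField V) := by
  refine IsAlgClosed.of_exists_root _ fun p hp hirr ↦ ?_
  have hl : p ∈ Polynomial.lifts (residue V) :=
    (Polynomial.lifts_iff_coeff_lifts _).mpr fun n ↦ residue_surjective _
  obtain ⟨q, hq, hdeg, hmon⟩ := Polynomial.lifts_and_degree_eq_and_monic hl hp
  obtain ⟨z, hz⟩ := IsAlgClosed.exists_root (q.map V.subtype) (by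
    rw [hmon.degree_map V.subtype, hdeg]
    exact (Polynomial.degree_pos_of_irreducible hirr).ne')
  have hzV : z ∈ V := by
    have hint : IsIntegral V z := ⟨q, hmon, by
      rw [Polynomial.IsRoot, Polynomial.eval_map] at hz
      exact hz⟩
    obtain ⟨w, hw⟩ := IsIntegrallyClosed.isIntegral_iff.mp hint
    exact hw ▸ w.2
  refine ⟨residue V ⟨z, hzV⟩, ?_⟩
  have h0 : q.eval (⟨z, hzV⟩ : V) = 0 := by
    apply Subtype.ext
    rw [Polynomial.IsRoot] at hz
    have e : V.subtype (q.eval ⟨z, hzV⟩) = (q.map V.subtype).eval z := by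
      rw [Polynomial.eval_map]
      exact (Polynomial.eval₂_at_apply V.subtype _).symm
    simpa [hz] using e
  show Polynomial.eval _ _ = 0
  rw [← hq, Polynomial.eval_map, Polynomial.eval₂_hom, h0, map_zero]

end Poly

section Pts

variable {S : Scheme.{u}} {A : Type u} [CommRing A] (ψ : Spec (CommRingCat.of A) ⟶ S)

/-- The spectrum of a ring over `A`, over `S`. -/
abbrev pt {B : Type u} [CommRing B] (f : A →+* B) : Over S := Over.mk (Spec.map (CommRingCat.ofHom f) ≫ ψ)

/-- A map of rings over `A`. -/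
def ptMap {B B' : Type u} [CommRing B] [CommRing B'] {f : A →+* B} {f' : A →+* B'} (h : B →+* B')
    (hh : h.comp f = f') : pt ψ f' ⟶ pt ψ f :=
  Over.homMk (Spec.map (CommRingCat.ofHom h)) (by
    show Spec.map (CommRingCat.ofHom h) ≫ Spec.map (CommRingCat.ofHom f) ≫ ψ = _
    rw [← Spec.map_comp_assoc, ← CommRingCat.ofHom_comp, hh]; rfl)

/-- A ring element as a function. -/
def fn {B : Type u} [CommRing B] (f : A →+* B) : B ≃+* Γ((pt ψ f).left, ⊤) :=
  (Scheme.ΓSpecIso (CommRingCat.of B)).symm.commRingCatIsoToRingEquiv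

@[simp] theorem pull_fn {B B' : Type u} [CommRing B] [CommRing B'] {f : A →+* B} {f' : A →+* B'}
    (h : B →+* B') (hh : h.comp f = f') (b : B) :
    pull (ptMap ψ h hh) (fn ψ f b) = fn ψ f' (h b) := by
  exact (congrArg (fun m ↦ m.hom b) (Scheme.ΓSpecIso_inv_naturality (CommRingCat.ofHom h))).symm

theorem injective_pull_ptMap {B B' : Type u} [CommRing B] [CommRing B'] {f : A →+* B} {f' : A →+* B'}
    {h : B →+* B'} (hh : h.comp f = f') (hi : Function.Injective h) :
    Function.Injective (pull (ptMap ψ h hh)) := fun a b e ↦ by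
  obtain ⟨a, rfl⟩ := (fn ψ f).surjective a
  obtain ⟨b, rfl⟩ := (fn ψ f).surjective b
  rw [pull_fn, pull_fn] at e
  rw [hi ((fn ψ f').injective e)]

variable {G : Over S}

/-- The functions on `G` over `A`. -/
abbrev fibre : Scheme.{u} := pullback G.hom ψ

/-- The functions on `G` evaluated at a point. -/
def val {B : Type u} [CommRing B] {f : A →+* B} (g : pt ψ f ⟶ G) : Γ(fibre (G := G) ψ, ⊤) →+* B :=
  (fn ψ f).symm.toRingHom.comp (pullback.lift g.left (Spec.map (CommRingCat.ofHom f)) (Over.w g)).appTop.hom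

theorem val_comp {B B' : Type u} [CommRing B] [CommRing B'] {f : A →+* B} {f' : A →+* B'} (h : B →+* B')
    (hh : h.comp f = f') (g : pt ψ f ⟶ G) : val ψ (ptMap ψ h hh ≫ g) = h.comp (val ψ g) := by
  ext a
  apply (fn ψ f').injective
  simp only [val, RingHom.comp_apply, RingEquiv.toRingHom_eq_coe, RingHom.coe_coe, RingEquiv.apply_symm_apply]
  rw [← pull_fn ψ h hh, RingEquiv.apply_symm_apply]
  have e : pullback.lift (ptMap ψ h hh ≫ g).left (Spec.map (CommRingCat.ofHom f')) (Over.w _) =
      (ptMap ψ h hh).left ≫ pullback.lift g.left (Spec.map (CommRingCat.ofHom f)) (Over.w g) := by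
    apply pullback.hom_ext
    · rw [Category.assoc, pullback.lift_fst, pullback.lift_fst]; rfl
    · simp only [Category.assoc, pullback.lift_snd]
      show _ = Spec.map (CommRingCat.ofHom h) ≫ Spec.map (CommRingCat.ofHom f)
      rw [← Spec.map_comp, ← CommRingCat.ofHom_comp, hh]
  show (Scheme.Hom.appTop (pullback.lift (ptMap ψ h hh ≫ g).left _ _)).hom a = _
  rw [e, Scheme.Hom.comp_appTop]
  rfl

/-- The constants. -/
def const : A →+* Γ(fibre (G := G) ψ, ⊤) :=
  (pullback.snd G.hom ψ).appTop.hom.comp (Scheme.ΓSpecIso (CommRingCat.of A)).inv.hom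

theorem val_const {B : Type u} [CommRing B] {f : A →+* B} (g : pt ψ f ⟶ G) :
    (val ψ g).comp (const ψ) = f := by
  ext a
  apply (fn ψ f).injective
  simp only [val, const, RingHom.comp_apply, RingEquiv.toRingHom_eq_coe, RingHom.coe_coe,
    RingEquiv.apply_symm_apply]
  have e : pullback.lift g.left (Spec.map (CommRingCat.ofHom f)) (Over.w g) ≫ pullback.snd G.hom ψ =
      Spec.map (CommRingCat.ofHom f) := pullback.lift_snd _ _ _
  have := congrArg (fun m ↦ (Scheme.Hom.appTop m).hom ((Scheme.ΓSpecIso (CommRingCat.of A)).inv.hom a)) e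
  simp only [Scheme.Hom.comp_appTop, CommRingCat.hom_comp, RingHom.comp_apply] at this
  rw [this]
  exact (congrArg (fun m ↦ m.hom a) (Scheme.ΓSpecIso_inv_naturality (CommRingCat.ofHom f))).symm

variable [IsAffineHom G.hom]

instance : IsAffine (fibre (G := G) ψ) :=
  have : IsAffineHom (pullback.snd G.hom ψ) := MorphismProperty.pullback_snd _ _ ‹_›
  isAffine_of_isAffineHom (pullback.snd G.hom ψ)

theorem ptMap_comp {B B' B'' : Type u} [CommRing B] [CommRing B'] [CommRing B''] {f : A →+* B} {f' : A →+* B'}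
    {f'' : A →+* B''} (h : B' →+* B'') (hh : h.comp f' = f'') (h' : B →+* B') (hh' : h'.comp f = f') :
    ptMap ψ h hh ≫ ptMap ψ h' hh' =
      ptMap ψ (h.comp h') (by rw [RingHom.comp_assoc, hh', hh]) := by
  apply Over.OverMorphism.ext
  show Spec.map (CommRingCat.ofHom h) ≫ Spec.map (CommRingCat.ofHom h') = Spec.map _
  rw [← Spec.map_comp, ← CommRingCat.ofHom_comp]

theorem val_injective {B : Type u} [CommRing B] {f : A →+* B} :
    Function.Injective (val (G := G) ψ : (pt ψ f ⟶ G) → _) := by
  intro g g' h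
  apply Over.OverMorphism.ext
  have e : pullback.lift g.left (Spec.map (CommRingCat.ofHom f)) (Over.w g) =
      pullback.lift g'.left (Spec.map (CommRingCat.ofHom f)) (Over.w g') := by
    apply ext_of_isAffine
    ext a
    have := congrArg (fn ψ f) (RingHom.congr_fun h a)
    simpa [val] using this
  have e' := e =≫ pullback.fst G.hom ψ
  rwa [pullback.lift_fst, pullback.lift_fst] at e'

/-- A point from its values. -/
theorem exists_of_val {B : Type u} [CommRing B] (f : A →+* B) (θ : Γ(fibre (G := G) ψ, ⊤) →+* B)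
    (hθ : θ.comp (const ψ) = f) : ∃ g : pt ψ f ⟶ G, val ψ g = θ := by
  let m : Spec (CommRingCat.of B) ⟶ fibre (G := G) ψ :=
    Spec.map (CommRingCat.ofHom θ) ≫ (fibre (G := G) ψ).isoSpec.inv
  have hm : m.appTop = CommRingCat.ofHom θ ≫ (Scheme.ΓSpecIso (CommRingCat.of B)).inv := by
    simp only [m, Scheme.Hom.comp_appTop, Scheme.ΓSpecIso_inv_naturality]
    congr 1
    have e : (fibre (G := G) ψ).isoSpec.inv.appTop ≫ (fibre (G := G) ψ).isoSpec.hom.appTop = 𝟙 _ := by
      rw [← Scheme.Hom.comp_appTop, Iso.hom_inv_id, Scheme.Hom.id_appTop]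
    rw [Scheme.isoSpec_hom, Scheme.toSpecΓ_appTop] at e
    exact ((Iso.comp_hom_eq_id _).mp e).trans rfl
  have hsnd : m ≫ pullback.snd G.hom ψ = Spec.map (CommRingCat.ofHom f) := by
    apply ext_of_isAffine
    ext a
    obtain ⟨a, rfl⟩ := (Scheme.ΓSpecIso (CommRingCat.of A)).symm.commRingCatIsoToRingEquiv.surjective a
    rw [Scheme.Hom.comp_appTop, CommRingCat.hom_comp, RingHom.comp_apply, hm]
    refine Eq.trans ?_ (congrArg (fun m ↦ m.hom a) (Scheme.ΓSpecIso_inv_naturality (CommRingCat.ofHom f)))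
    show (Scheme.ΓSpecIso (CommRingCat.of B)).inv.hom (θ.comp (const ψ) a) = _
    rw [hθ]
    rfl
  refine ⟨Over.homMk (m ≫ pullback.fst _ _) ?_, ?_⟩
  · show (m ≫ pullback.fst _ _) ≫ G.hom = _
    rw [Category.assoc, pullback.condition, ← Category.assoc, hsnd]
    rfl
  · ext a
    apply (fn ψ f).injective
    simp only [val, RingHom.comp_apply, RingEquiv.toRingHom_eq_coe, RingHom.coe_coe, RingEquiv.apply_symm_apply]
    have e : pullback.lift (m ≫ pullback.fst G.hom ψ) (Spec.map (CommRingCat.ofHom f))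
        (by rw [Category.assoc, pullback.condition, ← Category.assoc, hsnd]) = m := by
      apply pullback.hom_ext
      · rw [pullback.lift_fst]
      · rw [pullback.lift_snd, hsnd]
    show (Scheme.Hom.appTop (pullback.lift (m ≫ pullback.fst G.hom ψ) _ _)).hom a = _
    rw [e, hm]
    rfl

end Pts

end Groth.Reductive2.ValPts
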