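import Groth.Agent.Reductive2.RankOneCell
import Groth.Agent.Reductive2.TorusBasic
import Groth.Agent.Reductive2.TorusAffine
import Groth.Agent.Reductive2.TorusLift
import Mathlib.RingTheory.AdjoinRoot

/-!
Morphisms from the additive group into a rank-one system which are equivariant for a weight.
-/

set_option autoImplicit false
universe u

open CategoryTheory MonoidalCategory CartesianMonoidalCategory MonObj GrpObj AlgebraicGeometry
open Groth.Reductive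

noncomputable section

namespace Groth.Reductive2

variable {S : Scheme.{u}}

/-- Functions are equal when they are equal on all affine opens. -/
lemma fn_ext_affine {X : Over S} {a b : Γ(X.left, ⊤)}
    (h : ∀ (U : Over S) (j : U ⟶ X), IsAffine U.left → pull j a = pull j b) : a = b := by
  have e : gaMk X a = gaMk X b := hom_ext_affine fun U j hU ↦ gaFn_injective (by
    simpa [gaFn_comp] using h U j hU)
  simpa using congrArg Red.gaFn e

/-- An extension with an `N`-th root of a function. -/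
theorem exists_root {X : Over S} [IsAffine X.left] (r : Γ(X.left, ⊤)) {N : ℕ} (hN : N ≠ 0) :
    ∃ (X' : Over S) (q : X' ⟶ X) (w : Γ(X'.left, ⊤)), Function.Injective (pull q) ∧ w ^ N = pull q r := by
  set g : Polynomial Γ(X.left, ⊤) := Polynomial.X ^ N - Polynomial.C r with hg
  have hm : g.Monic := Polynomial.monic_X_pow_sub_C r hN
  refine ⟨ext (AdjoinRoot.of g), extProj _, extFn _ (AdjoinRoot.root g), injective_pull_extProj ?_, ?_⟩
  · intro a b h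
    by_contra hne
    have : Nontrivial Γ(X.left, ⊤) := ⟨a, b, hne⟩
    have : (Polynomial.C (a - b)) %ₘ g = 0 := by
      rw [Polynomial.modByMonic_eq_zero_iff_dvd hm, ← AdjoinRoot.mk_eq_zero]
      show AdjoinRoot.of g (a - b) = 0
      rw [map_sub, h, sub_self]
    rw [(Polynomial.modByMonic_eq_self_iff hm).mpr] at this
    · exact hne (sub_eq_zero.mp (Polynomial.C_eq_zero.mp this))
    · refine lt_of_le_of_lt Polynomial.degree_C_le ?_
      rw [hg, Polynomial.degree_X_pow_sub_C (Nat.pos_of_ne_zero hN)]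
      exact_mod_cast Nat.pos_of_ne_zero hN
  · rw [pull_extProj, ← map_pow]
    refine congrArg _ ?_
    have h : AdjoinRoot.mk g g = 0 := AdjoinRoot.mk_self
    conv at h => lhs; arg 2; rw [hg]
    rw [map_sub, map_pow, AdjoinRoot.mk_X, AdjoinRoot.mk_C, sub_eq_zero] at h
    exact h

section NaturalFunctions

variable (F : ∀ X : Over S, Γ(X.left, ⊤) → Γ(X.left, ⊤))
  (hnat : ∀ {X Y : Over S} (j : Y ⟶ X) (r : Γ(X.left, ⊤)), F Y (pull j r) = pull j (F X r))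
  (hzero : ∀ X : Over S, F X 0 = 0) (N q : ℕ) (hN : N ≠ 0)

include hnat hzero hN

/-- A function of negative weight vanishes. -/
theorem fn_eq_zero (h : ∀ (X : Over S) (v : Γ(X.left, ⊤)ˣ) (r : Γ(X.left, ⊤)),
    F X (↑(v ^ N) * r) * ↑(v ^ (N * q)) = F X r) (X : Over S) (r : Γ(X.left, ⊤)) : F X r = 0 := by
  refine fn_ext_affine fun U j hU ↦ ?_
  obtain ⟨X₁, X₂, q₁, k, t, _, _, hk, -, hu, hσ⟩ := exists_generic (X := U) Polynomial.X ⟨1, by simp⟩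
  rw [Polynomial.eval₂_X] at hu
  obtain ⟨v, hv⟩ := hu
  obtain ⟨σ, hσq, hσt⟩ := hσ 0
  have key : F X₁ (t ^ N * pull q₁ (pull j r)) * t ^ (N * q) = F X₁ (pull q₁ (pull j r)) := hk (by
    have := h X₂ v (pull k (pull q₁ (pull j r)))
    rw [Units.val_pow_eq_pow_val, Units.val_pow_eq_pow_val, hv, ← map_pow, ← map_pow, ← map_mul, hnat, hnat] at this
    rwa [map_mul])
  have := congrArg (pull σ) key
  rw [map_mul, ← hnat, ← hnat, map_mul, map_pow, map_pow, hσt, zero_pow hN, zero_mul, hzero, zero_mul,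
    ← pull_comp_apply σ q₁, hσq, pull_id, RingHom.id_apply] at this
  rw [← hnat, map_zero, ← this]

/-- A function of weight `q` is a multiple of the `q`-th power. -/
theorem fn_eq_mul_pow (h : ∀ (X : Over S) (v : Γ(X.left, ⊤)ˣ) (r : Γ(X.left, ⊤)),
    F X (↑(v ^ N) * r) = ↑(v ^ (N * q)) * F X r) (X : Over S) (r : Γ(X.left, ⊤)) :
    F X r = pull (toUnit X) (F (𝟙_ (Over S)) 1) * r ^ q := by
  refine fn_ext_affine fun U j hU ↦ ?_
  rw [map_mul, map_pow, ← pull_comp_apply, toUnit_unique (j ≫ toUnit X) (toUnit U), ← hnat, ← hnat, map_one]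
  obtain ⟨U', p', w, hp', hw⟩ := exists_root (pull j r) hN
  refine hp' ?_
  rw [map_mul, map_pow, ← hw, ← hnat, ← hnat, ← hw, map_one]
  refine fn_ext_affine fun V i hV ↦ ?_
  rw [map_mul, map_pow, ← hnat, ← hnat, map_pow, map_one]
  obtain ⟨X₁, X₂, q₁, k, t, _, _, hk, -, hu, hσ⟩ := exists_generic (X := V) Polynomial.X ⟨1, by simp⟩
  rw [Polynomial.eval₂_X] at hu
  obtain ⟨v, hv⟩ := hu
  obtain ⟨σ, hσq, hσt⟩ := hσ (pull i w)
  have key : F X₁ (t ^ N * 1) = t ^ (N * q) * F X₁ 1 := hk (by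
    have := h X₂ v 1
    rw [Units.val_pow_eq_pow_val, Units.val_pow_eq_pow_val, hv] at this
    rw [map_mul (pull k), ← hnat, ← hnat, map_mul (pull k), map_pow, map_pow, map_one]
    exact this)
  have := congrArg (pull σ) key
  rw [← hnat, map_mul, map_mul, map_pow, map_pow, ← hnat, map_one, hσt, _root_.mul_one, pow_mul] at this
  rw [this, _root_.mul_comm]

end NaturalFunctions

section Weight

variable {G T : Over S} [GrpObj G] [GrpObj T] {i : T ⟶ G} [IsMonHom i]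
  {α : T ⟶ Red.Gm S} [IsMonHom α] {pp pm : Red.Ga S ⟶ G} [IsMonHom pp] [IsMonHom pm]
  (hpp : ∀ (X : Over S) (t : X ⟶ T) (x : X ⟶ Red.Ga S), ∃ x' : X ⟶ Red.Ga S,
    x' ≫ pp = (t ≫ i) * (x ≫ pp) * (t ≫ i)⁻¹ ∧ Red.gaFn x' = Red.gmFn (t ≫ α) * Red.gaFn x)
  (hpm : ∀ (X : Over S) (t : X ⟶ T) (y : X ⟶ Red.Ga S), ∃ y' : X ⟶ Red.Ga S,
    y' ≫ pm = (t ≫ i) * (y ≫ pm) * (t ≫ i)⁻¹ ∧ Red.gaFn y' * Red.gmFn (t ≫ α) = Red.gaFn y)
  (hΩ : IsOpenImmersion (((pm ⊗ₘ i) ⊗ₘ pp) ≫ (μ[G] ▷ G) ≫ μ[G]).left)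
  (hT : Red.IsTorus T)

include hpp in
lemma conj_pp {X : Over S} (t : X ⟶ T) (r : Γ(X.left, ⊤)) :
    (t ≫ i) * (gaMk X r ≫ pp) * (t ≫ i)⁻¹ = gaMk X (Red.gmFn (t ≫ α) * r) ≫ pp := by
  obtain ⟨x', h1, h2⟩ := hpp X t (gaMk X r)
  rw [← h1, show x' = gaMk X (Red.gmFn (t ≫ α) * r) from gaFn_injective (by simpa using h2)]

include hpm in
lemma conj_pm {X : Over S} (t : X ⟶ T) (r : Γ(X.left, ⊤)) {a : Γ(X.left, ⊤)}
    (ha : a * Red.gmFn (t ≫ α) = r) : (t ≫ i) * (gaMk X r ≫ pm) * (t ≫ i)⁻¹ = gaMk X a ≫ pm := by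
  obtain ⟨y', h1, h2⟩ := hpm X t (gaMk X r)
  obtain ⟨u, hu⟩ := isUnit_gmFn (t ≫ α)
  rw [gaFn_gaMk, ← ha, ← hu] at h2
  rw [← h1, show y' = gaMk X a from gaFn_injective (by rw [gaFn_gaMk]; exact u.isUnit.mul_right_cancel h2)]

include hpp hpm hT in
lemma conj_cell {X : Over S} (s t : X ⟶ T) (y x : Γ(X.left, ⊤)) (u : Γ(X.left, ⊤)ˣ)
    (hu : Red.gmFn (s ≫ α) = u) :
    (s ≫ i) * ((gaMk X y ≫ pm) * (t ≫ i) * (gaMk X x ≫ pp)) * (s ≫ i)⁻¹ =
      (gaMk X (↑u⁻¹ * y) ≫ pm) * (t ≫ i) * (gaMk X (↑u * x) ≫ pp) := by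
  have e1 := conj_pm hpm s y (a := ↑u⁻¹ * y) (by rw [hu, _root_.mul_comm, Units.mul_inv_cancel_left])
  have e2 := conj_pp hpp s x
  have e3 : (s ≫ i) * (t ≫ i) * (s ≫ i)⁻¹ = t ≫ i := by
    rw [← MonObj.mul_comp, torus_mul_comm hT, MonObj.mul_comp, mul_inv_cancel_right]
  rw [← e1, ← hu, ← e2]
  calc (s ≫ i) * ((gaMk X y ≫ pm) * (t ≫ i) * (gaMk X x ≫ pp)) * (s ≫ i)⁻¹
      = ((s ≫ i) * (gaMk X y ≫ pm) * (s ≫ i)⁻¹) * ((s ≫ i) * (t ≫ i) * (s ≫ i)⁻¹) *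
          ((s ≫ i) * (gaMk X x ≫ pp) * (s ≫ i)⁻¹) := by simp only [_root_.mul_assoc, inv_mul_cancel_left]
    _ = _ := by rw [e3]

variable (p : Red.Ga S ⟶ G) [IsMonHom p] (N : ℕ) (hN : N ≠ 0)
  (a : ∀ X : Over S, Γ(X.left, ⊤)ˣ → Γ(X.left, ⊤)ˣ)
  (hrel : ∀ (X : Over S) (v : Γ(X.left, ⊤)ˣ), ∃ (X' : Over S) (q : X' ⟶ X) (s : X' ⟶ T),
    Flat q.left ∧ Surjective q.left ∧ Red.gmFn (s ≫ α) = pull q ↑(a X v) ∧
      ∀ x : X' ⟶ Red.Ga S, gaMk X' (pull q ↑(v ^ N) * Red.gaFn x) ≫ p = (s ≫ i) * (x ≫ p) * (s ≫ i)⁻¹)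

include hpp hpm hΩ hT hN hrel in
/-- An equivariant morphism lands in the cell. -/
theorem inCell_of_weight {X : Over S} (x : X ⟶ Red.Ga S) : InCell i pp pm (x ≫ p) := by
  classical
  refine inCell_of_geomPts hΩ _ fun K _ _ p₀ b ↦ ?_
  rw [← Category.assoc]
  let Z : Over S := Over.mk p₀
  have : IsAffine Z.left := inferInstanceAs (IsAffine (Spec _))
  let eK : Γ(Z.left, ⊤) ≃+* K := (Scheme.ΓSpecIso (CommRingCat.of K)).commRingCatIsoToRingEquiv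
  set r := Red.gaFn (b ≫ x)
  have hbx : b ≫ x = gaMk Z r := gaFn_injective (gaFn_gaMk (X := Z) r).symm
  rw [hbx]
  have h0 : InCell i pp pm (gaMk Z 0 ≫ p) := ⟨1, 1, 1, by
    rw [show gaMk Z 0 = 1 from gaFn_injective (by simp [gaFn_one])]
    simp [MonObj.one_comp]⟩
  by_cases hr : r = 0
  · rw [hr]; exact h0
  -- a non-zero parameter landing in the cell
  let C : Γ(Z.left, ⊤) →+* Polynomial Γ(Z.left, ⊤) := Polynomial.C
  let Z₁ := ext C
  have : IsAffine Z₁.left := inferInstanceAs (IsAffine (Spec _))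
  let u₁ : Z₁ ⟶ G := gaMk Z₁ (extFn C Polynomial.X) ≫ p
  have hσ : ∀ c, ∃ σ : Z ⟶ Z₁, σ ≫ u₁ = gaMk Z c ≫ p ∧ ∀ f, pull σ (extFn C f) = f.eval c := fun c ↦ by
    obtain ⟨σ, -, h⟩ := exists_extLift C (𝟙 Z) (Polynomial.evalRingHom c) (by ext a; simp [C])
    refine ⟨σ, ?_, fun f ↦ h f⟩
    rw [← Category.assoc, comp_gaMk, h]
    simp
  obtain ⟨σ₀, hσ₀, hσ₀'⟩ := hσ 0
  have hx₀ : u₁.left.base (σ₀.left.base (IsLocalRing.closedPoint K)) ∈ Set.range (cell i pp pm).left :=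
    range_subset_of_inCell (by rw [hσ₀]; exact h0 : InCell i pp pm (σ₀ ≫ u₁)) ⟨IsLocalRing.closedPoint K, rfl⟩
  let O : Z₁.left.Opens := u₁.left ⁻¹ᵁ (cell i pp pm).left.opensRange
  obtain ⟨f, hf, hxf⟩ := (isAffineOpen_top Z₁.left).exists_basicOpen_le (V := O) ⟨_, hx₀⟩ trivial
  let e₁ : Γ(Z₁.left, ⊤) ≃+* Polynomial Γ(Z.left, ⊤) :=
    (Scheme.ΓSpecIso (CommRingCat.of (Polynomial Γ(Z.left, ⊤)))).commRingCatIsoToRingEquiv
  have hf0 : (e₁ f).map eK.toRingHom ≠ 0 := fun h ↦ by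
    rw [Polynomial.map_eq_zero_iff (f := eK.toRingHom) eK.injective, map_eq_zero_iff _ e₁.injective] at h
    rw [h, Scheme.basicOpen_zero] at hxf
    exact hxf
  obtain ⟨c, hc⟩ := Infinite.exists_notMem_finset (insert (0 : K) ((e₁ f).map eK.toRingHom).roots.toFinset)
  simp only [Finset.mem_insert, Multiset.mem_toFinset, Polynomial.mem_roots hf0, Polynomial.IsRoot.def, not_or] at hc
  obtain ⟨σ₁, hσ₁, hσ₁'⟩ := hσ (eK.symm c)
  have hfu : IsUnit (pull σ₁ f) := by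
    have e : extFn C (e₁ f) = f := e₁.symm_apply_apply f
    rw [← e, hσ₁']
    refine isUnit_of_ne_zero K fun h ↦ hc.2 ?_
    have e2 := Polynomial.hom_eval₂ (e₁ f) (RingHom.id _) eK.toRingHom (eK.symm c)
    rw [RingHom.comp_id] at e2
    rw [Polynomial.eval_map]
    rw [show Polynomial.eval₂ (RingHom.id _) (eK.symm c) (e₁ f) = (e₁ f).eval (eK.symm c) from rfl, h, map_zero] at e2
    simpa using e2.symm
  have hc₁ : InCell i pp pm (gaMk Z (eK.symm c) ≫ p) := by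
    rw [← hσ₁]
    refine inCell_of_range hΩ ?_
    rintro _ ⟨z, rfl⟩
    have hz : σ₁.left.base z ∈ Z₁.left.basicOpen f := by
      have := Scheme.preimage_basicOpen_top σ₁.left f
      rw [Scheme.basicOpen_of_isUnit _ hfu] at this
      exact this.ge (TopologicalSpace.Opens.mem_top z)
    exact hf hz
  -- scaling
  obtain ⟨w, hw⟩ := IsAlgClosed.exists_pow_nat_eq (eK r / c) (Nat.pos_of_ne_zero hN)
  have hw0 : w ≠ 0 := fun h ↦ by
    rw [h, zero_pow hN, eq_comm, div_eq_zero_iff] at hw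
    exact hw.elim (fun h ↦ hr ((map_eq_zero_iff _ eK.injective).mp h)) hc.1
  let v : Γ(Z.left, ⊤)ˣ := Units.map eK.symm.toMonoidHom (Units.mk0 w hw0)
  have hv : ↑(v ^ N) * eK.symm c = r := by
    apply eK.injective
    rw [map_mul, Units.val_pow_eq_pow_val, map_pow, RingEquiv.apply_symm_apply,
      show eK (v : Γ(Z.left, ⊤)) = w from eK.apply_symm_apply w, hw, div_mul_cancel₀ _ hc.1]
  obtain ⟨Z', q', s, hq, hqs, hsα, hs⟩ := hrel Z v
  obtain ⟨y₁, t₁, x₁, e⟩ := hc₁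
  have hZ' : InCell i pp pm (q' ≫ gaMk Z r ≫ p) := by
    obtain ⟨u, hu⟩ := isUnit_gmFn (s ≫ α)
    have h2 := hs (gaMk Z' (pull q' (eK.symm c)))
    rw [gaFn_gaMk, ← map_mul, hv] at h2
    rw [← Category.assoc, comp_gaMk, h2]
    have h3 : gaMk Z' (pull q' (eK.symm c)) ≫ p = ((q' ≫ y₁) ≫ pm) * ((q' ≫ t₁) ≫ i) * ((q' ≫ x₁) ≫ pp) := by
      rw [← comp_gaMk, Category.assoc, ← e]
      simp only [MonObj.comp_mul, Category.assoc]
    rw [h3, comp_eq_gaMk_comp (q' ≫ y₁), comp_eq_gaMk_comp (q' ≫ x₁), conj_cell hpp hpm hT s _ _ _ u hu.symm]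
    exact ⟨_, _, _, rfl⟩
  refine inCell_of_range hΩ ?_
  rintro _ ⟨z, rfl⟩
  obtain ⟨z', rfl⟩ := q'.left.surjective z
  exact range_subset_of_inCell hZ' ⟨z', rfl⟩
where
  isUnit_of_ne_zero (K : Type u) [Field K] {p₀ : Spec (CommRingCat.of K) ⟶ S}
      {r : Γ((Over.mk p₀).left, ⊤)} (hr : r ≠ 0) : IsUnit r := by
    let e := (Scheme.ΓSpecIso (CommRingCat.of K)).commRingCatIsoToRingEquiv
    have h : IsUnit (show K from e r) := IsUnit.mk0 _ fun h ↦ hr ((map_eq_zero_iff _ e.injective).mp h)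
    simpa using h.map e.symm

include hpp hpm hΩ hT hN hrel in
/-- The coordinates of an equivariant morphism. -/
theorem exists_coords :
    ∃ Y Z : ∀ X : Over S, Γ(X.left, ⊤) → Γ(X.left, ⊤),
      (∀ {X W : Over S} (j : W ⟶ X) r, Y W (pull j r) = pull j (Y X r)) ∧
      (∀ {X W : Over S} (j : W ⟶ X) r, Z W (pull j r) = pull j (Z X r)) ∧
      (∀ X, Y X 0 = 0) ∧ (∀ X, Z X 0 = 0) ∧
      (∀ (X : Over S) (v : Γ(X.left, ⊤)ˣ) r, Y X (↑(v ^ N) * r) * ↑(a X v) = Y X r) ∧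
      (∀ (X : Over S) (v : Γ(X.left, ⊤)ˣ) r, Z X (↑(v ^ N) * r) = ↑(a X v) * Z X r) ∧
      ∀ (X : Over S) (x : X ⟶ Red.Ga S),
        x ≫ p = (gaMk X (Y X (Red.gaFn x)) ≫ pm) * (gaMk X (Z X (Red.gaFn x)) ≫ pp) := by
  choose y t x h using fun (X : Over S) (r : Γ(X.left, ⊤)) ↦ inCell_of_weight hpp hpm hΩ hT p N hN a hrel (gaMk X r)
  have hn : ∀ {X W : Over S} (j : W ⟶ X) r, j ≫ y X r = y W (pull j r) ∧ j ≫ t X r = t W (pull j r) ∧
      j ≫ x X r = x W (pull j r) := by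
    intro X W j r
    refine cell_inj hΩ ?_
    rw [h W, ← comp_gaMk, Category.assoc j (gaMk X r) p, ← h X r]
    simp only [MonObj.comp_mul, Category.assoc]
  have h1 : ∀ X, y X 0 = 1 ∧ t X 0 = 1 ∧ x X 0 = 1 := fun X ↦ by
    refine cell_inj hΩ ?_
    rw [h X, show gaMk X 0 = 1 from gaFn_injective (by simp [gaFn_one])]
    simp [MonObj.one_comp]
  have hfn : ∀ {X W : Over S} (j : W ⟶ X) (c : X ⟶ Red.Ga S), pull j (Red.gaFn c) = Red.gaFn (j ≫ c) :=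
    fun j c ↦ (gaFn_comp j c).symm
  have key : ∀ (X : Over S) (v : Γ(X.left, ⊤)ˣ) r, Red.gaFn (y X (↑(v ^ N) * r)) * ↑(a X v) = Red.gaFn (y X r) ∧
      t X (↑(v ^ N) * r) = t X r ∧ Red.gaFn (x X (↑(v ^ N) * r)) = ↑(a X v) * Red.gaFn (x X r) := by
    intro X v r
    obtain ⟨X', q, s, hq, hqs, hsα, hs⟩ := hrel X v
    have hinj := injective_pull_of_flat_surjective q
    obtain ⟨u, hu⟩ := isUnit_gmFn (s ≫ α)
    have e := hs (gaMk X' (pull q r))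
    rw [gaFn_gaMk, ← map_mul, ← h X', ← h X', comp_eq_gaMk_comp (y X' (pull q r)),
      comp_eq_gaMk_comp (x X' (pull q r)), conj_cell hpp hpm hT s _ _ _ u hu.symm] at e
    obtain ⟨e1, e2, e3⟩ := cell_inj hΩ e
    have ea : (u : Γ(X'.left, ⊤)) = pull q ↑(a X v) := hu.trans hsα
    refine ⟨hinj ?_, ?_, hinj ?_⟩
    · rw [map_mul, hfn, hfn, (hn q _).1, (hn q _).1, e1, gaFn_gaMk, ← ea, _root_.mul_comm, Units.mul_inv_cancel_left]
    · rw [← (hn q _).2.1, ← (hn q _).2.1] at e2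
      have := Flat.epi_of_flat_of_surjective q.left
      exact Over.OverMorphism.ext ((cancel_epi q.left).mp (congrArg CommaMorphism.left e2))
    · rw [map_mul, hfn, hfn, (hn q _).2.2, (hn q _).2.2, e3, gaFn_gaMk, ea]
  have ht : ∀ X r, t X r = 1 := fun X r ↦ by
    have := isAffineHom_of_isTorus hT
    refine hom_ext_affine fun U j hU ↦ ?_
    rw [(hn j r).2.1, MonObj.comp_one]
    obtain ⟨X₁, X₂, q₁, k, w, _, _, hk, -, hu, hσ⟩ := exists_generic (X := U) Polynomial.X ⟨1, by simp⟩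
    rw [Polynomial.eval₂_X] at hu
    obtain ⟨v, hv⟩ := hu
    obtain ⟨σ, hσq, hσt⟩ := hσ 0
    have e : t X₁ (w ^ N * pull q₁ (pull j r)) = t X₁ (pull q₁ (pull j r)) := ext_of_injective k hk (by
      have := (key X₂ v (pull k (pull q₁ (pull j r)))).2.1
      rw [Units.val_pow_eq_pow_val, hv] at this
      rw [(hn k _).2.1, (hn k _).2.1, map_mul, map_pow]
      exact this)
    have e' := congrArg (σ ≫ ·) e
    simp only [(hn σ _).2.1] at e'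
    rw [map_mul, map_pow, hσt, zero_pow hN, zero_mul, ← pull_comp_apply σ q₁, hσq, pull_id, RingHom.id_apply,
      (h1 U).2.1] at e'
    exact e'.symm
  refine ⟨fun X r ↦ Red.gaFn (y X r), fun X r ↦ Red.gaFn (x X r), fun j r ↦ ?_, fun j r ↦ ?_, fun X ↦ ?_, fun X ↦ ?_,
    fun X v r ↦ (key X v r).1, fun X v r ↦ (key X v r).2.2, fun X c ↦ ?_⟩
  · rw [hfn, (hn j r).1]
  · rw [hfn, (hn j r).2.2]
  · show Red.gaFn (y X 0) = 0
    rw [(h1 X).1, gaFn_one]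
  · show Red.gaFn (x X 0) = 0
    rw [(h1 X).2.2, gaFn_one]
  · conv_lhs => rw [comp_eq_gaMk_comp c, ← h X (Red.gaFn c), ht, MonObj.one_comp, _root_.mul_one]
    rw [← comp_eq_gaMk_comp, ← comp_eq_gaMk_comp]

include hpp hpm hΩ hT hN in
/-- An equivariant morphism of weight `q` is `x ↦ pp (ν * x ^ q)`. -/
theorem exists_eq_pp_pow (q : ℕ)
    (hrel : ∀ (X : Over S) (v : Γ(X.left, ⊤)ˣ), ∃ (X' : Over S) (j : X' ⟶ X) (s : X' ⟶ T),
      Flat j.left ∧ Surjective j.left ∧ Red.gmFn (s ≫ α) = pull j ↑(v ^ (N * q)) ∧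
        ∀ x : X' ⟶ Red.Ga S, gaMk X' (pull j ↑(v ^ N) * Red.gaFn x) ≫ p = (s ≫ i) * (x ≫ p) * (s ≫ i)⁻¹) :
    ∃ ν : Γ((𝟙_ (Over S)).left, ⊤), ∀ (X : Over S) (x : X ⟶ Red.Ga S),
      x ≫ p = gaMk X (pull (toUnit X) ν * Red.gaFn x ^ q) ≫ pp := by
  obtain ⟨Y, Z, hY, hZ, hY0, hZ0, hYv, hZv, hp⟩ := exists_coords hpp hpm hΩ hT p N hN (fun _ v ↦ v ^ (N * q)) hrel
  refine ⟨Z _ 1, fun X x ↦ ?_⟩
  rw [hp X x, fn_eq_zero Y hY hY0 N q hN hYv, fn_eq_mul_pow Z hZ hZ0 N q hN hZv,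
    show gaMk X 0 = 1 from gaFn_injective (by simp [gaFn_one]), MonObj.one_comp, _root_.one_mul]

include hpp hpm hΩ hT hN in
/-- An equivariant morphism of weight `-q` is `x ↦ pm (ν * x ^ q)`. -/
theorem exists_eq_pm_pow (q : ℕ)
    (hrel : ∀ (X : Over S) (v : Γ(X.left, ⊤)ˣ), ∃ (X' : Over S) (j : X' ⟶ X) (s : X' ⟶ T),
      Flat j.left ∧ Surjective j.left ∧ Red.gmFn (s ≫ α) = pull j ↑(v ^ (N * q))⁻¹ ∧
        ∀ x : X' ⟶ Red.Ga S, gaMk X' (pull j ↑(v ^ N) * Red.gaFn x) ≫ p = (s ≫ i) * (x ≫ p) * (s ≫ i)⁻¹) :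
    ∃ ν : Γ((𝟙_ (Over S)).left, ⊤), ∀ (X : Over S) (x : X ⟶ Red.Ga S),
      x ≫ p = gaMk X (pull (toUnit X) ν * Red.gaFn x ^ q) ≫ pm := by
  obtain ⟨Y, Z, hY, hZ, hY0, hZ0, hYv, hZv, hp⟩ :=
    exists_coords hpp hpm hΩ hT p N hN (fun _ v ↦ (v ^ (N * q))⁻¹) hrel
  refine ⟨Y _ 1, fun X x ↦ ?_⟩
  rw [hp X x, fn_eq_zero Z hZ hZ0 N q hN (fun X v r ↦ by
      rw [hZv, _root_.mul_comm, Units.mul_inv_cancel_left]),
    fn_eq_mul_pow Y hY hY0 N q hN (fun X v r ↦ by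
      rw [← hYv X v r, _root_.mul_comm (Y X _), Units.mul_inv_cancel_left]),
    show gaMk X 0 = 1 from gaFn_injective (by simp [gaFn_one]), MonObj.one_comp, _root_.mul_one]

end Weight

end Groth.Reductive2
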