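import Groth.Agent.Reductive2.TorusWeights
import Mathlib.LinearAlgebra.Dual.Lemmas

/-!
Nilpotent Lie algebra: the weights of a one-parameter subgroup on the cotangent space vanish in the
ground field.
-/

set_option autoImplicit false
universe u

open CategoryTheory MonoidalCategory CartesianMonoidalCategory MonObj GrpObj AlgebraicGeometry
open scoped TensorProduct DualNumber

noncomputable section

namespace Groth.Reductive2.TorusWeightsLie

open Groth.Agf Groth.Reductive2.TorusWeights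

attribute [-simp] DualNumber.inr_eq_smul_eps

variable {k : Type u} [Field k]

/-- The base point of the test schemes. -/
abbrev f₀ (k : Type u) [Field k] : Spec (CommRingCat.of k) ⟶ Spec (CommRingCat.of k) :=
  Spec.map (CommRingCat.ofHom (algebraMap k k))

/-- `ε ↦ εε'`. -/
def mulA : DualNumber k →ₐ[k] LieS.D2 k :=
  { LieS.mulHom k with
    commutes' := fun c => by
      refine (RingHom.congr_fun (LieS.mulHom_comp_algebraMap k) c).trans ?_
      refine TrivSqZeroExt.ext ?_ ?_ <;> simp [TrivSqZeroExt.algebraMap_eq_inl'] }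

/-- `ε ↦ ε'`. -/
def renA : DualNumber k →ₐ[k] LieS.D2 k :=
  { LieS.bcHom (algebraMap k (DualNumber k)) with
    commutes' := fun c => by
      refine (RingHom.congr_fun (LieS.bcHom_comp_algebraMap (algebraMap k (DualNumber k))) c).trans ?_
      refine TrivSqZeroExt.ext ?_ ?_ <;> simp [TrivSqZeroExt.algebraMap_eq_inl'] }

/-- `ε ↦ ε`. -/
abbrev inA : DualNumber k →ₐ[k] LieS.D2 k := IsScalarTower.toAlgHom k (DualNumber k) (LieS.D2 k)

/-- The dual point as a point of the functor of points. -/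
def toDpt : VecGrp.pt k (DualNumber k) ⟶ LieS.dpt k (f₀ k) :=
  Over.homMk (𝟙 (Spec (CommRingCat.of (DualNumber k)))) (by
    change 𝟙 _ ≫ Spec.map _ ≫ Spec.map _ = Spec.map _
    rw [Category.id_comp, LieS.specMap_comp, Algebra.algebraMap_self, RingHom.comp_id])

/-- The inverse of `toDpt`. -/
def ofDpt : LieS.dpt k (f₀ k) ⟶ VecGrp.pt k (DualNumber k) :=
  Over.homMk (𝟙 (Spec (CommRingCat.of (DualNumber k)))) (by
    change 𝟙 _ ≫ Spec.map _ = Spec.map _ ≫ Spec.map _
    rw [Category.id_comp, LieS.specMap_comp, Algebra.algebraMap_self, RingHom.comp_id])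

theorem toDpt_ofDpt : toDpt (k := k) ≫ ofDpt = 𝟙 _ := by
  apply Over.OverMorphism.ext
  rw [Over.comp_left, Over.id_left]
  exact (Category.id_comp (𝟙 (Spec (CommRingCat.of (DualNumber k))))).trans rfl

/-- The doubly dual point as a point of the functor of points. -/
def toD2pt : VecGrp.pt k (LieS.D2 k) ⟶ LieS.d2pt k (f₀ k) :=
  Over.homMk (𝟙 (Spec (CommRingCat.of (LieS.D2 k)))) (by
    change 𝟙 _ ≫ Spec.map _ ≫ Spec.map _ ≫ Spec.map _ = Spec.map _
    rw [Category.id_comp, LieS.specMap_comp, LieS.specMap_comp, Algebra.algebraMap_self, RingHom.comp_id,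
      ← IsScalarTower.algebraMap_eq])

theorem toD2pt_mulMap : toD2pt ≫ LieS.mulMap k (f₀ k) = VecGrp.ptMap (B := DualNumber k) (B' := LieS.D2 k) (mulA (k := k)) ≫ toDpt := by
  apply Over.OverMorphism.ext
  change 𝟙 _ ≫ Spec.map _ = Spec.map _ ≫ 𝟙 _
  rw [Category.id_comp, Category.comp_id]
  rfl

theorem toD2pt_ren : toD2pt ≫ LieS.dptMap (f₀ k) (algebraMap k (DualNumber k)) =
    VecGrp.ptMap (B := DualNumber k) (B' := LieS.D2 k) (renA (k := k)) ≫ toDpt := by
  apply Over.OverMorphism.ext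
  change 𝟙 _ ≫ Spec.map _ = Spec.map _ ≫ 𝟙 _
  rw [Category.id_comp, Category.comp_id]
  rfl

theorem toD2pt_proj :
    toD2pt ≫ (LieS.proj (DualNumber k) (LieS.dpt k (f₀ k)).hom : LieS.d2pt k (f₀ k) ⟶ LieS.dpt k (f₀ k)) =
      VecGrp.ptMap (B := DualNumber k) (B' := LieS.D2 k) (inA (k := k)) ≫ toDpt := by
  apply Over.OverMorphism.ext
  change 𝟙 _ ≫ Spec.map _ = Spec.map _ ≫ 𝟙 _
  rw [Category.id_comp, Category.comp_id]
  rfl

theorem toD2pt_mulMap' {X : Over (Spec (CommRingCat.of k))} (z : LieS.dpt k (f₀ k) ⟶ X) :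
    toD2pt ≫ LieS.mulMap k (f₀ k) ≫ z = VecGrp.ptMap (B := DualNumber k) (B' := LieS.D2 k) (mulA (k := k)) ≫ toDpt ≫ z :=
  (Category.assoc _ _ _).symm.trans ((congrArg (· ≫ z) toD2pt_mulMap).trans (Category.assoc _ _ _))

theorem toD2pt_ren' {X : Over (Spec (CommRingCat.of k))} (z : LieS.dpt k (f₀ k) ⟶ X) :
    toD2pt ≫ LieS.dptMap (f₀ k) (algebraMap k (DualNumber k)) ≫ z =
      VecGrp.ptMap (B := DualNumber k) (B' := LieS.D2 k) (renA (k := k)) ≫ toDpt ≫ z :=
  (Category.assoc _ _ _).symm.trans ((congrArg (· ≫ z) toD2pt_ren).trans (Category.assoc _ _ _))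

theorem toD2pt_proj' {X : Over (Spec (CommRingCat.of k))} (z : LieS.dpt k (f₀ k) ⟶ X) :
    toD2pt ≫ (LieS.proj (DualNumber k) (LieS.dpt k (f₀ k)).hom : LieS.d2pt k (f₀ k) ⟶ LieS.dpt k (f₀ k)) ≫ z =
      VecGrp.ptMap (B := DualNumber k) (B' := LieS.D2 k) (inA (k := k)) ≫ toDpt ≫ z :=
  (Category.assoc _ _ _).symm.trans ((congrArg (· ≫ z) toD2pt_proj).trans (Category.assoc _ _ _))

theorem ofDpt_zeroSec :
    LieS.zeroSec k (f₀ k) ≫ ofDpt = VecGrp.ptMap (TrivSqZeroExt.fstHom k k k) := by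
  apply Over.OverMorphism.ext
  change Spec.map _ ≫ 𝟙 _ = Spec.map _
  rw [Category.comp_id]

/-- `1 + aε`. -/
def epsUnit : Multiplicative k →* (DualNumber k)ˣ where
  toFun a :=
    { val := 1 + TrivSqZeroExt.inr a.toAdd
      inv := 1 - TrivSqZeroExt.inr a.toAdd
      val_inv := by refine TrivSqZeroExt.ext ?_ ?_ <;> simp
      inv_val := by refine TrivSqZeroExt.ext ?_ ?_ <;> simp }
  map_one' := Units.ext (by simp)
  map_mul' a b := Units.ext (by refine TrivSqZeroExt.ext ?_ ?_ <;> simp [toAdd_mul, add_comm])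

variable {E : Over (Spec (CommRingCat.of k))} [GrpObj E]
  (i : Red.Gm (Spec (CommRingCat.of k)) ⟶ E) [IsMonHom i] [IsAffine E.left]

omit [IsAffine E.left] in
theorem ofDpt_mem (v : VecGrp.pt k (DualNumber k) ⟶ E)
    (hv : VecGrp.ptMap (TrivSqZeroExt.fstHom k k k) ≫ v = 1) : ofDpt ≫ v ∈ LieS.Lie E k (f₀ k) := by
  rw [LieS.mem_Lie_iff, ← Category.assoc, ofDpt_zeroSec]
  exact hv

omit [IsAffine E.left] in
theorem fst_toDpt (w : LieS.Lie E k (f₀ k)) :
    VecGrp.ptMap (TrivSqZeroExt.fstHom k k k) ≫ toDpt ≫ w.1 = 1 := by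
  have h : VecGrp.ptMap (TrivSqZeroExt.fstHom k k k) ≫ toDpt = LieS.zeroSec k (f₀ k) := by
    apply Over.OverMorphism.ext
    change Spec.map _ ≫ 𝟙 _ = Spec.map _
    rw [Category.comp_id]
  rw [← Category.assoc, h]
  exact w.2

/-- Product of two infinitesimal points in independent directions. -/
theorem snd_snd_mul (w v : VecGrp.pt k (DualNumber k) ⟶ E)
    (hv : VecGrp.ptMap (TrivSqZeroExt.fstHom k k k) ≫ v = 1)
    (hw : VecGrp.ptMap (TrivSqZeroExt.fstHom k k k) ≫ w = 1) (g : Fn E) :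
    (evalPt ((VecGrp.ptMap (B := DualNumber k) (B' := LieS.D2 k) (mulA (k := k)) ≫ w) * (VecGrp.ptMap (B := DualNumber k) (B' := LieS.D2 k) (inA (k := k)) ≫ v)) g).snd.snd = (evalPt w g).snd := by
  let C := TrivSqZeroExt k (k × k)
  let j₁ : DualNumber k →ₐ[k] C := TrivSqZeroExt.map (LinearMap.inl k k k)
  let j₂ : DualNumber k →ₐ[k] C := TrivSqZeroExt.map (LinearMap.inr k k k)
  let π₁ : C →ₐ[k] DualNumber k := TrivSqZeroExt.map (LinearMap.fst k k k)
  let L : k × k →ₗ[k] LieS.D2 k :=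
    { toFun := fun a => TrivSqZeroExt.inl (TrivSqZeroExt.inr a.2) + TrivSqZeroExt.inr (TrivSqZeroExt.inr a.1)
      map_add' := fun a b => by refine TrivSqZeroExt.ext ?_ ?_ <;> simp
      map_smul' := fun c a => by refine TrivSqZeroExt.ext ?_ ?_ <;> refine TrivSqZeroExt.ext ?_ ?_ <;> simp }
  let ψ : C →ₐ[k] LieS.D2 k := TrivSqZeroExt.liftEquivOfComm ⟨L, fun a b => by
    refine TrivSqZeroExt.ext ?_ ?_ <;> refine TrivSqZeroExt.ext ?_ ?_ <;> simp [L]⟩
  have hψ₀ : ∀ y : C, ψ y = algebraMap k (LieS.D2 k) y.fst + L y.snd := fun y => rfl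
  have hπ₀ : ∀ y : C, π₁ y = algebraMap k (DualNumber k) y.fst + TrivSqZeroExt.inr y.snd.1 := fun y => rfl
  have hj₁ : j₁ DualNumber.eps = TrivSqZeroExt.inr ((1, 0) : k × k) := TrivSqZeroExt.map_inr _ _
  have hj₂ : j₂ DualNumber.eps = TrivSqZeroExt.inr ((0, 1) : k × k) := TrivSqZeroExt.map_inr _ _
  have h₁ : ψ.comp j₁ = mulA := by
    refine DualNumber.algHom_ext ?_
    rw [AlgHom.comp_apply, hj₁, hψ₀]
    refine TrivSqZeroExt.ext ?_ ?_ <;> refine TrivSqZeroExt.ext ?_ ?_ <;>
      simp [L, mulA, LieS.mulHom, DualNumber.eps, TrivSqZeroExt.algebraMap_eq_inl']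
  have h₂ : ψ.comp j₂ = inA := by
    refine DualNumber.algHom_ext ?_
    rw [AlgHom.comp_apply, hj₂, hψ₀]
    refine TrivSqZeroExt.ext ?_ ?_ <;> refine TrivSqZeroExt.ext ?_ ?_ <;>
      simp [L, DualNumber.eps, TrivSqZeroExt.algebraMap_eq_inl']
  have h₃ : π₁.comp j₁ = AlgHom.id k (DualNumber k) := by
    refine DualNumber.algHom_ext ?_
    rw [AlgHom.comp_apply, hj₁, hπ₀]
    refine TrivSqZeroExt.ext ?_ ?_ <;> simp [DualNumber.eps, TrivSqZeroExt.algebraMap_eq_inl']
  have h₄ : π₁.comp j₂ = (Algebra.ofId k (DualNumber k)).comp (TrivSqZeroExt.fstHom k k k) := by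
    refine DualNumber.algHom_ext ?_
    rw [AlgHom.comp_apply, hj₂, hπ₀]
    refine TrivSqZeroExt.ext ?_ ?_ <;> simp [DualNumber.eps, TrivSqZeroExt.algebraMap_eq_inl']
  set z := evalPt ((VecGrp.ptMap j₁ ≫ w) * (VecGrp.ptMap j₂ ≫ v)) g with hz
  have e : evalPt ((VecGrp.ptMap (B := DualNumber k) (B' := LieS.D2 k) (mulA (k := k)) ≫ w) * (VecGrp.ptMap (B := DualNumber k) (B' := LieS.D2 k) (inA (k := k)) ≫ v)) g = ψ z := by
    refine Eq.trans ?_ (AlgHom.congr_fun (evalPt_ptMap (B' := LieS.D2 k) ψ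
      ((VecGrp.ptMap j₁ ≫ w) * (VecGrp.ptMap j₂ ≫ v))) g)
    rw [MonObj.comp_mul]
    congr 3 <;> apply pt_ext <;> simp only [evalPt_ptMap, ← AlgHom.comp_assoc, h₁, h₂]
  have e₁ : π₁ z = evalPt w g := by
    rw [hz, ← AlgHom.comp_apply, ← evalPt_ptMap, MonObj.comp_mul]
    have a₁ : VecGrp.ptMap π₁ ≫ VecGrp.ptMap j₁ ≫ w = w :=
      pt_ext (by simp only [evalPt_ptMap, ← AlgHom.comp_assoc, h₃, AlgHom.id_comp])
    have a₂ : VecGrp.ptMap π₁ ≫ VecGrp.ptMap j₂ ≫ v = 1 := by
      have : VecGrp.ptMap π₁ ≫ VecGrp.ptMap j₂ ≫ v =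
          VecGrp.ptMap (Algebra.ofId k (DualNumber k)) ≫ VecGrp.ptMap (TrivSqZeroExt.fstHom k k k) ≫ v :=
        pt_ext (by simp only [evalPt_ptMap, ← AlgHom.comp_assoc, h₄])
      rw [this, hv, MonObj.comp_one]
    rw [a₁, a₂, _root_.mul_one]
  rw [e, ← e₁]
  rw [hψ₀, hπ₀]
  simp [L, TrivSqZeroExt.algebraMap_eq_inl']

variable {L : Type u} [LieRing L] [LieAlgebra k L] (m : LieS.Model E k (f₀ k) L)

/-- The value of a Lie algebra element on a function. -/
def val (g : Fn E) (V : L) : k := (evalPt (toDpt ≫ (m.e (Multiplicative.ofAdd V)).1) g).snd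

theorem val_zero (g : Fn E) : val m g 0 = 0 := by
  rw [val, ofAdd_zero, map_one]
  change (evalPt (toDpt ≫ (1 : LieS.dpt k (f₀ k) ⟶ E)) g).snd = 0
  rw [MonObj.comp_one, evalPt_one, TrivSqZeroExt.algebraMap_eq_inl', TrivSqZeroExt.snd_inl]

/-- The velocity of the one-parameter subgroup. -/
def velocity : L :=
  Multiplicative.toAdd (m.e.symm ⟨ofDpt ≫ gmHom i (DualNumber k) (epsUnit (Multiplicative.ofAdd 1)),
    ofDpt_mem _ (by
      rw [gmHom_apply, ← Category.assoc, ptMap_gmPt, show Units.map _ (epsUnit (Multiplicative.ofAdd (1 : k))) = 1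
        from Units.ext (by simp [epsUnit]), ← gmHom_apply, map_one])⟩)

/-- The bracket with the velocity multiplies the value on a weight vector by its weight. -/
theorem val_bracket (n : ℤ) (f : Fn E) (V : L) :
    val m (P i n f) ⁅velocity i m, V⁆ = (n : k) * val m (P i n f) V := by
  have hb : LieS.mulMap k (f₀ k) ≫ (m.e (Multiplicative.ofAdd ⁅velocity i m, V⁆)).1 = _ :=
    m.e_lie (velocity i m) V
  have hx : (m.e (Multiplicative.ofAdd (velocity i m))).1 =
      ofDpt ≫ gmHom i (DualNumber k) (epsUnit (Multiplicative.ofAdd 1)) := by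
    rw [velocity, ofAdd_toAdd, MulEquiv.apply_symm_apply]
  have hb' : VecGrp.ptMap (B := DualNumber k) (B' := LieS.D2 k) (mulA (k := k)) ≫ toDpt ≫
        (m.e (Multiplicative.ofAdd ⁅velocity i m, V⁆)).1 =
      (VecGrp.ptMap (B := DualNumber k) (B' := LieS.D2 k) (renA (k := k)) ≫
          gmHom i (DualNumber k) (epsUnit (Multiplicative.ofAdd 1))) *
        (VecGrp.ptMap (B := DualNumber k) (B' := LieS.D2 k) (inA (k := k)) ≫ toDpt ≫ (m.e (Multiplicative.ofAdd V)).1) *
        (VecGrp.ptMap (B := DualNumber k) (B' := LieS.D2 k) (renA (k := k)) ≫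
          gmHom i (DualNumber k) (epsUnit (Multiplicative.ofAdd 1)))⁻¹ *
        (VecGrp.ptMap (B := DualNumber k) (B' := LieS.D2 k) (inA (k := k)) ≫ toDpt ≫ (m.e (Multiplicative.ofAdd V)).1)⁻¹ := by
    have e := toD2pt ≫= hb
    simp only [MonObj.comp_mul, GrpObj.comp_inv] at e
    have e1 := toD2pt_ren' (m.e (Multiplicative.ofAdd (velocity i m))).1
    rw [hx, ← Category.assoc toDpt ofDpt, toDpt_ofDpt, Category.id_comp] at e1
    rw [← toD2pt_mulMap', e, ← e1, ← toD2pt_proj', hx]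
  set w := toDpt ≫ (m.e (Multiplicative.ofAdd ⁅velocity i m, V⁆)).1
  set v := toDpt ≫ (m.e (Multiplicative.ofAdd V)).1
  set U := Units.map (renA (k := k) : DualNumber k →* LieS.D2 k) (epsUnit (Multiplicative.ofAdd (1 : k)))
  have hu : VecGrp.ptMap (B := DualNumber k) (B' := LieS.D2 k) (renA (k := k)) ≫ gmHom i (DualNumber k) (epsUnit (Multiplicative.ofAdd 1)) =
      gmHom i (LieS.D2 k) U := by
    rw [gmHom_apply, ← Category.assoc, ptMap_gmPt]
    rfl
  rw [hu] at hb'
  have hc : conjPt i (VecGrp.ptMap (B := DualNumber k) (B' := LieS.D2 k) (inA (k := k)) ≫ v) U = (VecGrp.ptMap (B := DualNumber k) (B' := LieS.D2 k) (mulA (k := k)) ≫ w) * (VecGrp.ptMap (B := DualNumber k) (B' := LieS.D2 k) (inA (k := k)) ≫ v) := by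
    rw [hb', conjPt, inv_mul_cancel_right]
  have h := congrArg (fun z => (evalPt z (P i n f)).snd.snd) hc
  rw [snd_snd_mul w v (fst_toDpt _) (fst_toDpt _), evalPt_conjPt_P, evalPt_ptMap, AlgHom.comp_apply] at h
  have hUn : ((U ^ n : (LieS.D2 k)ˣ) : LieS.D2 k) =
      renA (k := k) (1 + TrivSqZeroExt.inr (n : k)) := by
    rw [← map_zpow, ← map_zpow, ← ofAdd_zsmul, zsmul_one]
    rfl
  rw [hUn] at h
  rw [val, val, ← h]
  simp [renA, inA, LieS.bcHom, TrivSqZeroExt.algebraMap_eq_inl']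
  exact Or.inl rfl

include m in
/-- The weights on the cotangent space at the unit vanish in the ground field. -/
theorem P_mem_sq (hL : LieRing.IsNilpotent L) (n : ℤ) (hn : (n : k) ≠ 0) (f : Fn E) (hf : f ∈ aug E) :
    P i n f ∈ aug E ^ 2 := by
  by_contra hg
  set g := P i n f
  have hge : counit (E := E) g = 0 := P_mem_aug i (Or.inr hf)
  let Sb : Submodule k (Fn E) :=
    (Submodule.restrictScalars k (aug E ^ 2)) ⊔ Submodule.span k {(1 : Fn E)}
  have hgS : g ∉ Sb := by
    intro h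
    obtain ⟨a, ha, b, hb, hab⟩ := Submodule.mem_sup.mp h
    obtain ⟨c, rfl⟩ := Submodule.mem_span_singleton.mp hb
    have ha' : counit (E := E) a = 0 := Ideal.pow_le_self (by norm_num) ha
    rw [← hab, map_add, ha', zero_add, map_smul, map_one, smul_eq_mul, _root_.mul_one] at hge
    rw [← hab, hge, zero_smul, add_zero] at hg
    exact hg ha
  obtain ⟨δ, hδg, hδ⟩ := Submodule.exists_dual_map_eq_bot_of_notMem hgS inferInstance
  have hδ0 : ∀ a ∈ Sb, δ a = 0 := fun a ha =>
    (Submodule.eq_bot_iff _).mp hδ _ (Submodule.mem_map_of_mem ha)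
  let φ : Fn E →ₐ[k] DualNumber k :=
    { toFun := fun a => TrivSqZeroExt.inl (counit (E := E) a) + TrivSqZeroExt.inr (δ a)
      map_one' := by
        rw [map_one, hδ0 1 (Submodule.mem_sup_right (Submodule.mem_span_singleton_self _))]
        simp
      map_mul' := fun a b => by
        have hmem : (a - algebraMap k _ (counit (E := E) a)) * (b - algebraMap k _ (counit (E := E) b)) ∈ Sb := by
          refine Submodule.mem_sup_left ?_
          rw [Submodule.restrictScalars_mem, pow_two]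
          exact Ideal.mul_mem_mul (by simp [RingHom.mem_ker]) (by simp [RingHom.mem_ker])
        have h := hδ0 _ hmem
        have e : (a - algebraMap k _ (counit (E := E) a)) * (b - algebraMap k _ (counit (E := E) b)) =
            a * b - counit (E := E) a • b - counit (E := E) b • a + (counit (E := E) a * counit (E := E) b) • (1 : Fn E) := by
          simp only [Algebra.smul_def, map_mul]
          ring
        rw [e, map_add, map_sub, map_sub, map_smul, map_smul, map_smul,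
          hδ0 1 (Submodule.mem_sup_right (Submodule.mem_span_singleton_self _))] at h
        simp only [smul_eq_mul, mul_zero, add_zero] at h
        refine TrivSqZeroExt.ext ?_ ?_
        · simp
        · simp [DualNumber.snd_mul]
          linear_combination h
      map_zero' := by simp
      map_add' := fun a b => by refine TrivSqZeroExt.ext ?_ ?_ <;> simp
      commutes' := fun c => by
        have hc : δ (algebraMap k (Fn E) c) = 0 := hδ0 _ (Submodule.mem_sup_right (by
          rw [Algebra.algebraMap_eq_smul_one]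
          exact Submodule.smul_mem _ _ (Submodule.mem_span_singleton_self _)))
        simp [hc, TrivSqZeroExt.algebraMap_eq_inl'] }
  let v := ptOf E φ
  have hv : VecGrp.ptMap (TrivSqZeroExt.fstHom k k k) ≫ v = 1 := by
    refine pt_ext (AlgHom.ext fun a => ?_)
    rw [evalPt_ptMap, AlgHom.comp_apply, evalPt_ptOf]
    simp [φ]
  let V : L := Multiplicative.toAdd (m.e.symm ⟨ofDpt ≫ v, ofDpt_mem v hv⟩)
  have hV : val m g V = δ g := by
    have e : toDpt ≫ (m.e (Multiplicative.ofAdd V)).1 = v := by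
      simp only [V, ofAdd_toAdd, MulEquiv.apply_symm_apply]
      rw [← Category.assoc, toDpt_ofDpt, Category.id_comp]
    rw [val, e, evalPt_ptOf]
    simp [φ]
  haveI : LieModule.IsNilpotent L L := hL
  obtain ⟨N, hN⟩ := LieModule.isNilpotent_toEnd_of_isNilpotent k L L (velocity i m)
  have hiter : ∀ N : ℕ, val m g (((LieModule.toEnd k L L (velocity i m)) ^ N) V) = (n : k) ^ N * δ g := by
    intro N
    induction N with
    | zero => simp [hV]
    | succ N ih =>
      rw [pow_succ', Module.End.mul_apply, LieModule.toEnd_apply_apply, val_bracket i m n f, ih, pow_succ']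
      ring
  have h0 := hiter N
  rw [hN, LinearMap.zero_apply, val_zero] at h0
  exact mul_ne_zero (pow_ne_zero _ hn) hδg h0.symm

end Groth.Reductive2.TorusWeightsLie
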