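import Groth.Agent.Reductive2.TwConstEtale
import Groth.Agent.EtaleBase.FpqcDescent
import Groth.Agent.EtaleBaseTwo.EtaleComponents
import Groth.Agent.S5266

/-!
Open and closed subschemes of twisted constant schemes: the locus of finite fibres is open and
closed, and they are finite over the base when their fibres are.
-/

universe u

open CategoryTheory CategoryTheory.Limits AlgebraicGeometry TopologicalSpace

namespace Groth.Reductive2.TwConstFinite

set_option backward.isDefEq.respectTransparency.types false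

open Groth.Reductive2.TwConstEtale

/-- A property local on the target which descends along fppf covers can be checked étale locally. -/
theorem of_etale_locally (Q : MorphismProperty Scheme.{u}) [IsZariskiLocalAtTarget Q]
    [Q.DescendsAlong (@Surjective ⊓ @Flat ⊓ @LocallyOfFinitePresentation)]
    {X S : Scheme.{u}} (p : X ⟶ S)
    (h : ∀ s : S, ∃ (S' : Scheme.{u}) (f : S' ⟶ S), Etale f ∧ s ∈ Set.range f ∧ Q (pullback.snd p f)) :
    Q p := by
  choose S' f hf hs hQ using h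
  let O : S → S.Opens := fun s => ⟨Set.range (f s), by have := hf s; exact (f s).isOpenMap.isOpen_range⟩
  rw [IsZariskiLocalAtTarget.iff_of_iSup_eq_top (P := Q) O
    (top_le_iff.mp fun s _ => TopologicalSpace.Opens.mem_iSup.mpr ⟨s, hs s⟩)]
  intro s
  have := hf s
  let g : S' s ⟶ O s := IsOpenImmersion.lift (O s).ι (f s) (by rw [Scheme.Opens.range_ι]; exact subset_rfl)
  have hg : g ≫ (O s).ι = f s := IsOpenImmersion.lift_fac _ _ _
  have hge : Etale (g ≫ (O s).ι) := hg ▸ hf s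
  have : Etale g := .of_comp g (O s).ι
  have : Surjective g := ⟨fun y => by
    obtain ⟨z, hz⟩ := y.2
    exact ⟨z, Subtype.ext ((congrArg (fun φ => φ z) hg).trans hz)⟩⟩
  have h1 : IsPullback (pullback.fst (p ∣_ O s) g ≫ (p ⁻¹ᵁ O s).ι) (pullback.snd (p ∣_ O s) g) p (f s) :=
    hg ▸ (IsPullback.of_hasPullback (p ∣_ O s) g).paste_horiz (isPullback_morphismRestrict p (O s)).flip
  refine MorphismProperty.of_pullback_snd_of_descendsAlong
    (Q := @Surjective ⊓ @Flat ⊓ @LocallyOfFinitePresentation) (g := g)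
    ⟨⟨inferInstance, inferInstance⟩, inferInstance⟩ ?_
  rw [← h1.isoPullback_hom_snd]
  exact (Q.cancel_left_of_respectsIso _ _).mpr (hQ s)

/-- A twisted constant scheme is étale over the base. -/
theorem etale_hom {S : Scheme.{u}} (P : Over S) (hP : TwC.IsTwConst TwC.Topology.etale P) : Etale P.hom := by
  refine of_etale_locally @Etale P.hom fun s => ?_
  obtain ⟨S', f, hf, hs, I, ⟨e⟩⟩ := hP s
  obtain ⟨σ, hσ⟩ := exists_sections P f e
  refine ⟨S', f, hf, hs, ?_⟩
  rw [← hσ.isoPullback_inv_snd]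
  exact (MorphismProperty.cancel_left_of_respectsIso @Etale _ _).mpr
    (IsZariskiLocalAtSource.sigmaDesc (P := @Etale) fun _ => inferInstanceAs (Etale (𝟙 S')))

/-- A finite disjoint union of copies of a scheme is finite over it. -/
theorem isFinite_const {S : Scheme.{u}} (J : Type u) [Finite J] : IsFinite (Sigma.desc fun _ : J => 𝟙 S) := by
  have h := isPullback_const (I := J) (specULiftZIsTerminal.from S)
  exact MorphismProperty.of_isPullback h (Groth.Agent.S5266.isFinite_sigmaDesc_id J)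

/-- A square of open immersions with matching ranges is cartesian. -/
theorem isPullback_of_openImmersion {A B X Y : Scheme.{u}} {l : A ⟶ B} {j : A ⟶ X} {z : B ⟶ Y} {g : X ⟶ Y}
    [IsOpenImmersion z] [IsOpenImmersion j] (w : l ≫ z = j ≫ g) (hr : Set.range j = g ⁻¹' Set.range z) :
    IsPullback l j z g := by
  have hr' : Set.range j = Set.range (pullback.snd z g) := by
    rw [hr, Scheme.Pullback.range_snd]
  let i := IsOpenImmersion.isoOfRangeEq j (pullback.snd z g) hr'
  have hi : i.hom ≫ pullback.snd z g = j := IsOpenImmersion.isoOfRangeEq_hom_fac _ _ _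
  refine IsPullback.of_iso_pullback ⟨w⟩ i ?_ hi
  rw [← cancel_mono z, Category.assoc, pullback.condition, reassoc_of% hi, w]

/-- Around every point a twisted constant scheme is constant on a connected affine étale neighbourhood. -/
theorem exists_chart {S : Scheme.{u}} [IsLocallyNoetherian S] (P : Over S)
    (hP : TwC.IsTwConst TwC.Topology.etale P) (s : S) :
    ∃ (T : Scheme.{u}) (f : T ⟶ S), Etale f ∧ QuasiCompact f ∧ PreconnectedSpace T ∧ s ∈ Set.range f ∧
      ∃ (I : Type u) (σ : I → (T ⟶ P.left)),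
        IsPullback (Sigma.desc σ) (Sigma.desc fun _ : I => 𝟙 T) P.hom f := by
  obtain ⟨S', f, hf, ⟨x, hx⟩, I, ⟨e⟩⟩ := hP s
  obtain ⟨σ, hσ⟩ := exists_sections P f e
  have : IsLocallyNoetherian S' := LocallyOfFiniteType.isLocallyNoetherian f
  obtain ⟨_, ⟨V, hV, rfl⟩, hxV, -⟩ := S'.isBasis_affineOpens.exists_subset_of_mem_open (Set.mem_univ x) isOpen_univ
  let D : Scheme.{u} := Scheme.Opens.toScheme V
  have : IsAffine D := hV
  have : IsNoetherian D := {}
  have hwf : WellFoundedLT (Closeds D) := ((noetherianSpace_TFAE D).out 0 1).mp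
    (show NoetherianSpace D from inferInstance)
  let x₀ : D := ⟨x, hxV⟩
  obtain ⟨C, ⟨hCo, hxC⟩, hCmin⟩ := hwf.wf.has_min {C : Closeds D | IsOpen (C : Set D) ∧ x₀ ∈ C}
    ⟨⊤, isOpen_univ, trivial⟩
  have hpre : _root_.IsPreconnected (C : Set D) := by
    rintro a b ha hb hab ⟨p, hpC, hpa⟩ ⟨q, hqC, hqb⟩
    by_contra hne
    have key : ∀ a b : Set D, IsOpen a → IsOpen b → (C : Set D) ⊆ a ∪ b → ¬ ((C : Set D) ∩ (a ∩ b)).Nonempty →
        (∃ q, q ∈ C ∧ q ∈ b) → x₀ ∈ a → False := by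
      rintro a b ha hb hab hne ⟨q, hqC, hqb⟩ hxa
      have hcl : IsClosed ((C : Set D) ∩ a) := by
        have : (C : Set D) ∩ a = (C : Set D) ∩ bᶜ := by
          ext y
          exact ⟨fun ⟨hy, hya⟩ => ⟨hy, fun hyb => hne ⟨y, hy, hya, hyb⟩⟩,
            fun ⟨hy, hyb⟩ => ⟨hy, (hab hy).resolve_right hyb⟩⟩
        rw [this]; exact C.isClosed.inter hb.isClosed_compl
      refine hCmin ⟨_, hcl⟩ ⟨hCo.inter ha, hxC, hxa⟩ (lt_of_le_of_ne (fun y hy => hy.1) fun h => ?_)
      exact hne ⟨q, hqC, ((h.symm ▸ hqC : q ∈ (⟨_, hcl⟩ : Closeds D))).2, hqb⟩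
    rcases hab hxC with hxa | hxb
    · exact key a b ha hb hab hne ⟨q, hqC, hqb⟩ hxa
    · exact key b a hb ha (by rwa [Set.union_comm]) (by rwa [Set.inter_comm b a]) ⟨p, hpC, hpa⟩ hxb
  let U : D.Opens := ⟨C, hCo⟩
  let g := U.ι ≫ Scheme.Opens.ι V ≫ f
  have : CompactSpace (U : Scheme.{u}) := isCompact_iff_compactSpace.mp C.isClosed.isCompact
  refine ⟨U, g, inferInstance, inferInstance, isPreconnected_iff_preconnectedSpace.mp hpre,
    ⟨⟨x₀, hxC⟩, hx⟩, I, fun i => (U.ι ≫ Scheme.Opens.ι V) ≫ σ i, ?_⟩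
  have := isPullback_comp hσ (U.ι ≫ Scheme.Opens.ι V)
  rwa [Category.assoc] at this

variable {S : Scheme.{u}} [IsLocallyNoetherian S] (P : Over S)
  (hP : TwC.IsTwConst TwC.Topology.etale P) (Z : P.left.Opens) (hZ : IsClosed (Z : Set P.left))

include hP hZ

/-- On a chart, the part in `Z` is a union of copies of the chart. -/
theorem exists_chart_sub (s : S) :
    ∃ (T : Scheme.{u}) (f : T ⟶ S), Etale f ∧ s ∈ Set.range f ∧ ∃ J : Type u,
      (∀ y, ((Z.ι ≫ P.hom) ⁻¹' {f y}).Finite ↔ Finite J) ∧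
      (Finite J → IsFinite (pullback.snd (Z.ι ≫ P.hom) f)) := by
  obtain ⟨T, f, hf, hqc, hpre, ⟨x, hx⟩, I, σ, hσ⟩ := exists_chart P hP s
  refine ⟨T, f, hf, ⟨x, hx⟩, {i : I // σ i x ∈ Z}, ?_⟩
  have hall : ∀ (i : I) (y : T), σ i y ∈ Z ↔ σ i x ∈ Z := fun i y => by
    rcases isClopen_iff.mp (show IsClopen (σ i ⁻¹' (Z : Set P.left)) from
      ⟨hZ.preimage (σ i).continuous, Z.isOpen.preimage (σ i).continuous⟩) with h | h
    · exact ⟨fun hy => ((Set.eq_empty_iff_forall_notMem.mp h) y hy).elim,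
        fun hy => ((Set.eq_empty_iff_forall_notMem.mp h) x hy).elim⟩
    · exact ⟨fun _ => Set.eq_univ_iff_forall.mp h x, fun _ => Set.eq_univ_iff_forall.mp h y⟩
  let J := {i : I // σ i x ∈ Z}
  have hσP : ∀ i y, P.hom (σ i y) = f y := fun i y => by
    have := congr(Sigma.ι (fun _ : I => T) i ≫ $(hσ.w))
    simp only [Sigma.ι_desc_assoc, Category.id_comp] at this
    rw [← Scheme.Hom.comp_apply, this]
  have hE : Etale (Sigma.desc σ) := MorphismProperty.of_isPullback hσ.flip hf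
  have hQ : QuasiCompact (Sigma.desc σ) := MorphismProperty.of_isPullback hσ.flip hqc
  refine ⟨fun y => ⟨fun hfin => ?_, fun hJ => ?_⟩, fun hJ => ?_⟩
  · have hsub : ∀ p, {i : J | σ i.1 y = p}.Finite := fun p => by
      refine Set.Finite.of_finite_image (f := fun i : J => Sigma.ι (fun _ : I => T) i.1 y)
        (((Sigma.desc σ).finite_preimage_singleton p).subset ?_) fun a _ b _ hab => ?_
      · rintro _ ⟨i, hi, rfl⟩
        show Sigma.desc σ (Sigma.ι (fun _ : I => T) i.1 y) = p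
        rw [← Scheme.Hom.comp_apply, Sigma.ι_desc]; exact hi
      · exact Subtype.ext ((sigmaIdx_ι a.1 y).symm.trans ((congrArg sigmaIdx hab).trans (sigmaIdx_ι b.1 y)))
    have hun : (Set.univ : Set J).Finite := by
      refine ((hfin.image Z.ι).biUnion fun p _ => hsub p).subset fun i _ => ?_
      have hi : σ i.1 y ∈ Z := (hall i.1 y).mpr i.2
      exact Set.mem_iUnion₂.mpr ⟨σ i.1 y, ⟨⟨_, hi⟩, (hσP i.1 y), rfl⟩, rfl⟩
    exact Set.finite_univ_iff.mp hun
  · refine Set.Finite.of_finite_image (f := Z.ι) ((Set.finite_range fun i : J => σ i.1 y).subset ?_)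
      Z.ι.isOpenEmbedding.injective.injOn
    rintro _ ⟨p, hp, rfl⟩
    obtain ⟨w, hw₁, hw₂⟩ := Scheme.Pullback.exists_preimage_pullback (f := P.hom) (g := f) (Z.ι p) y hp
    let w' := hσ.isoPullback.inv w
    obtain ⟨y', hy'⟩ := exists_ι w'
    have e1 : Sigma.desc σ w' = Z.ι p := by
      rw [← Scheme.Hom.comp_apply, hσ.isoPullback_inv_fst, hw₁]
    have e2 : Sigma.desc (fun _ : I => 𝟙 T) w' = y := by
      rw [← Scheme.Hom.comp_apply, hσ.isoPullback_inv_snd, hw₂]
    rw [← hy', ← Scheme.Hom.comp_apply, Sigma.ι_desc] at e1 e2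
    obtain rfl : y' = y := e2
    exact ⟨⟨sigmaIdx w', (hall _ y').mp (e1 ▸ p.2)⟩, e1⟩
  · let j : (∐ fun _ : J => T) ⟶ ∐ fun _ : I => T := Sigma.desc fun i => Sigma.ι (fun _ : I => T) i.1
    have : IsOpenImmersion j := by
      refine isOpenImmersion_sigmaDesc _ _ fun a b hab => ?_
      refine Set.disjoint_iff_forall_ne.mpr ?_
      rintro _ ⟨p, rfl⟩ _ ⟨q, rfl⟩ e
      exact hab (Subtype.ext ((sigmaIdx_ι a.1 p).symm.trans ((congrArg sigmaIdx e).trans (sigmaIdx_ι b.1 q))))
    have hr : Set.range j = Sigma.desc σ ⁻¹' Set.range Z.ι := by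
      rw [Scheme.Opens.range_ι]
      ext w
      constructor
      · rintro ⟨v, rfl⟩
        obtain ⟨y, hy⟩ := exists_ι v
        rw [← hy]
        show Sigma.desc σ (j (Sigma.ι (fun _ : J => T) _ y)) ∈ Z
        rw [← Scheme.Hom.comp_apply, ← Scheme.Hom.comp_apply]
        simp only [j, Sigma.ι_desc, Sigma.ι_desc_assoc, Category.assoc]
        exact (hall _ y).mpr (sigmaIdx v).2
      · intro hw
        obtain ⟨y, hy⟩ := exists_ι w
        rw [← hy] at hw ⊢
        have hi : σ (sigmaIdx w) y ∈ Z := by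
          have : Sigma.desc σ (Sigma.ι (fun _ : I => T) (sigmaIdx w) y) ∈ Z := hw
          rwa [← Scheme.Hom.comp_apply, Sigma.ι_desc] at this
        refine ⟨Sigma.ι (fun _ : J => T) ⟨sigmaIdx w, (hall _ y).mp hi⟩ y, ?_⟩
        rw [← Scheme.Hom.comp_apply, Sigma.ι_desc]
    let l := IsOpenImmersion.lift Z.ι (j ≫ Sigma.desc σ) (by
      rintro _ ⟨v, rfl⟩
      exact hr.subset ⟨v, rfl⟩)
    have hl : l ≫ Z.ι = j ≫ Sigma.desc σ := IsOpenImmersion.lift_fac _ _ _
    have h := (isPullback_of_openImmersion hl hr).paste_vert hσ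
    rw [← h.isoPullback_inv_snd]
    refine (MorphismProperty.cancel_left_of_respectsIso @IsFinite _ _).mpr ?_
    rw [show j ≫ Sigma.desc (fun _ : I => 𝟙 T) = Sigma.desc fun _ : J => 𝟙 T from
      Sigma.hom_ext _ _ fun i => by simp [j]]
    exact isFinite_const J

/-- The points of the base with finite fibre form an open and closed set. -/
theorem isClopen_finite_fibre : IsClopen {s : S | ((Z.ι ≫ P.hom) ⁻¹' {s}).Finite} := by
  have key : ∀ s, ∃ N : Set S, IsOpen N ∧ s ∈ N ∧ ∀ a ∈ N,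
      (((Z.ι ≫ P.hom) ⁻¹' {a}).Finite ↔ ((Z.ι ≫ P.hom) ⁻¹' {s}).Finite) := fun s => by
    obtain ⟨T, f, hf, ⟨x, rfl⟩, J, hJ, -⟩ := exists_chart_sub P hP Z hZ s
    refine ⟨Set.range f, f.isOpenMap.isOpen_range, ⟨x, rfl⟩, ?_⟩
    rintro _ ⟨y, rfl⟩
    rw [hJ y, hJ x]
  constructor
  · rw [← isOpen_compl_iff, isOpen_iff_forall_mem_open]
    intro s hs
    obtain ⟨N, hN, hsN, h⟩ := key s
    exact ⟨N, fun a ha hfin => hs ((h a ha).mp hfin), hN, hsN⟩
  · rw [isOpen_iff_forall_mem_open]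
    intro s hs
    obtain ⟨N, hN, hsN, h⟩ := key s
    exact ⟨N, fun a ha => (h a ha).mpr hs, hN, hsN⟩

/-- An open and closed subscheme with finite fibres is finite over the base. -/
theorem isFinite_of_finite_fibres (h : ∀ s, ((Z.ι ≫ P.hom) ⁻¹' {s}).Finite) : IsFinite (Z.ι ≫ P.hom) := by
  refine of_etale_locally @IsFinite _ fun s => ?_
  obtain ⟨T, f, hf, hs, J, hJ, hfin⟩ := exists_chart_sub P hP Z hZ s
  obtain ⟨y, hy⟩ := hs
  exact ⟨T, f, hf, ⟨y, hy⟩, hfin ((hJ y).mp (h _))⟩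

omit hP hZ in
/-- Over a locally Noetherian scheme with geometrically unibranch local rings, the irreducible
components are open. -/
theorem isOpen_component (hS : ∀ s : S, CAlg2.IsGeomUnibranch (S.presheaf.stalk s))
    {Z : Set S} (hZ : Z ∈ irreducibleComponents S) : IsOpen Z := by
  refine isOpen_iff_forall_mem_open.mpr fun x hx => ?_
  obtain ⟨_, ⟨V, hV, rfl⟩, hxV, -⟩ := S.isBasis_affineOpens.exists_subset_of_mem_open (Set.mem_univ x) isOpen_univ
  have : IsAffine (Scheme.Opens.toScheme V) := hV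
  have : IsNoetherian (Scheme.Opens.toScheme V) := {}
  let v := (Scheme.Opens.ι V)
  let C : Set (Scheme.Opens.toScheme V) :=
    ⋃ W ∈ {W ∈ irreducibleComponents (Scheme.Opens.toScheme V) | (⟨x, hxV⟩ : Scheme.Opens.toScheme V) ∉ W}, W
  have hC : IsClosed C := ((NoetherianSpace.finite_irreducibleComponents).subset fun W hW => hW.1).isClosed_biUnion
    fun W hW => isClosed_of_mem_irreducibleComponents W hW.1
  refine ⟨v '' Cᶜ, ?_, v.isOpenEmbedding.isOpenMap _ hC.isOpen_compl, ⟨⟨x, hxV⟩, fun h => ?_, rfl⟩⟩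
  · rintro _ ⟨y, hy, rfl⟩
    have hW := irreducibleComponent_mem_irreducibleComponents y
    have hxW : (⟨x, hxV⟩ : Scheme.Opens.toScheme V) ∈ irreducibleComponent y :=
      by_contra fun h => hy (Set.mem_iUnion₂.mpr ⟨_, ⟨hW, h⟩, mem_irreducibleComponent⟩)
    obtain ⟨Z', hZ', hsub⟩ := exists_mem_irreducibleComponents_subset_of_isIrreducible _
      (hW.1.image v v.continuous.continuousOn)
    have := (Groth.EtaleBaseTwo.existsUnique_component_of_etale (𝟙 S) x (hS _)).unique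
      ⟨hZ, hx⟩ ⟨hZ', hsub ⟨_, hxW, rfl⟩⟩
    exact this ▸ hsub ⟨y, mem_irreducibleComponent, rfl⟩
  · obtain ⟨W, hW, hxW⟩ := Set.mem_iUnion₂.mp h
    exact hW.2 hxW

end Groth.Reductive2.TwConstFinite
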